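import Mathlib.Tactic
import Groth.Prelude.Def_DRing2
import Mathlib.Algebra.Homology.ShortComplex.ModuleCat
import Mathlib.Algebra.Homology.DerivedCategory.Basic
import Mathlib.Algebra.Module.FinitePresentation
import Mathlib.Algebra.Module.Projective

/-!
# Cohomology of bounded complexes of finite projective modules which are exact above a degree
(helper43)

`ker_d_projective_finite` : for a cochain complex `E` of finite projective modules, zero above
degree `n`, exact in degrees `> m`, the kernel of `d^j` is finite projective for all `j ≥ m`.
Consequences for `m`-pseudo-coherent objects of `D(R)` (Stacks 064T).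
-/

set_option autoImplicit false
universe u

open CategoryTheory CategoryTheory.Limits

attribute [local instance] HasDerivedCategory.standard

namespace Groth.Agent.Lib.Helper43.PCHomology

variable {R : Type u} [CommRing R]

/-- kernel of a surjection onto a projective module is a direct summand -/
lemma ker_projective_finite_of_surjective {M N : Type u} [AddCommGroup M] [Module R M]
    [AddCommGroup N] [Module R N] (f : M →ₗ[R] N) (hf : Function.Surjective f)
    [Module.Projective R N] [Module.Projective R M] [Module.Finite R M] :
    Module.Projective R (LinearMap.ker f) ∧ Module.Finite R (LinearMap.ker f) := by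
  obtain ⟨s, hs⟩ := Module.projective_lifting_property f LinearMap.id hf
  -- retraction
  let r : M →ₗ[R] LinearMap.ker f :=
    (LinearMap.id - s.comp f).codRestrict (LinearMap.ker f) (fun x => by
      have : f (s (f x)) = f x := by
        have := congrArg (fun g => g (f x)) hs
        simpa using this
      simp [this])
  have hr : r.comp (LinearMap.ker f).subtype = LinearMap.id := by
    ext ⟨x, hx⟩
    have hx' : f x = 0 := hx
    simp [r, hx']
  refine ⟨Module.Projective.of_split (LinearMap.ker f).subtype r hr, ?_⟩
  refine Module.Finite.of_surjective r (fun x => ⟨x.1, ?_⟩)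
  have := congrArg (fun g => g x) hr
  simpa using this

/-- Key splitting lemma. -/
lemma ker_d_projective_finite (E : CochainComplex (ModuleCat.{u} R) ℤ) (n m : ℤ)
    (hn : ∀ i : ℤ, n < i → IsZero (E.X i))
    (hP : ∀ i : ℤ, Module.Projective R (E.X i)) (hF : ∀ i : ℤ, Module.Finite R (E.X i))
    (hex : ∀ i : ℤ, m < i → E.ExactAt i) :
    ∀ (k : ℕ) (j l : ℤ), m ≤ j → n < j + k → j + 1 = l →
      Module.Projective R (LinearMap.ker (E.d j l).hom) ∧
        Module.Finite R (LinearMap.ker (E.d j l).hom) := by
  intro k
  induction k with
  | zero =>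
    intro j l _ hj _
    have hz : IsZero (E.X j) := hn j (by simpa using hj)
    have : Subsingleton (E.X j) := ModuleCat.subsingleton_of_isZero hz
    have : Subsingleton (LinearMap.ker (E.d j l).hom) := inferInstance
    exact ⟨inferInstance, inferInstance⟩
  | succ k ih =>
    intro j l hmj hj hjl
    obtain ⟨h1, h2⟩ := ih (j + 1) (j + 2) (by lia) (by push_cast at hj ⊢; lia) (by ring)
    subst hjl
    have hex' : E.ExactAt (j + 1) := hex (j + 1) (by lia)
    rw [HomologicalComplex.exactAt_iff' E j (j + 1) (j + 2) (by simp) (by simp; ring)] at hex'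
    have hrange := (ShortComplex.moduleCat_exact_iff_range_eq_ker _).1 hex'
    change LinearMap.range (E.d j (j + 1)).hom = LinearMap.ker (E.d (j + 1) (j + 2)).hom at hrange
    -- the surjection `E^j → ker d^{j+1}`
    let g : E.X j →ₗ[R] LinearMap.ker (E.d (j + 1) (j + 2)).hom :=
      (E.d j (j + 1)).hom.codRestrict _ (fun x => by
        rw [← hrange]; exact ⟨x, rfl⟩)
    have hg : Function.Surjective g := by
      rintro ⟨y, hy⟩
      rw [← hrange] at hy
      obtain ⟨x, rfl⟩ := hy
      exact ⟨x, rfl⟩
    have hker : LinearMap.ker g = LinearMap.ker (E.d j (j + 1)).hom :=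
      LinearMap.ker_codRestrict _ _ _
    haveI := hP j
    haveI := hF j
    have := ker_projective_finite_of_surjective g hg
    rw [hker] at this
    exact this

/-- For a bounded-above complex of finite projective modules which is exact in degrees `> m`,
the cohomology in degree `m` is finitely presented. -/
lemma finitePresentation_homology (E : CochainComplex (ModuleCat.{u} R) ℤ) (n m : ℤ)
    (hn : ∀ i : ℤ, n < i → IsZero (E.X i))
    (hP : ∀ i : ℤ, Module.Projective R (E.X i)) (hF : ∀ i : ℤ, Module.Finite R (E.X i))
    (hex : ∀ i : ℤ, m < i → E.ExactAt i) :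
    Module.FinitePresentation R (E.homology m) := by
  obtain ⟨k, hk⟩ : ∃ k : ℕ, n < m + k := ⟨(n - m + 1).toNat, by lia⟩
  obtain ⟨h1, h2⟩ := ker_d_projective_finite E n m hn hP hF hex k m ((ComplexShape.up ℤ).next m)
    le_rfl hk (by simp)
  let S := E.sc m
  have e : E.homology m ≅ S.moduleCatLeftHomologyData.H := S.moduleCatHomologyIso
  change Module.Projective R (LinearMap.ker S.g.hom) at h1
  change Module.Finite R (LinearMap.ker S.g.hom) at h2
  haveI : Module.FinitePresentation R (LinearMap.ker S.g.hom) :=
    Module.finitePresentation_of_projective R _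
  haveI : Module.Finite R S.X₁ := hF _
  have : Module.FinitePresentation R
      (LinearMap.ker S.g.hom ⧸ LinearMap.range S.moduleCatToCycles) := by
    refine Module.finitePresentation_of_surjective (LinearMap.range S.moduleCatToCycles).mkQ
      (Submodule.mkQ_surjective _) ?_
    rw [Submodule.ker_mkQ, LinearMap.range_eq_map]
    exact Submodule.FG.map _ Module.Finite.fg_top
  have this' : Module.FinitePresentation R S.moduleCatLeftHomologyData.H := this
  exact Module.FinitePresentation.of_equiv e.toLinearEquiv.symm

open DRing in
/-- the cohomology of `toD E` is the cohomology of `E` -/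
noncomputable def homologyIso (E : Cx R) (i : ℤ) :
    (DerivedCategory.homologyFunctor (ModuleCat.{u} R) i).obj (toD E) ≅ E.homology i :=
  (DerivedCategory.homologyFunctorFactors (ModuleCat.{u} R) i).app E

open DRing in
lemma exactAt_of_isZero (E : Cx R) (i : ℤ)
    (h : IsZero ((DerivedCategory.homologyFunctor (ModuleCat.{u} R) i).obj (toD E))) :
    E.ExactAt i := by
  rw [HomologicalComplex.exactAt_iff_isZero_homology]
  exact IsZero.of_iso h (homologyIso E i).symm

open DRing in
/-- If `α : toD E ⟶ K` is an isomorphism on cohomology in degrees `> m`, `E` is a bounded complex of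
finite free modules, and `K` has no cohomology in degrees `> m`, then `H^m(toD E)` is finitely
presented. -/
lemma finitePresentation_of_approx (K : Dual.D R) (m : ℤ) (E : Cx R) (a b : ℤ) (α : toD E ⟶ K)
    (hE : VanishesOutside E a b) (hff : TermwiseFiniteFree E)
    (hiso : ∀ i : ℤ, m < i → IsIso ((DerivedCategory.homologyFunctor (ModuleCat.{u} R) i).map α))
    (hK : ∀ i : ℤ, m < i →
      IsZero ((DerivedCategory.homologyFunctor (ModuleCat.{u} R) i).obj K)) :
    Module.FinitePresentation R
      ((DerivedCategory.homologyFunctor (ModuleCat.{u} R) m).obj (toD E)) := by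
  have hex : ∀ i : ℤ, m < i → E.ExactAt i := fun i hi => by
    apply exactAt_of_isZero
    haveI := hiso i hi
    exact IsZero.of_iso (hK i hi)
      (asIso ((DerivedCategory.homologyFunctor (ModuleCat.{u} R) i).map α))
  have := finitePresentation_homology E b m (fun i hi => hE i (Or.inr hi))
    (fun i => by haveI := (hff i).2; exact Module.Projective.of_free) (fun i => (hff i).1) hex
  exact Module.FinitePresentation.of_equiv (homologyIso E m).toLinearEquiv.symm

open DRing in
/-- Stacks 064T (1). -/
lemma finite_homology_of_isPseudoCoherent (K : Dual.D R) (m : ℤ) (hK : IsPseudoCoherent R m K)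
    (hvan : ∀ i : ℤ, m < i →
      IsZero ((DerivedCategory.homologyFunctor (ModuleCat.{u} R) i).obj K)) :
    Module.Finite R ((DerivedCategory.homologyFunctor (ModuleCat.{u} R) m).obj K) := by
  obtain ⟨E, a, b, α, hE, hff, hiso, hepi⟩ := hK
  haveI := finitePresentation_of_approx K m E a b α hE hff hiso hvan
  have hs : Function.Surjective
      ((DerivedCategory.homologyFunctor (ModuleCat.{u} R) m).map α).hom :=
    (ModuleCat.epi_iff_surjective _).1 hepi
  exact Module.Finite.of_surjective _ hs

open DRing in
/-- Stacks 064T (2). -/
lemma finitePresentation_homology_of_isPseudoCoherent (K : Dual.D R) (m : ℤ)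
    (hK : IsPseudoCoherent R m K)
    (hvan : ∀ i : ℤ, m + 1 < i →
      IsZero ((DerivedCategory.homologyFunctor (ModuleCat.{u} R) i).obj K)) :
    Module.FinitePresentation R
      ((DerivedCategory.homologyFunctor (ModuleCat.{u} R) (m + 1)).obj K) := by
  obtain ⟨E, a, b, α, hE, hff, hiso, hepi⟩ := hK
  haveI := finitePresentation_of_approx K (m + 1) E a b α hE hff
    (fun i hi => hiso i (by lia)) hvan
  haveI := hiso (m + 1) (by lia)
  exact Module.FinitePresentation.of_equiv
    (asIso ((DerivedCategory.homologyFunctor (ModuleCat.{u} R) (m + 1)).map α)).toLinearEquiv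

end Groth.Agent.Lib.Helper43.PCHomology
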