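import Mathlib.Tactic
import Groth.Agent.Lib.Helper84.DerivedT
import Mathlib.Algebra.Homology.HomotopyCategory.Triangulated
import Mathlib.Algebra.Homology.HomotopyCategory.HomComplexSingle
import Mathlib.Algebra.Homology.DerivedCategory.TStructure
import Mathlib.Algebra.Homology.DerivedCategory.HomologySequence

/-!
# Attaching one cell to an approximation of a complex (helper43)

Given a morphism of cochain complexes `α : F ⟶ L` whose cone has no cohomology in degrees `> j`
and a morphism `ψ : P[-j] ⟶ cone α` which is an epimorphism on `H^j`, we construct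
`φ : P[-(j+1)] ⟶ F` and `α' : cone φ ⟶ L` extending `α` (strictly: `inr φ ≫ α' = α`) whose cone
has no cohomology in degrees `≥ j`.
-/

set_option autoImplicit false
universe w v u

open CategoryTheory CategoryTheory.Limits CategoryTheory.Pretriangulated DerivedCategory
open CochainComplex HomComplex

namespace Groth.Agent.Lib.Helper43.PCStep

variable {C : Type u} [Category.{v} C] [Abelian C] [HasDerivedCategory.{w} C]

/-- The octahedron triangle of mapping cones is distinguished in the derived category. -/
lemma mappingConeCompTriangle_distinguished {X₁ X₂ X₃ : CochainComplex C ℤ}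
    (f : X₁ ⟶ X₂) (g : X₂ ⟶ X₃) :
    Q.mapTriangle.obj (mappingConeCompTriangle f g) ∈ distTriang (DerivedCategory C) := by
  refine isomorphic_distinguished _ (Qh.map_distinguished _
    (HomotopyCategory.mappingConeCompTriangleh_distinguished f g)) _
    ((Functor.mapTriangleIso (quotientCompQhIso C)).symm.app _ ≪≫
      (Functor.mapTriangleCompIso (HomotopyCategory.quotient C _) Qh).app _)

/-- Lemma A. -/
lemma isZero_homology_cone_of_comp {F F' L : CochainComplex C ℤ} (ι : F ⟶ F') (α' : F' ⟶ L)
    (α : F ⟶ L) (h : ι ≫ α' = α) (j : ℤ)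
    (ha : ∀ i : ℤ, j < i → IsZero ((homologyFunctor C i).obj (Q.obj (mappingCone α))))
    (hb : ∀ i : ℤ, j < i → IsZero ((homologyFunctor C i).obj (Q.obj (mappingCone ι))))
    (hc : Epi ((homologyFunctor C j).map
      (Q.map (mappingCone.map ι α (𝟙 F) α' (by rw [h, Category.id_comp]))))) :
    ∀ i : ℤ, j ≤ i → IsZero ((homologyFunctor C i).obj (Q.obj (mappingCone α'))) := by
  subst h
  intro i hi
  have hT := mappingConeCompTriangle_distinguished ι α'
  refine Groth.Agent.Lib.Helper84.DerivedT.isZero_homology_obj₃ _ hT i (i + 1) rfl ?_ ?_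
  · rcases hi.lt_or_eq with hlt | rfl
    · exact ⟨fun _ _ _ => (ha i hlt).eq_of_src _ _⟩
    · exact hc
  · exact ⟨fun _ _ _ => (hb (i + 1) (by lia)).eq_of_tgt _ _⟩

/-- Lemma B. -/
lemma isZero_homology_cone_inr {X F : CochainComplex C ℤ} (φ : X ⟶ F) (i : ℤ)
    (hX : IsZero ((homologyFunctor C (i + 1)).obj (Q.obj X))) :
    IsZero ((homologyFunctor C i).obj (Q.obj (mappingCone (mappingCone.inr φ)))) := by
  have hφ := mappingCone_triangle_distinguished φ
  have hι := mappingCone_triangle_distinguished (mappingCone.inr φ)
  refine Groth.Agent.Lib.Helper84.DerivedT.isZero_homology_obj₃ _ hι i (i + 1) rfl ?_ ?_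
  · exact (HomologySequence.epi_homologyMap_mor₂_iff _ hφ i (i + 1) rfl).2
      (hX.eq_of_tgt _ _)
  · exact (HomologySequence.mono_homologyMap_mor₂_iff _ hφ (i + 1)).2 (hX.eq_of_src _ _)

section Construction

variable {F L : CochainComplex C ℤ} (α : F ⟶ L) (j : ℤ) {P : C}
  (z : P ⟶ (mappingCone α).X j)

/-- the `F`-component of `z` -/
noncomputable def xMap : P ⟶ F.X (j + 1) := z ≫ (mappingCone.fst α).1.v j (j + 1) rfl

/-- the `L`-component of `z` -/
noncomputable def yMap : P ⟶ L.X j := z ≫ (mappingCone.snd α).v j j (add_zero j)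

variable (hz : z ≫ (mappingCone α).d j (j + 1) = 0)

include hz in
lemma xMap_d (k : ℤ) (hk : j + 1 + 1 = k) : xMap α j z ≫ F.d (j + 1) k = 0 := by
  have := mappingCone.d_fst_v α j (j + 1) k rfl hk
  have h2 : z ≫ (mappingCone α).d j (j + 1) ≫ (mappingCone.fst α).1.v (j + 1) k hk = 0 := by
    rw [reassoc_of% hz, zero_comp]
  rw [this] at h2
  simpa [xMap] using h2

include hz in
lemma xMap_comp_add : xMap α j z ≫ α.f (j + 1) + yMap α j z ≫ L.d j (j + 1) = 0 := by
  have := mappingCone.d_snd_v α j (j + 1) rfl
  have h2 : z ≫ (mappingCone α).d j (j + 1) ≫ (mappingCone.snd α).v (j + 1) (j + 1) (add_zero _)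
      = 0 := by
    rw [reassoc_of% hz, zero_comp]
  rw [this] at h2
  simpa [xMap, yMap] using h2

/-- the attaching map `φ = -x : P[-(j+1)] ⟶ F` -/
noncomputable def attach : (CochainComplex.singleFunctor C (j + 1)).obj P ⟶ F :=
  Cocycle.homOf (Cocycle.fromSingleMk (-xMap α j z) (add_zero (j + 1)) (j + 1 + 1) rfl
    (by rw [Preadditive.neg_comp, xMap_d α j z hz _ rfl, neg_zero]))

set_option backward.isDefEq.respectTransparency false in
lemma attach_f :
    (attach α j z hz).f (j + 1) =
      -((HomologicalComplex.singleObjXSelf (ComplexShape.up ℤ) (j + 1) P).hom ≫ xMap α j z) := by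
  simp [attach]

/-- the null-homotopy datum `γ = y` -/
noncomputable def attachCochain : Cochain ((CochainComplex.singleFunctor C (j + 1)).obj P) L (-1) :=
  Cochain.fromSingleMk (yMap α j z) (by lia : j + 1 + (-1) = j)

set_option backward.isDefEq.respectTransparency false in
lemma δ_attachCochain :
    δ (-1) 0 (attachCochain α j z) = Cochain.ofHom (attach α j z hz ≫ α) := by
  rw [attachCochain, Cochain.δ_fromSingleMk _ _ 0 (j + 1) (add_zero _)]
  apply (Cochain.fromSingleEquiv (add_zero (j + 1))).injective
  rw [Cochain.fromSingleEquiv_fromSingleMk]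
  have h := xMap_comp_add α j z hz
  simp only [Cochain.fromSingleEquiv, AddEquiv.coe_mk, Equiv.coe_fn_mk, Cochain.ofHom_v,
    HomologicalComplex.comp_f, attach_f]
  rw [Preadditive.neg_comp, Preadditive.comp_neg, Category.assoc, Iso.inv_hom_id_assoc]
  exact eq_neg_of_add_eq_zero_right h

/-- the extended morphism `α' : cone φ ⟶ L` -/
noncomputable def extend : mappingCone (attach α j z hz) ⟶ L :=
  mappingCone.desc (attach α j z hz) (attachCochain α j z) α (δ_attachCochain α j z hz)

lemma inr_extend : mappingCone.inr (attach α j z hz) ≫ extend α j z hz = α := by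
  simp [extend]

/-- the morphism `P[-j] ⟶ cone α` attached to `z` -/
noncomputable def cocycleHom : (CochainComplex.singleFunctor C j).obj P ⟶ mappingCone α :=
  Cocycle.homOf (Cocycle.fromSingleMk z (add_zero j) (j + 1) rfl hz)

set_option backward.isDefEq.respectTransparency false in
lemma cocycleHom_f :
    (cocycleHom α j z hz).f j =
      (HomologicalComplex.singleObjXSelf (ComplexShape.up ℤ) j P).hom ≫ z := by
  simp [cocycleHom]

/-- the component of `θ` -/
noncomputable def thetaMap : P ⟶ (mappingCone (mappingCone.inr (attach α j z hz))).X j :=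
  xMap α j z ≫ (mappingCone.inl (mappingCone.inr (attach α j z hz))).v (j + 1) j (by lia) +
    (HomologicalComplex.singleObjXSelf (ComplexShape.up ℤ) (j + 1) P).inv ≫
      (mappingCone.inl (attach α j z hz)).v (j + 1) j (by lia) ≫
        (mappingCone.inr (mappingCone.inr (attach α j z hz))).f j

set_option backward.isDefEq.respectTransparency false in
lemma thetaMap_d :
    thetaMap α j z hz ≫ (mappingCone (mappingCone.inr (attach α j z hz))).d j (j + 1) = 0 := by
  simp only [thetaMap, Preadditive.add_comp, Category.assoc]
  rw [mappingCone.inl_v_d _ (j + 1) j (j + 1 + 1) (by lia) (by lia),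
    mappingCone.inr_f_d,
    mappingCone.inl_v_d_assoc _ (j + 1) j (j + 1 + 1) (by lia) (by lia)]
  simp only [Preadditive.comp_sub, Preadditive.sub_comp, Category.assoc,
    reassoc_of% (xMap_d α j z hz (j + 1 + 1) rfl), zero_comp, sub_zero, attach_f,
    Preadditive.neg_comp, Preadditive.comp_neg, Iso.inv_hom_id_assoc,
    HomologicalComplex.single_obj_d, comp_zero]
  simp

/-- the morphism `θ : P[-j] ⟶ cone (inr φ)` -/
noncomputable def theta :
    (CochainComplex.singleFunctor C j).obj P ⟶ mappingCone (mappingCone.inr (attach α j z hz)) :=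
  Cocycle.homOf (Cocycle.fromSingleMk (thetaMap α j z hz) (add_zero j) (j + 1) rfl
    (thetaMap_d α j z hz))

set_option backward.isDefEq.respectTransparency false in
lemma theta_f :
    (theta α j z hz).f j =
      (HomologicalComplex.singleObjXSelf (ComplexShape.up ℤ) j P).hom ≫ thetaMap α j z hz := by
  simp [theta]

set_option backward.isDefEq.respectTransparency false in
lemma theta_comp :
    theta α j z hz ≫ mappingCone.map (mappingCone.inr (attach α j z hz)) α (𝟙 F)
      (extend α j z hz) (by rw [inr_extend, Category.id_comp]) = cocycleHom α j z hz := by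
  apply HomologicalComplex.from_single_hom_ext
  rw [HomologicalComplex.comp_f, theta_f, cocycleHom_f, Category.assoc]
  congr 1
  simp only [thetaMap, mappingCone.map, Preadditive.add_comp, Category.assoc,
    mappingCone.inl_v_desc_f, mappingCone.inr_f_desc_f, HomologicalComplex.comp_f, extend,
    mappingCone.inl_v_desc_f_assoc, Cochain.comp_v _ _ (zero_add (-1)) (j + 1) (j + 1) j
      (add_zero _) (by lia), Cochain.ofHom_v, HomologicalComplex.id_f, Category.id_comp,
    attachCochain, Cochain.fromSingleMk_v, Iso.inv_hom_id_assoc]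
  have := mappingCone.id_X α j (j + 1) rfl
  simp only [xMap, yMap, Category.assoc]
  rw [← Preadditive.comp_add, this, Category.comp_id]

end Construction

set_option backward.isDefEq.respectTransparency false in
/-- a morphism from a single complex induced by `s : P ⟶ cycles` which is epi onto the homology
is an epimorphism on homology. -/
lemma epi_homologyMap_of_single {K : CochainComplex C ℤ} (j : ℤ) {P : C}
    (ψ : (CochainComplex.singleFunctor C j).obj P ⟶ K) (s : P ⟶ K.cycles j)
    (hs : Epi (s ≫ K.homologyπ j))
    (hψ : ψ.f j = (HomologicalComplex.singleObjXSelf (ComplexShape.up ℤ) j P).hom ≫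
      s ≫ K.iCycles j) :
    Epi (HomologicalComplex.homologyMap ψ j) := by
  have h1 : HomologicalComplex.cyclesMap ψ j =
      (HomologicalComplex.singleObjCyclesSelfIso (ComplexShape.up ℤ) j P).hom ≫ s := by
    rw [← cancel_mono (K.iCycles j), HomologicalComplex.cyclesMap_i, hψ,
      HomologicalComplex.singleObjCyclesSelfIso_hom]
    simp only [Category.assoc]
    rfl
  have h2 := HomologicalComplex.homologyπ_naturality ψ j
  rw [h1, Category.assoc] at h2
  have : Epi (HomologicalComplex.homologyπ _ j ≫ HomologicalComplex.homologyMap ψ j) := by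
    rw [h2]
    infer_instance
  exact epi_of_epi (HomologicalComplex.homologyπ _ j) _

/-- transport of `Epi` on homology to the derived category -/
lemma epi_homologyFunctor_map_Q {K L : CochainComplex C ℤ} (f : K ⟶ L) (j : ℤ)
    (h : Epi (HomologicalComplex.homologyMap f j)) :
    Epi ((homologyFunctor C j).map (Q.map f)) := by
  have nat : (homologyFunctor C j).map (Q.map f) ≫ (homologyFunctorFactors C j).hom.app L =
      (homologyFunctorFactors C j).hom.app K ≫ HomologicalComplex.homologyMap f j :=
    (homologyFunctorFactors C j).hom.naturality f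
  have : Epi ((homologyFunctor C j).map (Q.map f) ≫ (homologyFunctorFactors C j).hom.app L) := by
    rw [nat]
    exact epi_comp' inferInstance h
  have e : (homologyFunctor C j).map (Q.map f) =
      ((homologyFunctor C j).map (Q.map f) ≫ (homologyFunctorFactors C j).hom.app L) ≫
        (homologyFunctorFactors C j).inv.app L := by
    rw [Category.assoc, Iso.hom_inv_id_app]
    exact (Category.comp_id _).symm
  rw [e]
  exact epi_comp _ _

/-- transport of `Mono` on homology to the derived category -/
lemma mono_homologyFunctor_map_Q {K L : CochainComplex C ℤ} (f : K ⟶ L) (j : ℤ)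
    (h : Mono (HomologicalComplex.homologyMap f j)) :
    Mono ((homologyFunctor C j).map (Q.map f)) := by
  have nat : (homologyFunctor C j).map (Q.map f) ≫ (homologyFunctorFactors C j).hom.app L =
      (homologyFunctorFactors C j).hom.app K ≫ HomologicalComplex.homologyMap f j :=
    (homologyFunctorFactors C j).hom.naturality f
  have : Mono ((homologyFunctor C j).map (Q.map f) ≫ (homologyFunctorFactors C j).hom.app L) := by
    rw [nat]
    exact mono_comp' inferInstance h
  exact mono_of_mono _ ((homologyFunctorFactors C j).hom.app L)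

/-- **Attaching a cell.** -/
theorem step {F L : CochainComplex C ℤ} (α : F ⟶ L) (j : ℤ) {P : C}
    (s : P ⟶ (mappingCone α).cycles j) (hs : Epi (s ≫ (mappingCone α).homologyπ j))
    (hα : ∀ i : ℤ, j < i → IsZero ((homologyFunctor C i).obj (Q.obj (mappingCone α)))) :
    ∃ (φ : (CochainComplex.singleFunctor C (j + 1)).obj P ⟶ F) (α' : mappingCone φ ⟶ L),
      mappingCone.inr φ ≫ α' = α ∧
        ∀ i : ℤ, j ≤ i → IsZero ((homologyFunctor C i).obj (Q.obj (mappingCone α'))) := by
  let z : P ⟶ (mappingCone α).X j := s ≫ (mappingCone α).iCycles j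
  have hz : z ≫ (mappingCone α).d j (j + 1) = 0 := by simp [z]
  refine ⟨attach α j z hz, extend α j z hz, inr_extend α j z hz, ?_⟩
  refine isZero_homology_cone_of_comp _ _ α (inr_extend α j z hz) j hα ?_ ?_
  · intro i hi
    apply isZero_homology_cone_inr
    have : ((DerivedCategory.singleFunctor C (j + 1)).obj P).IsLE (j + 1) := inferInstance
    exact isZero_of_isLE ((DerivedCategory.singleFunctor C (j + 1)).obj P) (j + 1) (i + 1) (by lia)
  · have h1 : Epi ((homologyFunctor C j).map (Q.map (cocycleHom α j z hz))) :=
      epi_homologyFunctor_map_Q _ j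
        (epi_homologyMap_of_single j _ s hs (cocycleHom_f α j z hz))
    rw [← theta_comp α j z hz, Functor.map_comp, Functor.map_comp] at h1
    exact epi_of_epi ((homologyFunctor C j).map (Q.map (theta α j z hz))) _

end Groth.Agent.Lib.Helper43.PCStep
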