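import Mathlib.Tactic
import Groth.Prelude.Def_DRing2
import Groth.Agent.Lib.Helper84.DRingPC
import Groth.Agent.Lib.Helper43.PCHomology
import Groth.Agent.Lib.Helper43.PCStep

/-!
# Finite free approximations of complexes of modules (helper43)

`stepModule` : attaching a finite free cell (module version of `PCStep.step`).
`isPseudoCoherent_of_cone` : producing `DRing.IsPseudoCoherent` from a chain level approximation.
`finite_homology_obj₃` : finiteness of `H^j` of the cone.
-/

set_option autoImplicit false
universe u

open CategoryTheory CategoryTheory.Limits CategoryTheory.Pretriangulated DerivedCategory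
open CochainComplex HomComplex

attribute [local instance] HasDerivedCategory.standard

namespace Groth.Agent.Lib.Helper43.PCApprox

open DRing Groth.Agent.Lib.Helper43 Groth.Agent.Lib.Helper84

variable {R : Type u} [CommRing R]

/-- Module version of `PCStep.step`: attach a finite free cell in degree `j`. -/
theorem stepModule {F L : Cx R} (α : F ⟶ L) (j : ℤ)
    (hfin : Module.Finite R
      ((homologyFunctor (ModuleCat.{u} R) j).obj (Q.obj (mappingCone α))))
    (hα : ∀ i : ℤ, j < i →
      IsZero ((homologyFunctor (ModuleCat.{u} R) i).obj (Q.obj (mappingCone α)))) :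
    ∃ (P : ModuleCat.{u} R) (_ : Module.Finite R P) (_ : Module.Free R P)
      (φ : (CochainComplex.singleFunctor (ModuleCat.{u} R) (j + 1)).obj P ⟶ F)
      (α' : mappingCone φ ⟶ L), mappingCone.inr φ ≫ α' = α ∧
        ∀ i : ℤ, j ≤ i →
          IsZero ((homologyFunctor (ModuleCat.{u} R) i).obj (Q.obj (mappingCone α'))) := by
  haveI : Module.Finite R ((mappingCone α).homology j) :=
    Module.Finite.equiv (PCHomology.homologyIso (mappingCone α) j).toLinearEquiv
  obtain ⟨n, f, hf⟩ := Module.Finite.exists_fin' R ((mappingCone α).homology j)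
  let P : ModuleCat.{u} R := ModuleCat.of R (Fin n → R)
  let s' : P ⟶ (mappingCone α).homology j := ModuleCat.ofHom f
  have hs' : Epi s' := (ModuleCat.epi_iff_surjective _).2 hf
  haveI : Projective P := by
    apply (IsProjective.iff_projective (R := R) (P := P)).1
    exact Module.Projective.of_free
  let s : P ⟶ (mappingCone α).cycles j := Projective.factorThru s' ((mappingCone α).homologyπ j)
  have hs : Epi (s ≫ (mappingCone α).homologyπ j) := by
    rw [Projective.factorThru_comp]
    exact hs'
  obtain ⟨φ, α', h1, h2⟩ := PCStep.step α j s hs hα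
  exact ⟨P, inferInstanceAs (Module.Finite R (Fin n → R)),
    inferInstanceAs (Module.Free R (Fin n → R)), φ, α', h1, h2⟩

/-- single complexes on finite free modules are termwise finite free -/
lemma termwiseFiniteFree_single (P : ModuleCat.{u} R) (hP : Module.Finite R P ∧ Module.Free R P)
    (p : ℤ) : TermwiseFiniteFree ((CochainComplex.singleFunctor (ModuleCat.{u} R) p).obj P) := by
  intro i
  by_cases hi : i = p
  · subst hi
    exact DRingPC.finiteFree_of_iso
      (HomologicalComplex.singleObjXSelf (ComplexShape.up ℤ) i P).symm hP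
  · have hz : IsZero (((CochainComplex.singleFunctor (ModuleCat.{u} R) p).obj P).X i) :=
      HomologicalComplex.isZero_single_obj_X _ _ _ _ hi
    haveI : Subsingleton (((CochainComplex.singleFunctor (ModuleCat.{u} R) p).obj P).X i) :=
      ModuleCat.subsingleton_of_isZero hz
    exact ⟨inferInstance, inferInstance⟩

/-- the cone of an attaching map is termwise finite free -/
lemma termwiseFiniteFree_cone_single {F : Cx R} (hF : TermwiseFiniteFree F) (P : ModuleCat.{u} R)
    (hP : Module.Finite R P ∧ Module.Free R P) (p : ℤ)
    (φ : (CochainComplex.singleFunctor (ModuleCat.{u} R) p).obj P ⟶ F) :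
    TermwiseFiniteFree (mappingCone φ) :=
  DRingPC.termwiseFiniteFree_mappingCone φ (termwiseFiniteFree_single P hP p) hF

/-- bounds for the cone of an attaching map -/
lemma vanishesOutside_cone_single {F : Cx R} (j b : ℤ) (hF : VanishesOutside F (j + 1) b)
    (P : ModuleCat.{u} R)
    (φ : (CochainComplex.singleFunctor (ModuleCat.{u} R) (j + 1)).obj P ⟶ F) :
    VanishesOutside (mappingCone φ) j (max b j) := by
  intro i hi
  apply ConeRep.isZero_mappingCone_X
  · apply HomologicalComplex.isZero_single_obj_X
    rcases hi with hi | hi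
    · lia
    · have := le_max_right b j
      lia
  · apply hF
    rcases hi with hi | hi
    · left; lia
    · right
      have := le_max_left b j
      lia

/-- From a chain-level approximation to `IsPseudoCoherent`. -/
lemma isPseudoCoherent_of_cone {K : Dual.D R} {F L : Cx R} (α : F ⟶ L) (e : Q.obj L ≅ K)
    (m a b : ℤ) (hF : VanishesOutside F a b) (hff : TermwiseFiniteFree F)
    (hα : ∀ i : ℤ, m ≤ i →
      IsZero ((homologyFunctor (ModuleCat.{u} R) i).obj (Q.obj (mappingCone α)))) :
    IsPseudoCoherent R m K := by
  have hT := mappingCone_triangle_distinguished α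
  have hepi : ∀ i : ℤ, m ≤ i → Epi ((homologyFunctor (ModuleCat.{u} R) i).map (Q.map α)) := by
    intro i hi
    exact (HomologySequence.epi_homologyMap_mor₁_iff _ hT i).2 ((hα i hi).eq_of_tgt _ _)
  have hmono : ∀ i : ℤ, m < i → Mono ((homologyFunctor (ModuleCat.{u} R) i).map (Q.map α)) := by
    intro i hi
    exact (HomologySequence.mono_homologyMap_mor₁_iff _ hT (i - 1) i (by lia)).2
      ((hα (i - 1) (by lia)).eq_of_src _ _)
  refine ⟨F, a, b, Q.map α ≫ e.hom, hF, hff, ?_, ?_⟩
  · intro i hi
    rw [Functor.map_comp]
    haveI := hepi i hi.le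
    haveI := hmono i hi
    haveI : IsIso ((homologyFunctor (ModuleCat.{u} R) i).map (Q.map α)) :=
      isIso_of_mono_of_epi _
    infer_instance
  · rw [Functor.map_comp]
    haveI := hepi m le_rfl
    exact epi_comp _ _

/-- Finiteness of the cohomology of the third vertex. -/
lemma finite_homology_obj₃ (T : Triangle (Dual.D R)) (hT : T ∈ distTriang _) (j : ℤ)
    (h₂ : Module.Finite R ((homologyFunctor (ModuleCat.{u} R) j).obj T.obj₂))
    (h₁ : (LinearMap.ker ((homologyFunctor (ModuleCat.{u} R) (j + 1)).map T.mor₁).hom).FG) :
    Module.Finite R ((homologyFunctor (ModuleCat.{u} R) j).obj T.obj₃) := by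
  have ex3 := HomologySequence.exact₃ T hT j (j + 1) rfl
  have ex1 := HomologySequence.exact₁ T hT j (j + 1) rfl
  rw [ShortComplex.moduleCat_exact_iff_range_eq_ker] at ex3 ex1
  dsimp at ex3 ex1
  refine ⟨Submodule.fg_of_fg_map_of_fg_inf_ker (HomologySequence.δ T j (j + 1) rfl).hom ?_ ?_⟩
  · rw [Submodule.map_top, ex1]
    exact h₁
  · rw [top_inf_eq, ← ex3, LinearMap.range_eq_map]
    exact Submodule.FG.map _ Module.Finite.fg_top

end Groth.Agent.Lib.Helper43.PCApprox
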