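import Mathlib.Tactic
import Groth.Prelude.Def_DRing2
import Groth.Agent.Lib.Helper43.PCApprox
import Mathlib.CategoryTheory.Functor.OfSequence
import Mathlib.CategoryTheory.Limits.Constructions.EventuallyConstant
import Mathlib.Algebra.Homology.HomologicalComplexLimits
import Mathlib.Algebra.Homology.QuasiIso
import Mathlib.Algebra.Category.ModuleCat.Colimits

/-!
# Towers of finite free approximations (helper43)

`Approx L n` : a finite free complex `F` in degrees `[a, n]` with `α : F ⟶ L` whose cone is acyclic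
in degrees `≥ a`.  `Approx.exists_next` attaches a cell.  `exists_resolution` : if all the cones
encountered have finitely generated bottom cohomology, `L` is quasi-isomorphic to a bounded
above complex of finite free modules.
-/

set_option autoImplicit false
universe u

open CategoryTheory CategoryTheory.Limits CategoryTheory.Pretriangulated DerivedCategory
open CochainComplex HomComplex

attribute [local instance] HasDerivedCategory.standard

namespace Groth.Agent.Lib.Helper43.PCTower

open DRing Groth.Agent.Lib.Helper43 Groth.Agent.Lib.Helper84 ZeroObject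

/-- `inr φ` is an isomorphism in the degrees where the shifted source vanishes -/
lemma isIso_inr_f {C : Type*} [Category C] [Preadditive C] [HasBinaryBiproducts C]
    {X F : CochainComplex C ℤ} (φ : X ⟶ F) (i : ℤ) (h : IsZero (X.X (i + 1))) :
    IsIso ((mappingCone.inr φ).f i) := by
  refine ⟨(mappingCone.snd φ).v i i (add_zero i), by simp, ?_⟩
  have := mappingCone.id_X φ i (i + 1) rfl
  have h0 : (mappingCone.fst φ).1.v i (i + 1) rfl = 0 := h.eq_of_tgt _ _
  rw [h0, zero_comp, zero_add] at this
  exact this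

variable {R : Type u} [CommRing R]

/-- the cone of `0 ⟶ L` has the cohomology of `L` -/
lemma homologyIso_cone_zero (L : Cx R) (F₀ : Cx R) (hF₀ : IsZero F₀) (α₀ : F₀ ⟶ L) (i : ℤ) :
    Nonempty ((homologyFunctor (ModuleCat.{u} R) i).obj (Q.obj (mappingCone α₀)) ≅
      (homologyFunctor (ModuleCat.{u} R) i).obj (Q.obj L)) := by
  have hT₀ := mappingCone_triangle_distinguished α₀
  have hz : IsZero (Q.obj F₀ : DerivedCategory (ModuleCat.{u} R)) := Functor.map_isZero Q hF₀
  haveI : IsIso (Q.map (mappingCone.inr α₀)) := (Triangle.isZero₁_iff_isIso₂ _ hT₀).1 hz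
  exact ⟨((homologyFunctor (ModuleCat.{u} R) i).mapIso (asIso (Q.map (mappingCone.inr α₀)))).symm⟩

/-- A finite free approximation of `L` in degrees `[a, n]`. -/
structure Approx (L : Cx R) (n : ℤ) where
  /-- lower bound -/
  a : ℤ
  /-- the approximating complex -/
  F : Cx R
  /-- the approximation -/
  α : F ⟶ L
  bound : VanishesOutside F a n
  ff : TermwiseFiniteFree F
  acyc : ∀ i : ℤ, a ≤ i →
    IsZero ((homologyFunctor (ModuleCat.{u} R) i).obj (Q.obj (mappingCone α)))

/-- the trivial approximation -/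
noncomputable def Approx.zero (L : Cx R) (n : ℤ)
    (hn : ∀ i : ℤ, n < i → IsZero ((homologyFunctor (ModuleCat.{u} R) i).obj (Q.obj L))) :
    Approx L n where
  a := n + 1
  F := 0
  α := 0
  bound := fun i _ => Functor.map_isZero (HomologicalComplex.eval _ _ i) (isZero_zero _)
  ff := fun i => by
    have hz : IsZero ((0 : Cx R).X i) :=
      Functor.map_isZero (HomologicalComplex.eval _ _ i) (isZero_zero _)
    haveI : Subsingleton ((0 : Cx R).X i) := ModuleCat.subsingleton_of_isZero hz
    exact ⟨inferInstance, inferInstance⟩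
  acyc := fun i hi =>
    IsZero.of_iso (hn i (by lia)) (homologyIso_cone_zero L 0 (isZero_zero _) 0 i).some

theorem Approx.exists_next {L : Cx R} {n : ℤ} (A : Approx L n) (hA : A.a ≤ n + 1)
    (hfin : Module.Finite R
      ((homologyFunctor (ModuleCat.{u} R) (A.a - 1)).obj (Q.obj (mappingCone A.α)))) :
    ∃ (B : Approx L n) (ι : A.F ⟶ B.F), B.a = A.a - 1 ∧ ι ≫ B.α = A.α ∧
      ∀ i : ℤ, i ≠ A.a - 1 → IsIso (ι.f i) := by
  obtain ⟨P, hPfin, hPfree, φ, α', h1, h2⟩ := PCApprox.stepModule A.α (A.a - 1) hfin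
    (fun i hi => A.acyc i (by lia))
  have hb := PCApprox.vanishesOutside_cone_single (A.a - 1) n
    (fun i hi => A.bound i (by lia)) P φ
  rw [max_eq_left (by lia : A.a - 1 ≤ n)] at hb
  refine ⟨⟨A.a - 1, mappingCone φ, α', hb,
    PCApprox.termwiseFiniteFree_cone_single A.ff P ⟨hPfin, hPfree⟩ _ φ, h2⟩,
    mappingCone.inr φ, rfl, h1, fun i hi => ?_⟩
  apply isIso_inr_f
  apply HomologicalComplex.isZero_single_obj_X
  lia

/-- the finiteness condition making the construction possible at level `j` -/
def FinCond (L : Cx R) (n j : ℤ) : Prop :=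
  ∀ (F : Cx R) (α : F ⟶ L), VanishesOutside F (j + 1) n → TermwiseFiniteFree F →
    (∀ i : ℤ, j < i →
      IsZero ((homologyFunctor (ModuleCat.{u} R) i).obj (Q.obj (mappingCone α)))) →
    Module.Finite R ((homologyFunctor (ModuleCat.{u} R) j).obj (Q.obj (mappingCone α)))

lemma Approx.finite {L : Cx R} {n : ℤ} (A : Approx L n) (h : FinCond L n (A.a - 1)) :
    Module.Finite R
      ((homologyFunctor (ModuleCat.{u} R) (A.a - 1)).obj (Q.obj (mappingCone A.α))) :=
  h A.F A.α (fun i hi => A.bound i (by lia)) A.ff (fun i hi => A.acyc i (by lia))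

/-- bounded version: approximations down to degree `n + 1 - k`. -/
theorem exists_approx_nat (L : Cx R) (n : ℤ)
    (hn : ∀ i : ℤ, n < i → IsZero ((homologyFunctor (ModuleCat.{u} R) i).obj (Q.obj L)))
    (k : ℕ) (hfin : ∀ j : ℤ, n + 1 - k ≤ j → j ≤ n → FinCond L n j) :
    ∃ A : Approx L n, A.a = n + 1 - k := by
  induction k with
  | zero => exact ⟨Approx.zero L n hn, by simp [Approx.zero]⟩
  | succ k ih =>
    obtain ⟨A, hA⟩ := ih (fun j hj hj' => hfin j (by push_cast; lia) hj')
    obtain ⟨B, -, hB, -, -⟩ := A.exists_next (by lia)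
      (A.finite (hfin _ (by push_cast; lia) (by lia)))
    exact ⟨B, by rw [hB, hA]; push_cast; ring⟩

/-- bounded version: approximations down to degree `m`. -/
theorem exists_approx (L : Cx R) (n m : ℤ)
    (hn : ∀ i : ℤ, n < i → IsZero ((homologyFunctor (ModuleCat.{u} R) i).obj (Q.obj L)))
    (hfin : ∀ j : ℤ, m ≤ j → j ≤ n → FinCond L n j) :
    ∃ A : Approx L n, A.a ≤ m := by
  obtain ⟨A, hA⟩ := exists_approx_nat L n hn (n + 1 - m).toNat
    (fun j hj hj' => hfin j (by lia) hj')
  exact ⟨A, by rw [hA]; lia⟩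

/-- consequence for pseudo-coherence -/
theorem isPseudoCoherent_of_finCond {K : Dual.D R} (L : Cx R) (e : Q.obj L ≅ K) (n m : ℤ)
    (hn : ∀ i : ℤ, n < i → IsZero ((homologyFunctor (ModuleCat.{u} R) i).obj K))
    (hfin : ∀ j : ℤ, m ≤ j → j ≤ n → FinCond L n j) : IsPseudoCoherent R m K := by
  obtain ⟨A, hA⟩ := exists_approx L n m
    (fun i hi => IsZero.of_iso (hn i hi) ((homologyFunctor (ModuleCat.{u} R) i).mapIso e)) hfin
  exact PCApprox.isPseudoCoherent_of_cone A.α e m A.a n A.bound A.ff
    (fun i hi => A.acyc i (by lia))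

/-! ### The infinite tower -/

section Tower

/-- `IsIso` on the cohomology of a morphism in `D` from a chain-level quasi-isomorphism at `i` -/
lemma isIso_homologyFunctor_map_Q {K L : Cx R} (f : K ⟶ L) (j : ℤ)
    (h : IsIso (HomologicalComplex.homologyMap f j)) :
    IsIso ((homologyFunctor (ModuleCat.{u} R) j).map (Q.map f)) := by
  have nat : (homologyFunctor (ModuleCat.{u} R) j).map (Q.map f) ≫
      (homologyFunctorFactors (ModuleCat.{u} R) j).hom.app L =
      (homologyFunctorFactors (ModuleCat.{u} R) j).hom.app K ≫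
        HomologicalComplex.homologyMap f j :=
    (homologyFunctorFactors (ModuleCat.{u} R) j).hom.naturality f
  have h1 : IsIso ((homologyFunctor (ModuleCat.{u} R) j).map (Q.map f) ≫
      (homologyFunctorFactors (ModuleCat.{u} R) j).hom.app L) := by
    rw [nat]
    exact IsIso.comp_isIso' inferInstance h
  exact IsIso.of_isIso_comp_right _ ((homologyFunctorFactors (ModuleCat.{u} R) j).hom.app L)

variable (L : Cx R) (n : ℤ)
  (hn : ∀ i : ℤ, n < i → IsZero ((homologyFunctor (ModuleCat.{u} R) i).obj (Q.obj L)))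
  (hfin : ∀ j : ℤ, j ≤ n → FinCond L n j)

/-- approximations with `a ≤ n + 1` -/
abbrev Approx' := {A : Approx L n // A.a ≤ n + 1}

include hfin in
lemma Approx'.exists_next (A : Approx' L n) :
    ∃ (B : Approx L n) (ι : A.1.F ⟶ B.F), B.a = A.1.a - 1 ∧ ι ≫ B.α = A.1.α ∧
      ∀ i : ℤ, i ≠ A.1.a - 1 → IsIso (ι.f i) :=
  A.1.exists_next A.2 (A.1.finite (hfin _ (by have := A.2; lia)))

/-- the next approximation -/
noncomputable def Approx'.next (A : Approx' L n) : Approx' L n :=
  ⟨(Approx'.exists_next L n hfin A).choose, by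
    rw [(Approx'.exists_next L n hfin A).choose_spec.choose_spec.1]
    have := A.2
    lia⟩

/-- the transition map -/
noncomputable def Approx'.ι (A : Approx' L n) : A.1.F ⟶ (Approx'.next L n hfin A).1.F :=
  (Approx'.exists_next L n hfin A).choose_spec.choose

lemma Approx'.next_a (A : Approx' L n) : (Approx'.next L n hfin A).1.a = A.1.a - 1 :=
  (Approx'.exists_next L n hfin A).choose_spec.choose_spec.1

lemma Approx'.ι_α (A : Approx' L n) :
    Approx'.ι L n hfin A ≫ (Approx'.next L n hfin A).1.α = A.1.α :=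
  (Approx'.exists_next L n hfin A).choose_spec.choose_spec.2.1

lemma Approx'.isIso_ι_f (A : Approx' L n) (i : ℤ) (hi : i ≠ A.1.a - 1) :
    IsIso ((Approx'.ι L n hfin A).f i) :=
  (Approx'.exists_next L n hfin A).choose_spec.choose_spec.2.2 i hi

/-- the sequence of approximations -/
noncomputable def seq : ℕ → Approx' L n
  | 0 => ⟨Approx.zero L n hn, le_rfl⟩
  | k + 1 => Approx'.next L n hfin (seq k)

lemma seq_a (k : ℕ) : (seq L n hn hfin k).1.a = n + 1 - k := by
  induction k with
  | zero => simp [seq, Approx.zero]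
  | succ k ih =>
    change (Approx'.next L n hfin (seq L n hn hfin k)).1.a = _
    rw [Approx'.next_a, ih]
    push_cast
    ring

/-- the tower as a functor -/
noncomputable def tower : ℕ ⥤ Cx R :=
  Functor.ofSequence (X := fun k => (seq L n hn hfin k).1.F)
    (fun k => Approx'.ι L n hfin (seq L n hn hfin k))

/-- the cocone over the tower with point `L` -/
noncomputable def towerCocone : Cocone (tower L n hn hfin) where
  pt := L
  ι := NatTrans.ofSequence (fun k => (seq L n hn hfin k).1.α) (fun k => by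
    dsimp [tower]
    rw [Functor.ofSequence_map_homOfLE_succ, Category.comp_id]
    exact Approx'.ι_α L n hfin (seq L n hn hfin k))

lemma tower_isIso_map_f (i : ℤ) (k₀ : ℕ) (hk₀ : n - i < k₀) (j : ℕ) (φ : k₀ ⟶ j) :
    IsIso (((tower L n hn hfin).map φ).f i) := by
  obtain ⟨d, rfl⟩ := Nat.exists_eq_add_of_le (leOfHom φ)
  obtain rfl := Subsingleton.elim φ (homOfLE (by lia))
  induction d with
  | zero =>
    have : (homOfLE (by lia) : k₀ ⟶ k₀ + 0) = 𝟙 k₀ := Subsingleton.elim _ _
    rw [this, CategoryTheory.Functor.map_id]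
    exact inferInstanceAs (IsIso (𝟙 _))
  | succ d ih =>
    have h1 : (homOfLE (by lia) : k₀ ⟶ k₀ + (d + 1)) =
        (homOfLE (by lia) : k₀ ⟶ k₀ + d) ≫ homOfLE (Nat.le_add_right (k₀ + d) 1) :=
      Subsingleton.elim _ _
    rw [h1, CategoryTheory.Functor.map_comp, HomologicalComplex.comp_f]
    haveI := ih
    haveI : IsIso (((tower L n hn hfin).map (homOfLE (Nat.le_add_right (k₀ + d) 1))).f i) := by
      dsimp only [tower]
      rw [Functor.ofSequence_map_homOfLE_succ]
      apply Approx'.isIso_ι_f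
      rw [seq_a]
      push_cast
      lia
    infer_instance

/-- the colimit of the tower -/
noncomputable abbrev limF : Cx R := colimit (tower L n hn hfin)

/-- the induced morphism from the colimit -/
noncomputable def limα : limF L n hn hfin ⟶ L :=
  colimit.desc (tower L n hn hfin) (towerCocone L n hn hfin)

lemma isIso_colimit_ι_f (i : ℤ) (k₀ : ℕ) (hk₀ : n - i < k₀) :
    IsIso ((colimit.ι (tower L n hn hfin) k₀).f i) := by
  have h : ((tower L n hn hfin) ⋙
      HomologicalComplex.eval (ModuleCat.{u} R) (ComplexShape.up ℤ) i).IsEventuallyConstantFrom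
        k₀ :=
    fun j φ => tower_isIso_map_f L n hn hfin i k₀ hk₀ j φ
  exact h.isIso_ι_of_isColimit
    (isColimitOfPreserves (HomologicalComplex.eval (ModuleCat.{u} R) (ComplexShape.up ℤ) i)
      (colimit.isColimit (tower L n hn hfin)))

lemma limF_ff : TermwiseFiniteFree (limF L n hn hfin) := by
  intro i
  haveI := isIso_colimit_ι_f L n hn hfin i (n - i + 1).toNat (by lia)
  exact DRingPC.finiteFree_of_iso
    (asIso ((colimit.ι (tower L n hn hfin) (n - i + 1).toNat).f i))
    ((seq L n hn hfin (n - i + 1).toNat).1.ff i)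

lemma limF_vanishesAbove : VanishesAbove (limF L n hn hfin) n := by
  intro i hi
  haveI := isIso_colimit_ι_f L n hn hfin i 0 (by simp; lia)
  exact IsZero.of_iso ((seq L n hn hfin 0).1.bound i (Or.inr hi))
    (asIso ((colimit.ι (tower L n hn hfin) 0).f i)).symm

lemma isIso_Q_map_limα : IsIso (Q.map (limα L n hn hfin)) := by
  rw [DerivedCategory.isIso_iff]
  intro i
  obtain ⟨k₀, hk₀⟩ : ∃ k₀ : ℕ, n - i + 1 < k₀ := ⟨(n - i + 2).toNat, by lia⟩
  let ι : (seq L n hn hfin k₀).1.F ⟶ limF L n hn hfin := colimit.ι (tower L n hn hfin) k₀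
  have hι : QuasiIsoAt ι i := by
    rw [quasiIsoAt_iff' _ (i - 1) i (i + 1) (by simp) (by simp)]
    let φ := (HomologicalComplex.shortComplexFunctor' (ModuleCat.{u} R) (ComplexShape.up ℤ)
      (i - 1) i (i + 1)).map ι
    have : IsIso φ.τ₁ := isIso_colimit_ι_f L n hn hfin (i - 1) k₀ (by lia)
    have : IsIso φ.τ₂ := isIso_colimit_ι_f L n hn hfin i k₀ (by lia)
    have : IsIso φ.τ₃ := isIso_colimit_ι_f L n hn hfin (i + 1) k₀ (by lia)
    apply ShortComplex.quasiIso_of_epi_of_isIso_of_mono
  rw [quasiIsoAt_iff_isIso_homologyMap] at hι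
  haveI h1 := isIso_homologyFunctor_map_Q ι i hι
  have hfac : ι ≫ limα L n hn hfin = (seq L n hn hfin k₀).1.α := by
    exact colimit.ι_desc (towerCocone L n hn hfin) k₀
  have h2 : IsIso ((homologyFunctor (ModuleCat.{u} R) i).map
      (Q.map (seq L n hn hfin k₀).1.α)) := by
    have hT := mappingCone_triangle_distinguished (seq L n hn hfin k₀).1.α
    have ha := seq_a L n hn hfin k₀
    have hepi : Epi ((homologyFunctor (ModuleCat.{u} R) i).map
        (Q.map (seq L n hn hfin k₀).1.α)) :=
      (HomologySequence.epi_homologyMap_mor₁_iff _ hT i).2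
        (((seq L n hn hfin k₀).1.acyc i (by lia)).eq_of_tgt _ _)
    have hmono : Mono ((homologyFunctor (ModuleCat.{u} R) i).map
        (Q.map (seq L n hn hfin k₀).1.α)) :=
      (HomologySequence.mono_homologyMap_mor₁_iff _ hT (i - 1) i (by lia)).2
        (((seq L n hn hfin k₀).1.acyc (i - 1) (by lia)).eq_of_src _ _)
    exact isIso_of_mono_of_epi _
  have hfac' : (homologyFunctor (ModuleCat.{u} R) i).map (Q.map ι) ≫
      (homologyFunctor (ModuleCat.{u} R) i).map (Q.map (limα L n hn hfin)) =
      (homologyFunctor (ModuleCat.{u} R) i).map (Q.map (seq L n hn hfin k₀).1.α) := by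
    have := congrArg (fun f => (homologyFunctor (ModuleCat.{u} R) i).map (Q.map f)) hfac
    simpa only [Functor.map_comp] using this
  exact @IsIso.of_isIso_fac_left _ _ _ _ _ _ _ _ h1 h2 hfac'

end Tower

/-- **Existence of a bounded above finite free resolution.** -/
theorem exists_resolution (L : Cx R) (n : ℤ)
    (hn : ∀ i : ℤ, n < i → IsZero ((homologyFunctor (ModuleCat.{u} R) i).obj (Q.obj L)))
    (hfin : ∀ j : ℤ, j ≤ n → FinCond L n j) :
    ∃ (F : Cx R) (α : F ⟶ L), VanishesAbove F n ∧ TermwiseFiniteFree F ∧ IsIso (Q.map α) :=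
  ⟨limF L n hn hfin, limα L n hn hfin, limF_vanishesAbove L n hn hfin, limF_ff L n hn hfin,
    isIso_Q_map_limα L n hn hfin⟩

end Groth.Agent.Lib.Helper43.PCTower
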