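import Mathlib.Tactic
import Groth.Prelude.Def_DRing2
import Groth.Agent.Lib.Helper43.PCTower

/-!
# Bounded above free resolutions of bounded above complexes (helper43)

Generalisation of `PCTower` dropping all finiteness: every complex `L` of `R`-modules whose
cohomology vanishes above `n` receives a quasi-isomorphism from a complex of free modules
vanishing above `n` (`exists_free_resolution`).  Also `exists_free_approx`: partial version.
-/

set_option autoImplicit false
universe u

open CategoryTheory CategoryTheory.Limits CategoryTheory.Pretriangulated DerivedCategory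
open CochainComplex HomComplex

attribute [local instance] HasDerivedCategory.standard

namespace Groth.Agent.Lib.Helper43.FreeRes

open DRing Groth.Agent.Lib.Helper43 Groth.Agent.Lib.Helper84 ZeroObject
  Groth.Agent.Lib.Helper43.PCTower

variable {R : Type u} [CommRing R]

/-- every term is a free module -/
def TermwiseFree (P : Cx R) : Prop := ∀ i : ℤ, Module.Free R (P.X i)

lemma free_of_iso {X Y : ModuleCat.{u} R} (e : X ≅ Y) (h : Module.Free R X) : Module.Free R Y :=
  Module.Free.of_equiv e.toLinearEquiv

lemma free_biprod (X Y : ModuleCat.{u} R) (hX : Module.Free R X) (hY : Module.Free R Y) :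
    Module.Free R (X ⊞ Y : ModuleCat.{u} R) := by
  have e := (ModuleCat.biprodIsoProd X Y).symm
  refine free_of_iso e ?_
  change Module.Free R (X × Y); infer_instance

lemma termwiseFree_mappingCone {E F : Cx R} (f : E ⟶ F) (hE : TermwiseFree E)
    (hF : TermwiseFree F) : TermwiseFree (CochainComplex.mappingCone f) := fun i =>
  free_of_iso (ConeRep.mappingConeXIso f i).symm (free_biprod _ _ (hE (i + 1)) (hF i))

lemma termwiseFree_of_finiteFree {E : Cx R} (hE : TermwiseFiniteFree E) : TermwiseFree E :=
  fun i => (hE i).2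

lemma projective_of_termwiseFree {E : Cx R} (hE : TermwiseFree E) (i : ℤ) :
    Module.Projective R (E.X i) := by
  haveI := hE i
  exact Module.Projective.of_free

/-- Module version of `PCStep.step`: attach a free cell in degree `j`. -/
theorem stepModule {F L : Cx R} (α : F ⟶ L) (j : ℤ)
    (hα : ∀ i : ℤ, j < i →
      IsZero ((homologyFunctor (ModuleCat.{u} R) i).obj (Q.obj (mappingCone α)))) :
    ∃ (P : ModuleCat.{u} R) (_ : Module.Free R P)
      (φ : (CochainComplex.singleFunctor (ModuleCat.{u} R) (j + 1)).obj P ⟶ F)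
      (α' : mappingCone φ ⟶ L), mappingCone.inr φ ≫ α' = α ∧
        ∀ i : ℤ, j ≤ i →
          IsZero ((homologyFunctor (ModuleCat.{u} R) i).obj (Q.obj (mappingCone α'))) := by
  let H := (mappingCone α).homology j
  let f : (H →₀ R) →ₗ[R] H := Finsupp.linearCombination R id
  have hf : Function.Surjective f := Finsupp.linearCombination_surjective R Function.surjective_id
  let P : ModuleCat.{u} R := ModuleCat.of R (H →₀ R)
  let s' : P ⟶ (mappingCone α).homology j := ModuleCat.ofHom f
  have hs' : Epi s' := (ModuleCat.epi_iff_surjective _).2 hf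
  haveI : Projective P := by
    apply (IsProjective.iff_projective (R := R) (P := P)).1
    exact Module.Projective.of_free
  let s : P ⟶ (mappingCone α).cycles j := Projective.factorThru s' ((mappingCone α).homologyπ j)
  have hs : Epi (s ≫ (mappingCone α).homologyπ j) := by
    rw [Projective.factorThru_comp]
    exact hs'
  obtain ⟨φ, α', h1, h2⟩ := PCStep.step α j s hs hα
  exact ⟨P, inferInstanceAs (Module.Free R (H →₀ R)), φ, α', h1, h2⟩

/-- single complexes on free modules are termwise free -/
lemma termwiseFree_single (P : ModuleCat.{u} R) (hP : Module.Free R P)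
    (p : ℤ) : TermwiseFree ((CochainComplex.singleFunctor (ModuleCat.{u} R) p).obj P) := by
  intro i
  by_cases hi : i = p
  · subst hi
    exact free_of_iso
      (HomologicalComplex.singleObjXSelf (ComplexShape.up ℤ) i P).symm hP
  · have hz : IsZero (((CochainComplex.singleFunctor (ModuleCat.{u} R) p).obj P).X i) :=
      HomologicalComplex.isZero_single_obj_X _ _ _ _ hi
    haveI : Subsingleton (((CochainComplex.singleFunctor (ModuleCat.{u} R) p).obj P).X i) :=
      ModuleCat.subsingleton_of_isZero hz
    infer_instance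

/-- A finite free approximation of `L` in degrees `[a, n]`. -/
structure Approx (L : Cx R) (n : ℤ) where
  /-- lower bound -/
  a : ℤ
  /-- the approximating complex -/
  F : Cx R
  /-- the approximation -/
  α : F ⟶ L
  bound : VanishesOutside F a n
  ff : TermwiseFree F
  acyc : ∀ i : ℤ, a ≤ i →
    IsZero ((homologyFunctor (ModuleCat.{u} R) i).obj (Q.obj (mappingCone α)))

/-- the trivial approximation -/
noncomputable def Approx.zero (L : Cx R) (n : ℤ)
    (hn : ∀ i : ℤ, n < i → IsZero ((homologyFunctor (ModuleCat.{u} R) i).obj (Q.obj L))) :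
    Approx L n where
  a := n + 1
  F := 0
  α := 0
  bound := fun i _ => Functor.map_isZero (HomologicalComplex.eval _ _ i) (isZero_zero _)
  ff := fun i => by
    have hz : IsZero ((0 : Cx R).X i) :=
      Functor.map_isZero (HomologicalComplex.eval _ _ i) (isZero_zero _)
    haveI : Subsingleton ((0 : Cx R).X i) := ModuleCat.subsingleton_of_isZero hz
    infer_instance
  acyc := fun i hi =>
    IsZero.of_iso (hn i (by lia)) (homologyIso_cone_zero L 0 (isZero_zero _) 0 i).some

theorem Approx.exists_next {L : Cx R} {n : ℤ} (A : Approx L n) (hA : A.a ≤ n + 1) :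
    ∃ (B : Approx L n) (ι : A.F ⟶ B.F), B.a = A.a - 1 ∧ ι ≫ B.α = A.α ∧
      ∀ i : ℤ, i ≠ A.a - 1 → IsIso (ι.f i) := by
  obtain ⟨P, hPfree, φ, α', h1, h2⟩ := stepModule A.α (A.a - 1)
    (fun i hi => A.acyc i (by lia))
  have hb := PCApprox.vanishesOutside_cone_single (A.a - 1) n
    (fun i hi => A.bound i (by lia)) P φ
  rw [max_eq_left (by lia : A.a - 1 ≤ n)] at hb
  refine ⟨⟨A.a - 1, mappingCone φ, α', hb,
    termwiseFree_mappingCone φ (termwiseFree_single P hPfree _) A.ff, h2⟩,
    mappingCone.inr φ, rfl, h1, fun i hi => ?_⟩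
  apply isIso_inr_f
  apply HomologicalComplex.isZero_single_obj_X
  lia


section Tower

variable (L : Cx R) (n : ℤ)
  (hn : ∀ i : ℤ, n < i → IsZero ((homologyFunctor (ModuleCat.{u} R) i).obj (Q.obj L)))

/-- approximations with `a ≤ n + 1` -/
abbrev Approx' := {A : Approx L n // A.a ≤ n + 1}

lemma Approx'.exists_next (A : Approx' L n) :
    ∃ (B : Approx L n) (ι : A.1.F ⟶ B.F), B.a = A.1.a - 1 ∧ ι ≫ B.α = A.1.α ∧
      ∀ i : ℤ, i ≠ A.1.a - 1 → IsIso (ι.f i) :=
  A.1.exists_next A.2

/-- the next approximation -/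
noncomputable def Approx'.next (A : Approx' L n) : Approx' L n :=
  ⟨(Approx'.exists_next L n A).choose, by
    rw [(Approx'.exists_next L n A).choose_spec.choose_spec.1]
    have := A.2
    lia⟩

/-- the transition map -/
noncomputable def Approx'.ι (A : Approx' L n) : A.1.F ⟶ (Approx'.next L n A).1.F :=
  (Approx'.exists_next L n A).choose_spec.choose

lemma Approx'.next_a (A : Approx' L n) : (Approx'.next L n A).1.a = A.1.a - 1 :=
  (Approx'.exists_next L n A).choose_spec.choose_spec.1

lemma Approx'.ι_α (A : Approx' L n) :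
    Approx'.ι L n A ≫ (Approx'.next L n A).1.α = A.1.α :=
  (Approx'.exists_next L n A).choose_spec.choose_spec.2.1

lemma Approx'.isIso_ι_f (A : Approx' L n) (i : ℤ) (hi : i ≠ A.1.a - 1) :
    IsIso ((Approx'.ι L n A).f i) :=
  (Approx'.exists_next L n A).choose_spec.choose_spec.2.2 i hi

/-- the sequence of approximations -/
noncomputable def seq : ℕ → Approx' L n
  | 0 => ⟨Approx.zero L n hn, le_rfl⟩
  | k + 1 => Approx'.next L n (seq k)

lemma seq_a (k : ℕ) : (seq L n hn k).1.a = n + 1 - k := by
  induction k with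
  | zero => simp [seq, Approx.zero]
  | succ k ih =>
    change (Approx'.next L n (seq L n hn k)).1.a = _
    rw [Approx'.next_a, ih]
    push_cast
    ring

/-- the tower as a functor -/
noncomputable def tower : ℕ ⥤ Cx R :=
  Functor.ofSequence (X := fun k => (seq L n hn k).1.F)
    (fun k => Approx'.ι L n (seq L n hn k))

/-- the cocone over the tower with point `L` -/
noncomputable def towerCocone : Cocone (tower L n hn) where
  pt := L
  ι := NatTrans.ofSequence (fun k => (seq L n hn k).1.α) (fun k => by
    dsimp [tower]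
    rw [Functor.ofSequence_map_homOfLE_succ, Category.comp_id]
    exact Approx'.ι_α L n (seq L n hn k))

lemma tower_isIso_map_f (i : ℤ) (k₀ : ℕ) (hk₀ : n - i < k₀) (j : ℕ) (φ : k₀ ⟶ j) :
    IsIso (((tower L n hn).map φ).f i) := by
  obtain ⟨d, rfl⟩ := Nat.exists_eq_add_of_le (leOfHom φ)
  obtain rfl := Subsingleton.elim φ (homOfLE (by lia))
  induction d with
  | zero =>
    have : (homOfLE (by lia) : k₀ ⟶ k₀ + 0) = 𝟙 k₀ := Subsingleton.elim _ _
    rw [this, CategoryTheory.Functor.map_id]
    exact inferInstanceAs (IsIso (𝟙 _))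
  | succ d ih =>
    have h1 : (homOfLE (by lia) : k₀ ⟶ k₀ + (d + 1)) =
        (homOfLE (by lia) : k₀ ⟶ k₀ + d) ≫ homOfLE (Nat.le_add_right (k₀ + d) 1) :=
      Subsingleton.elim _ _
    rw [h1, CategoryTheory.Functor.map_comp, HomologicalComplex.comp_f]
    haveI := ih
    haveI : IsIso (((tower L n hn).map (homOfLE (Nat.le_add_right (k₀ + d) 1))).f i) := by
      dsimp only [tower]
      rw [Functor.ofSequence_map_homOfLE_succ]
      apply Approx'.isIso_ι_f
      rw [seq_a]
      push_cast
      lia
    infer_instance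

/-- the colimit of the tower -/
noncomputable abbrev limF : Cx R := colimit (tower L n hn)

/-- the induced morphism from the colimit -/
noncomputable def limα : limF L n hn ⟶ L :=
  colimit.desc (tower L n hn) (towerCocone L n hn)

lemma isIso_colimit_ι_f (i : ℤ) (k₀ : ℕ) (hk₀ : n - i < k₀) :
    IsIso ((colimit.ι (tower L n hn) k₀).f i) := by
  have h : ((tower L n hn) ⋙
      HomologicalComplex.eval (ModuleCat.{u} R) (ComplexShape.up ℤ) i).IsEventuallyConstantFrom
        k₀ :=
    fun j φ => tower_isIso_map_f L n hn i k₀ hk₀ j φ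
  exact h.isIso_ι_of_isColimit
    (isColimitOfPreserves (HomologicalComplex.eval (ModuleCat.{u} R) (ComplexShape.up ℤ) i)
      (colimit.isColimit (tower L n hn)))

lemma limF_ff : TermwiseFree (limF L n hn) := by
  intro i
  haveI := isIso_colimit_ι_f L n hn i (n - i + 1).toNat (by lia)
  exact free_of_iso
    (asIso ((colimit.ι (tower L n hn) (n - i + 1).toNat).f i))
    ((seq L n hn (n - i + 1).toNat).1.ff i)

lemma limF_vanishesAbove : VanishesAbove (limF L n hn) n := by
  intro i hi
  haveI := isIso_colimit_ι_f L n hn i 0 (by simp; lia)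
  exact IsZero.of_iso ((seq L n hn 0).1.bound i (Or.inr hi))
    (asIso ((colimit.ι (tower L n hn) 0).f i)).symm

lemma isIso_Q_map_limα : IsIso (Q.map (limα L n hn)) := by
  rw [DerivedCategory.isIso_iff]
  intro i
  obtain ⟨k₀, hk₀⟩ : ∃ k₀ : ℕ, n - i + 1 < k₀ := ⟨(n - i + 2).toNat, by lia⟩
  let ι : (seq L n hn k₀).1.F ⟶ limF L n hn := colimit.ι (tower L n hn) k₀
  have hι : QuasiIsoAt ι i := by
    rw [quasiIsoAt_iff' _ (i - 1) i (i + 1) (by simp) (by simp)]
    let φ := (HomologicalComplex.shortComplexFunctor' (ModuleCat.{u} R) (ComplexShape.up ℤ)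
      (i - 1) i (i + 1)).map ι
    have : IsIso φ.τ₁ := isIso_colimit_ι_f L n hn (i - 1) k₀ (by lia)
    have : IsIso φ.τ₂ := isIso_colimit_ι_f L n hn i k₀ (by lia)
    have : IsIso φ.τ₃ := isIso_colimit_ι_f L n hn (i + 1) k₀ (by lia)
    apply ShortComplex.quasiIso_of_epi_of_isIso_of_mono
  rw [quasiIsoAt_iff_isIso_homologyMap] at hι
  haveI h1 := isIso_homologyFunctor_map_Q ι i hι
  have hfac : ι ≫ limα L n hn = (seq L n hn k₀).1.α := by
    exact colimit.ι_desc (towerCocone L n hn) k₀
  have h2 : IsIso ((homologyFunctor (ModuleCat.{u} R) i).map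
      (Q.map (seq L n hn k₀).1.α)) := by
    have hT := mappingCone_triangle_distinguished (seq L n hn k₀).1.α
    have ha := seq_a L n hn k₀
    have hepi : Epi ((homologyFunctor (ModuleCat.{u} R) i).map
        (Q.map (seq L n hn k₀).1.α)) :=
      (HomologySequence.epi_homologyMap_mor₁_iff _ hT i).2
        (((seq L n hn k₀).1.acyc i (by lia)).eq_of_tgt _ _)
    have hmono : Mono ((homologyFunctor (ModuleCat.{u} R) i).map
        (Q.map (seq L n hn k₀).1.α)) :=
      (HomologySequence.mono_homologyMap_mor₁_iff _ hT (i - 1) i (by lia)).2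
        (((seq L n hn k₀).1.acyc (i - 1) (by lia)).eq_of_src _ _)
    exact isIso_of_mono_of_epi _
  have hfac' : (homologyFunctor (ModuleCat.{u} R) i).map (Q.map ι) ≫
      (homologyFunctor (ModuleCat.{u} R) i).map (Q.map (limα L n hn)) =
      (homologyFunctor (ModuleCat.{u} R) i).map (Q.map (seq L n hn k₀).1.α) := by
    have := congrArg (fun f => (homologyFunctor (ModuleCat.{u} R) i).map (Q.map f)) hfac
    simpa only [Functor.map_comp] using this
  exact @IsIso.of_isIso_fac_left _ _ _ _ _ _ _ _ h1 h2 hfac'

end Tower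

/-- approximations down to degree `n + 1 - k`. -/
theorem exists_approx_nat (L : Cx R) (n : ℤ)
    (hn : ∀ i : ℤ, n < i → IsZero ((homologyFunctor (ModuleCat.{u} R) i).obj (Q.obj L)))
    (k : ℕ) : ∃ A : Approx L n, A.a = n + 1 - k :=
  ⟨(seq L n hn k).1, seq_a L n hn k⟩

/-- **Existence of a bounded above free resolution.** -/
theorem exists_free_resolution (L : Cx R) (n : ℤ)
    (hn : ∀ i : ℤ, n < i → IsZero ((homologyFunctor (ModuleCat.{u} R) i).obj (Q.obj L))) :
    ∃ (F : Cx R) (α : F ⟶ L), VanishesAbove F n ∧ TermwiseFree F ∧ IsIso (Q.map α) :=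
  ⟨limF L n hn, limα L n hn, limF_vanishesAbove L n hn, limF_ff L n hn,
    isIso_Q_map_limα L n hn⟩

/-- object version: every object of `D(R)` with cohomology vanishing above `n` is represented
by a complex of free modules vanishing above `n`. -/
theorem exists_free_representative (K : Dual.D R) (n : ℤ)
    (hn : ∀ i : ℤ, n < i → IsZero ((homologyFunctor (ModuleCat.{u} R) i).obj K)) :
    ∃ (F : Cx R), VanishesAbove F n ∧ TermwiseFree F ∧ Nonempty (toD F ≅ K) := by
  let L : Cx R := Q.objPreimage K
  let e : Q.obj L ≅ K := Q.objObjPreimageIso K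
  obtain ⟨F, α, h1, h2, h3⟩ := exists_free_resolution L n
    (fun i hi => IsZero.of_iso (hn i hi) ((homologyFunctor (ModuleCat.{u} R) i).mapIso e))
  exact ⟨F, h1, h2, ⟨asIso (Q.map α) ≪≫ e⟩⟩

end Groth.Agent.Lib.Helper43.FreeRes
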