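import Mathlib.Tactic
import Groth.Prelude.Def_DRing2
import Groth.Agent.Lib.Helper43.PCTower
import Groth.Agent.Lib.Helper15.PseudoCoh
import Groth.Agent.Lib.Helper84.FlatBC
import Mathlib.Algebra.Homology.ShortComplex.PreservesHomology

/-!
# Descent of `m`-pseudo-coherence along jointly faithful flat families (helper43)
-/

set_option autoImplicit false
universe u

open CategoryTheory CategoryTheory.Limits CategoryTheory.Pretriangulated DerivedCategory
open CochainComplex

attribute [local instance] HasDerivedCategory.standard

namespace Groth.Agent.Lib.Helper43.PCDescent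

open DRing Groth.Agent.Lib.Helper43 Groth.Agent.Lib.Helper84 Groth.Agent.Lib.Helper15
  Groth.Agent.Lib.Helper15.MQI Groth.Agent.Lib.Helper84.FlatBC
open scoped TensorProduct

variable {A B : Type u} [CommRing A] [CommRing B] (φ : A →+* B)

/-- bounded complexes of finite free modules are `m`-pseudo-coherent for all `m` -/
lemma isPseudoCoherent_toD (F : Cx A) (a b : ℤ)
    (hF : VanishesOutside F a b) (hff : TermwiseFiniteFree F) (m : ℤ) :
    IsPseudoCoherent A m (toD F) :=
  (PseudoCoh.isPseudoCoherent_iff m _).2 ⟨F, a, b, 𝟙 _, hF, hff, IsMQI.of_isIso m _⟩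

instance : PreservesFiniteColimits (ext φ) := by
  have : (ext φ).IsLeftAdjoint := (ModuleCat.extendRestrictScalarsAdj φ).isLeftAdjoint
  infer_instance

variable [PreservesFiniteLimits (ext φ)]

/-- extension of scalars along a flat map commutes with homology -/
noncomputable def extHomologyIso (K : Cx A) (i : ℤ) :
    ((extCx φ).obj K).homology i ≅ (ext φ).obj (K.homology i) :=
  (K.sc i).mapHomologyIso (ext φ)

/-- the cone of the base change is acyclic where the cone is -/
lemma isZero_homology_extCx (K : Cx A) (i : ℤ)
    (h : IsZero ((homologyFunctor (ModuleCat.{u} A) i).obj (toD K))) :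
    IsZero ((homologyFunctor (ModuleCat.{u} B) i).obj (toD ((extCx φ).obj K))) := by
  refine IsZero.of_iso ?_ (PCHomology.homologyIso _ i)
  refine IsZero.of_iso ?_ (extHomologyIso φ K i)
  exact (ext φ).map_isZero (IsZero.of_iso h (PCHomology.homologyIso K i).symm)

/-- **Descent of `m`-pseudo-coherence** along a family of flat ring maps which jointly detects
vanishing and finiteness of modules. -/
theorem descent {A : Type u} [CommRing A] {T : Type*} (B : T → Type u) [∀ t, CommRing (B t)]
    (φ : ∀ t, A →+* B t) [∀ t, PreservesFiniteLimits (ext (φ t))]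
    (D1 : ∀ M : ModuleCat.{u} A, (∀ t, IsZero ((ext (φ t)).obj M)) → IsZero M)
    (D2 : ∀ M : ModuleCat.{u} A, (∀ t, Module.Finite (B t) ((ext (φ t)).obj M)) →
      Module.Finite A M)
    (K : Cx A) (m n : ℤ)
    (hn : ∀ (t : T) (i : ℤ), n < i →
      IsZero ((homologyFunctor (ModuleCat.{u} (B t)) i).obj (toD ((extCx (φ t)).obj K))))
    (hK : ∀ t, IsPseudoCoherent (B t) m (toD ((extCx (φ t)).obj K))) :
    IsPseudoCoherent A m (toD K) := by
  refine PCTower.isPseudoCoherent_of_finCond K (Iso.refl _) n m ?_ ?_
  · intro i hi
    refine IsZero.of_iso (D1 (K.homology i) (fun t => ?_)) (PCHomology.homologyIso K i)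
    exact IsZero.of_iso (IsZero.of_iso (hn t i hi) (PCHomology.homologyIso _ i).symm)
      (extHomologyIso (φ t) K i).symm
  · intro j hj _ F α hF hff hacyc
    haveI : Module.Finite A ((mappingCone α).homology j) := by
      apply D2
      intro t
      let α' := (extCx (φ t)).map α
      let e : (extCx (φ t)).obj (mappingCone α) ≅ mappingCone α' :=
        mappingCone.mapHomologicalComplexIso α (ext (φ t))
      have hpc : IsPseudoCoherent (B t) j (Q.obj (mappingCone α')) :=
        PseudoCoh.obj₃ j _ (mappingCone_triangle_distinguished α')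
          (isPseudoCoherent_toD _ (j + 1) n (vanishesOutside_extCx (φ t) F _ _ hF)
            (termwiseFiniteFree_extCx (φ t) F hff) (j + 1))
          (PseudoCoh.of_le hj (hK t))
      have eH : ∀ i : ℤ, (homologyFunctor (ModuleCat.{u} (B t)) i).obj (Q.obj (mappingCone α')) ≅
          (ext (φ t)).obj ((mappingCone α).homology i) := fun i =>
        (homologyFunctor (ModuleCat.{u} (B t)) i).mapIso (Q.mapIso e.symm) ≪≫
          PCHomology.homologyIso _ i ≪≫ extHomologyIso (φ t) (mappingCone α) i
      have hacyc' : ∀ i : ℤ, j < i →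
          IsZero ((homologyFunctor (ModuleCat.{u} (B t)) i).obj (Q.obj (mappingCone α'))) := by
        intro i hi
        refine IsZero.of_iso ((ext (φ t)).map_isZero ?_) (eH i)
        exact IsZero.of_iso (hacyc i hi) (PCHomology.homologyIso _ i).symm
      haveI := PCHomology.finite_homology_of_isPseudoCoherent _ j hpc hacyc'
      exact Module.Finite.equiv (eH j).toLinearEquiv
    exact Module.Finite.equiv (PCHomology.homologyIso (mappingCone α) j).toLinearEquiv.symm

end Groth.Agent.Lib.Helper43.PCDescent
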