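import Mathlib.Tactic
import Groth.Prelude.Def_DRing2
import Groth.Agent.Lib.Helper43.FreeRes
import Groth.Agent.Lib.Helper43.PCDescent
import Groth.Agent.Lib.Helper84.FlatAmp
import Groth.Agent.Lib.Helper84.FlatBC

/-!
# Descent of tor amplitude (flat-representative form) along jointly faithful flat families
(helper43)

* `hasTorAmplitudeIn_of_flat_opcycles`: a bounded above complex of flat modules, exact in degrees
  `< a`, with flat `opcycles a`, has tor amplitude in `[a, b]`;
* `flat_opcycles_of_hasTorAmplitudeIn`: conversely;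
* `descent`: descent of tor amplitude along a family of flat ring maps which jointly detects
  vanishing and flatness of modules.
-/

set_option autoImplicit false
universe u

open CategoryTheory CategoryTheory.Limits CategoryTheory.Pretriangulated DerivedCategory
open CochainComplex

attribute [local instance] HasDerivedCategory.standard

namespace Groth.Agent.Lib.Helper43.TorAmpDescent

open DRing Groth.Agent.Lib.Helper43 Groth.Agent.Lib.Helper84 Groth.Agent.Lib.Helper84.FlatBC
  Groth.Agent.Lib.Helper84.FlatAmp Groth.Agent.Lib.Helper84.TensCx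

variable {R : Type u} [CommRing R]

/-- the truncation criterion for tor amplitude, in terms of `opcycles` -/
theorem hasTorAmplitudeIn_of_flat_opcycles (F : Cx R) (a b : ℤ) (hb : VanishesAbove F b)
    (hF : TermwiseFlat F) (hex : ∀ i : ℤ, i < a → F.ExactAt i)
    (hop : Module.Flat R (F.opcycles a)) : HasTorAmplitudeIn R a b (toD F) := by
  haveI : F.IsGE a := by
    rw [CochainComplex.isGE_iff]
    intro i hi
    exact hex i hi
  haveI : QuasiIso (F.πTruncGE a) := inferInstance
  haveI : IsIso (Q.map (F.πTruncGE a)) := by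
    rw [isIso_Q_map_iff_quasiIso]
    infer_instance
  refine ⟨F.truncGE a, ?_, ?_, ⟨(asIso (Q.map (F.πTruncGE a))).symm⟩⟩
  · intro i hi
    rcases lt_trichotomy i a with hlt | rfl | hgt
    · exact CochainComplex.isZero_of_isStrictlyGE _ a i hlt
    · have hi' : b < i := by
        rcases hi with hi | hi
        · exact absurd hi (lt_irrefl _)
        · exact hi
      exact IsZero.of_iso (IsZero.of_epi (F.pOpcycles i) (hb i hi')) (F.truncGEXIsoOpcycles i)
    · have hi' : b < i := by
        rcases hi with hi | hi
        · lia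
        · exact hi
      exact IsZero.of_iso (hb i hi') (F.truncGEXIso a i hgt)
  · intro i
    rcases lt_trichotomy i a with hlt | rfl | hgt
    · exact flat_of_isZero (CochainComplex.isZero_of_isStrictlyGE _ a i hlt)
    · haveI := hop
      exact flat_of_iso (F.truncGEXIsoOpcycles i).symm
    · haveI := hF i
      exact flat_of_iso (F.truncGEXIso a i hgt).symm

/-- a bounded above complex of flat modules representing an object of tor amplitude in `[a, b]`
is exact in degrees `< a` and has flat `opcycles a` -/
theorem flat_opcycles_of_hasTorAmplitudeIn (F : Cx R) (n : ℤ) (hn : VanishesAbove F n)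
    (hF : TermwiseFlat F) (a b : ℤ) (h : HasTorAmplitudeIn R a b (toD F)) :
    Module.Flat R (F.opcycles a) ∧ ∀ i : ℤ, i < a → F.ExactAt i := by
  have hex : ∀ (N : ModuleCat.{u} R) (i : ℤ), i < a → ((tens N).obj F).ExactAt i :=
    fun N i hi => exactAt_tens_of_hasTorAmplitudeIn F n hn hF a b h N i hi
  refine ⟨?_, fun i hi => exactAt_of_exactAt_tens_unit F i (hex _ i hi)⟩
  haveI := hF a
  haveI : Module.Flat R (ModuleCat.of R (F.X a ⧸ LinearMap.range (F.d (a - 1) a).hom)) :=
    flat_coker_of_exactAt F a (fun N => hex N (a - 1) (by lia))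
  exact flat_of_iso (opcyclesIsoCoker F (a - 1) a (by lia)).symm

section

variable {A B : Type u} [CommRing A] [CommRing B] (φ : A →+* B)

variable [PreservesFiniteLimits (ext φ)]

/-- extension of scalars commutes with `opcycles` -/
noncomputable def extOpcyclesIso (K : Cx A) (i : ℤ) :
    ((extCx φ).obj K).opcycles i ≅ (ext φ).obj (K.opcycles i) :=
  (K.sc i).mapOpcyclesIso (ext φ)

/-- termwise base change of a quasi-isomorphism along a flat map -/
lemma isIso_Q_map_extCx {K L : Cx A} (α : K ⟶ L) (hα : IsIso (Q.map α)) :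
    IsIso (Q.map ((extCx φ).map α)) := by
  rw [isIso_Q_map_iff_quasiIso] at hα ⊢
  haveI := hα
  infer_instance

end

/-- **Descent of tor amplitude** along a family of flat ring maps which jointly detects
vanishing and flatness of modules. -/
theorem descent {A : Type u} [CommRing A] {T : Type*} (B : T → Type u) [∀ t, CommRing (B t)]
    (φ : ∀ t, A →+* B t) [∀ t, PreservesFiniteLimits (ext (φ t))]
    (D1 : ∀ M : ModuleCat.{u} A, (∀ t, IsZero ((ext (φ t)).obj M)) → IsZero M)
    (D3 : ∀ M : ModuleCat.{u} A, (∀ t, Module.Flat (B t) ((ext (φ t)).obj M)) →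
      Module.Flat A M)
    (K : Cx A) (a b : ℤ)
    (hK : ∀ t, HasTorAmplitudeIn (B t) a b (toD ((extCx (φ t)).obj K))) :
    HasTorAmplitudeIn A a b (toD K) := by
  -- cohomology vanishes above `b`
  have hKb : ∀ i : ℤ, b < i → IsZero ((homologyFunctor (ModuleCat.{u} A) i).obj (Q.obj K)) := by
    intro i hi
    refine IsZero.of_iso (D1 (K.homology i) (fun t => ?_)) (PCHomology.homologyIso K i)
    haveI := torAmp_isLE (hK t)
    exact IsZero.of_iso (IsZero.of_iso (DerivedCategory.isZero_of_isLE _ b i hi)
      (PCHomology.homologyIso _ i).symm) (PCDescent.extHomologyIso (φ t) K i).symm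
  obtain ⟨P, α, hPb, hPfree, hα⟩ := FreeRes.exists_free_resolution K b hKb
  have hPflat : TermwiseFlat P := fun i => by
    haveI := hPfree i
    infer_instance
  -- the base changes of `P`
  have hP : ∀ t, HasTorAmplitudeIn (B t) a b (toD ((extCx (φ t)).obj P)) := by
    intro t
    haveI := isIso_Q_map_extCx (φ t) α hα
    exact torAmp_of_iso (hK t) (asIso (Q.map ((extCx (φ t)).map α))).symm
  have key : ∀ t, Module.Flat (B t) (((extCx (φ t)).obj P).opcycles a) ∧
      ∀ i : ℤ, i < a → ((extCx (φ t)).obj P).ExactAt i := fun t =>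
    flat_opcycles_of_hasTorAmplitudeIn _ b (vanishesAbove_extCx (φ t) P b hPb)
      (termwiseFlat_extCx (φ t) P hPflat) a b (hP t)
  refine torAmp_of_iso (hasTorAmplitudeIn_of_flat_opcycles P a b hPb hPflat ?_ ?_)
    (@asIso _ _ _ _ (Q.map α) hα)
  · intro i hi
    rw [HomologicalComplex.exactAt_iff_isZero_homology]
    refine D1 _ (fun t => ?_)
    refine IsZero.of_iso ?_ (PCDescent.extHomologyIso (φ t) P i).symm
    exact (HomologicalComplex.exactAt_iff_isZero_homology _ _).1 ((key t).2 i hi)
  · refine D3 _ (fun t => ?_)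
    haveI := (key t).1
    exact flat_of_iso (extOpcyclesIso (φ t) P a)

end Groth.Agent.Lib.Helper43.TorAmpDescent
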