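import Mathlib.Tactic
import Groth.Prelude.Def_DRing2
import Groth.Agent.Lib.Helper43.FreeRes
import Groth.Agent.Lib.Helper43.TorAmpDescent
import Groth.Agent.Lib.Helper15.PseudoCoh
import Groth.Agent.Lib.Helper15.PseudoCohSection
import Groth.Agent.Lib.Helper84.FlatAmp
import Groth.Agent.Lib.Helper84.PerfSummand
import Groth.Agent.Lib.Helper84.BProj
import Mathlib.RingTheory.Flat.EquationalCriterion
import Mathlib.RingTheory.Finiteness.Projective

/-!
# Perfect amplitude = pseudo-coherence + tor amplitude (helper43)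

* `pcAll_of_perfect`: a bounded complex of finite projective modules is `m`-pseudo-coherent for
  all `m`;
* `exists_trim`: a bounded complex of finite projective modules which is `≤ n` is isomorphic in
  `D(R)` to one vanishing above `n` (and vanishing below the same bound);
* `exists_perfect_amplitude`: an `(m-1)`-pseudo-coherent object of tor amplitude in `[m, n]` is
  represented by a complex of finite projective modules vanishing outside `[m, n]`.
-/

set_option autoImplicit false
universe u

open CategoryTheory CategoryTheory.Limits CategoryTheory.Pretriangulated DerivedCategory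
open CochainComplex

attribute [local instance] HasDerivedCategory.standard

namespace Groth.Agent.Lib.Helper43.PerfAmp

open DRing Groth.Agent.Lib.Helper43 Groth.Agent.Lib.Helper84 Groth.Agent.Lib.Helper15
  Groth.Agent.Lib.Helper15.PseudoCoh Groth.Agent.Lib.Helper15.MQI
  Groth.Agent.Lib.Helper84.FlatAmp Groth.Agent.Lib.Helper84.TensCx

variable {R : Type u} [CommRing R]

/-! ### Part A: perfect complexes are pseudo-coherent -/

/-- retracts of `m`-pseudo-coherent objects are `m`-pseudo-coherent -/
lemma isPseudoCoherent_of_retract (m : ℤ) {X Y : Dual.D R} (i : X ⟶ Y) (p : Y ⟶ X)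
    (hip : i ≫ p = 𝟙 X) (h : IsPseudoCoherent R m Y) : IsPseudoCoherent R m X := by
  obtain ⟨Z, g, δ, hT⟩ := distinguished_cocone_triangle i
  have h0 : δ = 0 := by
    have h1 : δ ≫ i⟦(1 : ℤ)⟧' = 0 := comp_distTriang_mor_zero₃₁ _ hT
    have h2 : i⟦(1 : ℤ)⟧' ≫ p⟦(1 : ℤ)⟧' = 𝟙 _ := by
      rw [← CategoryTheory.Functor.map_comp, hip, CategoryTheory.Functor.map_id]
    calc δ = δ ≫ (i⟦(1 : ℤ)⟧' ≫ p⟦(1 : ℤ)⟧') := by rw [h2, Category.comp_id]
      _ = 0 := by rw [← Category.assoc, h1, zero_comp]
  exact (PseudoCoh.of_split m _ hT h0 h).1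

/-- a finite projective module placed in any degree is pseudo-coherent in all degrees -/
lemma pcAll_single_of_finiteProjective (P : ModuleCat.{u} R)
    (hP : Module.Finite R P ∧ Module.Projective R P) (i : ℤ) :
    PCAll R ((DerivedCategory.singleFunctor (ModuleCat.{u} R) i).obj P) := by
  obtain ⟨hP1, hP2⟩ := hP
  obtain ⟨n, f, g, -, -, hfg⟩ := Module.Finite.exists_comp_eq_id_of_projective R P
  let F : ModuleCat.{u} R := ModuleCat.of R (Fin n → R)
  let ι : P ⟶ F := ModuleCat.ofHom g
  let ρ : F ⟶ P := ModuleCat.ofHom f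
  have hιρ : ι ≫ ρ = 𝟙 P := by
    ext x
    exact LinearMap.congr_fun hfg x
  intro m
  refine isPseudoCoherent_of_retract m
    ((DerivedCategory.singleFunctor (ModuleCat.{u} R) i).map ι)
    ((DerivedCategory.singleFunctor (ModuleCat.{u} R) i).map ρ)
    (by rw [← CategoryTheory.Functor.map_comp, hιρ, CategoryTheory.Functor.map_id]) ?_
  exact PseudoCohSection.pcAll_single_of_finiteFree F
    ⟨inferInstanceAs (Module.Finite R (Fin n → R)),
      inferInstanceAs (Module.Free R (Fin n → R))⟩ i m

/-- the object property `PCAll` -/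
def pcAllProp (R : Type u) [CommRing R] : ObjectProperty (Dual.D R) := fun K => PCAll R K

instance : (pcAllProp R).IsClosedUnderIsomorphisms where
  of_iso e h := PCAll.of_iso e h

/-- a bounded complex of finite projective modules is pseudo-coherent in all degrees -/
theorem pcAll_of_perfect (E : Cx R) (a b : ℤ) (hE : VanishesOutside E a b)
    (hfp : TermwiseFiniteProjective E) : PCAll R (toD E) :=
  Devissage.prop_of_bounded_complex (pcAllProp R) (fun X hX => PCAll.of_isZero hX)
    (fun T hT h₁ h₃ => PCAll.obj₂ T hT h₁ h₃) E a b hE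
    (fun i => pcAll_single_of_finiteProjective _ (hfp i) i)

lemma pcAll_of_isPerfect {K : Dual.D R} (h : IsPerfect R K) : PCAll R K := by
  obtain ⟨E, a, b, h1, h2, ⟨e⟩⟩ := h
  exact PCAll.of_iso e (pcAll_of_perfect E a b h1 h2)

/-! ### Part B: trimming a perfect complex from above -/

lemma finiteProjective_of_isZero {M : ModuleCat.{u} R} (h : IsZero M) :
    Module.Finite R M ∧ Module.Projective R M := by
  haveI := ModuleCat.subsingleton_of_isZero h
  exact ⟨inferInstance, inferInstance⟩

/-- the cycles in degree `n` when `P^n → P^{n+1}` is an epimorphism onto a projective module -/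
lemma finiteProjective_cycles (P : Cx R) (n : ℤ)
    (hn : Module.Finite R (P.X n) ∧ Module.Projective R (P.X n))
    (hn1 : Module.Projective R (P.X (n + 1))) [Epi (P.d n (n + 1))] :
    Module.Finite R (P.cycles n) ∧ Module.Projective R (P.cycles n) := by
  haveI : Projective (P.X (n + 1)) :=
    (IsProjective.iff_projective (R := R) (P := P.X (n + 1))).1 hn1
  let d := P.d n (n + 1)
  let s : P.X (n + 1) ⟶ P.X n := Projective.factorThru (𝟙 _) d
  have hs : s ≫ d = 𝟙 _ := Projective.factorThru_comp _ _
  have h0 : (𝟙 (P.X n) - d ≫ s) ≫ P.d n (n + 1) = 0 := by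
    change (𝟙 (P.X n) - d ≫ s) ≫ d = 0
    rw [Preadditive.sub_comp, Category.id_comp, Category.assoc, hs, Category.comp_id, sub_self]
  let r : P.X n ⟶ P.cycles n := P.liftCycles (𝟙 (P.X n) - d ≫ s) (n + 1) (by simp) h0
  have hr : r ≫ P.iCycles n = 𝟙 (P.X n) - d ≫ s := P.liftCycles_i _ _ _ _
  have hkr : P.iCycles n ≫ r = 𝟙 _ := by
    rw [← cancel_mono (P.iCycles n), Category.assoc, hr, Preadditive.comp_sub, Category.comp_id,
      Category.id_comp]
    have : P.iCycles n ≫ d = 0 := P.iCycles_d n (n + 1)
    rw [reassoc_of% this, zero_comp, sub_zero]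
  exact PerfSummand.finiteProjective_of_retract (P.iCycles n) r hkr hn

lemma exists_trim_step (P : Cx R) (a n : ℤ) (h1 : VanishesOutside P a (n + 1))
    (h2 : TermwiseFiniteProjective P) [P.IsLE n] :
    ∃ P' : Cx R, VanishesOutside P' a n ∧ TermwiseFiniteProjective P' ∧
      Nonempty (toD P' ≅ toD P) := by
  haveI : QuasiIso (P.ιTruncLE n) := (P.quasiIso_ιTruncLE_iff n).2 inferInstance
  haveI : IsIso (Q.map (P.ιTruncLE n)) := by
    rw [isIso_Q_map_iff_quasiIso]
    infer_instance
  refine ⟨P.truncLE n, ?_, ?_, ⟨asIso (Q.map (P.ιTruncLE n))⟩⟩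
  · intro i hi
    rcases hi with hi | hi
    · rcases lt_trichotomy i n with hlt | rfl | hgt
      · exact IsZero.of_iso (h1 i (Or.inl hi)) (P.truncLEXIso n i hlt)
      · exact IsZero.of_iso (IsZero.of_mono (P.iCycles i) (h1 i (Or.inl hi)))
          (P.truncLEXIsoCycles i)
      · exact CochainComplex.isZero_of_isStrictlyLE _ n i hgt
    · exact CochainComplex.isZero_of_isStrictlyLE _ n i hi
  · intro i
    rcases lt_trichotomy i n with hlt | rfl | hgt
    · exact DRingPerf.finiteProjective_of_iso (P.truncLEXIso n i hlt).symm (h2 i)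
    · haveI : Epi (P.d i (i + 1)) := by
        have hex := (P.exactAt_iff' i (i + 1) (i + 1 + 1) (by simp) (by simp)).1
          (P.exactAt_of_isLE i (i + 1))
        exact hex.epi_f ((h1 (i + 1 + 1) (Or.inr (by lia))).eq_of_tgt _ _)
      exact DRingPerf.finiteProjective_of_iso (P.truncLEXIsoCycles i).symm
        (finiteProjective_cycles P i (h2 i) (h2 (i + 1)).2)
    · exact finiteProjective_of_isZero (CochainComplex.isZero_of_isStrictlyLE _ n i hgt)

lemma exists_trim_aux (a : ℤ) (k : ℕ) : ∀ (P : Cx R) (n : ℤ), VanishesOutside P a (n + k) →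
    TermwiseFiniteProjective P → P.IsLE n →
    ∃ P' : Cx R, VanishesOutside P' a n ∧ TermwiseFiniteProjective P' ∧
      Nonempty (toD P' ≅ toD P) := by
  induction k with
  | zero =>
    intro P n h1 h2 _
    exact ⟨P, by simpa using h1, h2, ⟨Iso.refl _⟩⟩
  | succ k ih =>
    intro P n h1 h2 h3
    haveI : P.IsLE (n + k) := by
      haveI := h3
      exact CochainComplex.isLE_of_le P n (n + k) (by lia)
    obtain ⟨P₁, h1', h2', ⟨e₁⟩⟩ := exists_trim_step P a (n + k) (by
      intro i hi
      apply h1 i
      rcases hi with hi | hi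
      · exact Or.inl hi
      · exact Or.inr (by push_cast; lia)) h2
    haveI : P₁.IsLE n := by
      rw [← DerivedCategory.isLE_Q_obj_iff]
      haveI : (Q.obj P).IsLE n := (DerivedCategory.isLE_Q_obj_iff P n).2 h3
      exact TStructure.t.isLE_of_iso e₁.symm n
    obtain ⟨P₂, h1'', h2'', ⟨e₂⟩⟩ := ih P₁ n h1' h2' inferInstance
    exact ⟨P₂, h1'', h2'', ⟨e₂ ≪≫ e₁⟩⟩

/-- **Trimming**: a complex of finite projective modules vanishing outside `[a, b]` which is
`≤ n` in `D(R)` is isomorphic in `D(R)` to a complex of finite projective modules vanishing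
outside `[a, n]`. -/
theorem exists_trim (P : Cx R) (a b n : ℤ) (h1 : VanishesOutside P a b)
    (h2 : TermwiseFiniteProjective P) [(toD P).IsLE n] :
    ∃ P' : Cx R, VanishesOutside P' a n ∧ TermwiseFiniteProjective P' ∧
      Nonempty (toD P' ≅ toD P) := by
  haveI : P.IsLE n := by
    rw [← DerivedCategory.isLE_Q_obj_iff]
    infer_instance
  refine exists_trim_aux a (b - n).toNat P n ?_ h2 inferInstance
  intro i hi
  apply h1
  rcases hi with hi | hi
  · exact Or.inl hi
  · right
    have := Int.self_le_toNat (b - n)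
    lia

/-! ### Part C: pseudo-coherence + tor amplitude gives perfect amplitude -/

lemma finiteFree_of_isZero {M : ModuleCat.{u} R} (h : IsZero M) :
    Module.Finite R M ∧ Module.Free R M := by
  haveI := ModuleCat.subsingleton_of_isZero h
  exact ⟨inferInstance, inferInstance⟩

/-- **Perfect amplitude**: an `(m-1)`-pseudo-coherent object of tor amplitude in `[m, n]` is
represented by a complex of finite projective modules vanishing outside `[m, n]`. -/
theorem exists_perfect_amplitude (K : Dual.D R) (m n : ℤ)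
    (hpc : IsPseudoCoherent R (m - 1) K) (htor : HasTorAmplitudeIn R m n K) :
    ∃ E : Cx R, VanishesOutside E m n ∧ TermwiseFiniteProjective E ∧
      Nonempty (toD E ≅ K) := by
  obtain ⟨E, b, α, hE1, hE2, hα⟩ := PseudoCoh.exists_normalized hpc
  obtain ⟨C, β, γ, hT⟩ := distinguished_cocone_triangle α
  have hC : C.IsLE (m - 1 - 1) := (isMQI_iff_of_distTriang (m - 1) _ hT).1 hα
  have hT' := inv_rot_of_distTriang _ hT
  haveI : (C⟦(-1 : ℤ)⟧).IsLE (m - 1) :=
    TStructure.t.isLE_shift C (m - 1 - 1) (-1) (m - 1) (by ring)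
  obtain ⟨PW, hPW1, hPW2, ⟨e₁⟩⟩ := FreeRes.exists_free_representative (C⟦(-1 : ℤ)⟧) (m - 1)
    (fun i hi => DerivedCategory.isZero_of_isLE _ (m - 1) i hi)
  haveI : PW.IsKProjective := KProj.isKProjective_of_vanishesAbove PW (m - 1) hPW1
    (fun i => (IsProjective.iff_projective (R := R) (P := PW.X i)).1
      (FreeRes.projective_of_termwiseFree hPW2 i))
  obtain ⟨w, ⟨e₃⟩⟩ := ConeRep.exists_cone_iso PW E _ hT' e₁ (Iso.refl _)
  change toD (mappingCone w) ≅ K at e₃
  obtain ⟨G, hG⟩ : ∃ G : Cx R, G = mappingCone w := ⟨_, rfl⟩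
  rw [← hG] at e₃
  let B : ℤ := max b (m - 1)
  have hGb : VanishesAbove G B := by
    intro i hi
    rw [hG]
    exact ConeRep.isZero_mappingCone_X w i
      (hPW1 (i + 1) (by have := le_max_right b (m - 1); lia))
      (hE1 i (Or.inr (by have := le_max_left b (m - 1); lia)))
  have hGflat : TermwiseFlat G := by
    rw [hG]
    refine termwiseFlat_mappingCone w (fun i => ?_) (fun i => ?_)
    · haveI := hPW2 i
      infer_instance
    · haveI := (hE2 i).2
      infer_instance
  have hGff : ∀ i : ℤ, m - 1 ≤ i → Module.Finite R (G.X i) ∧ Module.Free R (G.X i) := by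
    intro i hi
    rw [hG]
    exact DRingPC.finiteFree_of_iso (ConeRep.mappingConeXIso w i).symm
      (DRingPC.finiteFree_biprod _ _ (finiteFree_of_isZero (hPW1 (i + 1) (by lia))) (hE2 i))
  obtain ⟨hop, hex⟩ := TorAmpDescent.flat_opcycles_of_hasTorAmplitudeIn G B hGb hGflat m n
    (torAmp_of_iso htor e₃.symm)
  -- the cokernel is finite projective
  have hQ : Module.Finite R (G.opcycles m) ∧ Module.Projective R (G.opcycles m) := by
    let e := opcyclesIsoCoker G (m - 1) m (by lia)
    haveI := (hGff m (by lia)).1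
    haveI := (hGff m (by lia)).2
    haveI := (hGff (m - 1) le_rfl).1
    haveI : Module.FinitePresentation R (G.X m ⧸ LinearMap.range (G.d (m - 1) m).hom) := by
      refine Module.finitePresentation_of_free_of_surjective
        (LinearMap.range (G.d (m - 1) m).hom).mkQ (Submodule.mkQ_surjective _) ?_
      rw [Submodule.ker_mkQ, LinearMap.range_eq_map]
      exact (Module.Finite.fg_top).map _
    haveI : Module.Flat R (G.X m ⧸ LinearMap.range (G.d (m - 1) m).hom) := by
      haveI := hop
      exact Module.Flat.of_linearEquiv e.toLinearEquiv.symm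
    haveI : Module.Projective R (G.X m ⧸ LinearMap.range (G.d (m - 1) m).hom) :=
      Module.Flat.projective_of_finitePresentation
    exact DRingPerf.finiteProjective_of_iso e.symm ⟨inferInstance, inferInstance⟩
  -- the truncation
  haveI : G.IsGE m := by
    rw [CochainComplex.isGE_iff]
    exact hex
  haveI : QuasiIso (G.πTruncGE m) := inferInstance
  haveI : IsIso (Q.map (G.πTruncGE m)) := by
    rw [isIso_Q_map_iff_quasiIso]
    infer_instance
  have e' : toD (G.truncGE m) ≅ K := (asIso (Q.map (G.πTruncGE m))).symm ≪≫ e₃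
  have hE'1 : VanishesOutside (G.truncGE m) m B := by
    intro i hi
    rcases lt_trichotomy i m with hlt | rfl | hgt
    · exact CochainComplex.isZero_of_isStrictlyGE _ m i hlt
    · have hi' : B < i := by
        rcases hi with hi | hi
        · exact absurd hi (lt_irrefl _)
        · exact hi
      exact IsZero.of_iso (IsZero.of_epi (G.pOpcycles i) (hGb i hi')) (G.truncGEXIsoOpcycles i)
    · have hi' : B < i := by
        rcases hi with hi | hi
        · lia
        · exact hi
      exact IsZero.of_iso (hGb i hi') (G.truncGEXIso m i hgt)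
  have hE'2 : TermwiseFiniteProjective (G.truncGE m) := by
    intro i
    rcases lt_trichotomy i m with hlt | rfl | hgt
    · exact finiteProjective_of_isZero (CochainComplex.isZero_of_isStrictlyGE _ m i hlt)
    · exact DRingPerf.finiteProjective_of_iso (G.truncGEXIsoOpcycles i).symm hQ
    · obtain ⟨h1, h2⟩ := hGff i (by lia)
      exact DRingPerf.finiteProjective_of_iso (G.truncGEXIso m i hgt).symm
        ⟨h1, inferInstance⟩
  haveI : (toD (G.truncGE m)).IsLE n := by
    haveI := torAmp_isLE htor
    exact TStructure.t.isLE_of_iso e'.symm n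
  obtain ⟨P', h1, h2, ⟨e''⟩⟩ := exists_trim (G.truncGE m) m B n hE'1 hE'2
  exact ⟨P', h1, h2, ⟨e'' ≪≫ e'⟩⟩

end Groth.Agent.Lib.Helper43.PerfAmp
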