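import Mathlib.Tactic
import Groth.Prelude.Def_DDual2
import Mathlib.Algebra.Homology.ShortComplex.PreservesHomology

/-!
# Restriction of scalars of a module placed in degree `0` (helper43)

`restrictSingleIso A B M : (M[0] over B)|_A ≅ M[0] over A` for a tower `A → B → M`.
-/

set_option autoImplicit false
universe u
open CategoryTheory DerivedCategory DRing
attribute [local instance] HasDerivedCategory.standard

namespace Groth.Agent.Lib.Helper43.RestrictSingle

/-- `M[0]` restricted to `A` is `M` as an `A`-module placed in degree `0` -/
noncomputable def restrictSingleIso (A B : Type u) [CommRing A] [CommRing B] [Algebra A B]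
    (M : Type u) [AddCommGroup M] [Module B M] [Module A M] [IsScalarTower A B M] :
    (restrictD (algebraMap A B)).obj (Dual.inD B M) ≅ Dual.inD A M :=
  ((ModuleCat.restrictScalars.{u} (algebraMap A B)).mapDerivedCategorySingleFunctor 0).app
      (ModuleCat.of B M) ≪≫
    (DerivedCategory.singleFunctor (ModuleCat.{u} A) 0).mapIso
      (LinearEquiv.toModuleIso
        (show ((ModuleCat.restrictScalars.{u} (algebraMap A B)).obj (ModuleCat.of B M)) ≃ₗ[A]
            (ModuleCat.of A M) from
        { AddEquiv.refl M with
          map_smul' := fun a m =>
            (ModuleCat.restrictScalars.smul_def (algebraMap A B) a m).trans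
              (algebraMap_smul B a (show M from m)) }))

end Groth.Agent.Lib.Helper43.RestrictSingle
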