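import Mathlib.Tactic
import Groth.Prelude.Def_DRing2
import Groth.Agent.Lib.Helper43.TorAmpDescent
import Groth.Agent.Lib.Helper43.PerfAmp
import Groth.Agent.Lib.Helper54.LocalSplit
import Groth.Agent.Lib.Helper84.FlatAmpTri
import Mathlib.RingTheory.Flat.Localization
import Mathlib.RingTheory.LocalProperties.Submodule
import Mathlib.RingTheory.Localization.BaseChange

/-!
# Tor amplitude of pseudo-coherent complexes from their fibres (helper43)

* `torAmp_of_isLE`: an object of tor amplitude in `[a, b']` which is `≤ b` has tor amplitude in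
  `[a, b]`;
* `torAmp_of_fibres_local`: over a local ring, a bounded above complex `E` of finite free modules
  with `κ ⊗ E` exact outside `[a, b]` has tor amplitude in `[a, b]`;
* `torAmp_of_fibres`: over any ring, a bounded above complex `E` of finite free modules with
  `R/m ⊗ E` exact outside `[a, b]` for all maximal ideals `m` has tor amplitude in `[a, b]`.
-/

set_option autoImplicit false
universe u

open CategoryTheory CategoryTheory.Limits CategoryTheory.Pretriangulated DerivedCategory
open CochainComplex

attribute [local instance] HasDerivedCategory.standard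

namespace Groth.Agent.Lib.Helper43.FibreAmp

open DRing Groth.Agent.Lib.Helper43 Groth.Agent.Lib.Helper84 Groth.Agent.Lib.Helper84.FlatBC
  Groth.Agent.Lib.Helper84.FlatAmp Groth.Agent.Lib.Helper84.TensCx
open scoped TensorProduct

variable {R : Type u} [CommRing R]

/-! ### Trimming tor amplitude from above -/

/-- cycles as a kernel module -/
noncomputable def cyclesIsoKer (F : Cx R) (i j k : ℤ) (hij : i + 1 = j) (hjk : j + 1 = k) :
    F.cycles j ≅ ModuleCat.of R (LinearMap.ker (F.d j k).hom) :=
  ShortComplex.cyclesMapIso (F.isoSc' i j k (by simp [← hij]) (by simp [← hjk])) ≪≫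
    (F.sc' i j k).moduleCatCyclesIso

lemma flat_cycles (F : Cx R) (n : ℤ) (h0 : Module.Flat R (F.X n))
    (h1 : Module.Flat R (F.X (n + 1))) [Epi (F.d n (n + 1))] : Module.Flat R (F.cycles n) := by
  have hs : Function.Surjective (F.d n (n + 1)).hom :=
    (ModuleCat.epi_iff_surjective _).1 inferInstance
  haveI : Module.Flat R (ModuleCat.of R (LinearMap.ker (F.d n (n + 1)).hom)) :=
    FlatAcyclic.flat_ker (F.d n (n + 1)).hom hs
  exact flat_of_iso (cyclesIsoKer F (n - 1) n (n + 1) (by ring) rfl).symm

lemma torAmp_trim_step (F : Cx R) (a n : ℤ) (h1 : VanishesOutside F a (n + 1))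
    (h2 : TermwiseFlat F) [F.IsLE n] : HasTorAmplitudeIn R a n (toD F) := by
  haveI : QuasiIso (F.ιTruncLE n) := (F.quasiIso_ιTruncLE_iff n).2 inferInstance
  haveI : IsIso (Q.map (F.ιTruncLE n)) := by
    rw [isIso_Q_map_iff_quasiIso]
    infer_instance
  refine ⟨F.truncLE n, ?_, ?_, ⟨asIso (Q.map (F.ιTruncLE n))⟩⟩
  · intro i hi
    rcases hi with hi | hi
    · rcases lt_trichotomy i n with hlt | rfl | hgt
      · exact IsZero.of_iso (h1 i (Or.inl hi)) (F.truncLEXIso n i hlt)
      · exact IsZero.of_iso (IsZero.of_mono (F.iCycles i) (h1 i (Or.inl hi)))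
          (F.truncLEXIsoCycles i)
      · exact CochainComplex.isZero_of_isStrictlyLE _ n i hgt
    · exact CochainComplex.isZero_of_isStrictlyLE _ n i hi
  · intro i
    rcases lt_trichotomy i n with hlt | rfl | hgt
    · haveI := h2 i
      exact flat_of_iso (F.truncLEXIso n i hlt).symm
    · haveI : Epi (F.d i (i + 1)) := by
        have hex := (F.exactAt_iff' i (i + 1) (i + 1 + 1) (by simp) (by simp)).1
          (F.exactAt_of_isLE i (i + 1))
        exact hex.epi_f ((h1 (i + 1 + 1) (Or.inr (by lia))).eq_of_tgt _ _)
      haveI := flat_cycles F i (h2 i) (h2 (i + 1))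
      exact flat_of_iso (F.truncLEXIsoCycles i).symm
    · exact flat_of_isZero (CochainComplex.isZero_of_isStrictlyLE _ n i hgt)

lemma torAmp_trim_aux (a : ℤ) (k : ℕ) : ∀ (F : Cx R) (n : ℤ), VanishesOutside F a (n + k) →
    TermwiseFlat F → F.IsLE n → HasTorAmplitudeIn R a n (toD F) := by
  induction k with
  | zero =>
    intro F n h1 h2 _
    exact ⟨F, by simpa using h1, h2, ⟨Iso.refl _⟩⟩
  | succ k ih =>
    intro F n h1 h2 h3
    haveI : F.IsLE (n + k) := by
      haveI := h3
      exact CochainComplex.isLE_of_le F n (n + k) (by lia)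
    obtain ⟨F₁, h1', h2', ⟨e₁⟩⟩ := torAmp_trim_step F a (n + k) (by
      intro i hi
      apply h1 i
      rcases hi with hi | hi
      · exact Or.inl hi
      · exact Or.inr (by push_cast; lia)) h2
    haveI : F₁.IsLE n := by
      rw [← DerivedCategory.isLE_Q_obj_iff]
      haveI : (Q.obj F).IsLE n := (DerivedCategory.isLE_Q_obj_iff F n).2 h3
      exact TStructure.t.isLE_of_iso e₁.symm n
    exact torAmp_of_iso (ih F₁ n h1' h2' inferInstance) e₁

/-- **Trimming**: tor amplitude in `[a, b']` and `≤ b` gives tor amplitude in `[a, b]`. -/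
theorem torAmp_of_isLE {a b' : ℤ} {K : Dual.D R} (h : HasTorAmplitudeIn R a b' K) (b : ℤ)
    [K.IsLE b] : HasTorAmplitudeIn R a b K := by
  obtain ⟨F, h1, h2, ⟨e⟩⟩ := h
  haveI : F.IsLE b := by
    rw [← DerivedCategory.isLE_Q_obj_iff]
    exact TStructure.t.isLE_of_iso e.symm b
  refine torAmp_of_iso (torAmp_trim_aux a (b' - b).toNat F b ?_ h2 inferInstance) e
  intro i hi
  apply h1
  rcases hi with hi | hi
  · exact Or.inl hi
  · right
    have := Int.self_le_toNat (b' - b)
    lia

/-! ### The local case -/

/-- over a local ring: a bounded above complex of finite free modules whose reduction to the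
residue field is exact outside `[a, b]` has tor amplitude in `[a, b]` -/
theorem torAmp_of_fibres_local [IsLocalRing R] (E : Cx R) (b₀ : ℤ) (hE : VanishesAbove E b₀)
    (hff : TermwiseFiniteFree E) (a b : ℤ)
    (h : ∀ i : ℤ, (i < a ∨ b < i) →
      ((extCx (IsLocalRing.residue R)).obj E).ExactAt i) :
    HasTorAmplitudeIn R a b (toD E) := by
  have key : ∀ i : ℤ, (i < a ∨ b < i) → E.ExactAt i ∧
      Module.Finite R (E.opcycles (i + 1)) ∧ Module.Free R (E.opcycles (i + 1)) :=
    fun i hi => Helper54.LocalSplit.exactAt_and_opcycles E hff i (h i hi)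
  have hflat : TermwiseFlat E := fun i => by
    haveI := (hff i).2
    infer_instance
  have h1 : HasTorAmplitudeIn R a b₀ (toD E) := by
    refine TorAmpDescent.hasTorAmplitudeIn_of_flat_opcycles E a b₀ hE hflat
      (fun i hi => (key i (Or.inl hi)).1) ?_
    have := (key (a - 1) (Or.inl (by lia))).2.2
    rw [sub_add_cancel] at this
    infer_instance
  haveI : (toD E).IsLE b := by
    rw [DerivedCategory.isLE_Q_obj_iff, CochainComplex.isLE_iff]
    intro i hi
    exact (key i (Or.inr hi)).1
  exact torAmp_of_isLE h1 b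

/-! ### Composition of extensions of scalars on complexes -/

section Comp

variable {A B C : Type u} [CommRing A] [CommRing B] [CommRing C]

/-- termwise extension of scalars along a composition -/
noncomputable def extCxComp (f : A →+* B) (g : B →+* C) (E : Cx A) :
    (extCx (g.comp f)).obj E ≅ (extCx g).obj ((extCx f).obj E) :=
  HomologicalComplex.Hom.isoOfComponents
    (fun i => (ModuleCat.extendScalarsComp f g).app (E.X i))
    (fun i j _ => ((ModuleCat.extendScalarsComp f g).hom.naturality (E.d i j)).symm)

lemma exactAt_of_iso {K L : Cx A} (e : K ≅ L) (i : ℤ) (h : K.ExactAt i) : L.ExactAt i :=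
  (_root_.exactAt_iff_of_quasiIsoAt e.hom i).1 h

lemma exactAt_extCx (φ : A →+* B) [PreservesFiniteLimits (ext φ)] (K : Cx A) (i : ℤ)
    (h : K.ExactAt i) : ((extCx φ).obj K).ExactAt i := by
  rw [HomologicalComplex.exactAt_iff_isZero_homology] at h ⊢
  exact IsZero.of_iso ((ext φ).map_isZero h) (PCDescent.extHomologyIso φ K i)

lemma exactAt_extCx_of_eq {f g : A →+* B} (hfg : f = g) (E : Cx A) (i : ℤ)
    (h : ((extCx f).obj E).ExactAt i) : ((extCx g).obj E).ExactAt i := by
  subst hfg
  exact h

end Comp

/-- from the fibre over `R/m` to the fibre of the localization `R_m` over its residue field -/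
lemma exactAt_residue_of_exactAt_quotient (m : Ideal R) [m.IsMaximal] (E : Cx R) (i : ℤ)
    (h : ((extCx (Ideal.Quotient.mk m)).obj E).ExactAt i) :
    ((extCx (IsLocalRing.residue (Localization.AtPrime m))).obj
      ((extCx (algebraMap R (Localization.AtPrime m))).obj E)).ExactAt i := by
  let ψ : R →+* IsLocalRing.ResidueField (Localization.AtPrime m) :=
    (IsLocalRing.residue (Localization.AtPrime m)).comp (algebraMap R (Localization.AtPrime m))
  have hψ : ∀ x ∈ m, ψ x = 0 := by
    intro x hx
    change IsLocalRing.residue (Localization.AtPrime m)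
      (algebraMap R (Localization.AtPrime m) x) = 0
    rw [IsLocalRing.residue_eq_zero_iff]
    exact (IsLocalization.AtPrime.to_map_mem_maximal_iff (Localization.AtPrime m) m x).2 hx
  let χ : R ⧸ m →+* IsLocalRing.ResidueField (Localization.AtPrime m) :=
    Ideal.Quotient.lift m ψ hψ
  have hχ : χ.comp (Ideal.Quotient.mk m) = ψ := Ideal.Quotient.lift_comp_mk m ψ hψ
  letI : Field (R ⧸ m) := Ideal.Quotient.field m
  have hflat : χ.Flat := by
    letI := χ.toAlgebra
    exact inferInstanceAs (Module.Flat (R ⧸ m) (IsLocalRing.ResidueField (Localization.AtPrime m)))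
  haveI := preservesFiniteLimits_ext χ hflat
  have h1 := exactAt_extCx χ _ i h
  have h2 := exactAt_of_iso (extCxComp (Ideal.Quotient.mk m) χ E).symm i h1
  have h3 := exactAt_extCx_of_eq hχ E i h2
  exact exactAt_of_iso (extCxComp (algebraMap R (Localization.AtPrime m))
    (IsLocalRing.residue (Localization.AtPrime m)) E) i h3

/-- translation of flatness to the canonical tensor product -/
lemma flat_tensor_of_ext {A B : Type u} [CommRing A] [CommRing B] [alg : Algebra A B]
    (M : ModuleCat.{u} A) (h : Module.Flat B ((ext (algebraMap A B)).obj M)) :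
    Module.Flat B (B ⊗[A] M) := by
  obtain ⟨f, hf⟩ : ∃ f : A →+* B, alg = f.toAlgebra :=
    ⟨algebraMap A B, Algebra.algebra_ext _ _ (fun r => rfl)⟩
  subst hf
  exact h

/-- translation of vanishing to the canonical tensor product -/
lemma subsingleton_tensor_of_ext {A B : Type u} [CommRing A] [CommRing B] [alg : Algebra A B]
    (M : ModuleCat.{u} A) (h : IsZero ((ext (algebraMap A B)).obj M)) :
    Subsingleton (B ⊗[A] M) := by
  obtain ⟨f, hf⟩ : ∃ f : A →+* B, alg = f.toAlgebra :=
    ⟨algebraMap A B, Algebra.algebra_ext _ _ (fun r => rfl)⟩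
  subst hf
  exact ModuleCat.subsingleton_of_isZero h

/-- **Tor amplitude from the fibres at all maximal ideals.** -/
theorem torAmp_of_fibres (E : Cx R) (b₀ : ℤ) (hE : VanishesAbove E b₀)
    (hff : TermwiseFiniteFree E) (a b : ℤ)
    (h : ∀ (m : Ideal R), m.IsMaximal → ∀ i : ℤ, (i < a ∨ b < i) →
      ((extCx (Ideal.Quotient.mk m)).obj E).ExactAt i) :
    HasTorAmplitudeIn R a b (toD E) := by
  haveI : ∀ t : MaximalSpectrum R, PreservesFiniteLimits
      (ext (algebraMap R (Localization.AtPrime t.asIdeal))) := fun t =>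
    preservesFiniteLimits_ext _ (RingHom.flat_algebraMap_iff.2
      (IsLocalization.flat (Localization.AtPrime t.asIdeal) t.asIdeal.primeCompl))
  refine TorAmpDescent.descent (T := MaximalSpectrum R)
    (fun t => Localization.AtPrime t.asIdeal)
    (fun t => algebraMap R (Localization.AtPrime t.asIdeal)) ?_ ?_ E a b ?_
  · intro M hM
    haveI : Subsingleton M := by
      refine Module.subsingleton_of_localization_maximal
        (fun P _ => Localization.AtPrime P ⊗[R] M)
        (fun P _ => TensorProduct.mk R (Localization.AtPrime P) M 1) ?_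
      intro P hP
      exact subsingleton_tensor_of_ext (B := Localization.AtPrime P) M (hM ⟨P, hP⟩)
    exact ModuleCat.isZero_of_subsingleton M
  · intro M hM
    refine Module.flat_of_isLocalized_maximal (R := R) (S := R) (M := M)
      (Mₚ := fun P _ => Localization.AtPrime P ⊗[R] M)
      (f := fun P _ => TensorProduct.mk R (Localization.AtPrime P) M 1) ?_
    intro P hP
    haveI := flat_tensor_of_ext (B := Localization.AtPrime P) M (hM ⟨P, hP⟩)
    haveI : Module.Flat R (Localization.AtPrime P) :=
      IsLocalization.flat (Localization.AtPrime P) P.primeCompl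
    exact Module.Flat.trans R (Localization.AtPrime P) _
  · intro t
    haveI := t.isMaximal
    exact torAmp_of_fibres_local _ b₀ (vanishesAbove_extCx _ E b₀ hE)
      (termwiseFiniteFree_extCx _ E hff) a b
      (fun i hi => exactAt_residue_of_exactAt_quotient t.asIdeal E i
        (h t.asIdeal t.isMaximal i hi))

end Groth.Agent.Lib.Helper43.FibreAmp
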