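import Mathlib.Tactic
import Groth.Agent.Lib.Helper84.FlatAmpLT
import Groth.Agent.Lib.Helper25.LTensorCxCompute
import Groth.Agent.Lib.Helper25.SingleTensor
import Groth.Agent.Lib.Helper25.KFlatBC
import Groth.Agent.Lib.Helper15.PseudoCohRes

/-!
# Derived tensor products of restrictions of scalars (helper43)

For `φ : A → B`, a complex `X` of `B`-modules, an `A`-module `N` and a K-flat resolution
`F → N[0]` over `A`, the object `(X|_A) ⊗^L_A N` of `D(A)` is represented by the restriction of the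
complex of `B`-modules `X ⊗_B (B ⊗_A F)`.  This gives a criterion for the tor amplitude of `X|_A`
in terms of complexes of `B`-modules.

* `nonempty_ltensor_iso` : balancing, `(Y ⊗^L N) ≅ Q (Y ⊗ F)`.
* `exactAt_tensor_ext_iff` : `(X|_A ⊗_A F)` is exact at `i` iff `X ⊗_B (B ⊗_A F)` is.
* `torAmp_res_iff` : the tor amplitude criterion.
* `exactAt_tensor_of_bounded_flat` : a flat complex in `[a, b]` tensored with a complex with
  cohomology in `[c, d]` has cohomology in `[a + c, b + d]`.
-/

set_option autoImplicit false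
universe u

open CategoryTheory CategoryTheory.Limits MonoidalCategory DerivedCategory DRing

attribute [local instance] HasDerivedCategory.standard

namespace Groth.Agent.Lib.Helper43.ResTensor

open Groth.Agent.Lib.Helper25.TensorCx Groth.Agent.Lib.Helper25.KFlat
  Groth.Agent.Lib.Helper25.SingleTensor Groth.Agent.Lib.Helper84.FlatAmp
  Groth.Agent.Lib.Helper84 Groth.Agent.Lib.Helper15

section Balancing

variable {A : Type u} [CommRing A]

/-- **Balancing**: the derived tensor product with a module `N` can be computed from a K-flat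
resolution of `N`. -/
theorem nonempty_ltensor_iso (N : ModuleCat.{u} A) [DRing.HasLTensor A N] (Y F : DRing.Cx A)
    (hF : IsKFlat F) (f : F ⟶ sgl N) (hf : QuasiIso f) :
    Nonempty ((DRing.LTensor A N).obj (Q.obj Y) ≅ Q.obj (Y ⊗ F : DRing.Cx A)) := by
  obtain ⟨P, π, hP, hπ, hPf, -, -⟩ := KProjRes.exists_kprojective_resolution Y
  haveI e1 : IsIso (Q.map π) := by rw [isIso_Q_map_iff_quasiIso]; exact hπ
  haveI e2 : IsIso (Q.map (P ◁ f)) := by
    rw [isIso_Q_map_iff_quasiIso]
    exact quasiIso_whiskerLeft_of_isKFlat P hPf f hf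
  haveI e3 : IsIso (Q.map (π ▷ F)) := by
    rw [isIso_Q_map_iff_quasiIso]
    exact quasiIso_whiskerRight_of_isKFlat F hF π hπ
  exact ⟨((DRing.LTensor A N).mapIso (asIso (Q.map π))).symm ≪≫
    LTKFlat.ltIsoOfIsKFlat N P hPf ≪≫
    Q.mapIso (tensRightIso N P ≪≫ singleTensorIso N P ≪≫ braid (sgl N) P) ≪≫
    (asIso (Q.map (P ◁ f))).symm ≪≫ asIso (Q.map (π ▷ F))⟩

end Balancing

section Elementwise

variable {R : Type u} [CommRing R]

/-- elementwise exactness of a complex of modules in one degree -/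
theorem exactAt_iff_elem (L : DRing.Cx R) (i : ℤ) :
    L.ExactAt i ↔ ∀ z : L.X i, L.d i (i + 1) z = 0 → ∃ w : L.X (i - 1), L.d (i - 1) i w = z := by
  rw [HomologicalComplex.exactAt_iff' _ (i - 1) i (i + 1) (by simp) (by simp),
    ShortComplex.ShortExact.moduleCat_exact_iff_function_exact]
  constructor
  · intro h z hz
    exact (h z).1 hz
  · intro h z
    constructor
    · exact h z
    · rintro ⟨w, rfl⟩
      change (L.d (i - 1) i ≫ L.d i (i + 1)) w = 0
      rw [HomologicalComplex.d_comp_d]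
      rfl

/-- exactness transfers along degreewise additive bijections commuting with the differentials -/
theorem exactAt_of_addEquiv {R' : Type u} [CommRing R'] (L : DRing.Cx R) (L' : DRing.Cx R') (i : ℤ)
    (Φ : ∀ n : ℤ, L.X n →+ L'.X n) (hΦ : ∀ n, Function.Bijective (Φ n))
    (hd : ∀ (n : ℤ) (x : L.X n), L'.d n (n + 1) (Φ n x) = Φ (n + 1) (L.d n (n + 1) x))
    (h : L.ExactAt i) : L'.ExactAt i := by
  rw [exactAt_iff_elem] at h ⊢
  intro z' hz'
  obtain ⟨z, rfl⟩ := (hΦ i).2 z'
  have hz : L.d i (i + 1) z = 0 := by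
    apply (hΦ (i + 1)).1
    rw [← hd, hz', map_zero]
  obtain ⟨w, rfl⟩ := h z hz
  refine ⟨Φ (i - 1) w, ?_⟩
  have := hd (i - 1) w
  have e : i - 1 + 1 = i := by ring
  -- transport along `i - 1 + 1 = i`
  have key : ∀ (j : ℤ) (hj : j = i), L'.d (i - 1) j (Φ (i - 1) w) = 0 ∨ True := fun _ _ => Or.inr trivial
  clear key
  revert this
  generalize i - 1 + 1 = j at e
  subst e
  exact fun h => h

/-- the converse transfer -/
theorem exactAt_of_addEquiv' {R' : Type u} [CommRing R'] (L : DRing.Cx R) (L' : DRing.Cx R') (i : ℤ)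
    (Φ : ∀ n : ℤ, L.X n →+ L'.X n) (hΦ : ∀ n, Function.Bijective (Φ n))
    (hd : ∀ (n : ℤ) (x : L.X n), L'.d n (n + 1) (Φ n x) = Φ (n + 1) (L.d n (n + 1) x))
    (h : L'.ExactAt i) : L.ExactAt i := by
  rw [exactAt_iff_elem] at h ⊢
  intro z hz
  have hz' : L'.d i (i + 1) (Φ i z) = 0 := by rw [hd, hz, map_zero]
  obtain ⟨w', hw'⟩ := h _ hz'
  obtain ⟨w, rfl⟩ := (hΦ (i - 1)).2 w'
  refine ⟨w, (hΦ i).1 ?_⟩
  rw [← hw']
  have := hd (i - 1) w
  have e : i - 1 + 1 = i := by ring
  revert this
  generalize i - 1 + 1 = j at e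
  subst e
  exact fun h => h.symm

theorem exactAt_of_iso {L L' : DRing.Cx R} (e : L ≅ L') (i : ℤ) (h : L.ExactAt i) : L'.ExactAt i := by
  rw [HomologicalComplex.exactAt_iff_isZero_homology] at h ⊢
  exact IsZero.of_iso h ((HomologicalComplex.homologyFunctor _ _ i).mapIso e.symm)

theorem exactAt_of_quasiIso {L L' : DRing.Cx R} (f : L ⟶ L') [QuasiIso f] (i : ℤ) :
    L.ExactAt i ↔ L'.ExactAt i := by
  rw [HomologicalComplex.exactAt_iff_isZero_homology, HomologicalComplex.exactAt_iff_isZero_homology]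
  exact (asIso (HomologicalComplex.homologyMap f i)).isZero_iff

/-- a tensor product of complexes vanishes in degree `n` when all its summands do -/
theorem isZero_tensor_X (L K : DRing.Cx R) (n : ℤ)
    (h : ∀ p q : ℤ, p + q = n → IsZero (L.X p) ∨ IsZero (K.X q)) :
    IsZero ((L ⊗ K : DRing.Cx R).X n) := by
  rw [ModuleCat.isZero_iff_subsingleton]
  refine ⟨fun x y => ?_⟩
  have key : ∀ z : (L ⊗ K : DRing.Cx R).X n, z = 0 := by
    intro z
    induction z using tm_induction L K with
    | zero => rfl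
    | add x y hx hy => rw [hx, hy, add_zero]
    | tm' p q hpq l k =>
      rcases h p q hpq with h1 | h1
      · haveI := ModuleCat.subsingleton_of_isZero h1
        rw [Subsingleton.elim l 0, tm_zero_left]
      · haveI := ModuleCat.subsingleton_of_isZero h1
        rw [Subsingleton.elim k 0, tm_zero_right]
  rw [key x, key y]

end Elementwise

section Restriction

variable {A B : Type u} [CommRing A] [CommRing B] (φ : A →+* B)

/-- `(X|_A ⊗_A F)` is exact in degree `i` iff the complex of `B`-modules `X ⊗_B (B ⊗_A F)` is -/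
theorem exactAt_tensor_ext_iff (X : DRing.Cx B) (F : DRing.Cx A) (i : ℤ) :
    (resCx φ X ⊗ F : DRing.Cx A).ExactAt i ↔ (X ⊗ extCx φ F : DRing.Cx B).ExactAt i :=
  ⟨exactAt_of_addEquiv _ _ i (Psi φ X F) (Psi_bijective φ X F)
      (fun n x => Psi_d φ X F n (n + 1) rfl x),
    exactAt_of_addEquiv' _ _ i (Psi φ X F) (Psi_bijective φ X F)
      (fun n x => Psi_d φ X F n (n + 1) rfl x)⟩

/-- the cohomology of `(X|_A) ⊗^L_A N` in terms of a complex of `B`-modules -/
theorem subsingleton_HD_ltensor_res_iff (X : DRing.Cx B) (N : ModuleCat.{u} A) [DRing.HasLTensor A N]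
    (F : DRing.Cx A) (hF : IsKFlat F) (f : F ⟶ sgl N) (hf : QuasiIso f) (i : ℤ) :
    Subsingleton (Dual.HD A ((DRing.LTensor A N).obj (toD ((DRing.restrictCx φ).obj X))) i) ↔
      (X ⊗ extCx φ F : DRing.Cx B).ExactAt i := by
  obtain ⟨e⟩ := nonempty_ltensor_iso N ((DRing.restrictCx φ).obj X) F hF f hf
  rw [← exactAt_tensor_ext_iff]
  constructor
  · intro h
    exact exactAt_of_subsingleton_HD _ i (subsingleton_HD_of_iso e i h)
  · intro h
    exact subsingleton_HD_of_iso e.symm i (subsingleton_HD_of_exactAt _ i h)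

/-- **Tor amplitude of a restriction of scalars**, tested on complexes of `B`-modules. -/
theorem torAmp_res_iff [∀ M : ModuleCat.{u} A, DRing.HasLTensor A M] (X : DRing.Cx B) (a b : ℤ) :
    HasTorAmplitudeIn A a b (toD ((DRing.restrictCx φ).obj X)) ↔
      ∀ (N : ModuleCat.{u} A) (F : DRing.Cx A), IsKFlat F → ∀ f : F ⟶ sgl N, QuasiIso f →
        ∀ i : ℤ, (i < a ∨ b < i) → (X ⊗ extCx φ F : DRing.Cx B).ExactAt i := by
  rw [torAmp_iff_ltensor]
  constructor
  · intro h N F hF f hf i hi
    exact (subsingleton_HD_ltensor_res_iff φ X N F hF f hf i).1 (h N i hi)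
  · intro h N i hi
    obtain ⟨F, f, hF, -, hf, -⟩ :=
      Groth.Agent.Lib.Helper25.KFlatRes.exists_kflat_resolution (sgl N)
    exact (subsingleton_HD_ltensor_res_iff φ X N F hF f hf i).2 (h N F hF f hf i hi)

end Restriction

section Bounded

variable {B : Type u} [CommRing B]

/-- a flat complex concentrated in `[a, b]` tensored with a complex with cohomology in `[c, d]`
has cohomology in `[a + c, b + d]` -/
theorem exactAt_tensor_of_bounded_flat (E Y : DRing.Cx B) (a b c d : ℤ) (hE : VanishesOutside E a b)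
    (hEf : TermwiseFlat E) (hY : ∀ i : ℤ, (i < c ∨ d < i) → Y.ExactAt i) (i : ℤ)
    (hi : i < a + c ∨ b + d < i) : (E ⊗ Y : DRing.Cx B).ExactAt i := by
  have hEK : IsKFlat E := isKFlat_of_boundedAbove_of_flat E b (fun q hq => hE q (Or.inr hq)) hEf
  haveI : Y.IsLE d := by
    rw [CochainComplex.isLE_iff]
    exact fun j hj => hY j (Or.inr hj)
  haveI h1 : QuasiIso (Y.ιTruncLE d) := (Y.quasiIso_ιTruncLE_iff d).2 inferInstance
  haveI : (Y.truncLE d).IsGE c := by
    rw [CochainComplex.isGE_iff]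
    intro j hj
    exact (exactAt_of_quasiIso (Y.ιTruncLE d) j).2 (hY j (Or.inl hj))
  haveI h2 : QuasiIso ((Y.truncLE d).πTruncGE c) := inferInstance
  haveI h3 : QuasiIso (E ◁ (Y.ιTruncLE d)) := quasiIso_whiskerLeft_of_isKFlat E hEK _ h1
  haveI h4 : QuasiIso (E ◁ ((Y.truncLE d).πTruncGE c)) := quasiIso_whiskerLeft_of_isKFlat E hEK _ h2
  rw [← exactAt_of_quasiIso (E ◁ (Y.ιTruncLE d)) i, exactAt_of_quasiIso (E ◁ ((Y.truncLE d).πTruncGE c)) i]
  refine ShortComplex.exact_of_isZero_X₂ _ (isZero_tensor_X _ _ i ?_)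
  intro p q hpq
  by_cases hp : p < a ∨ b < p
  · exact Or.inl (hE p hp)
  · right
    push_neg at hp
    by_cases hq : q < c
    · exact CochainComplex.isZero_of_isStrictlyGE ((Y.truncLE d).truncGE c) c q hq
    · have hq' : d < q := by lia
      exact CochainComplex.isZero_of_isStrictlyLE ((Y.truncLE d).truncGE c) d q hq'

end Bounded

end Groth.Agent.Lib.Helper43.ResTensor
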