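import Mathlib.Tactic
import Groth.Agent.Lib.Helper43.ResTensor
import Groth.Agent.Lib.Helper43.FibreAmp

/-!
# Extension of scalars of tensor products of complexes, and local-global exactness (helper43)

* `resExtIso ψ K : (B' ⊗_B K)|_B ≅ B'[0]-termwise tensor`.
* `exactAt_ext_tensor` : `B' ⊗_B (K ⊗_B G)` is exact in degree `i` as soon as
  `(B' ⊗_B K) ⊗_{B'} (B' ⊗_B G)` is.
* `exactAt_of_forall_maximal` : exactness of a complex of `B`-modules can be checked after
  localizing at all maximal ideals.
-/

set_option autoImplicit false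
universe u
open CategoryTheory CategoryTheory.Limits MonoidalCategory DerivedCategory DRing
attribute [local instance] HasDerivedCategory.standard

namespace Groth.Agent.Lib.Helper43.ResLocal

open Groth.Agent.Lib.Helper25.TensorCx Groth.Agent.Lib.Helper25.KFlat
  Groth.Agent.Lib.Helper25.SingleTensor Groth.Agent.Lib.Helper84.FlatAmp
  Groth.Agent.Lib.Helper84 Groth.Agent.Lib.Helper15 Groth.Agent.Lib.Helper84.TensCx
  Groth.Agent.Lib.Helper84.FlatBC
open scoped TensorProduct

variable {B B' : Type u} [CommRing B] [CommRing B'] (ψ : B →+* B')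

/-- `B'` as a `B`-module -/
noncomputable abbrev modOf : ModuleCat.{u} B :=
  (ModuleCat.restrictScalars ψ).obj (ModuleCat.of B' B')

/-- `(B' ⊗_B Y)|_B = B' ⊗_B Y` -/
noncomputable def resExtLin (Y : ModuleCat.{u} B) :
    ↑((ModuleCat.restrictScalars ψ).obj ((ModuleCat.extendScalars ψ).obj Y)) ≃ₗ[B]
      ↑(modOf ψ ⊗ Y : ModuleCat.{u} B) :=
    { toFun := fun x => x
      invFun := fun x => x
      map_add' := fun _ _ => rfl
      map_smul' := fun _ _ => rfl
      left_inv := fun _ => rfl
      right_inv := fun _ => rfl }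

/-- the restriction of the termwise extension of scalars is the termwise tensor product -/
noncomputable def resExtIso (K : DRing.Cx B) :
    resCx ψ (Groth.Agent.Lib.Helper25.KFlat.extCx ψ K) ≅ (tens (modOf ψ)).obj K :=
  HomologicalComplex.Hom.isoOfComponents (fun n => (resExtLin ψ (K.X n)).toModuleIso) (by
    intro i j hij
    ext t
    induction t using TensorProduct.induction_on with
    | zero => exact (map_zero _).trans (map_zero _).symm
    | tmul s y => rfl
    | add x y hx hy =>
      exact (map_add _ x y).trans ((congrArg₂ (· + ·) hx hy).trans (map_add _ x y).symm))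

/-- restriction of scalars preserves and reflects exactness -/
theorem exactAt_res_iff (Z : DRing.Cx B') (i : ℤ) : (resCx ψ Z).ExactAt i ↔ Z.ExactAt i :=
  ⟨ResTensor.exactAt_of_addEquiv' Z (resCx ψ Z) i
      (fun n => AddMonoidHom.id _) (fun n => Function.bijective_id) (fun n x => rfl),
    ResTensor.exactAt_of_addEquiv Z (resCx ψ Z) i
      (fun n => AddMonoidHom.id _) (fun n => Function.bijective_id) (fun n x => rfl)⟩

/-- extension of scalars is monoidal, on the level of exactness -/
theorem exactAt_ext_tensor (K G : DRing.Cx B) (i : ℤ)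
    (h : (Groth.Agent.Lib.Helper25.KFlat.extCx ψ K ⊗ Groth.Agent.Lib.Helper25.KFlat.extCx ψ G :
      DRing.Cx B').ExactAt i) :
    (Groth.Agent.Lib.Helper25.KFlat.extCx ψ (K ⊗ G : DRing.Cx B)).ExactAt i := by
  have h1 : (resCx ψ (Groth.Agent.Lib.Helper25.KFlat.extCx ψ K) ⊗ G : DRing.Cx B).ExactAt i :=
    (ResTensor.exactAt_tensor_ext_iff ψ (Groth.Agent.Lib.Helper25.KFlat.extCx ψ K) G i).2 h
  have e1 : (resCx ψ (Groth.Agent.Lib.Helper25.KFlat.extCx ψ K) ⊗ G : DRing.Cx B) ≅
      resCx ψ (Groth.Agent.Lib.Helper25.KFlat.extCx ψ (K ⊗ G : DRing.Cx B)) :=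
    whiskerRightIso (resExtIso ψ K ≪≫ singleTensorIso (modOf ψ) K) G ≪≫
      α_ (sgl (modOf ψ)) K G ≪≫ (singleTensorIso (modOf ψ) (K ⊗ G : DRing.Cx B)).symm ≪≫
      (resExtIso ψ (K ⊗ G : DRing.Cx B)).symm
  have h2 := ResTensor.exactAt_of_iso e1 i h1
  exact (exactAt_res_iff ψ _ i).1 h2

/-- exactness of a complex of modules can be checked at the maximal ideals -/
theorem exactAt_of_forall_maximal (Z : DRing.Cx B) (i : ℤ)
    (h : ∀ (m : Ideal B) [m.IsMaximal],
      (Groth.Agent.Lib.Helper25.KFlat.extCx (algebraMap B (Localization.AtPrime m)) Z).ExactAt i) :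
    Z.ExactAt i := by
  rw [HomologicalComplex.exactAt_iff_isZero_homology]
  haveI : Subsingleton (Z.homology i) := by
    refine Module.subsingleton_of_localization_maximal
        (fun P _ => Localization.AtPrime P ⊗[B] (Z.homology i))
        (fun P _ => TensorProduct.mk B (Localization.AtPrime P) (Z.homology i) 1) ?_
    intro P hP
    haveI : PreservesFiniteLimits (ext (algebraMap B (Localization.AtPrime P))) :=
      preservesFiniteLimits_ext _ (RingHom.flat_algebraMap_iff.2
        (IsLocalization.flat (Localization.AtPrime P) P.primeCompl))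
    refine FibreAmp.subsingleton_tensor_of_ext (B := Localization.AtPrime P) _ ?_
    have h' := h P
    rw [HomologicalComplex.exactAt_iff_isZero_homology] at h'
    exact IsZero.of_iso h' (PCDescent.extHomologyIso _ Z i).symm
  exact ModuleCat.isZero_of_subsingleton _

/-- extension of scalars is monoidal, on the level of exactness (both directions) -/
theorem exactAt_ext_tensor_iff (K G : DRing.Cx B) (i : ℤ) :
    (Groth.Agent.Lib.Helper25.KFlat.extCx ψ K ⊗ Groth.Agent.Lib.Helper25.KFlat.extCx ψ G :
      DRing.Cx B').ExactAt i ↔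
    (Groth.Agent.Lib.Helper25.KFlat.extCx ψ (K ⊗ G : DRing.Cx B)).ExactAt i := by
  refine ⟨exactAt_ext_tensor ψ K G i, fun h => ?_⟩
  have e1 : (resCx ψ (Groth.Agent.Lib.Helper25.KFlat.extCx ψ K) ⊗ G : DRing.Cx B) ≅
      resCx ψ (Groth.Agent.Lib.Helper25.KFlat.extCx ψ (K ⊗ G : DRing.Cx B)) :=
    whiskerRightIso (resExtIso ψ K ≪≫ singleTensorIso (modOf ψ) K) G ≪≫
      α_ (sgl (modOf ψ)) K G ≪≫ (singleTensorIso (modOf ψ) (K ⊗ G : DRing.Cx B)).symm ≪≫
      (resExtIso ψ (K ⊗ G : DRing.Cx B)).symm
  have h2 := ResTensor.exactAt_of_iso e1.symm i ((exactAt_res_iff ψ _ i).2 h)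
  exact (ResTensor.exactAt_tensor_ext_iff ψ (Groth.Agent.Lib.Helper25.KFlat.extCx ψ K) G i).1 h2

/-- faithfully flat extension of scalars preserves and reflects exactness -/
theorem exactAt_extCx_iff_of_faithfullyFlat
    (hψ : @Module.FaithfullyFlat B B' _ _ ψ.toAlgebra.toModule) (Z : DRing.Cx B) (i : ℤ) :
    (Groth.Agent.Lib.Helper25.KFlat.extCx ψ Z).ExactAt i ↔ Z.ExactAt i := by
  letI := ψ.toAlgebra
  haveI : Module.FaithfullyFlat B B' := hψ
  have hflat : ψ.Flat := inferInstanceAs (Module.Flat B B')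
  haveI := preservesFiniteLimits_ext ψ hflat
  rw [HomologicalComplex.exactAt_iff_isZero_homology, HomologicalComplex.exactAt_iff_isZero_homology]
  constructor
  · intro h
    have h0 : IsZero ((ext ψ).obj (Z.homology i)) :=
      IsZero.of_iso h (PCDescent.extHomologyIso ψ Z i).symm
    have h1 : Subsingleton (B' ⊗[B] (Z.homology i)) := ModuleCat.subsingleton_of_isZero h0
    haveI := h1
    haveI : Subsingleton (Z.homology i) :=
      Module.FaithfullyFlat.lTensor_reflects_triviality B B' (Z.homology i)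
    exact ModuleCat.isZero_of_subsingleton _
  · intro h
    exact IsZero.of_iso ((ext ψ).map_isZero h) (PCDescent.extHomologyIso ψ Z i)

end Groth.Agent.Lib.Helper43.ResLocal
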