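import Mathlib.Tactic
import Groth.Agent.Lib.Helper15.LDerived
import Groth.Agent.Lib.Helper43.ResLocal
import Groth.Agent.Lib.Helper25.KFlatQis
import Groth.Agent.Lib.Helper25.KFlatRes

/-!
# Base change along a pushout square of rings (helper43)

Generalization of `Helper84.BCCompare` to an arbitrary pushout square of commutative rings
`B' = S ⊗[k] B` (`Algebra.IsPushout k S B B'`): for a complex `E` of `B`-modules,
`S ⊗_k (E|_k) ≅ (B' ⊗_B E)|_S`.

Main application: `acyclic_extCx_of_flat`: if `E` is an acyclic bounded above complex of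
`B`-modules whose terms are flat over `k`, then `B' ⊗_B E` is acyclic.
-/

set_option autoImplicit false
universe u

open CategoryTheory CategoryTheory.Limits TensorProduct ChangeOfRings

namespace Groth.Agent.Lib.Helper43.PushoutBC

variable (k S B B' : Type u) [CommRing k] [CommRing S] [CommRing B] [CommRing B']
  [Algebra k S] [Algebra k B] [Algebra S B'] [Algebra B B'] [Algebra k B']
  [IsScalarTower k S B'] [IsScalarTower k B B'] [Algebra.IsPushout k S B B']

/-- the left hand side -/
noncomputable abbrev LHS (M : ModuleCat.{u} B) : ModuleCat.{u} S :=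
  (ModuleCat.restrictScalars (algebraMap S B')).obj
    ((ModuleCat.extendScalars.{u, u, u} (algebraMap B B')).obj M)

/-- the right hand side -/
noncomputable abbrev RHS (M : ModuleCat.{u} B) : ModuleCat.{u} S :=
  (ModuleCat.extendScalars.{u, u, u} (algebraMap k S)).obj
    ((ModuleCat.restrictScalars (algebraMap k B)).obj M)

section

variable (M : ModuleCat.{u} B)

/-- `S` with its two `k`-module structures -/
noncomputable def idS :
    S ≃ₗ[k] ((ModuleCat.restrictScalars (algebraMap k S)).obj (ModuleCat.of S S)) :=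
  { AddEquiv.refl S with
    map_smul' := fun c s => by
      change c • s = algebraMap k S c * s
      rw [Algebra.smul_def] }

/-- `B'` with its two `B`-module structures -/
noncomputable def idB' :
    B' ≃ₗ[B] ((ModuleCat.restrictScalars (algebraMap B B')).obj (ModuleCat.of B' B')) :=
  { AddEquiv.refl B' with
    map_smul' := fun c s => by
      change c • s = algebraMap B B' c * s
      rw [Algebra.smul_def] }

/-- the underlying additive equivalence -/
noncomputable def cmpAddEquiv : RHS k S B M ≃+ LHS S B B' M :=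
  letI : Module k M := Module.compHom M (algebraMap k B)
  haveI : IsScalarTower k B M := ⟨fun c b m => by
    change (c • b) • m = algebraMap k B c • (b • m)
    rw [Algebra.smul_def, mul_smul]⟩
  (((TensorProduct.congr (idS k S) (LinearEquiv.refl k M)).symm.toAddEquiv).trans
    (Algebra.IsPushout.cancelBaseChange k S B B' M).symm.toAddEquiv).trans
    (TensorProduct.congr (idB' B B') (LinearEquiv.refl B M)).toAddEquiv

lemma cmpAddEquiv_tmul (s : S) (m : M) :
    cmpAddEquiv k S B B' M
      (s ⊗ₜ[k, algebraMap k S] (m : (ModuleCat.restrictScalars (algebraMap k B)).obj M)) =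
      ((algebraMap S B' s) ⊗ₜ[B, algebraMap B B'] m :
        (ModuleCat.extendScalars.{u, u, u} (algebraMap B B')).obj M) := by
  letI : Module k M := Module.compHom M (algebraMap k B)
  haveI : IsScalarTower k B M := ⟨fun c b m => by
    change (c • b) • m = algebraMap k B c • (b • m)
    rw [Algebra.smul_def, mul_smul]⟩
  change (TensorProduct.congr (idB' B B') (LinearEquiv.refl B M))
    ((Algebra.IsPushout.cancelBaseChange k S B B' M).symm
      ((TensorProduct.congr (idS k S) (LinearEquiv.refl k M)).symm (s ⊗ₜ m))) = _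
  rw [show (TensorProduct.congr (idS k S) (LinearEquiv.refl k M)).symm (s ⊗ₜ m) = s ⊗ₜ[k] m from rfl,
    Algebra.IsPushout.cancelBaseChange_symm_tmul]
  rfl

lemma cmpAddEquiv_smul (s : S) (x : RHS k S B M) :
    cmpAddEquiv k S B B' M (s • x) = s • cmpAddEquiv k S B B' M x := by
  refine TensorProduct.induction_on
    (motive := fun x => cmpAddEquiv k S B B' M (s • (show ↑(RHS k S B M) from x)) =
      s • cmpAddEquiv k S B B' M (show ↑(RHS k S B M) from x)) x ?_ ?_ ?_
  · change cmpAddEquiv k S B B' M (s • (0 : RHS k S B M)) =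
      s • cmpAddEquiv k S B B' M (0 : RHS k S B M)
    rw [smul_zero, map_zero, smul_zero]
  · intro s' m
    change cmpAddEquiv k S B B' M ((s * (show S from s')) ⊗ₜ[k, algebraMap k S] m) =
      s • cmpAddEquiv k S B B' M ((show S from s') ⊗ₜ[k, algebraMap k S] m)
    rw [cmpAddEquiv_tmul, cmpAddEquiv_tmul, map_mul]
    rfl
  · intro a b ha hb
    change cmpAddEquiv k S B B' M (s • ((show ↑(RHS k S B M) from a) +
      (show ↑(RHS k S B M) from b))) = s • cmpAddEquiv k S B B' M
        ((show ↑(RHS k S B M) from a) + (show ↑(RHS k S B M) from b))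
    rw [smul_add, map_add, map_add, smul_add, ha, hb]

/-- the comparison isomorphism -/
noncomputable def cmpIso : RHS k S B M ≅ LHS S B B' M :=
  LinearEquiv.toModuleIso
    (AddEquiv.toLinearEquiv (R := S) (M := RHS k S B M) (M₂ := LHS S B B' M)
      (cmpAddEquiv k S B B' M) (cmpAddEquiv_smul k S B B' M))

lemma cmpIso_hom_tmul (s : S) (m : M) :
    (cmpIso k S B B' M).hom
      (s ⊗ₜ[k, algebraMap k S] (m : (ModuleCat.restrictScalars (algebraMap k B)).obj M)) =
      ((algebraMap S B' s) ⊗ₜ[B, algebraMap B B'] m :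
        (ModuleCat.extendScalars.{u, u, u} (algebraMap B B')).obj M) := by
  exact cmpAddEquiv_tmul k S B B' M s m

end

/-- naturality of the comparison isomorphism -/
lemma cmpIso_naturality {M M' : ModuleCat.{u} B} (f : M ⟶ M') :
    (ModuleCat.extendScalars.{u, u, u} (algebraMap k S)).map
        ((ModuleCat.restrictScalars (algebraMap k B)).map f) ≫ (cmpIso k S B B' M').hom =
      (cmpIso k S B B' M).hom ≫ (ModuleCat.restrictScalars (algebraMap S B')).map
        ((ModuleCat.extendScalars.{u, u, u} (algebraMap B B')).map f) := by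
  apply ModuleCat.ExtendScalars.hom_ext
  intro m
  change (cmpIso k S B B' M').hom ((1 : S) ⊗ₜ[k, algebraMap k S]
      (((ModuleCat.restrictScalars (algebraMap k B)).map f) m)) =
    ((ModuleCat.restrictScalars (algebraMap S B')).map
      ((ModuleCat.extendScalars.{u, u, u} (algebraMap B B')).map f))
      ((cmpIso k S B B' M).hom ((1 : S) ⊗ₜ[k, algebraMap k S] m))
  rw [cmpIso_hom_tmul, cmpIso_hom_tmul]
  rfl

open DRing Groth.Agent.Lib.Helper15 in
/-- the comparison isomorphism of complexes -/
noncomputable def cmpCx (E : Cx B) :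
    LDerived.extCx (algebraMap k S) ((restrictCx (algebraMap k B)).obj E) ≅
      (restrictCx (algebraMap S B')).obj (LDerived.extCx (algebraMap B B') E) :=
  HomologicalComplex.Hom.isoOfComponents (fun i => cmpIso k S B B' (E.X i)) (by
    intro i j _
    exact (cmpIso_naturality k S B B' (E.d i j)).symm)


section Acyclic

open DRing Groth.Agent.Lib.Helper15 Groth.Agent.Lib.Helper25.KFlat
  Groth.Agent.Lib.Helper25.SingleTensor Groth.Agent.Lib.Helper25.TensorCx MonoidalCategory

/-- tensoring an arbitrary complex with an acyclic K-flat complex gives an acyclic complex -/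
theorem acyclic_tensor_of_isKFlat_of_acyclic {R : Type u} [CommRing R] (L G : DRing.Cx R)
    (hG : IsKFlat G) (hGac : Acyclic G) : Acyclic (L ⊗ G : DRing.Cx R) := by
  obtain ⟨F, f, hF, -, hf, -⟩ := Groth.Agent.Lib.Helper25.KFlatRes.exists_kflat_resolution L
  have h1 : QuasiIso (f ▷ G) := quasiIso_whiskerRight_of_isKFlat G hG f hf
  have h2 : Acyclic (F ⊗ G : DRing.Cx R) := acyclic_tensor_left_of_isKFlat F hF G hGac
  intro i
  have := (ResTensor.exactAt_of_quasiIso (f ▷ G) i).1
    ((HomologicalComplex.exactAt_iff_isZero_homology _ _).2 (h2 i))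
  exact (HomologicalComplex.exactAt_iff_isZero_homology _ _).1 this

/-- extension of scalars of an acyclic K-flat complex is acyclic -/
theorem acyclic_extCx_of_isKFlat {R R' : Type u} [CommRing R] [CommRing R'] (ψ : R →+* R')
    (G : DRing.Cx R) (hG : IsKFlat G) (hGac : Acyclic G) : Acyclic (LDerived.extCx ψ G) := by
  have h1 : Acyclic (sgl (ResLocal.modOf ψ) ⊗ G : DRing.Cx R) :=
    acyclic_tensor_of_isKFlat_of_acyclic _ G hG hGac
  have e : Groth.Agent.Lib.Helper25.KFlat.resCx ψ (Groth.Agent.Lib.Helper25.KFlat.extCx ψ G) ≅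
      (sgl (ResLocal.modOf ψ) ⊗ G : DRing.Cx R) :=
    ResLocal.resExtIso ψ G ≪≫ singleTensorIso (ResLocal.modOf ψ) G
  have h2 : Acyclic (Groth.Agent.Lib.Helper25.KFlat.resCx ψ
      (Groth.Agent.Lib.Helper25.KFlat.extCx ψ G)) := acyclic_of_iso e.symm h1
  intro i
  exact (HomologicalComplex.exactAt_iff_isZero_homology _ _).1
    ((ResLocal.exactAt_res_iff ψ _ i).1
      ((HomologicalComplex.exactAt_iff_isZero_homology _ _).2 (h2 i)))

include S in
/-- **Base change of acyclic complexes along a pushout square.**  If `B' = S ⊗_k B` and `E` is an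
acyclic bounded above complex of `B`-modules whose terms are flat over `k`, then `B' ⊗_B E` is
acyclic. -/
theorem acyclic_extCx_of_flat (E : DRing.Cx B) (b : ℤ) (hb : ∀ q, b < q → IsZero (E.X q))
    (hfl : ∀ q, Module.Flat k ((ModuleCat.restrictScalars (algebraMap k B)).obj (E.X q)))
    (hE : Acyclic E) : Acyclic (LDerived.extCx (algebraMap B B') E) := by
  have hGac : Acyclic (Groth.Agent.Lib.Helper25.KFlat.resCx (algebraMap k B) E) :=
    Groth.Agent.Lib.Helper25.KFlat.acyclic_resCx _ E hE
  have hGfl : IsKFlat (Groth.Agent.Lib.Helper25.KFlat.resCx (algebraMap k B) E) :=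
    isKFlat_of_boundedAbove_of_flat _ b
      (fun q hq => (ModuleCat.restrictScalars (algebraMap k B)).map_isZero (hb q hq)) hfl
  have h1 := acyclic_extCx_of_isKFlat (algebraMap k S) _ hGfl hGac
  have h2 := acyclic_of_iso (cmpCx k S B B' E) h1
  intro i
  exact (HomologicalComplex.exactAt_iff_isZero_homology _ _).1
    ((ResLocal.exactAt_res_iff (algebraMap S B') _ i).1
      ((HomologicalComplex.exactAt_iff_isZero_homology _ _).2 (h2 i)))

end Acyclic

end Groth.Agent.Lib.Helper43.PushoutBC
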