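import Mathlib.Tactic
import Groth.Agent.Lib.Helper43.PushoutBC
import Groth.Agent.Lib.Helper86.FinFreeRes
import Groth.Agent.Lib.Helper84.FlatBC
import Groth.Agent.Lib.Helper84.DRingPC
import Groth.Agent.Lib.Helper84.TensCx
import Groth.Agent.Lib.Helper52.ExtScalRing
import Groth.Agent.Lib.Helper46.FlatStage

/-!
# Flat finitely presented algebras are pseudo-coherent over polynomial rings (helper43)

* `pc_of_flat_fp` : a flat finitely presented `R`-algebra `A` is pseudo-coherent as a module over
  `R[x_1, …, x_n]` for every surjection `R[x_1, …, x_n] → A` (no Noetherian hypothesis).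
* `exists_stage` : Noetherian approximation with flatness (using `Helper46.FlatStage`).
* `pc_of_stage` : the base change step.
* `pc_extendScalars_of_flat` : for a pushout square `B' = S ⊗_k B` with `B` Noetherian and flat
  over `k`, and `M` a finite `B`-module which is flat over `k`, the `B'`-module `B' ⊗_B M` is
  pseudo-coherent.
-/

set_option autoImplicit false
universe u

open CategoryTheory CategoryTheory.Limits DerivedCategory
attribute [local instance] HasDerivedCategory.standard

namespace Groth.Agent.Lib.Helper43.FlatFPPC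

open Groth.Agent.Lib.Helper86.FinFreeRes in
/-- a finite module over a Noetherian ring is pseudo-coherent (copy of the helper lemma of
`S7067`) -/
theorem isPseudoCoherentModule'_of_finite (P : Type u) [CommRing P] [IsNoetherianRing P]
    (M : Type u) [AddCommGroup M] [Module P M] [Module.Finite P M] :
    DRing.IsPseudoCoherentModule' P M := by
  let F : FG P := ⟨ModuleCat.of P M, inferInstanceAs (Module.Finite P M)⟩
  let Rs := F.res
  refine ⟨Rs.cochainComplex, 0, ?_, ?_, ?_⟩
  · intro i hi
    exact CochainComplex.isZero_of_isStrictlyLE _ 0 i hi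
  · intro i
    by_cases hi : i ≤ 0
    · obtain ⟨k, rfl⟩ := Int.exists_eq_neg_ofNat hi
      let e : Rs.cochainComplex.X (-(k : ℤ)) ≅ ModuleCat.of P (Fin (F.syz k).rank → P) :=
        Rs.cochainComplexXIso (-(k : ℤ)) k
      exact ⟨Module.Finite.equiv e.toLinearEquiv.symm, Module.Free.of_equiv e.toLinearEquiv.symm⟩
    · have hz : IsZero (Rs.cochainComplex.X i) :=
        CochainComplex.isZero_of_isStrictlyLE _ 0 i (by omega)
      haveI : Subsingleton (Rs.cochainComplex.X i) := ModuleCat.subsingleton_of_isZero hz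
      exact ⟨inferInstance, inferInstance⟩
  · haveI : IsIso (Q.map Rs.π') := by
      rw [isIso_Q_map_iff_quasiIso]
      infer_instance
    exact ⟨asIso (Q.map Rs.π') ≪≫
      ((singleFunctorIsoCompQ (ModuleCat.{u} P) 0).app (ModuleCat.of P M)).symm⟩

section BC

open DRing Groth.Agent.Lib.Helper84 Groth.Agent.Lib.Helper25.KFlat CochainComplex

variable (k S B B' : Type u) [CommRing k] [CommRing S] [CommRing B] [CommRing B']
  [Algebra k S] [Algebra k B] [Algebra S B'] [Algebra B B'] [Algebra k B']
  [IsScalarTower k S B'] [IsScalarTower k B B'] [Algebra.IsPushout k S B B']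

/-- a free `B`-module is flat over `k` when `B` is -/
lemma flat_res_of_free [Module.Flat k B] (X : ModuleCat.{u} B) (hX : Module.Free B X) :
    Module.Flat k ((ModuleCat.restrictScalars (algebraMap k B)).obj X) := by
  letI : Module k X := Module.compHom X (algebraMap k B)
  haveI : IsScalarTower k B X := ⟨fun c b m => by
    change (c • b) • m = algebraMap k B c • (b • m)
    rw [Algebra.smul_def, mul_smul]⟩
  haveI : Module.Flat B X := inferInstance
  exact Module.Flat.trans k B X

include S in
/-- **Pseudo-coherence by Noetherian approximation.** -/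
theorem pc_extendScalars_of_flat [IsNoetherianRing B] [Module.Flat k B]
    (M : Type u) [AddCommGroup M] [Module B M] [Module.Finite B M]
    (hM : Module.Flat k ((ModuleCat.restrictScalars (algebraMap k B)).obj (ModuleCat.of B M))) :
    DRing.IsPseudoCoherent' B' ((DerivedCategory.singleFunctor (ModuleCat.{u} B') 0).obj
      ((ModuleCat.extendScalars.{u, u, u} (algebraMap B B')).obj (ModuleCat.of B M))) := by
  obtain ⟨E, b, hEb, hEff, ⟨e⟩⟩ := isPseudoCoherentModule'_of_finite B M
  haveI : E.IsKProjective := DRingPC.isKProjective_of_finiteFree E b hEb hEff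
  let L : DRing.Cx B := (HomologicalComplex.single (ModuleCat.{u} B) (ComplexShape.up ℤ) 0).obj
    (ModuleCat.of B M)
  obtain ⟨f, hf⟩ := KProj.exists_Q_map_eq E L
    (e.hom ≫ ((singleFunctorIsoCompQ (ModuleCat.{u} B) 0).app (ModuleCat.of B M)).hom)
  haveI : IsIso (Q.map f) := by rw [hf]; infer_instance
  have hq : QuasiIso f := by
    rw [← isIso_Q_map_iff_quasiIso]
    infer_instance
  have hac : Acyclic (mappingCone f) := (quasiIso_iff_acyclic_mappingCone f).1 hq
  have hLb : VanishesAbove L 0 := by
    intro i hi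
    exact HomologicalComplex.isZero_single_obj_X _ _ _ _ (by lia)
  have hCb : VanishesAbove (mappingCone f) (max b 0) :=
    DRingPC.vanishesAbove_mappingCone f b 0 hEb hLb
  -- flatness over `k` of the terms of the cone
  have hEfl : TermwiseFlat ((restrictCx (algebraMap k B)).obj E) := fun i =>
    flat_res_of_free k B (E.X i) (hEff i).2
  have hLfl : TermwiseFlat ((restrictCx (algebraMap k B)).obj L) := by
    intro i
    by_cases hi : i = 0
    · subst hi
      have e0 : L.X 0 ≅ ModuleCat.of B M := HomologicalComplex.singleObjXSelf _ _ _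
      haveI := hM
      exact TensCx.flat_of_iso ((ModuleCat.restrictScalars (algebraMap k B)).mapIso e0.symm)
    · have hz : IsZero (L.X i) := HomologicalComplex.isZero_single_obj_X _ _ _ _ hi
      have hz' := (ModuleCat.restrictScalars (algebraMap k B)).map_isZero hz
      haveI : Subsingleton (((restrictCx (algebraMap k B)).obj L).X i) :=
        ModuleCat.subsingleton_of_isZero hz'
      infer_instance
  have eCres : (restrictCx (algebraMap k B)).obj (mappingCone f) ≅
      mappingCone ((restrictCx (algebraMap k B)).map f) :=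
    mappingCone.mapHomologicalComplexIso f (ModuleCat.restrictScalars (algebraMap k B))
  have hCfl : ∀ q, Module.Flat k
      ((ModuleCat.restrictScalars (algebraMap k B)).obj ((mappingCone f).X q)) := by
    intro q
    have h1 : Module.Flat k ((mappingCone ((restrictCx (algebraMap k B)).map f)).X q) :=
      TensCx.termwiseFlat_mappingCone ((restrictCx (algebraMap k B)).map f) hEfl hLfl q
    have e1 : (mappingCone ((restrictCx (algebraMap k B)).map f)).X q ≅
        (ModuleCat.restrictScalars (algebraMap k B)).obj ((mappingCone f).X q) :=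
      (HomologicalComplex.eval _ _ q).mapIso eCres.symm
    exact @TensCx.flat_of_iso _ _ _ _ e1 h1
  have hac' := PushoutBC.acyclic_extCx_of_flat k S B B' (mappingCone f) (max b 0) hCb hCfl hac
  have eC : (FlatBC.extCx (algebraMap B B')).obj (mappingCone f) ≅
      mappingCone ((FlatBC.extCx (algebraMap B B')).map f) :=
    mappingCone.mapHomologicalComplexIso f (ModuleCat.extendScalars.{u, u, u} (algebraMap B B'))
  have hq' : QuasiIso ((FlatBC.extCx (algebraMap B B')).map f) :=
    (quasiIso_iff_acyclic_mappingCone _).2 (acyclic_of_iso eC hac')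
  haveI : IsIso (Q.map ((FlatBC.extCx (algebraMap B B')).map f)) := by
    rw [isIso_Q_map_iff_quasiIso]
    exact hq'
  refine ⟨(FlatBC.extCx (algebraMap B B')).obj E, b,
    FlatBC.vanishesAbove_extCx _ E b hEb, FlatBC.termwiseFiniteFree_extCx _ E hEff, ⟨?_⟩⟩
  exact asIso (Q.map ((FlatBC.extCx (algebraMap B B')).map f)) ≪≫
    Q.mapIso ((HomologicalComplex.singleMapHomologicalComplex
      (ModuleCat.extendScalars.{u, u, u} (algebraMap B B')) (ComplexShape.up ℤ) 0).app
        (ModuleCat.of B M)) ≪≫
    ((singleFunctorIsoCompQ (ModuleCat.{u} B') 0).app _).symm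

end BC


section Stage

open TensorProduct
attribute [local instance] MvPolynomial.algebraMvPolynomial

/-- base change of a quotient of a polynomial ring -/
noncomputable def quotMapEquiv (k T : Type u) [CommRing k] [CommRing T] [Algebra k T] (ι : Type)
    (J₀ : Ideal (MvPolynomial ι k)) :
    (MvPolynomial ι T ⧸ J₀.map (algebraMap (MvPolynomial ι k) (MvPolynomial ι T))) ≃ₗ[T]
      T ⊗[k] (MvPolynomial ι k ⧸ J₀) :=
  ((Algebra.TensorProduct.quotIdealMapEquivTensorQuot
    (MvPolynomial ι T) J₀).toLinearEquiv.restrictScalars T).trans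
    (Algebra.IsPushout.cancelBaseChange k T (MvPolynomial ι k) (MvPolynomial ι T)
      (MvPolynomial ι k ⧸ J₀))

/-- flatness of a restriction of scalars -/
lemma flat_res_of_flat (k B : Type u) [CommRing k] [CommRing B] [Algebra k B]
    (M : Type u) [AddCommGroup M] [Module B M] [Module k M] [IsScalarTower k B M]
    [Module.Flat k M] :
    Module.Flat k ((ModuleCat.restrictScalars (algebraMap k B)).obj (ModuleCat.of B M)) := by
  let e : ((ModuleCat.restrictScalars (algebraMap k B)).obj (ModuleCat.of B M)) ≃ₗ[k] M :=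
    { toFun := fun x => x
      invFun := fun x => x
      map_add' := fun _ _ => rfl
      map_smul' := fun r x => algebraMap_smul B r (show M from x)
      left_inv := fun _ => rfl
      right_inv := fun _ => rfl }
  exact Module.Flat.of_linearEquiv e

/-- **Noetherian approximation stage**: if `ker ψ` is extended from an ideal `J₁` of a polynomial
ring over a Noetherian ring `R₁` whose quotient is `R₁`-flat, then the target of `ψ` is
pseudo-coherent over the polynomial ring. -/
theorem pc_of_stage (R₁ R A : Type u) [CommRing R₁] [CommRing R] [CommRing A] [Algebra R₁ R]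
    [Algebra R A] [IsNoetherianRing R₁] (n : ℕ) (J₁ : Ideal (MvPolynomial (Fin n) R₁))
    (hfl : Module.Flat R₁ (MvPolynomial (Fin n) R₁ ⧸ J₁))
    (ψ : MvPolynomial (Fin n) R →ₐ[R] A) (hψ : Function.Surjective ψ)
    (hker : RingHom.ker ψ =
      J₁.map (algebraMap (MvPolynomial (Fin n) R₁) (MvPolynomial (Fin n) R))) :
    letI := ψ.toRingHom.toAlgebra
    DRing.IsPseudoCoherentModule' (MvPolynomial (Fin n) R) A := by
  letI := ψ.toRingHom.toAlgebra
  have hM := flat_res_of_flat R₁ (MvPolynomial (Fin n) R₁) (MvPolynomial (Fin n) R₁ ⧸ J₁)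
  have hpc := pc_extendScalars_of_flat R₁ R (MvPolynomial (Fin n) R₁) (MvPolynomial (Fin n) R)
    (MvPolynomial (Fin n) R₁ ⧸ J₁) hM
  have hker' : J₁.map (algebraMap (MvPolynomial (Fin n) R₁) (MvPolynomial (Fin n) R)) =
      RingHom.ker (Algebra.ofId (MvPolynomial (Fin n) R) A) := by
    rw [← hker]
    ext x
    rfl
  let e1 := Groth.Agent.Lib.Helper52.ExtScalRing.eM (MvPolynomial (Fin n) R)
    (ModuleCat.of (MvPolynomial (Fin n) R₁) (MvPolynomial (Fin n) R₁ ⧸ J₁))
  let e2 := (Algebra.TensorProduct.quotIdealMapEquivTensorQuot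
    (MvPolynomial (Fin n) R) J₁).symm.toLinearEquiv
  let e3 : (MvPolynomial (Fin n) R ⧸
      J₁.map (algebraMap (MvPolynomial (Fin n) R₁) (MvPolynomial (Fin n) R))) ≃ₗ[MvPolynomial (Fin n) R]
      (MvPolynomial (Fin n) R ⧸ RingHom.ker (Algebra.ofId (MvPolynomial (Fin n) R) A)) :=
    Submodule.quotEquivOfEq _ _ hker'
  let e4 := (Ideal.quotientKerAlgEquivOfSurjective
    (f := Algebra.ofId (MvPolynomial (Fin n) R) A) hψ).toLinearEquiv
  exact Groth.Agent.Lib.Helper84.DRingPC.isPseudoCoherent'_of_iso
    ((DerivedCategory.singleFunctor (ModuleCat.{u} (MvPolynomial (Fin n) R)) 0).mapIso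
      (e1.trans (e2.trans (e3.trans e4))).toModuleIso) hpc

end Stage


section Descend

open TensorProduct
attribute [local instance] MvPolynomial.algebraMvPolynomial

/-- **Noetherian approximation of a flat finitely presented algebra**, with flatness. -/
theorem exists_stage (R A : Type u) [CommRing R] [CommRing A] [Algebra R A] [Module.Flat R A]
    [Algebra.FinitePresentation R A] (n : ℕ) (ψ : MvPolynomial (Fin n) R →ₐ[R] A)
    (hψ : Function.Surjective ψ) :
    ∃ (R₁ : Type u) (_ : CommRing R₁) (_ : Algebra R₁ R) (_ : IsNoetherianRing R₁)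
      (J₁ : Ideal (MvPolynomial (Fin n) R₁)),
      Module.Flat R₁ (MvPolynomial (Fin n) R₁ ⧸ J₁) ∧
      RingHom.ker ψ =
        J₁.map (algebraMap (MvPolynomial (Fin n) R₁) (MvPolynomial (Fin n) R)) := by
  classical
  have hfg : (RingHom.ker ψ.toRingHom).FG :=
    Algebra.FinitePresentation.ker_fG_of_surjective ψ hψ
  obtain ⟨s, hs⟩ := hfg
  let coeffs : Set R := ⋃ g ∈ s, (g.coeffs : Set R)
  have hfin : coeffs.Finite :=
    Set.Finite.biUnion s.finite_toSet (fun g _ => Finset.finite_toSet _)
  let k : Subalgebra ℤ R := Algebra.adjoin ℤ coeffs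
  haveI : Algebra.FiniteType ℤ k := Algebra.FiniteType.adjoin_of_finite hfin
  haveI : IsNoetherianRing k := Algebra.FiniteType.isNoetherianRing ℤ k
  let J₀ : Ideal (MvPolynomial (Fin n) k) :=
    (RingHom.ker ψ).comap (algebraMap (MvPolynomial (Fin n) k) (MvPolynomial (Fin n) R))
  have hJ₀ : J₀.map (algebraMap (MvPolynomial (Fin n) k) (MvPolynomial (Fin n) R)) =
      RingHom.ker ψ := by
    apply le_antisymm Ideal.map_comap_le
    have hs' : Ideal.span (s : Set (MvPolynomial (Fin n) R)) = RingHom.ker ψ := hs
    rw [← hs', Ideal.span_le]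
    intro g hg
    have hgr : g ∈ Set.range (MvPolynomial.map (algebraMap k R)) := by
      rw [MvPolynomial.mem_range_map_iff_coeffs_subset]
      intro c hc
      exact ⟨⟨c, Algebra.subset_adjoin (Set.mem_biUnion hg hc)⟩, rfl⟩
    obtain ⟨g₀, rfl⟩ := hgr
    apply Ideal.mem_map_of_mem
    exact Ideal.mem_comap.2 (Ideal.subset_span hg)
  haveI : Algebra.FiniteType k (MvPolynomial (Fin n) k ⧸ J₀) := inferInstance
  have hflat : Module.Flat R (R ⊗[k] (MvPolynomial (Fin n) k ⧸ J₀)) := by
    have e1 : (MvPolynomial (Fin n) R ⧸ RingHom.ker ψ) ≃ₗ[R] A :=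
      (Ideal.quotientKerAlgEquivOfSurjective (f := ψ) hψ).toLinearEquiv
    have e2 : (MvPolynomial (Fin n) R ⧸
        J₀.map (algebraMap (MvPolynomial (Fin n) k) (MvPolynomial (Fin n) R))) ≃ₗ[R]
        (MvPolynomial (Fin n) R ⧸ RingHom.ker ψ) :=
      (Submodule.quotEquivOfEq _ _ hJ₀).restrictScalars R
    exact Module.Flat.of_linearEquiv ((quotMapEquiv k R (Fin n) J₀).symm.trans (e2.trans e1))
  obtain ⟨R₁, hR₁fg, hR₁flat⟩ := Groth.Agent.Lib.Helper46.FlatStage.exists_fg_flat (k := k) (R := R)
    (N := MvPolynomial (Fin n) k ⧸ J₀) hflat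
  haveI : Algebra.FiniteType k R₁ := (Subalgebra.fg_iff_finiteType R₁).1 hR₁fg
  haveI : IsNoetherianRing R₁ := Algebra.FiniteType.isNoetherianRing k R₁
  refine ⟨R₁, inferInstance, inferInstance, inferInstance,
    J₀.map (algebraMap (MvPolynomial (Fin n) k) (MvPolynomial (Fin n) R₁)), ?_, ?_⟩
  · exact Module.Flat.of_linearEquiv (quotMapEquiv k R₁ (Fin n) J₀)
  · rw [Ideal.map_map, ← hJ₀]
    congr 1
    change MvPolynomial.map (algebraMap k R) =
      (MvPolynomial.map (algebraMap R₁ R)).comp (MvPolynomial.map (algebraMap k R₁))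
    apply RingHom.ext
    intro p
    rw [RingHom.comp_apply, MvPolynomial.map_map, ← IsScalarTower.algebraMap_eq]

end Descend


/-- **A flat finitely presented algebra is a pseudo-coherent module over any polynomial ring
surjecting onto it.** -/
theorem pc_of_flat_fp (R A : Type u) [CommRing R] [CommRing A] [Algebra R A] [Module.Flat R A]
    [Algebra.FinitePresentation R A] (n : ℕ) (ψ : MvPolynomial (Fin n) R →ₐ[R] A)
    (hψ : Function.Surjective ψ) :
    letI := ψ.toRingHom.toAlgebra
    DRing.IsPseudoCoherentModule' (MvPolynomial (Fin n) R) A := by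
  obtain ⟨R₁, _, _, _, J₁, hfl, hker⟩ := exists_stage R A n ψ hψ
  exact pc_of_stage R₁ R A n J₁ hfl ψ hψ hker

end Groth.Agent.Lib.Helper43.FlatFPPC
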