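import Mathlib.Tactic
import Groth.Prelude.Def_DRing2
import Groth.Agent.S0563
import Groth.Agent.S5804
import Groth.Agent.Lib.Helper43.FreeRes
import Groth.Agent.Lib.Helper75.FlatCx2
import Mathlib.RingTheory.LocalProperties.ProjectiveDimension
import Mathlib.Algebra.Homology.Embedding.CochainComplex

/-!
# Global dimension of regular rings and projective truncations (helper43)

* `glDim_le` : a Noetherian regular ring of Krull dimension `d` has global dimension `≤ d`.
* `projective_opcycles` : syzygies in a complex of projectives over a ring of global dimension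
  `≤ d`.
* `exists_projective_representative` : an object `K` of `D(R)` with cohomology in `(k, b]` is
  represented by a complex of projective modules in degrees `[k + 1 - d, max b ..]`.
-/

set_option autoImplicit false
universe u

open CategoryTheory CategoryTheory.Limits CategoryTheory.Pretriangulated DerivedCategory
open CochainComplex

attribute [local instance] HasDerivedCategory.standard

namespace Groth.Agent.Lib.Helper43.RegGlDim

open DRing Groth.Agent.Lib.Helper43 Groth.Agent.Lib.Helper84

/-- A Noetherian regular ring of Krull dimension `d` has global dimension at most `d`. -/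
theorem glDim_le (R : Type u) [CommRing R] [IsNoetherianRing R]
    (hreg : ∀ p : PrimeSpectrum R, IsRegularLocalRing (Localization.AtPrime p.asIdeal)) (d : ℕ)
    (hd : ringKrullDim R = d) (M : Type u) [AddCommGroup M] [Module R M] :
    HasProjectiveDimensionLT (ModuleCat.of R M) (d + 1) := by
  refine Groth.Agent.S5804.result R d (fun I => ?_) M
  change HasProjectiveDimensionLE (ModuleCat.of R (R ⧸ I)) d
  rw [ModuleCat.hasProjectiveDimensionLE_iff_forall_maximalSpectrum]
  intro m
  have hprime : m.asIdeal.IsPrime := m.isMaximal.isPrime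
  have hreg' : IsRegularLocalRing (Localization.AtPrime m.asIdeal) := hreg ⟨m.asIdeal, hprime⟩
  have hht : m.asIdeal.height ≤ ((d : ℕ) : ℕ∞) := by
    have h := Ideal.height_le_ringKrullDim_of_ne_top hprime.ne_top
    rw [hd] at h
    exact WithBot.coe_le_coe.mp h
  obtain ⟨e, he⟩ : ∃ e : ℕ, m.asIdeal.height = e :=
    ENat.ne_top_iff_exists.mp (ne_top_of_le_ne_top (ENat.natCast_ne_top _) hht) |>.imp
      fun _ h => h.symm
  have hele : e ≤ d := by
    rw [he] at hht
    exact_mod_cast hht
  have hdim : ringKrullDim (Localization.AtPrime m.asIdeal) = (e : WithBot ℕ∞) := by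
    rw [IsLocalization.AtPrime.ringKrullDim_eq_height m.asIdeal, he]
    rfl
  have key := Groth.Agent.S0563.result (Localization.AtPrime m.asIdeal) e hdim
    (((ModuleCat.of R (R ⧸ I)).localizedModule m.asIdeal.primeCompl :
      ModuleCat.{u} (Localization m.asIdeal.primeCompl)))
  exact hasProjectiveDimensionLT_of_ge _ (e + 1) (d + 1) (by omega)


section Syzygy

open Groth.Agent.Lib.Helper75.FlatCx

variable {R : Type u} [CommRing R]

/-- `fromOpcycles` is a monomorphism where the complex is exact -/
lemma mono_fromOpcycles (P : Cx R) (i j : ℤ) (hij : i + 1 = j) (h : P.ExactAt i) :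
    Mono (P.fromOpcycles i j) := by
  rw [HomologicalComplex.exactAt_iff_isZero_homology] at h
  apply Preadditive.mono_of_cancel_zero
  intro W g hg
  obtain ⟨l, hl⟩ := KernelFork.IsLimit.lift' (P.homologyIsKernel i j (by simp [← hij])) g hg
  have hl' : l ≫ P.homologyι i = g := hl
  rw [← hl', h.eq_of_tgt l 0, zero_comp]

/-- the short exact sequence `0 → P.opcycles i → P.X j → P.opcycles j → 0` -/
lemma shortExact_opcycles (P : Cx R) (i j : ℤ) (hij : i + 1 = j) (h : P.ExactAt i) :
    (ShortComplex.mk (P.fromOpcycles i j) (P.pOpcycles j) (by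
      rw [← cancel_epi (P.pOpcycles i)]
      simp)).ShortExact := by
  haveI := mono_fromOpcycles P i j hij h
  refine ModuleCat.shortComplex_shortExact _ ?_ ?_ ?_
  · exact fromOpcycles_pOpcycles_exact P i j (by simp [← hij])
  · exact (ModuleCat.mono_iff_injective _).1 inferInstance
  · exact pOpcycles_surjective P j

/-- syzygies in a complex of projectives which is exact in degrees `≤ k`, over a ring of global
dimension `≤ d` -/
lemma hasProjectiveDimensionLT_opcycles (P : Cx R) (hP : ∀ i : ℤ, Module.Projective R (P.X i))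
    (k : ℤ) (hex : ∀ i : ℤ, i ≤ k → P.ExactAt i) (d : ℕ)
    (hgl : ∀ M : ModuleCat.{u} R, HasProjectiveDimensionLT M (d + 1)) (j : ℕ) (hj : j ≤ d) :
    HasProjectiveDimensionLT (P.opcycles (k + 1 - j)) (d + 1 - j) := by
  induction j with
  | zero => simpa using hgl _
  | succ j ih =>
    have ih' := ih (by omega)
    have hS := shortExact_opcycles P (k + 1 - (j + 1 : ℕ)) (k + 1 - j) (by push_cast; ring)
      (hex _ (by push_cast; lia))
    have h2 : HasProjectiveDimensionLT (P.X (k + 1 - j)) (d + 1 - (j + 1)) := by
      haveI : Projective (P.X (k + 1 - j)) :=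
        (IsProjective.iff_projective (R := R) (P := P.X (k + 1 - j))).1 (hP _)
      have h1 : HasProjectiveDimensionLT (P.X (k + 1 - j)) 1 := inferInstance
      exact hasProjectiveDimensionLT_of_ge _ 1 _ (by omega)
    have h3 : HasProjectiveDimensionLT (P.opcycles (k + 1 - j)) (d + 1 - (j + 1) + 1) := by
      have : d + 1 - (j + 1) + 1 = d + 1 - j := by omega
      rw [this]
      exact ih'
    exact hS.hasProjectiveDimensionLT_X₁ _ h2 h3

/-- the `d`-th syzygy is projective -/
lemma projective_opcycles (P : Cx R) (hP : ∀ i : ℤ, Module.Projective R (P.X i))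
    (k : ℤ) (hex : ∀ i : ℤ, i ≤ k → P.ExactAt i) (d : ℕ)
    (hgl : ∀ M : ModuleCat.{u} R, HasProjectiveDimensionLT M (d + 1)) :
    Module.Projective R (P.opcycles (k + 1 - d)) := by
  have h := hasProjectiveDimensionLT_opcycles P hP k hex d hgl d le_rfl
  have h1 : HasProjectiveDimensionLT (P.opcycles (k + 1 - d)) 1 := by
    have : d + 1 - d = 1 := by omega
    rw [this] at h
    exact h
  have := (projective_iff_hasProjectiveDimensionLT_one (X := P.opcycles (k + 1 - d))).2 h1
  exact (IsProjective.iff_projective (R := R) (P := P.opcycles (k + 1 - d))).2 this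

end Syzygy


section Representative

variable {R : Type u} [CommRing R]

/-- an object `K` of `D(R)` with cohomology in `(k, b]`, over a ring of global dimension `≤ d`,
is represented by a complex of projective modules living in degrees `≥ k + 1 - d`. -/
theorem exists_projective_representative (K : Dual.D R) (k b : ℤ) (d : ℕ)
    (hgl : ∀ M : ModuleCat.{u} R, HasProjectiveDimensionLT M (d + 1))
    (hKb : ∀ i : ℤ, b < i → IsZero ((homologyFunctor (ModuleCat.{u} R) i).obj K))
    (hK : ∀ i : ℤ, i ≤ k → IsZero ((homologyFunctor (ModuleCat.{u} R) i).obj K)) :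
    ∃ P' : Cx R, (∀ i : ℤ, i < k + 1 - d → IsZero (P'.X i)) ∧
      (∀ i : ℤ, max b (k + 1 - d) < i → IsZero (P'.X i)) ∧
      (∀ i : ℤ, Module.Projective R (P'.X i)) ∧ Nonempty (toD P' ≅ K) := by
  obtain ⟨P, hPb, hPf, ⟨e⟩⟩ := FreeRes.exists_free_representative K b hKb
  have hPp : ∀ i : ℤ, Module.Projective R (P.X i) :=
    fun i => FreeRes.projective_of_termwiseFree hPf i
  have hex : ∀ i : ℤ, i ≤ k → P.ExactAt i := fun i hi =>
    PCHomology.exactAt_of_isZero P i
      (IsZero.of_iso (hK i hi) ((homologyFunctor (ModuleCat.{u} R) i).mapIso e))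
  haveI : P.IsGE (k + 1 - d) := (CochainComplex.isGE_iff P (k + 1 - d)).2
    (fun i hi => hex i (by lia))
  haveI : IsIso (Q.map (P.πTruncGE (k + 1 - d))) := inferInstance
  refine ⟨P.truncGE (k + 1 - d), fun i hi => ?_, fun i hi => ?_, fun i => ?_,
    ⟨(asIso (Q.map (P.πTruncGE (k + 1 - d)))).symm ≪≫ e⟩⟩
  · exact CochainComplex.isZero_of_isStrictlyGE (P.truncGE (k + 1 - d)) (k + 1 - d) i hi
  · have h1 : k + 1 - d < i := lt_of_le_of_lt (le_max_right _ _) hi
    have h2 : b < i := lt_of_le_of_lt (le_max_left _ _) hi
    exact IsZero.of_iso (hPb i h2) (P.truncGEXIso (k + 1 - d) i h1)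
  · rcases lt_trichotomy i (k + 1 - d) with hi | hi | hi
    · have hz := CochainComplex.isZero_of_isStrictlyGE (P.truncGE (k + 1 - d)) (k + 1 - d) i hi
      haveI : Subsingleton ((P.truncGE (k + 1 - d)).X i) := ModuleCat.subsingleton_of_isZero hz
      infer_instance
    · subst hi
      haveI := projective_opcycles P hPp k hex d hgl
      exact Module.Projective.of_equiv (P.truncGEXIsoOpcycles (k + 1 - d)).toLinearEquiv.symm
    · haveI := hPp i
      exact Module.Projective.of_equiv (P.truncGEXIso (k + 1 - d) i hi).toLinearEquiv.symm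

/-- **Vanishing of morphisms across a gap of length the global dimension.** -/
theorem hom_eq_zero (K L : Dual.D R) (k b : ℤ) (d : ℕ)
    (hgl : ∀ M : ModuleCat.{u} R, HasProjectiveDimensionLT M (d + 1))
    (hKb : ∀ i : ℤ, b < i → IsZero ((homologyFunctor (ModuleCat.{u} R) i).obj K))
    (hK : ∀ i : ℤ, i ≤ k → IsZero ((homologyFunctor (ModuleCat.{u} R) i).obj K))
    [L.IsLE (k - d)] (f : K ⟶ L) : f = 0 := by
  obtain ⟨P', h1, h2, h3, ⟨e⟩⟩ := exists_projective_representative K k b d hgl hKb hK
  have hz : e.hom ≫ f = 0 :=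
    KProj.from_projective_eq_zero P' (k + 1 - d) (max b (k + 1 - d)) (k - d) (by lia) h1 h2
      (fun i => (IsProjective.iff_projective (R := R) (P := P'.X i)).1 (h3 i)) L (e.hom ≫ f)
  rw [← cancel_epi e.hom, hz, comp_zero]

end Representative

end Groth.Agent.Lib.Helper43.RegGlDim
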