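import Mathlib.Tactic
import Groth.Prelude.Def_DRing2
import Groth.Agent.Lib.Helper68.TorFirst
import Groth.Agent.Lib.Helper43.RegGlDim
import Groth.Agent.Lib.Helper43.TorAmpDescent
import Groth.Agent.Lib.Helper43.FreeRes
import Groth.Agent.Lib.Helper43.PCHomology
import Mathlib.RingTheory.Flat.Tensor
import Mathlib.Algebra.Homology.DerivedCategory.FullyFaithful

/-!
# Tor dimension of modules versus flat resolutions (helper43)

With Mathlib's `Tor` (derived in the second variable) and helper68's long exact sequence in the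
first variable:

* `flat_of_isZero_T_one`: `Tor₁(M, N) = 0` for all `N` implies `M` flat;
* `hasTorAmplitudeIn_single_of_isZero_T`: `Tor_p(M, N) = 0` for all `N`, `p > d` implies that
  `M[0]` has tor amplitude in `[-d, 0]` (flat resolution of length `d`);
* `isZero_T_of_hasTorAmplitudeIn_single`: the converse.
-/

set_option autoImplicit false
universe u

open CategoryTheory CategoryTheory.Limits CategoryTheory.Pretriangulated DerivedCategory
open CochainComplex MonoidalCategory

attribute [local instance] HasDerivedCategory.standard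

namespace Groth.Agent.Lib.Helper43.TorDim

open DRing Groth.Agent.Lib.Helper43 Groth.Agent.Lib.Helper84 Groth.Agent.Lib.Helper68
  Groth.Agent.Lib.Helper84.FlatAmp Groth.Agent.Lib.Helper84.TensCx

variable {R : Type u} [CommRing R]

/-- `Tor_p(M, N)` as an object of `ModuleCat R` -/
noncomputable abbrev T (p : ℕ) (M N : ModuleCat.{u} R) : ModuleCat.{u} R :=
  ((Tor (ModuleCat.{u} R) p).obj M).obj N

lemma isZero_T_succ_X₃ {S : ShortComplex (ModuleCat.{u} R)} (hS : S.ShortExact)
    (N : ModuleCat.{u} R) (p : ℕ) (h2 : IsZero (T (p + 1) S.X₂ N)) (h1 : IsZero (T p S.X₁ N)) :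
    IsZero (T (p + 1) S.X₃ N) :=
  (TorFirst.exact₃ hS N p).isZero_of_both_zeros (h2.eq_of_src _ _) (h1.eq_of_tgt _ _)

lemma isZero_T_X₁ {S : ShortComplex (ModuleCat.{u} R)} (hS : S.ShortExact)
    (N : ModuleCat.{u} R) (p : ℕ) (h3 : IsZero (T (p + 1) S.X₃ N)) (h2 : IsZero (T p S.X₂ N)) :
    IsZero (T p S.X₁ N) :=
  (TorFirst.exact₁ hS N p).isZero_of_both_zeros (h3.eq_of_src _ _) (h2.eq_of_tgt _ _)

lemma isZero_T_of_iso {M M' : ModuleCat.{u} R} (e : M ≅ M') (N : ModuleCat.{u} R) (p : ℕ)
    (h : IsZero (T p M N)) : IsZero (T p M' N) :=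
  IsZero.of_iso h (((Tor (ModuleCat.{u} R) p).mapIso e.symm).app N)

lemma isZero_T_succ_of_flat (M : ModuleCat.{u} R) (hM : Module.Flat R M) (N : ModuleCat.{u} R)
    (p : ℕ) (hp : 0 < p) : IsZero (T p M N) := by
  obtain ⟨q, rfl⟩ : ∃ q, p = q + 1 := ⟨p - 1, by omega⟩
  exact TorFirst.isZero_tor_succ_of_flat_left N q M

/-- `Tor₁(M, -) = 0` implies `M` flat -/
theorem flat_of_isZero_T_one (M : ModuleCat.{u} R)
    (h : ∀ N : ModuleCat.{u} R, IsZero (T 1 M N)) : Module.Flat R M := by
  rw [Module.Flat.iff_lTensor_injective']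
  intro I
  have hex : Function.Exact I.subtype (Submodule.mkQ I) := LinearMap.exact_subtype_mkQ I
  obtain ⟨e⟩ := TorMod.tor_one_linearEquiv_ker M I.subtype I.mkQ hex
    (Submodule.subtype_injective _) (Submodule.mkQ_surjective _)
    (TorMod.isZero_tor_succ_of_projective M R 0)
  haveI : Subsingleton (T 1 M (ModuleCat.of R (R ⧸ I))) :=
    ModuleCat.subsingleton_of_isZero (h _)
  haveI : Subsingleton (LinearMap.ker (I.subtype.lTensor M)) := e.symm.subsingleton
  rw [← LinearMap.ker_eq_bot]
  exact Submodule.eq_bot_of_subsingleton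

section Single

variable (P : Cx R) (M : ModuleCat.{u} R)
  (e : toD P ≅ (DerivedCategory.singleFunctor (ModuleCat.{u} R) 0).obj M)

include e in
/-- a complex representing a module in degree `0` is exact in nonzero degrees -/
lemma exactAt_of_iso_single (i : ℤ) (hi : i ≠ 0) : P.ExactAt i := by
  rw [HomologicalComplex.exactAt_iff_isZero_homology]
  refine IsZero.of_iso ?_ (PCHomology.homologyIso P i).symm
  refine IsZero.of_iso ?_ ((homologyFunctor (ModuleCat.{u} R) i).mapIso e)
  rcases lt_or_gt_of_ne hi with h | h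
  · exact DerivedCategory.isZero_of_isGE _ 0 i h
  · exact DerivedCategory.isZero_of_isLE _ 0 i h

include e in
/-- `opcycles 0` of a complex vanishing above `0` representing `M[0]` is `M` -/
lemma nonempty_opcycles_iso (hP : VanishesAbove P 0) : Nonempty (P.opcycles 0 ≅ M) := by
  haveI : IsIso (P.homologyι 0) :=
    P.isIso_homologyι 0 1 (by simp) ((hP 1 (by lia)).eq_of_tgt _ _)
  exact ⟨(asIso (P.homologyι 0)).symm ≪≫ (PCHomology.homologyIso P 0).symm ≪≫
    (homologyFunctor (ModuleCat.{u} R) 0).mapIso e ≪≫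
    (singleFunctorCompHomologyFunctorIso (ModuleCat.{u} R) 0).app M⟩

end Single

/-- **Tor dimension `≤ d` gives a flat resolution of length `d`.** -/
theorem hasTorAmplitudeIn_single_of_isZero_T (M : ModuleCat.{u} R) (d : ℕ)
    (h : ∀ (N : ModuleCat.{u} R) (p : ℕ), d < p → IsZero (T p M N)) :
    HasTorAmplitudeIn R (-(d : ℤ)) 0
      ((DerivedCategory.singleFunctor (ModuleCat.{u} R) 0).obj M) := by
  obtain ⟨P, hP0, hPfree, ⟨e⟩⟩ := FreeRes.exists_free_representative
    ((DerivedCategory.singleFunctor (ModuleCat.{u} R) 0).obj M) 0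
    (fun i hi => DerivedCategory.isZero_of_isLE _ 0 i hi)
  have hPflat : TermwiseFlat P := fun i => by
    haveI := hPfree i
    infer_instance
  have hexP := exactAt_of_iso_single P M e
  obtain ⟨e0⟩ := nonempty_opcycles_iso P M e hP0
  have key : ∀ (j : ℕ) (N : ModuleCat.{u} R) (p : ℕ), 1 ≤ p → d < p + j →
      IsZero (T p (P.opcycles (-(j : ℤ))) N) := by
    intro j
    induction j with
    | zero =>
      intro N p _ hp
      exact isZero_T_of_iso e0.symm N p (h N p (by simpa using hp))
    | succ j ih =>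
      intro N p hp1 hp
      have hS := RegGlDim.shortExact_opcycles P (-((j + 1 : ℕ) : ℤ)) (-(j : ℤ))
        (by push_cast; ring) (hexP _ (by push_cast; lia))
      exact isZero_T_X₁ hS N p (ih N (p + 1) (by omega) (by omega))
        (isZero_T_succ_of_flat _ (hPflat _) N p (by omega))
  refine torAmp_of_iso (TorAmpDescent.hasTorAmplitudeIn_of_flat_opcycles P (-(d : ℤ)) 0 hP0
    hPflat (fun i hi => hexP i (by lia)) ?_) e
  exact flat_of_isZero_T_one _ (fun N => key d N 1 le_rfl (by omega))

/-- **A flat resolution of length `d` gives tor dimension `≤ d`.** -/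
theorem isZero_T_of_hasTorAmplitudeIn_single (M : ModuleCat.{u} R) (d : ℕ)
    (h : HasTorAmplitudeIn R (-(d : ℤ)) 0
      ((DerivedCategory.singleFunctor (ModuleCat.{u} R) 0).obj M))
    (N : ModuleCat.{u} R) (p : ℕ) (hp : d < p) : IsZero (T p M N) := by
  obtain ⟨F, hF, hflat, ⟨e⟩⟩ := h
  have hexF := exactAt_of_iso_single F M e
  obtain ⟨e0⟩ := nonempty_opcycles_iso F M e (fun i hi => hF i (Or.inr hi))
  have key : ∀ (j : ℕ), j ≤ d → ∀ (N : ModuleCat.{u} R) (p : ℕ), j < p →
      IsZero (T p (F.opcycles (-(d : ℤ) + j)) N) := by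
    intro j
    induction j with
    | zero =>
      intro _ N p hp
      haveI : IsIso (F.pOpcycles (-(d : ℤ))) :=
        F.isIso_pOpcycles (-(d : ℤ) - 1) (-(d : ℤ)) (by simp)
          ((hF (-(d : ℤ) - 1) (Or.inl (by lia))).eq_of_src _ _)
      have hfl : Module.Flat R (F.opcycles (-(d : ℤ))) := by
        haveI := hflat (-(d : ℤ))
        exact flat_of_iso (asIso (F.pOpcycles (-(d : ℤ))))
      have := isZero_T_succ_of_flat _ hfl N p hp
      simpa using this
    | succ j ih =>
      intro hj N p hp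
      have hS := RegGlDim.shortExact_opcycles F (-(d : ℤ) + j) (-(d : ℤ) + ((j + 1 : ℕ) : ℤ))
        (by push_cast; ring) (hexF _ (by lia))
      obtain ⟨q, rfl⟩ : ∃ q, p = q + 1 := ⟨p - 1, by omega⟩
      exact isZero_T_succ_X₃ hS N q (isZero_T_succ_of_flat _ (hflat _) N (q + 1) (by omega))
        (ih (by omega) N q (by omega))
  have h1 := key d le_rfl N p hp
  have h2 : (-(d : ℤ) + (d : ℤ)) = 0 := by ring
  rw [h2] at h1
  exact isZero_T_of_iso e0 N p h1

end Groth.Agent.Lib.Helper43.TorDim
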