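import Mathlib.Tactic
import Groth.Prelude.Def_DRing2
import Groth.Agent.Lib.Helper43.TorDim
import Groth.Agent.Lib.Helper68.TorBaseChange
import Mathlib.LinearAlgebra.TensorProduct.Tower
import Mathlib.RingTheory.Flat.Basic

/-!
# Tor dimension of flat modules over an algebra of finite tor dimension (helper43)

If `B` is an `A`-algebra with `Tor_p^A(B, N) = 0` for `p > d` and all `N`, then every flat
`B`-module `M` has `Tor_p^A(M, N) = 0` for `p > d` and all `N`.
-/

set_option autoImplicit false
universe u

open CategoryTheory CategoryTheory.Limits MonoidalCategory TensorProduct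

namespace Groth.Agent.Lib.Helper43.TorRestrict

open Groth.Agent.Lib.Helper43 Groth.Agent.Lib.Helper43.TorDim Groth.Agent.Lib.Helper68
  Groth.Agent.Lib.Helper68.TorMod

section Elementwise

variable {A B : Type u} [CommRing A] [CommRing B] [Algebra A B]
  (M : Type u) [AddCommGroup M] [Module A M] [Module B M] [IsScalarTower A B M]
  {Y₁ Y₂ Y₃ : Type u} [AddCommGroup Y₁] [Module A Y₁] [AddCommGroup Y₂] [Module A Y₂]
  [AddCommGroup Y₃] [Module A Y₃]

/-- naturality of `cancelBaseChange` -/
lemma cancelBaseChange_natural (u : Y₁ →ₗ[A] Y₂) (w : M ⊗[B] (B ⊗[A] Y₁)) :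
    AlgebraTensorModule.cancelBaseChange A B B M Y₂ (((u.baseChange B).lTensor M) w) =
      (u.lTensor M) (AlgebraTensorModule.cancelBaseChange A B B M Y₁ w) := by
  induction w using TensorProduct.induction_on with
  | zero => simp
  | tmul m t =>
    induction t using TensorProduct.induction_on with
    | zero => simp
    | tmul b y => simp
    | add t₁ t₂ h₁ h₂ =>
      rw [TensorProduct.tmul_add, map_add, map_add, map_add, map_add, h₁, h₂]
  | add w₁ w₂ h₁ h₂ => rw [map_add, map_add, map_add, map_add, h₁, h₂]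

/-- exactness after `B ⊗_A -` gives exactness after `M ⊗_A -` for a flat `B`-module `M` -/
theorem exact_lTensor_of_flat_of_exact [Module.Flat B M] (u : Y₁ →ₗ[A] Y₂) (v : Y₂ →ₗ[A] Y₃)
    (h : Function.Exact (u.lTensor B) (v.lTensor B)) :
    Function.Exact (u.lTensor M) (v.lTensor M) := by
  have h' : Function.Exact (u.baseChange B) (v.baseChange B) := fun y => h y
  have h'' : Function.Exact ((u.baseChange B).lTensor M) ((v.baseChange B).lTensor M) :=
    Module.Flat.lTensor_exact M h'
  intro z
  obtain ⟨w, rfl⟩ := (AlgebraTensorModule.cancelBaseChange A B B M Y₂).surjective z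
  rw [← cancelBaseChange_natural M v w]
  constructor
  · intro hz
    have hz' : ((v.baseChange B).lTensor M) w = 0 :=
      (AlgebraTensorModule.cancelBaseChange A B B M Y₃).injective (hz.trans (map_zero _).symm)
    obtain ⟨w₁, hw₁⟩ := (h'' w).1 hz'
    exact ⟨AlgebraTensorModule.cancelBaseChange A B B M Y₁ w₁, by
      rw [← cancelBaseChange_natural M u w₁, hw₁]⟩
  · rintro ⟨z₁, hz₁⟩
    obtain ⟨w₁, rfl⟩ := (AlgebraTensorModule.cancelBaseChange A B B M Y₁).surjective z₁
    rw [← cancelBaseChange_natural M u w₁] at hz₁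
    have := (AlgebraTensorModule.cancelBaseChange A B B M Y₂).injective hz₁
    rw [(h'' w).2 ⟨w₁, this⟩, map_zero]

end Elementwise

section TorViaResolution

variable {A : Type u} [CommRing A]

/-- `Tor_{q+1}(X, N)` vanishes iff `X ⊗ Q` is exact in degree `q + 1` for a projective
resolution `Q` of `N` -/
lemma isZero_T_succ_iff (X N : ModuleCat.{u} A) (Q : ProjectiveResolution N) (q : ℕ) :
    IsZero (T (q + 1) X N) ↔
      Function.Exact ((Q.complex.d (q + 2) (q + 1)).hom.lTensor X)
        ((Q.complex.d (q + 1) q).hom.lTensor X) := by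
  have e := Q.isoLeftDerivedObj (tF X) (q + 1)
  have h1 : IsZero (T (q + 1) X N) ↔
      IsZero ((((tF X).mapHomologicalComplex _).obj Q.complex).homology (q + 1)) :=
    ⟨fun h => IsZero.of_iso h e.symm, fun h => IsZero.of_iso h e⟩
  rw [h1, ← HomologicalComplex.exactAt_iff_isZero_homology,
    HomologicalComplex.exactAt_iff' _ (q + 2) (q + 1) q (by simp) (by simp),
    ShortComplex.ShortExact.moduleCat_exact_iff_function_exact]
  rfl

end TorViaResolution

section Main

variable {A B : Type u} [CommRing A] [CommRing B] [Algebra A B]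

open Groth.Agent.Lib.Helper68.TorBaseChange

/-- **Flat modules over an algebra of tor dimension `≤ d` have tor dimension `≤ d`.** -/
theorem isZero_T_res_of_flat (d : ℕ)
    (hB : ∀ (N : ModuleCat.{u} A) (p : ℕ), d < p → IsZero (T p (ModuleCat.of A B) N))
    (M : ModuleCat.{u} B) [Module.Flat B M] (N : ModuleCat.{u} A) (p : ℕ) (hp : d < p) :
    IsZero (T p ((res A B).obj M) N) := by
  obtain ⟨q, rfl⟩ : ∃ q, p = q + 1 := ⟨p - 1, by omega⟩
  let Q : ProjectiveResolution N := projectiveResolution N
  rw [isZero_T_succ_iff _ N Q q]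
  have h := (isZero_T_succ_iff _ N Q q).1 (hB N (q + 1) hp)
  haveI : Module.Flat B ↑((res A B).obj M) := ‹Module.Flat B M›
  exact exact_lTensor_of_flat_of_exact (A := A) (B := B) ((res A B).obj M) _ _ h

end Main

end Groth.Agent.Lib.Helper43.TorRestrict
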