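import Mathlib.Tactic
import Groth.Agent.Lib.Helper43.ResLocal
import Groth.Agent.Lib.Helper43.RestrictSingle
import Groth.Agent.Lib.Helper25.KFlatRes
import Groth.Agent.S6946
import Groth.Agent.S6947
import Groth.Agent.Lib.Helper52.ExtScalRing

/-!
# Finite tor dimension of ring maps: composition and locality (helper43)
-/

set_option autoImplicit false
universe u
open CategoryTheory CategoryTheory.Limits MonoidalCategory DerivedCategory DRing
attribute [local instance] HasDerivedCategory.standard

namespace Groth.Agent.Lib.Helper43.FTDLocal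

open Groth.Agent.Lib.Helper25.TensorCx Groth.Agent.Lib.Helper25.KFlat
  Groth.Agent.Lib.Helper25.SingleTensor Groth.Agent.Lib.Helper84.FlatAmp
  Groth.Agent.Lib.Helper84 Groth.Agent.Lib.Helper15 Groth.Agent.Lib.Helper84.TensCx
  Groth.Agent.Lib.Helper84.FlatBC
open scoped TensorProduct

section Crit

variable {A B : Type u} [CommRing A] [CommRing B] (φ : A →+* B)

/-- the tor amplitude of `B` over `A` in terms of the complexes `B ⊗_A F` for K-flat resolutions
`F` of `A`-modules -/
theorem torAmp_modOf_iff (a b : ℤ) :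
    HasTorAmplitudeIn A a b (toD (sgl (ResLocal.modOf φ))) ↔
      ∀ (N : ModuleCat.{u} A) (F : DRing.Cx A), IsKFlat F → ∀ f : F ⟶ sgl N, QuasiIso f →
        ∀ i : ℤ, (i < a ∨ b < i) →
          (Groth.Agent.Lib.Helper25.KFlat.extCx φ F).ExactAt i := by
  rw [torAmp_iff_ltensor]
  have key : ∀ (N : ModuleCat.{u} A) (F : DRing.Cx A), IsKFlat F → ∀ f : F ⟶ sgl N, QuasiIso f →
      ∀ i : ℤ, (Subsingleton (Dual.HD A ((DRing.LTensor A N).obj
        (toD (sgl (ResLocal.modOf φ)))) i) ↔
        (Groth.Agent.Lib.Helper25.KFlat.extCx φ F).ExactAt i) := by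
    intro N F hF f hf i
    obtain ⟨e⟩ := ResTensor.nonempty_ltensor_iso N (sgl (ResLocal.modOf φ)) F hF f hf
    have e2 : resCx φ (Groth.Agent.Lib.Helper25.KFlat.extCx φ F) ≅
        (sgl (ResLocal.modOf φ) ⊗ F : DRing.Cx A) :=
      ResLocal.resExtIso φ F ≪≫ singleTensorIso (ResLocal.modOf φ) F
    constructor
    · intro h
      have h1 := exactAt_of_subsingleton_HD _ i (subsingleton_HD_of_iso e i h)
      exact (ResLocal.exactAt_res_iff φ _ i).1 (ResTensor.exactAt_of_iso e2.symm i h1)
    · intro h
      exact subsingleton_HD_of_iso e.symm i (subsingleton_HD_of_exactAt _ i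
        (ResTensor.exactAt_of_iso e2 i ((ResLocal.exactAt_res_iff φ _ i).2 h)))
  constructor
  · intro h N F hF f hf i hi
    exact (key N F hF f hf i).1 (h N i hi)
  · intro h N i hi
    obtain ⟨F, f, hF, -, hf, -⟩ :=
      Groth.Agent.Lib.Helper25.KFlatRes.exists_kflat_resolution (sgl N)
    exact (key N F hF f hf i).2 (h N F hF f hf i hi)

end Crit

section Away

variable {B : Type u} [CommRing B]

/-- exactness of a complex of modules can be checked on a cover by principal opens -/
theorem exactAt_of_forall_away (Z : DRing.Cx B) (i : ℤ) (s : Set B) (hs : Ideal.span s = ⊤)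
    (h : ∀ g : s,
      (Groth.Agent.Lib.Helper25.KFlat.extCx (algebraMap B (Localization.Away g.1)) Z).ExactAt i) :
    Z.ExactAt i := by
  rw [HomologicalComplex.exactAt_iff_isZero_homology]
  haveI : Subsingleton (Z.homology i) := by
    refine ⟨fun x y => ?_⟩
    refine Module.eq_of_isLocalized_span s hs
      (fun g => Localization.Away g.1 ⊗[B] (Z.homology i))
      (fun g => TensorProduct.mk B (Localization.Away g.1) (Z.homology i) 1) x y (fun g => ?_)
    haveI : PreservesFiniteLimits (ext (algebraMap B (Localization.Away g.1))) :=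
      preservesFiniteLimits_ext _ (RingHom.flat_algebraMap_iff.2
        (IsLocalization.flat (Localization.Away g.1) (Submonoid.powers g.1)))
    haveI : Subsingleton (Localization.Away g.1 ⊗[B] (Z.homology i)) := by
      refine FibreAmp.subsingleton_tensor_of_ext (B := Localization.Away g.1) _ ?_
      have h' := h g
      rw [HomologicalComplex.exactAt_iff_isZero_homology] at h'
      exact IsZero.of_iso h' (PCDescent.extHomologyIso _ Z i).symm
    exact Subsingleton.elim _ _
  exact ModuleCat.isZero_of_subsingleton _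

end Away


section FTD

/-- finite tor dimension as a property of ring homomorphisms -/
def FTD {R S : Type u} [CommRing R] [CommRing S] (f : R →+* S) : Prop :=
  letI := f.toAlgebra
  DRing.HasFiniteTorDim R S

/-- `S[0]` over `R` in terms of `modOf` -/
noncomputable def inDModOfIso {R S : Type u} [CommRing R] [CommRing S] [Algebra R S] :
    Dual.inD R S ≅ toD (sgl (ResLocal.modOf (algebraMap R S))) :=
  (DerivedCategory.singleFunctor (ModuleCat.{u} R) 0).mapIso
    (LinearEquiv.toModuleIso
      (show (ModuleCat.of R S) ≃ₗ[R]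
          ((ModuleCat.restrictScalars.{u} (algebraMap R S)).obj (ModuleCat.of S S)) from
        { AddEquiv.refl S with
          map_smul' := fun a m => by
            change a • (show S from m) = algebraMap R S a * (show S from m)
            rw [Algebra.smul_def] })) ≪≫
    (singleFunctorIsoCompQ (ModuleCat.{u} R) 0).app _

lemma ftd_iff_amp {R S : Type u} [CommRing R] [CommRing S] (f : R →+* S) :
    FTD f ↔ ∃ d : ℕ, HasTorAmplitudeIn R (-(d : ℤ)) 0 (toD (sgl (ResLocal.modOf f))) := by
  letI := f.toAlgebra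
  change (∃ d : ℕ, DRing.HasTorDimLE R d S) ↔ _
  refine exists_congr fun d => ?_
  rw [(Groth.Agent.S6946.result R S d).1]
  exact ⟨fun h => torAmp_of_iso h inDModOfIso, fun h => torAmp_of_iso h inDModOfIso.symm⟩

lemma FTD_of_flat {R S : Type u} [CommRing R] [CommRing S] (f : R →+* S) (hf : f.Flat) :
    FTD f := by
  letI := f.toAlgebra
  exact ⟨0, (Groth.Agent.S6946.result R S 0).2.2 hf⟩

lemma FTD_comp {R S T : Type u} [CommRing R] [CommRing S] [CommRing T] (f : R →+* S)
    (g : S →+* T) (hf : FTD f) (hg : FTD g) : FTD (g.comp f) := by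
  letI := f.toAlgebra
  letI := g.toAlgebra
  letI := (g.comp f).toAlgebra
  haveI : IsScalarTower R S T := IsScalarTower.of_algebraMap_eq (fun _ => rfl)
  obtain ⟨d₁, h₁⟩ := hf
  obtain ⟨d₂, h₂⟩ := hg
  refine ⟨d₂ + d₁, ?_⟩
  rw [(Groth.Agent.S6946.result R T (d₂ + d₁)).1]
  have h₁' := (Groth.Agent.S6946.result R S d₁).1.1 h₁
  have h₂' := (Groth.Agent.S6946.result S T d₂).1.1 h₂
  have h3 := Groth.Agent.S6947.result d₁ h₁' (Dual.inD S T) (-(d₂ : ℤ)) 0 h₂'
  have h4 := torAmp_of_iso h3 (RestrictSingle.restrictSingleIso R S T)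
  refine torAmp_mono h4 ?_ le_rfl
  push_cast
  lia

end FTD


section FTDLocal

lemma FTD_ofLocalizationFiniteSpanTarget : RingHom.OfLocalizationFiniteSpanTarget @FTD.{u} := by
  intro R S _ _ f s hs h
  have h' : ∀ g : s, ∃ d : ℕ, HasTorAmplitudeIn R (-(d : ℤ)) 0
      (toD (sgl (ResLocal.modOf ((algebraMap S (Localization.Away g.1)).comp f)))) :=
    fun g => (ftd_iff_amp _).1 (h g)
  choose d hd using h'
  rw [ftd_iff_amp]
  refine ⟨s.attach.sup d, ?_⟩
  rw [torAmp_modOf_iff]
  intro N F hF φ hφ i hi
  apply exactAt_of_forall_away _ i (s : Set S) hs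
  intro g
  have hle : d ⟨g.1, g.2⟩ ≤ s.attach.sup d := Finset.le_sup (f := d) (Finset.mem_attach s ⟨g.1, g.2⟩)
  have hg := torAmp_mono (hd ⟨g.1, g.2⟩) (a' := -((s.attach.sup d : ℕ) : ℤ)) (b' := 0)
    (by
      have : ((d ⟨g.1, g.2⟩ : ℕ) : ℤ) ≤ ((s.attach.sup d : ℕ) : ℤ) := by exact_mod_cast hle
      lia) le_rfl
  have h2 := (torAmp_modOf_iff _ _ _).1 hg N F hF φ hφ i hi
  exact ResTensor.exactAt_of_iso (FibreAmp.extCxComp f (algebraMap S _) F) i h2

lemma FTD_localizationAwayPreserves : RingHom.LocalizationAwayPreserves @FTD.{u} := by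
  intro R S _ _ f r R' S' _ _ _ _ _ _ hf
  letI algRS : Algebra R S := f.toAlgebra
  letI algR'S' : Algebra R' S' := (IsLocalization.Away.map R' S' f r).toAlgebra
  letI algRS' : Algebra R S' := ((algebraMap S S').comp f).toAlgebra
  haveI : IsScalarTower R S S' := IsScalarTower.of_algebraMap_eq (fun _ => rfl)
  haveI : IsScalarTower R R' S' := IsScalarTower.of_algebraMap_eq (fun x => by
    change (algebraMap S S') (f x) = (IsLocalization.Away.map R' S' f r) (algebraMap R R' x)
    exact (IsLocalization.map_eq _ x).symm)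
  obtain ⟨d, hd⟩ := hf
  refine ⟨d, ?_⟩
  rw [(Groth.Agent.S6946.result R' S' d).1]
  have h1 := (Groth.Agent.S6946.result R S d).1.1 hd
  haveI : PreservesFiniteLimits (ext (algebraMap R R')) :=
    preservesFiniteLimits_ext _ (RingHom.flat_algebraMap_iff.2
      (IsLocalization.flat R' (Submonoid.powers r)))
  have h2 := FlatBC.hasTorAmplitudeIn_bc (algebraMap R R') (-(d : ℤ)) 0 _ h1
  haveI : IsLocalization (Algebra.algebraMapSubmonoid S (Submonoid.powers r)) S' := by
    rw [Algebra.algebraMapSubmonoid_powers]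
    exact (inferInstance : IsLocalization.Away (f r) S')
  haveI : IsLocalizedModule (Submonoid.powers r) (IsScalarTower.toAlgHom R S S').toLinearMap :=
    (isLocalizedModule_iff_isLocalization).2 inferInstance
  have hbc : IsBaseChange R' (IsScalarTower.toAlgHom R S S').toLinearMap :=
    IsLocalizedModule.isBaseChange (Submonoid.powers r) R' _
  have e : (ext (algebraMap R R')).obj (ModuleCat.of R S) ≅ ModuleCat.of R' S' :=
    ((Groth.Agent.Lib.Helper52.ExtScalRing.eM R' (ModuleCat.of R S)).trans hbc.equiv).toModuleIso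
  exact torAmp_of_iso h2 (FlatBC.bcSingle (algebraMap R R') (ModuleCat.of R S) 0 ≪≫
    (DerivedCategory.singleFunctor (ModuleCat.{u} R') 0).mapIso e)

end FTDLocal

end Groth.Agent.Lib.Helper43.FTDLocal
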