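import Mathlib.Tactic
import Groth.Prelude.Def_DRing2
import Groth.Agent.Lib.Helper43.PCTower
import Groth.Agent.Lib.Helper15.PseudoCoh
import Mathlib.Algebra.Homology.DerivedCategory.SingleTriangle
import Groth.Agent.S6935

/-!
# Pseudo-coherent modules and complexes with pseudo-coherent terms (helper43)

* `isPC_of_iso`, `isPC_biprod`, `isPC_finiteFree`: closure properties of `m`-pseudo-coherent
  modules (`IsPseudoCoherent R m (single₀ X)`).
* `isPC_ker` : kernel of a surjection `M ↠ N` with `M` `(m+1)`-pc and `N` `m`-pc is `(m+1)`-pc.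
* `ker_d_isPC` : cocycles of a bounded above complex with `(m-i)`-pc terms, exact above `j`.
* `finite_homology_of_termwise` : the resulting finiteness of `H^j`.
* `isPseudoCoherent_of_termwise` : Stacks 064Y.
-/

set_option autoImplicit false
universe u

open CategoryTheory CategoryTheory.Limits CategoryTheory.Pretriangulated DerivedCategory
open CochainComplex

attribute [local instance] HasDerivedCategory.standard

namespace Groth.Agent.Lib.Helper43.PCModule

open DRing Groth.Agent.Lib.Helper43 Groth.Agent.Lib.Helper84 Groth.Agent.Lib.Helper15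
  Groth.Agent.Lib.Helper15.MQI

variable {R : Type u} [CommRing R]

/-- `m`-pseudo-coherence of a module in categorical form -/
abbrev IsPC (m : ℤ) (X : ModuleCat.{u} R) : Prop :=
  IsPseudoCoherent R m ((DerivedCategory.singleFunctor (ModuleCat.{u} R) 0).obj X)

lemma isPC_of_iso {m : ℤ} {X Y : ModuleCat.{u} R} (e : X ≅ Y) (h : IsPC m X) : IsPC m Y :=
  PseudoCoh.of_iso ((DerivedCategory.singleFunctor (ModuleCat.{u} R) 0).mapIso e) h

lemma isPC_of_le {m m' : ℤ} (hm : m ≤ m') {X : ModuleCat.{u} R} (h : IsPC m X) : IsPC m' X :=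
  PseudoCoh.of_le hm h

lemma isPC_of_isZero (m : ℤ) {X : ModuleCat.{u} R} (hX : IsZero X) : IsPC m X := by
  have hz : IsZero ((DerivedCategory.singleFunctor (ModuleCat.{u} R) 0).obj X) :=
    Functor.map_isZero _ hX
  haveI : ((DerivedCategory.singleFunctor (ModuleCat.{u} R) 0).obj X).IsLE (m - 1) :=
    TStructure.t.isLE_of_isZero hz _
  exact PseudoCoh.of_isLE m _

lemma isPC_biprod {m : ℤ} (X Y : ModuleCat.{u} R) (hX : IsPC m X) (hY : IsPC m Y) :
    IsPC m (X ⊞ Y) := by
  have hS : (ShortComplex.mk (biprod.inl : X ⟶ X ⊞ Y) (biprod.snd : X ⊞ Y ⟶ Y)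
      (by simp)).ShortExact :=
    (ShortComplex.Splitting.ofHasBinaryBiproduct X Y).shortExact
  exact PseudoCoh.obj₂ m _ hS.singleTriangle_distinguished hX hY

lemma isPC_finiteFree (m : ℤ) (X : ModuleCat.{u} R) (hX : Module.Finite R X ∧ Module.Free R X) :
    IsPC m X := by
  have e : toD ((CochainComplex.singleFunctor (ModuleCat.{u} R) 0).obj X) ≅
      (DerivedCategory.singleFunctor (ModuleCat.{u} R) 0).obj X := Iso.refl _
  refine (PseudoCoh.isPseudoCoherent_iff m _).2
    ⟨(CochainComplex.singleFunctor (ModuleCat.{u} R) 0).obj X, 0, 0, e.hom, ?_,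
      PCApprox.termwiseFiniteFree_single X hX 0, IsMQI.of_isIso m e.hom⟩
  intro i hi
  apply HomologicalComplex.isZero_single_obj_X
  lia

/-- Kernel of a surjection. -/
lemma isPC_ker {m : ℤ} {M N : Type u} [AddCommGroup M] [Module R M] [AddCommGroup N]
    [Module R N] (f : M →ₗ[R] N) (hf : Function.Surjective f)
    (hM : IsPC (m + 1) (ModuleCat.of R M)) (hN : IsPC m (ModuleCat.of R N)) :
    IsPC (m + 1) (ModuleCat.of R (LinearMap.ker f)) := by
  have hS := LinearMap.shortExact_shortComplexKer hf
  exact PseudoCoh.obj₁ m _ hS.singleTriangle_distinguished hM hN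

/-- Cocycles of a bounded above complex with `(m-i)`-pseudo-coherent terms which is exact above
degree `j`. -/
lemma ker_d_isPC (C : Cx R) (n m j : ℤ) (hn : ∀ i : ℤ, n < i → IsZero (C.X i))
    (hC : ∀ i : ℤ, IsPC (m - i) (C.X i)) (hex : ∀ i : ℤ, j < i → C.ExactAt i) :
    ∀ (k : ℕ) (i l : ℤ), j ≤ i → n < i + k → i + 1 = l →
      IsPC (m - i) (ModuleCat.of R (LinearMap.ker (C.d i l).hom)) := by
  intro k
  induction k with
  | zero =>
    intro i l _ hi _
    have hz : IsZero (C.X i) := hn i (by simpa using hi)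
    have : Subsingleton (C.X i) := ModuleCat.subsingleton_of_isZero hz
    have : Subsingleton (LinearMap.ker (C.d i l).hom) := inferInstance
    exact isPC_of_isZero _ (ModuleCat.isZero_of_subsingleton _)
  | succ k ih =>
    intro i l hji hi hil
    have h1 := ih (i + 1) (i + 2) (by lia) (by push_cast at hi ⊢; lia) (by ring)
    subst hil
    have hex' : C.ExactAt (i + 1) := hex (i + 1) (by lia)
    rw [HomologicalComplex.exactAt_iff' C i (i + 1) (i + 2) (by simp) (by simp; ring)] at hex'
    have hrange := (ShortComplex.moduleCat_exact_iff_range_eq_ker _).1 hex'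
    change LinearMap.range (C.d i (i + 1)).hom = LinearMap.ker (C.d (i + 1) (i + 2)).hom at hrange
    let g : C.X i →ₗ[R] LinearMap.ker (C.d (i + 1) (i + 2)).hom :=
      (C.d i (i + 1)).hom.codRestrict _ (fun x => by
        rw [← hrange]; exact ⟨x, rfl⟩)
    have hg : Function.Surjective g := by
      rintro ⟨y, hy⟩
      rw [← hrange] at hy
      obtain ⟨x, rfl⟩ := hy
      exact ⟨x, rfl⟩
    have hker : LinearMap.ker g = LinearMap.ker (C.d i (i + 1)).hom :=
      LinearMap.ker_codRestrict _ _ _
    have h2 : IsPC (m - i - 1 + 1) (ModuleCat.of R (C.X i)) := by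
      have := hC i
      rwa [show m - i - 1 + 1 = m - i by ring]
    have h3 : IsPC (m - i - 1)
        (ModuleCat.of R (LinearMap.ker (C.d (i + 1) (i + 2)).hom)) := by
      rwa [show m - i - 1 = m - (i + 1) by ring]
    have := isPC_ker g hg h2 h3
    rw [hker, show m - i - 1 + 1 = m - i by ring] at this
    exact this

/-- `0`-pseudo-coherent modules are finite -/
lemma finite_of_isPC {m : ℤ} (hm : m ≤ 0) (M : Type u) [AddCommGroup M] [Module R M]
    (h : IsPC m (ModuleCat.of R M)) : Module.Finite R M :=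
  (Groth.Agent.S6935.result R M).1.1 (isPC_of_le hm h)

/-- finiteness of the bottom cohomology -/
lemma finite_homology_of_termwise (C : Cx R) (n m j : ℤ) (hmj : m ≤ j)
    (hn : ∀ i : ℤ, n < i → IsZero (C.X i))
    (hC : ∀ i : ℤ, IsPC (m - i) (C.X i)) (hex : ∀ i : ℤ, j < i → C.ExactAt i) :
    Module.Finite R (C.homology j) := by
  obtain ⟨k, hk⟩ : ∃ k : ℕ, n < j + k := ⟨(n - j + 1).toNat, by lia⟩
  have h1 := ker_d_isPC C n m j hn hC hex k j ((ComplexShape.up ℤ).next j) le_rfl hk (by simp)
  let S := C.sc j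
  have e : C.homology j ≅ S.moduleCatLeftHomologyData.H := S.moduleCatHomologyIso
  change IsPC (m - j) (ModuleCat.of R (LinearMap.ker S.g.hom)) at h1
  haveI : Module.Finite R (LinearMap.ker S.g.hom) := finite_of_isPC (by lia) _ h1
  have h : Module.Finite R (LinearMap.ker S.g.hom ⧸ LinearMap.range S.moduleCatToCycles) :=
    inferInstance
  have h' : Module.Finite R S.moduleCatLeftHomologyData.H := h
  exact Module.Finite.equiv e.toLinearEquiv.symm

/-- vanishing of the cohomology of a bounded above complex -/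
lemma isZero_homology_of_vanishesAbove (K : Cx R) (b : ℤ) (hb : VanishesAbove K b) (i : ℤ)
    (hi : b < i) : IsZero ((homologyFunctor (ModuleCat.{u} R) i).obj (toD K)) := by
  refine IsZero.of_iso ?_ (PCHomology.homologyIso K i)
  rw [← HomologicalComplex.exactAt_iff_isZero_homology]
  exact ShortComplex.exact_of_isZero_X₂ _ (hb i hi)

/-- Stacks 064Y. -/
theorem isPseudoCoherent_of_termwise (K : Cx R) (b m : ℤ) (hb : VanishesAbove K b)
    (hK : ∀ i : ℤ, IsPC (m - i) (K.X i)) : IsPseudoCoherent R m (toD K) := by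
  refine PCTower.isPseudoCoherent_of_finCond K (Iso.refl _) b m
    (isZero_homology_of_vanishesAbove K b hb) ?_
  intro j hj _ F α hF hff hacyc
  haveI : Module.Finite R ((mappingCone α).homology j) := by
    refine finite_homology_of_termwise (mappingCone α) b m j hj
      (fun i hi => ConeRep.isZero_mappingCone_X α i (hF (i + 1) (Or.inr (by lia))) (hb i hi))
      (fun i => isPC_of_iso (ConeRep.mappingConeXIso α i).symm
        (isPC_biprod _ _ (isPC_finiteFree _ _ (hff (i + 1))) (hK i)))
      (fun i hi => PCHomology.exactAt_of_isZero _ i (hacyc i hi))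
  exact Module.Finite.equiv (PCHomology.homologyIso (mappingCone α) j).toLinearEquiv.symm

end Groth.Agent.Lib.Helper43.PCModule
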