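import Mathlib.Tactic
import Groth.Agent.Lib.Helper43.FlatFPPC
import Groth.Agent.Lib.Helper43.RestrictSingle
import Groth.Agent.Lib.Helper43.PCApprox
import Groth.Agent.S6940
import Groth.Agent.S2066
import Mathlib.Algebra.Homology.DerivedCategory.SingleTriangle

/-!
# Pseudo-coherent ring maps: independence of the presentation (helper43)

* `pc_indep` : if `C` is a pseudo-coherent module over `A[x_1, …, x_{n₁}]` for one surjection
  `φ₁ : A[x_1, …, x_{n₁}] → C`, then it is so for any other surjection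
  `φ₂ : A[y_1, …, y_{n₂}] → C`.
* `pc_ideal_iff_quotient` : an ideal `I` of `B` is a pseudo-coherent `B`-module iff `B ⧸ I` is.
* `pc_self` : `B` is a pseudo-coherent `B`-module.
-/

set_option autoImplicit false
universe u

open CategoryTheory CategoryTheory.Limits DerivedCategory DRing
attribute [local instance] HasDerivedCategory.standard

namespace Groth.Agent.Lib.Helper43.PCHomIndep

open Groth.Agent.Lib.Helper84 Groth.Agent.Lib.Helper15

/-- independence of the presentation -/
theorem pc_indep (A C : Type u) [CommRing A] [CommRing C] [Algebra A C] (n₁ n₂ : ℕ)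
    (φ₁ : MvPolynomial (Fin n₁) A →ₐ[A] C) (hφ₁ : Function.Surjective φ₁)
    (φ₂ : MvPolynomial (Fin n₂) A →ₐ[A] C) (hφ₂ : Function.Surjective φ₂)
    (h : letI := φ₁.toRingHom.toAlgebra
      DRing.IsPseudoCoherentModule' (MvPolynomial (Fin n₁) A) C) :
    letI := φ₂.toRingHom.toAlgebra
    DRing.IsPseudoCoherentModule' (MvPolynomial (Fin n₂) A) C := by
  classical
  choose q hq using fun j : Fin n₂ => hφ₁ (φ₂ (MvPolynomial.X j))
  choose p hp using fun i : Fin n₁ => hφ₂ (φ₁ (MvPolynomial.X i))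
  let π₁ : MvPolynomial (Fin (n₁ + n₂)) A →ₐ[A] MvPolynomial (Fin n₁) A :=
    MvPolynomial.aeval (Fin.addCases (fun i => MvPolynomial.X i) (fun j => q j))
  let π₂ : MvPolynomial (Fin (n₁ + n₂)) A →ₐ[A] MvPolynomial (Fin n₂) A :=
    MvPolynomial.aeval (Fin.addCases (fun i => p i) (fun j => MvPolynomial.X j))
  have hπ₁ : Function.Surjective π₁ := by
    let σ₁ : MvPolynomial (Fin n₁) A →ₐ[A] MvPolynomial (Fin (n₁ + n₂)) A :=
      MvPolynomial.aeval (fun i => MvPolynomial.X (Fin.castAdd n₂ i))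
    have hσ : π₁.comp σ₁ = AlgHom.id A _ := by
      apply MvPolynomial.algHom_ext
      intro i
      simp [π₁, σ₁]
    intro x
    exact ⟨σ₁ x, by rw [← AlgHom.comp_apply, hσ]; rfl⟩
  have hπ₂ : Function.Surjective π₂ := by
    let σ₂ : MvPolynomial (Fin n₂) A →ₐ[A] MvPolynomial (Fin (n₁ + n₂)) A :=
      MvPolynomial.aeval (fun j => MvPolynomial.X (Fin.natAdd n₁ j))
    have hσ : π₂.comp σ₂ = AlgHom.id A _ := by
      apply MvPolynomial.algHom_ext
      intro i
      simp [π₂, σ₂]
    intro x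
    exact ⟨σ₂ x, by rw [← AlgHom.comp_apply, hσ]; rfl⟩
  have hcomp : φ₁.comp π₁ = φ₂.comp π₂ := by
    apply MvPolynomial.algHom_ext
    intro t
    refine Fin.addCases (fun i => ?_) (fun j => ?_) t
    · simp [π₁, π₂, hp]
    · simp [π₁, π₂, hq]
  have h₁ := FlatFPPC.pc_of_flat_fp A (MvPolynomial (Fin n₁) A) (n₁ + n₂) π₁ hπ₁
  have h₂ := FlatFPPC.pc_of_flat_fp A (MvPolynomial (Fin n₂) A) (n₁ + n₂) π₂ hπ₂
  letI a₁ : Algebra (MvPolynomial (Fin (n₁ + n₂)) A) (MvPolynomial (Fin n₁) A) :=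
    π₁.toRingHom.toAlgebra
  letI a₂ : Algebra (MvPolynomial (Fin (n₁ + n₂)) A) (MvPolynomial (Fin n₂) A) :=
    π₂.toRingHom.toAlgebra
  letI c₁ : Algebra (MvPolynomial (Fin n₁) A) C := φ₁.toRingHom.toAlgebra
  letI c₂ : Algebra (MvPolynomial (Fin n₂) A) C := φ₂.toRingHom.toAlgebra
  letI c : Algebra (MvPolynomial (Fin (n₁ + n₂)) A) C := (φ₁.comp π₁).toRingHom.toAlgebra
  haveI : IsScalarTower (MvPolynomial (Fin (n₁ + n₂)) A) (MvPolynomial (Fin n₁) A) C :=
    IsScalarTower.of_algebraMap_eq (fun _ => rfl)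
  haveI : IsScalarTower (MvPolynomial (Fin (n₁ + n₂)) A) (MvPolynomial (Fin n₂) A) C :=
    IsScalarTower.of_algebraMap_eq (fun x => congrArg (fun f => f x) hcomp)
  have hC'' : DRing.IsPseudoCoherent' (MvPolynomial (Fin (n₁ + n₂)) A)
      (Dual.inD (MvPolynomial (Fin (n₁ + n₂)) A) C) :=
    DRingPC.isPseudoCoherent'_of_iso
      (RestrictSingle.restrictSingleIso (MvPolynomial (Fin (n₁ + n₂)) A)
        (MvPolynomial (Fin n₁) A) C)
      ((Groth.Agent.S6940.result h₁ (Dual.inD (MvPolynomial (Fin n₁) A) C) 0).2.1 h)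
  exact (Groth.Agent.S6940.result h₂ (Dual.inD (MvPolynomial (Fin n₂) A) C) 0).2.2
    (DRingPC.isPseudoCoherent'_of_iso
      (RestrictSingle.restrictSingleIso (MvPolynomial (Fin (n₁ + n₂)) A)
        (MvPolynomial (Fin n₂) A) C).symm hC'')


/-- a ring is a pseudo-coherent module over itself -/
theorem pc_self (B : Type u) [CommRing B] : DRing.IsPseudoCoherentModule' B B := by
  refine ⟨(CochainComplex.singleFunctor (ModuleCat.{u} B) 0).obj (ModuleCat.of B B), 0, ?_,
    PCApprox.termwiseFiniteFree_single (ModuleCat.of B B)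
      ⟨inferInstanceAs (Module.Finite B B), inferInstanceAs (Module.Free B B)⟩ 0,
    ⟨((singleFunctorIsoCompQ (ModuleCat.{u} B) 0).app (ModuleCat.of B B)).symm⟩⟩
  intro i hi
  exact HomologicalComplex.isZero_single_obj_X _ _ _ _ (by lia)

/-- the short exact sequence `0 → I → B → B ⧸ I → 0` -/
noncomputable def idealSC {B : Type u} [CommRing B] (I : Ideal B) :
    ShortComplex (ModuleCat.{u} B) :=
  ModuleCat.shortComplexOfCompEqZero (Submodule.subtype I) (Submodule.mkQ I) (by
    ext x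
    exact (Submodule.Quotient.mk_eq_zero I).2 x.2)

lemma idealSC_shortExact {B : Type u} [CommRing B] (I : Ideal B) : (idealSC I).ShortExact :=
  ModuleCat.shortComplex_shortExact _ (LinearMap.exact_subtype_mkQ I)
    (Submodule.injective_subtype I) (Submodule.mkQ_surjective I)

/-- an ideal is pseudo-coherent iff its quotient is -/
theorem pc_ideal_iff_quotient {B : Type u} [CommRing B] (I : Ideal B) :
    DRing.IsPseudoCoherentModule' B ↥I ↔ DRing.IsPseudoCoherentModule' B (B ⧸ I) := by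
  have hT := (idealSC_shortExact I).singleTriangle_distinguished
  have hB : PseudoCoh.PCAll B (Dual.inD B B) := (Groth.Agent.S2066.result _).1.2 (pc_self B)
  constructor
  · intro h
    have h1 : PseudoCoh.PCAll B (Dual.inD B ↥I) := (Groth.Agent.S2066.result _).1.2 h
    exact (Groth.Agent.S2066.result _).1.1
      (PseudoCoh.PCAll.obj₃ _ hT h1 hB)
  · intro h
    have h3 : PseudoCoh.PCAll B (Dual.inD B (B ⧸ I)) := (Groth.Agent.S2066.result _).1.2 h
    exact (Groth.Agent.S2066.result _).1.1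
      (PseudoCoh.PCAll.obj₁ _ hT hB h3)

end Groth.Agent.Lib.Helper43.PCHomIndep
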