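import Mathlib.Tactic
import Groth.Agent.Lib.Helper43.PCHomIndep
import Groth.Agent.Lib.Helper15.PseudoCohZariski
import Groth.Agent.Lib.Helper15.PseudoCohFinite
import Groth.Agent.S7068
import Groth.Prelude.Def_MoreMor

/-!
# Pseudo-coherent ring maps: composition, cancellation, locality (helper43)

Bridge between `MoreMor.IsPseudoCoherentHom A B` and helper15's relative pseudo-coherence
`DerCA.IsRelPseudoCoherentModuleAll A B B`, and the resulting permanence properties.
-/

set_option autoImplicit false
universe u

open CategoryTheory CategoryTheory.Limits DerivedCategory DRing DerCA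
attribute [local instance] HasDerivedCategory.standard

namespace Groth.Agent.Lib.Helper43.PCHomLocal

open Groth.Agent.Lib.Helper84 Groth.Agent.Lib.Helper15 Groth.Agent.Lib.Helper15.PseudoCohRel
  Groth.Agent.Lib.Helper15.PseudoCohFinite

variable {A B : Type u} [CommRing A] [CommRing B] [Algebra A B]

/-- for a fixed presentation: `B` is a pseudo-coherent module over the polynomial ring iff `B[0]`
is relatively pseudo-coherent in all degrees via the presentation -/
lemma pc_module_iff_via {n : ℕ} (φ : MvPolynomial (Fin n) A →ₐ[A] B) :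
    (letI := φ.toRingHom.toAlgebra
     DRing.IsPseudoCoherentModule' (MvPolynomial (Fin n) A) B) ↔
      ∀ m : ℤ, IsRelPseudoCoherentVia φ m (Dual.inD B B) := by
  letI alg : Algebra (MvPolynomial (Fin n) A) B := φ.toRingHom.toAlgebra
  have e : (restrictD (φ : MvPolynomial (Fin n) A →+* B)).obj (Dual.inD B B) ≅
      Dual.inD (MvPolynomial (Fin n) A) B :=
    RestrictSingle.restrictSingleIso (MvPolynomial (Fin n) A) B B
  constructor
  · intro h m
    exact PseudoCoh.of_iso e.symm ((Groth.Agent.S2066.result _).1.2 h m)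
  · intro h
    exact (Groth.Agent.S2066.result _).1.1 (fun m => PseudoCoh.of_iso e (h m))

/-- the bridge -/
theorem pcHom_iff_rel :
    MoreMor.IsPseudoCoherentHom A B ↔ IsRelPseudoCoherentModuleAll A B B := by
  constructor
  · rintro ⟨n, φ, hφ, h⟩ m
    exact ⟨n, φ, hφ, (pc_module_iff_via φ).1 h m⟩
  · intro h
    obtain ⟨n, φ, hφ, -⟩ := h 0
    exact ⟨n, φ, hφ, (pc_module_iff_via φ).2 ((isRelAll_iff_via φ hφ _).1 h)⟩

lemma finiteType_of_pcHom (h : MoreMor.IsPseudoCoherentHom A B) : Algebra.FiniteType A B := by
  obtain ⟨n, φ, hφ, -⟩ := h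
  exact Algebra.FiniteType.of_surjective φ hφ

section Tower

variable {R : Type u} [CommRing R] [Algebra R A] [Algebra R B] [IsScalarTower R A B]

/-- composition of pseudo-coherent ring maps -/
theorem pcHom_comp (h₁ : MoreMor.IsPseudoCoherentHom R A) (h₂ : MoreMor.IsPseudoCoherentHom A B) :
    MoreMor.IsPseudoCoherentHom R B := by
  haveI := finiteType_of_pcHom h₁
  haveI := finiteType_of_pcHom h₂
  haveI : Algebra.FiniteType R B := Algebra.FiniteType.trans (S := A) inferInstance inferInstance
  rw [pcHom_iff_rel] at h₁ h₂ ⊢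
  intro m
  exact (rel_base_iff h₁ _ m).1 (h₂ m)

/-- cancellation for pseudo-coherent ring maps -/
theorem pcHom_cancel (h₁ : MoreMor.IsPseudoCoherentHom R A) (h₂ : MoreMor.IsPseudoCoherentHom R B) :
    MoreMor.IsPseudoCoherentHom A B := by
  haveI := finiteType_of_pcHom h₁
  haveI := finiteType_of_pcHom h₂
  haveI : Algebra.FiniteType A B := Algebra.FiniteType.of_restrictScalars_finiteType R A B
  rw [pcHom_iff_rel] at h₁ h₂ ⊢
  intro m
  exact (rel_base_iff h₁ _ m).2 (h₂ m)

end Tower


/-- pseudo-coherence as a property of ring homomorphisms -/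
def PCQ {R S : Type u} [CommRing R] [CommRing S] (f : R →+* S) : Prop :=
  @MoreMor.IsPseudoCoherentHom R S _ _ f.toAlgebra

lemma PCQ_algebraMap {R S : Type u} [CommRing R] [CommRing S] [alg : Algebra R S] :
    PCQ (algebraMap R S) ↔ MoreMor.IsPseudoCoherentHom R S := by
  have h : (algebraMap R S).toAlgebra = alg := Algebra.algebra_ext _ _ (fun r => rfl)
  unfold PCQ
  rw [h]

lemma PCQ_stableUnderComposition : RingHom.StableUnderComposition @PCQ.{u} := by
  intro R S T _ _ _ f g hf hg
  letI := f.toAlgebra
  letI := g.toAlgebra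
  letI := (g.comp f).toAlgebra
  haveI : IsScalarTower R S T := IsScalarTower.of_algebraMap_eq (fun _ => rfl)
  exact pcHom_comp (R := R) (A := S) (B := T) hf hg

lemma PCQ_of_flat_fp {R S : Type u} [CommRing R] [CommRing S] [Algebra R S] [Module.Flat R S]
    [Algebra.FinitePresentation R S] : PCQ (algebraMap R S) :=
  PCQ_algebraMap.2 (Groth.Agent.S7068.result R S).1

lemma PCQ_holdsForLocalizationAway : RingHom.HoldsForLocalizationAway @PCQ.{u} := by
  intro R S _ _ _ r _
  haveI : Module.Flat R S := IsLocalization.flat S (Submonoid.powers r)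
  haveI : Algebra.FinitePresentation R S := IsLocalization.Away.finitePresentation r
  exact PCQ_of_flat_fp

lemma PCQ_cancel {R S T : Type u} [CommRing R] [CommRing S] [CommRing T] (f : R →+* S)
    (g : S →+* T) (hf : PCQ f) (hgf : PCQ (g.comp f)) : PCQ g := by
  letI := f.toAlgebra
  letI := g.toAlgebra
  letI := (g.comp f).toAlgebra
  haveI : IsScalarTower R S T := IsScalarTower.of_algebraMap_eq (fun _ => rfl)
  exact pcHom_cancel (R := R) (A := S) (B := T) hf hgf

lemma PCQ_localizationAwayPreserves : RingHom.LocalizationAwayPreserves @PCQ.{u} := by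
  intro R S _ _ f r R' S' _ _ _ _ _ _ hf
  have h1 : PCQ (algebraMap R R') := PCQ_holdsForLocalizationAway R' r
  have h2 : PCQ ((algebraMap S S').comp f) :=
    PCQ_stableUnderComposition f (algebraMap S S') hf (PCQ_holdsForLocalizationAway S' (f r))
  refine PCQ_cancel (algebraMap R R') _ h1 ?_
  have h3 : (IsLocalization.Away.map R' S' f r).comp (algebraMap R R') =
      (algebraMap S S').comp f := IsLocalization.map_comp _
  rw [h3]
  exact h2


section Glue

open TensorProduct

/-- `S' ⊗_S S ≅ S'` as objects of `ModuleCat S'` -/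
noncomputable def extSelfIso (S S' : Type u) [CommRing S] [CommRing S'] [Algebra S S'] :
    (ModuleCat.extendScalars.{u, u, u} (algebraMap S S')).obj (ModuleCat.of S S) ≅
      ModuleCat.of S' S' :=
  ((Groth.Agent.Lib.Helper52.ExtScalRing.eM S' (ModuleCat.of S S)).trans
    (TensorProduct.AlgebraTensorModule.rid S S' S')).toModuleIso

/-- base change of `S[0]` is `S'[0]` -/
noncomputable def extSingleSelfIso (S S' : Type u) [CommRing S] [CommRing S'] [Algebra S S'] :
    toD ((FlatBC.extCx (algebraMap S S')).obj
      ((CochainComplex.singleFunctor (ModuleCat.{u} S) 0).obj (ModuleCat.of S S))) ≅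
      Dual.inD S' S' :=
  Q.mapIso ((HomologicalComplex.singleMapHomologicalComplex
      (ModuleCat.extendScalars.{u, u, u} (algebraMap S S')) (ComplexShape.up ℤ) 0).app
        (ModuleCat.of S S)) ≪≫
    ((singleFunctorIsoCompQ (ModuleCat.{u} S') 0).app _).symm ≪≫
    (DerivedCategory.singleFunctor (ModuleCat.{u} S') 0).mapIso (extSelfIso S S')

lemma PCQ_ofLocalizationFiniteSpanTarget : RingHom.OfLocalizationFiniteSpanTarget @PCQ.{u} := by
  intro R S _ _ f s hs h
  letI := f.toAlgebra
  haveI : Algebra.FiniteType R S := by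
    have h1 : f.FiniteType := by
      refine RingHom.finiteType_ofLocalizationSpanTarget f (s : Set S) hs (fun r => ?_)
      exact @finiteType_of_pcHom R (Localization.Away r.1) _ _
        ((algebraMap S (Localization.Away r.1)).comp f).toAlgebra (h ⟨r.1, r.2⟩)
    exact h1
  change MoreMor.IsPseudoCoherentHom R S
  rw [pcHom_iff_rel]
  intro m
  let g : Fin s.card → S := fun i => (s.equivFin.symm i).1
  have hg : Ideal.span (Set.range g) = ⊤ := by
    have : Set.range g = (s : Set S) := by
      ext x
      constructor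
      · rintro ⟨i, rfl⟩
        exact (s.equivFin.symm i).2
      · intro hx
        exact ⟨s.equivFin ⟨x, hx⟩, by simp [g]⟩
    rw [this, hs]
  refine rel_of_iso ((singleFunctorIsoCompQ (ModuleCat.{u} S) 0).app (ModuleCat.of S S)).symm
    (PseudoCohZariski.rel_of_cover
      ((CochainComplex.singleFunctor (ModuleCat.{u} S) 0).obj (ModuleCat.of S S)) m g hg
      (fun i => ?_))
  have hi := h ⟨g i, (s.equivFin.symm i).2⟩
  have halg : ((algebraMap S (Localization.Away (g i))).comp f).toAlgebra =
      (inferInstance : Algebra R (Localization.Away (g i))) :=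
    Algebra.algebra_ext _ _ (fun r => (IsScalarTower.algebraMap_apply R S _ r).symm)
  unfold PCQ at hi
  rw [halg] at hi
  exact rel_of_iso (extSingleSelfIso S (Localization.Away (g i))).symm (pcHom_iff_rel.1 hi m)

end Glue


lemma PCQ_stableUnderCompositionWithLocalizationAwaySource :
    RingHom.StableUnderCompositionWithLocalizationAwaySource @PCQ.{u} :=
  fun _ S _ _ _ _ _ r _ f hf =>
    PCQ_stableUnderComposition (algebraMap _ S) f (PCQ_holdsForLocalizationAway S r) hf

lemma PCQ_stableUnderCompositionWithLocalizationAwayTarget :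
    RingHom.StableUnderCompositionWithLocalizationAwayTarget @PCQ.{u} :=
  fun _ _ T _ _ _ _ s _ f hf =>
    PCQ_stableUnderComposition f (algebraMap _ T) hf (PCQ_holdsForLocalizationAway T s)

lemma PCQ_ofLocalizationSpanTarget : RingHom.OfLocalizationSpanTarget @PCQ.{u} :=
  (RingHom.ofLocalizationSpanTarget_iff_finite _).2 PCQ_ofLocalizationFiniteSpanTarget

/-- **Pseudo-coherence of ring maps is a local property.** -/
theorem PCQ_propertyIsLocal : RingHom.PropertyIsLocal @PCQ.{u} where
  localizationAwayPreserves := PCQ_localizationAwayPreserves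
  ofLocalizationSpanTarget := PCQ_ofLocalizationSpanTarget
  ofLocalizationSpan := PCQ_ofLocalizationSpanTarget.ofLocalizationSpan
    PCQ_stableUnderCompositionWithLocalizationAwaySource
  StableUnderCompositionWithLocalizationAwayTarget :=
    PCQ_stableUnderCompositionWithLocalizationAwayTarget


section Finite

/-- relative pseudo-coherence over `A` itself is pseudo-coherence -/
lemma relAll_self_iff {A : Type u} [CommRing A] (K : Dual.D A) :
    IsRelPseudoCoherentAll A A K ↔ PseudoCoh.PCAll A K := by
  let α₀ : MvPolynomial (Fin 0) A →ₐ[A] A := MvPolynomial.aeval Fin.elim0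
  have hα₀ : Function.Surjective α₀ := fun a => ⟨MvPolynomial.C a, by simp [α₀]⟩
  have hA₀ := FlatFPPC.pc_of_flat_fp A A 0 α₀ hα₀
  rw [isRelAll_iff_via α₀ hα₀]
  letI : Algebra (MvPolynomial (Fin 0) A) A := α₀.toRingHom.toAlgebra
  exact forall_congr' fun m => (Groth.Agent.S6940.result hA₀ K m).1.symm

/-- for a finite ring map, being a pseudo-coherent ring map means being a pseudo-coherent
module -/
theorem pcHom_iff_of_finite {A B : Type u} [CommRing A] [CommRing B] [Algebra A B]
    [Module.Finite A B] :
    MoreMor.IsPseudoCoherentHom A B ↔ DRing.IsPseudoCoherentModule' A B := by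
  rw [pcHom_iff_rel]
  have h1 : IsRelPseudoCoherentModuleAll A B B ↔
      IsRelPseudoCoherentAll A A ((restrictD (algebraMap A B)).obj (Dual.inD B B)) :=
    forall_congr' fun m => rel_iff_of_finite (R := A) (A := A) (B := B) _ m
  rw [h1, relAll_self_iff]
  have e : (restrictD (algebraMap A B)).obj (Dual.inD B B) ≅ Dual.inD A B :=
    RestrictSingle.restrictSingleIso A B B
  constructor
  · intro h
    exact (Groth.Agent.S2066.result _).1.1 (PseudoCoh.PCAll.of_iso e h)
  · intro h
    exact PseudoCoh.PCAll.of_iso e.symm ((Groth.Agent.S2066.result _).1.2 h)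

end Finite

end Groth.Agent.Lib.Helper43.PCHomLocal
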