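import Mathlib.Tactic
import Groth.Agent.Lib.Helper43.PCHomLocal
import Mathlib.AlgebraicGeometry.Morphisms.RingHomProperties

/-!
# Pseudo-coherent morphisms of schemes as a `HasRingHomProperty` (helper43)
-/

set_option autoImplicit false
universe u

open CategoryTheory AlgebraicGeometry

namespace Groth.Agent.Lib.Helper43.PCMor

open Groth.Agent.Lib.Helper43.PCHomLocal

/-- pseudo-coherent morphisms as a morphism property -/
def pcMor : MorphismProperty Scheme.{u} := fun _ _ f => MoreMor.IsPseudoCoherentMor f

lemma pcMor_iff {X Y : Scheme.{u}} (f : X ⟶ Y) : pcMor f ↔ MoreMor.IsPseudoCoherentMor f := Iff.rfl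

instance : HasRingHomProperty pcMor.{u} @PCQ.{u} where
  isLocal_ringHomProperty := PCQ_propertyIsLocal
  eq_affineLocally' := by
    ext X Y f
    rw [affineLocally_iff_forall_isAffineOpen]
    constructor
    · intro h U hU V hV e
      exact h V U hV hU e
    · intro h U V hU hV e
      exact h hV hU e

end Groth.Agent.Lib.Helper43.PCMor
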