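import Mathlib.Tactic
import Groth.Agent.Lib.Helper43.PCMor
import Groth.Agent.Lib.Helper43.FTDLocal

/-!
# Perfect ring maps and perfect morphisms of schemes as a local property (helper43)
-/

set_option autoImplicit false
universe u

open CategoryTheory AlgebraicGeometry

namespace Groth.Agent.Lib.Helper43.PerfMor

open Groth.Agent.Lib.Helper43.PCHomLocal Groth.Agent.Lib.Helper43.FTDLocal

/-- perfect ring maps as a property of ring homomorphisms -/
def PerfQ {R S : Type u} [CommRing R] [CommRing S] (f : R →+* S) : Prop :=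
  letI := f.toAlgebra
  MoreMor.IsPerfectHom R S

lemma perfQ_iff {R S : Type u} [CommRing R] [CommRing S] (f : R →+* S) :
    PerfQ f ↔ PCQ f ∧ FTD f := Iff.rfl

lemma PerfQ_stableUnderComposition : RingHom.StableUnderComposition @PerfQ.{u} :=
  fun _ _ _ _ _ _ f g hf hg =>
    ⟨PCQ_stableUnderComposition f g hf.1 hg.1, FTD_comp f g hf.2 hg.2⟩

lemma PerfQ_holdsForLocalizationAway : RingHom.HoldsForLocalizationAway @PerfQ.{u} := by
  intro R S _ _ _ r _
  exact ⟨PCQ_holdsForLocalizationAway S r, FTD_of_flat _ (RingHom.flat_algebraMap_iff.2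
    (IsLocalization.flat S (Submonoid.powers r)))⟩

lemma PerfQ_localizationAwayPreserves : RingHom.LocalizationAwayPreserves @PerfQ.{u} :=
  fun _ _ _ _ f r R' S' _ _ _ _ _ _ hf =>
    ⟨PCQ_localizationAwayPreserves f r R' S' hf.1, FTD_localizationAwayPreserves f r R' S' hf.2⟩

lemma PerfQ_ofLocalizationFiniteSpanTarget :
    RingHom.OfLocalizationFiniteSpanTarget @PerfQ.{u} :=
  fun _ _ _ _ f s hs h =>
    ⟨PCQ_ofLocalizationFiniteSpanTarget f s hs (fun r => (h r).1),
      FTD_ofLocalizationFiniteSpanTarget f s hs (fun r => (h r).2)⟩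

lemma PerfQ_stableUnderCompositionWithLocalizationAwaySource :
    RingHom.StableUnderCompositionWithLocalizationAwaySource @PerfQ.{u} :=
  fun _ S _ _ _ _ _ r _ f hf =>
    PerfQ_stableUnderComposition (algebraMap _ S) f (PerfQ_holdsForLocalizationAway S r) hf

lemma PerfQ_stableUnderCompositionWithLocalizationAwayTarget :
    RingHom.StableUnderCompositionWithLocalizationAwayTarget @PerfQ.{u} :=
  fun _ _ T _ _ _ _ s _ f hf =>
    PerfQ_stableUnderComposition f (algebraMap _ T) hf (PerfQ_holdsForLocalizationAway T s)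

lemma PerfQ_ofLocalizationSpanTarget : RingHom.OfLocalizationSpanTarget @PerfQ.{u} :=
  (RingHom.ofLocalizationSpanTarget_iff_finite _).2 PerfQ_ofLocalizationFiniteSpanTarget

/-- **Perfectness of ring maps is a local property.** -/
theorem PerfQ_propertyIsLocal : RingHom.PropertyIsLocal @PerfQ.{u} where
  localizationAwayPreserves := PerfQ_localizationAwayPreserves
  ofLocalizationSpanTarget := PerfQ_ofLocalizationSpanTarget
  ofLocalizationSpan := PerfQ_ofLocalizationSpanTarget.ofLocalizationSpan
    PerfQ_stableUnderCompositionWithLocalizationAwaySource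
  StableUnderCompositionWithLocalizationAwayTarget :=
    PerfQ_stableUnderCompositionWithLocalizationAwayTarget

/-- perfect morphisms as a morphism property -/
def perfMor : MorphismProperty Scheme.{u} := fun _ _ f => MoreMor.IsPerfectMor f

lemma perfMor_iff {X Y : Scheme.{u}} (f : X ⟶ Y) : perfMor f ↔ MoreMor.IsPerfectMor f := Iff.rfl

instance : HasRingHomProperty perfMor.{u} @PerfQ.{u} where
  isLocal_ringHomProperty := PerfQ_propertyIsLocal
  eq_affineLocally' := by
    ext X Y f
    rw [affineLocally_iff_forall_isAffineOpen]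
    constructor
    · intro h U hU V hV e
      exact h V U hV hU e
    · intro h U V hU hV e
      exact h hV hU e

end Groth.Agent.Lib.Helper43.PerfMor
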