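import Mathlib.Tactic
import Groth.Agent.Lib.Helper43.PerfMor
import Groth.Agent.Lib.Helper84.FlatBC
import Groth.Agent.Lib.Helper84.DRingPC
import Mathlib.AlgebraicGeometry.Morphisms.Flat
import Mathlib.AlgebraicGeometry.Pullbacks

/-!
# Flat base change of pseudo-coherent and perfect ring maps / morphisms (helper43)

* `pcHom_tensor`, `ftd_tensor`: ring level, `R → S` pseudo-coherent (resp. of finite tor dimension),
  `R → R'` flat, then so is `R' → R' ⊗[R] S`.
* `FlatBaseChange Q`: the flat-base-change property for properties of ring maps;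
  `PCQ_flatBaseChange`, `FTD_flatBaseChange`, `PerfQ_flatBaseChange`.
* `pullback_snd_of_flat`, `of_isPullback_of_flat`: a `HasRingHomProperty P Q` with `Q` having the
  flat-base-change property is stable under flat base change of schemes.
-/

set_option autoImplicit false
universe u

open CategoryTheory CategoryTheory.Limits DerivedCategory DRing AlgebraicGeometry Opposite
attribute [local instance] HasDerivedCategory.standard

namespace Groth.Agent.Lib.Helper43.FlatBaseChangeHom

open Groth.Agent.Lib.Helper84 Groth.Agent.Lib.Helper43.PCHomLocal Groth.Agent.Lib.Helper43.FTDLocal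
open TensorProduct

/-- transport of pseudo-coherent ring maps along an algebra isomorphism of the target -/
lemma pcHom_of_algEquiv {A B C : Type u} [CommRing A] [CommRing B] [CommRing C] [Algebra A B]
    [Algebra A C] (e : B ≃ₐ[A] C) (h : MoreMor.IsPseudoCoherentHom A B) :
    MoreMor.IsPseudoCoherentHom A C := by
  obtain ⟨n, φ, hφ, hpc⟩ := h
  refine ⟨n, (e : B →ₐ[A] C).comp φ, e.surjective.comp hφ, ?_⟩
  letI algB : Algebra (MvPolynomial (Fin n) A) B := φ.toRingHom.toAlgebra
  letI algC : Algebra (MvPolynomial (Fin n) A) C := ((e : B →ₐ[A] C).comp φ).toRingHom.toAlgebra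
  let e' : B ≃ₗ[MvPolynomial (Fin n) A] C :=
    { e.toLinearEquiv.toAddEquiv with
      map_smul' := fun p b => by
        change e (φ p * b) = e (φ p) * e b
        exact map_mul e _ _ }
  exact DRingPC.isPseudoCoherent'_of_iso
    ((DerivedCategory.singleFunctor (ModuleCat.{u} (MvPolynomial (Fin n) A)) 0).mapIso
      e'.toModuleIso) hpc

attribute [local instance] MvPolynomial.algebraMvPolynomial

lemma flat_mvPolynomial (R R' : Type u) [CommRing R] [CommRing R'] [Algebra R R'] [Module.Flat R R']
    (n : ℕ) : Module.Flat (MvPolynomial (Fin n) R) (MvPolynomial (Fin n) R') := by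
  haveI : Algebra.IsPushout R (MvPolynomial (Fin n) R) R' (MvPolynomial (Fin n) R') :=
    Algebra.IsPushout.symm inferInstance
  exact Module.Flat.of_linearEquiv
    (Algebra.IsPushout.equiv R (MvPolynomial (Fin n) R) R'
      (MvPolynomial (Fin n) R')).symm.toLinearEquiv

theorem pcHom_tensor (R S R' : Type u) [CommRing R] [CommRing S] [CommRing R'] [Algebra R S]
    [Algebra R R'] [Module.Flat R R'] (h : MoreMor.IsPseudoCoherentHom R S) :
    MoreMor.IsPseudoCoherentHom R' (R' ⊗[R] S) := by
  obtain ⟨n, φ, hφ, hpc⟩ := h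
  letI algPS : Algebra (MvPolynomial (Fin n) R) S := φ.toRingHom.toAlgebra
  haveI : IsScalarTower R (MvPolynomial (Fin n) R) S :=
    IsScalarTower.of_algebraMap_eq (fun r => (φ.commutes r).symm)
  haveI := flat_mvPolynomial R R' n
  have hC : DRing.IsPseudoCoherentModule' (MvPolynomial (Fin n) R')
      (MvPolynomial (Fin n) R' ⊗[MvPolynomial (Fin n) R] S) :=
    FlatBC.module_baseChange S (IsPseudoCoherent' _) (IsPseudoCoherent' _)
      (fun X Y e => DRingPC.isPseudoCoherent'_of_iso e)
      (fun f _ K => FlatBC.isPseudoCoherent'_bc f K) hpc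
  have hC' : MoreMor.IsPseudoCoherentHom R'
      (MvPolynomial (Fin n) R' ⊗[MvPolynomial (Fin n) R] S) := by
    refine ⟨n, (Algebra.TensorProduct.includeLeft : MvPolynomial (Fin n) R' →ₐ[R'] _),
      Algebra.TensorProduct.includeLeft_surjective R' (MvPolynomial (Fin n) R') hφ, ?_⟩
    have h : (Algebra.TensorProduct.includeLeft : MvPolynomial (Fin n) R' →ₐ[R']
        (MvPolynomial (Fin n) R' ⊗[MvPolynomial (Fin n) R] S)).toRingHom.toAlgebra =
        Algebra.TensorProduct.leftAlgebra := Algebra.algebra_ext _ _ (fun r => rfl)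
    rw [h]
    exact hC
  exact pcHom_of_algEquiv (Algebra.IsPushout.cancelBaseChangeAlg R R' (MvPolynomial (Fin n) R)
    (MvPolynomial (Fin n) R') S) hC'


/-- the flat-base-change property for a property of ring homomorphisms -/
def FlatBaseChange (Q : ∀ {R S : Type u} [CommRing R] [CommRing S], (R →+* S) → Prop) : Prop :=
  ∀ (R S R' S' : Type u) [CommRing R] [CommRing S] [CommRing R'] [CommRing S']
    [Algebra R S] [Algebra R R'] [Algebra R S'] [Algebra S S'] [Algebra R' S']
    [IsScalarTower R S S'] [IsScalarTower R R' S'] [Algebra.IsPushout R S R' S'],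
    Module.Flat R R' → Q (algebraMap R S) → Q (algebraMap R' S')

theorem PCQ_flatBaseChange : FlatBaseChange @PCQ.{u} := by
  intro R S R' S' _ _ _ _ _ _ _ _ _ _ _ _ hfl h
  haveI := hfl
  rw [PCQ_algebraMap] at h ⊢
  haveI : Algebra.IsPushout R R' S S' := Algebra.IsPushout.symm inferInstance
  exact pcHom_of_algEquiv (Algebra.IsPushout.equiv R R' S S') (pcHom_tensor R S R' h)

lemma FTD_algebraMap {R S : Type u} [CommRing R] [CommRing S] [alg : Algebra R S] :
    FTD (algebraMap R S) ↔ DRing.HasFiniteTorDim R S := by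
  have h : (algebraMap R S).toAlgebra = alg := Algebra.algebra_ext _ _ (fun r => rfl)
  unfold FTD
  rw [h]

theorem ftd_tensor (R S R' : Type u) [CommRing R] [CommRing S] [CommRing R'] [Algebra R S]
    [Algebra R R'] [Module.Flat R R'] (h : DRing.HasFiniteTorDim R S) :
    DRing.HasFiniteTorDim R' (R' ⊗[R] S) := by
  obtain ⟨d, hd⟩ := h
  refine ⟨d, ?_⟩
  rw [(Groth.Agent.S6946.result R' (R' ⊗[R] S) d).1]
  have h1 := (Groth.Agent.S6946.result R S d).1.1 hd
  exact FlatBC.module_baseChange S (HasTorAmplitudeIn R (-(d : ℤ)) 0)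
    (HasTorAmplitudeIn R' (-(d : ℤ)) 0) (fun X Y e hX => FlatAmp.torAmp_of_iso hX e)
    (fun f _ K hK => FlatBC.hasTorAmplitudeIn_bc f (-(d : ℤ)) 0 K hK) h1

lemma ftd_of_linearEquiv {R M N : Type u} [CommRing R] [AddCommGroup M] [AddCommGroup N]
    [Module R M] [Module R N] (e : M ≃ₗ[R] N) (h : DRing.HasFiniteTorDim R M) :
    DRing.HasFiniteTorDim R N := by
  obtain ⟨d, hd⟩ := h
  refine ⟨d, ?_⟩
  rw [(Groth.Agent.S6946.result R N d).1]
  have h1 := (Groth.Agent.S6946.result R M d).1.1 hd
  exact FlatAmp.torAmp_of_iso h1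
    ((DerivedCategory.singleFunctor (ModuleCat.{u} R) 0).mapIso e.toModuleIso)

theorem FTD_flatBaseChange : FlatBaseChange @FTD.{u} := by
  intro R S R' S' _ _ _ _ _ _ _ _ _ _ _ _ hfl h
  haveI := hfl
  rw [FTD_algebraMap] at h ⊢
  haveI : Algebra.IsPushout R R' S S' := Algebra.IsPushout.symm inferInstance
  exact ftd_of_linearEquiv (Algebra.IsPushout.equiv R R' S S').toLinearEquiv (ftd_tensor R S R' h)

theorem PerfQ_flatBaseChange : FlatBaseChange @PerfMor.PerfQ.{u} :=
  fun R S R' S' _ _ _ _ _ _ _ _ _ _ _ _ hfl h =>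
    ⟨PCQ_flatBaseChange R S R' S' hfl h.1, FTD_flatBaseChange R S R' S' hfl h.2⟩

section Scheme

variable {Q : ∀ {R S : Type u} [CommRing R] [CommRing S], (R →+* S) → Prop}

attribute [local instance] Algebra.TensorProduct.rightAlgebra in
set_option backward.isDefEq.respectTransparency false in
theorem FlatBaseChange.pushout_inl (hQ : FlatBaseChange @Q) (hQ' : RingHom.RespectsIso @Q)
    {R S T : CommRingCat.{u}} (f : R ⟶ S) (g : R ⟶ T) (hf : f.hom.Flat) (H : Q g.hom) :
    Q (pushout.inl _ _ : S ⟶ pushout f g).hom := by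
  let := f.hom.toAlgebra
  let := g.hom.toAlgebra
  rw [← show _ = pushout.inl f g from
      colimit.isoColimitCocone_ι_inv ⟨_, CommRingCat.pushoutCoconeIsColimit R S T⟩ WalkingSpan.left,
    CommRingCat.hom_comp, hQ'.cancel_right_isIso]
  dsimp only [CommRingCat.pushoutCocone_inl, PushoutCocone.ι_app_left]
  apply hQ R T S (S ⊗[R] T) hf
  exact H

set_option backward.defeqAttrib.useBackward true in
set_option backward.isDefEq.respectTransparency false in
theorem FlatBaseChange.pullback_fst_appTop (hP : FlatBaseChange @Q) (hP' : RingHom.RespectsIso @Q)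
    {X Y S : Scheme.{u}} [IsAffine X] [IsAffine Y] [IsAffine S] (f : X ⟶ S) (g : Y ⟶ S)
    (hf : f.appTop.hom.Flat) (H : Q g.appTop.hom) : Q (pullback.fst f g).appTop.hom := by
  erw [← PreservesPullback.iso_inv_fst AffineScheme.forgetToScheme (AffineScheme.ofHom f)
      (AffineScheme.ofHom g)]
  rw [Scheme.Hom.comp_appTop, CommRingCat.hom_comp, hP'.cancel_right_isIso,
    AffineScheme.forgetToScheme_map]
  have := congr_arg Quiver.Hom.unop
      (PreservesPullback.iso_hom_fst AffineScheme.Γ.rightOp (AffineScheme.ofHom f)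
        (AffineScheme.ofHom g))
  simp only [AffineScheme.Γ, Functor.rightOp_obj, Functor.comp_obj, Functor.op_obj, unop_comp,
    AffineScheme.forgetToScheme_obj, Scheme.Γ_obj, Functor.rightOp_map, Functor.comp_map,
    Functor.op_map, Quiver.Hom.unop_op, AffineScheme.forgetToScheme_map, Scheme.Γ_map] at this
  rw [← this, CommRingCat.hom_comp, hP'.cancel_right_isIso, ← pushoutIsoUnopPullback_inl_hom,
    CommRingCat.hom_comp, hP'.cancel_right_isIso]
  exact hP.pushout_inl hP' _ _ hf H

theorem pullback_snd_of_flat_of_isAffine {P : MorphismProperty Scheme.{u}}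
    [HasRingHomProperty P @Q] (hQ : FlatBaseChange @Q)
    {X S S' : Scheme.{u}} [IsAffine X] [IsAffine S] [IsAffine S'] (f : X ⟶ S) (g : S' ⟶ S)
    [Flat g] (hf : P f) : P (pullback.snd f g) := by
  rw [← pullbackSymmetry_hom_comp_fst, P.cancel_left_of_respectsIso]
  rw [HasRingHomProperty.iff_of_isAffine (P := P)] at hf ⊢
  exact hQ.pullback_fst_appTop (HasRingHomProperty.isLocal_ringHomProperty P).respectsIso g f
    ((HasRingHomProperty.iff_of_isAffine (P := @Flat)).1 inferInstance) hf

set_option backward.isDefEq.respectTransparency false in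
theorem pullback_snd_of_flat {P : MorphismProperty Scheme.{u}}
    [HasRingHomProperty P @Q] (hQ : FlatBaseChange @Q) (hQi : RingHom.ContainsIdentities @Q)
    (hQc : RingHom.StableUnderComposition @Q)
    {X S S' : Scheme.{u}} (f : X ⟶ S) (g : S' ⟶ S) [Flat g] (hf : P f) :
    P (pullback.snd f g) := by
  haveI : P.IsStableUnderComposition := HasRingHomProperty.stableUnderComposition hQc
  haveI : P.HasOfPostcompProperty @IsOpenImmersion :=
    hasOfPostcompProperty_isOpenImmersion_of_morphismRestrict P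
      (fun f U h => IsZariskiLocalAtTarget.restrict h U)
  let 𝒰 := S.affineCover
  let 𝒲 := (Scheme.Pullback.openCoverOfBase 𝒰 f g).bind (fun i =>
    Scheme.Pullback.openCoverOfLeftRight (pullback f (𝒰.f i)).affineCover
      (pullback g (𝒰.f i)).affineCover (pullback.snd f (𝒰.f i)) (pullback.snd g (𝒰.f i)))
  rw [IsZariskiLocalAtSource.iff_of_openCover (P := P) 𝒲]
  rintro ⟨i, j, k⟩
  have h1 : 𝒲.f ⟨i, j, k⟩ ≫ pullback.snd f g =
      pullback.snd ((pullback f (𝒰.f i)).affineCover.f j ≫ pullback.snd f (𝒰.f i))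
        ((pullback g (𝒰.f i)).affineCover.f k ≫ pullback.snd g (𝒰.f i)) ≫
        ((pullback g (𝒰.f i)).affineCover.f k ≫ pullback.fst g (𝒰.f i)) := by
    change ((Scheme.Pullback.openCoverOfLeftRight (pullback f (𝒰.f i)).affineCover
      (pullback g (𝒰.f i)).affineCover (pullback.snd f (𝒰.f i)) (pullback.snd g (𝒰.f i))).f (j, k) ≫
      (Scheme.Pullback.openCoverOfBase 𝒰 f g).f i) ≫ pullback.snd f g = _
    have h0 := Scheme.Pullback.openCoverOfBase_f 𝒰 f g i
    rw [h0]
    simp
  rw [h1]
  haveI : P.ContainsIdentities := HasRingHomProperty.containsIdentities hQi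
  have hφ : P ((pullback f (𝒰.f i)).affineCover.f j ≫ pullback.snd f (𝒰.f i)) := by
    apply P.of_postcomp (W' := @IsOpenImmersion) _ (𝒰.f i) inferInstance
    rw [Category.assoc, ← pullback.condition, ← Category.assoc]
    exact IsZariskiLocalAtSource.comp hf _
  haveI hψ : Flat ((pullback g (𝒰.f i)).affineCover.f k ≫ pullback.snd g (𝒰.f i)) := by
    apply MorphismProperty.of_postcomp (W := @Flat) (W' := @IsOpenImmersion) _ (𝒰.f i) inferInstance
    rw [Category.assoc, ← pullback.condition, ← Category.assoc]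
    infer_instance
  exact P.comp_mem _ _ (pullback_snd_of_flat_of_isAffine hQ _ _ hφ)
    (IsZariskiLocalAtSource.of_isOpenImmersion _)

end Scheme


section Final

variable {Q : ∀ {R S : Type u} [CommRing R] [CommRing S], (R →+* S) → Prop}

theorem of_isPullback_of_flat {P : MorphismProperty Scheme.{u}}
    [HasRingHomProperty P @Q] (hQ : FlatBaseChange @Q) (hQi : RingHom.ContainsIdentities @Q)
    (hQc : RingHom.StableUnderComposition @Q)
    {X S X' S' : Scheme.{u}} (f : X ⟶ S) (f' : X' ⟶ S') (g' : X' ⟶ X) (g : S' ⟶ S) [Flat g]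
    (hc : IsPullback g' f' f g) (hf : P f) : P f' := by
  rw [← hc.isoPullback_hom_snd, P.cancel_left_of_respectsIso]
  exact pullback_snd_of_flat hQ hQi hQc f g hf

lemma PCQ_containsIdentities : RingHom.ContainsIdentities @PCQ.{u} := by
  intro R _
  exact PCQ_of_flat_fp (R := R) (S := R)

lemma PerfQ_containsIdentities : RingHom.ContainsIdentities @PerfMor.PerfQ.{u} := by
  intro R _
  exact ⟨PCQ_containsIdentities R, FTD_of_flat _ (RingHom.Flat.id R)⟩

/-- flat base change of pseudo-coherent morphisms -/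
theorem pcMor_flat_baseChange {X S X' S' : Scheme.{u}} (f : X ⟶ S) (f' : X' ⟶ S') (g' : X' ⟶ X)
    (g : S' ⟶ S) [Flat g] (hc : IsPullback g' f' f g) (hf : MoreMor.IsPseudoCoherentMor f) :
    MoreMor.IsPseudoCoherentMor f' :=
  of_isPullback_of_flat (P := PCMor.pcMor) PCQ_flatBaseChange PCQ_containsIdentities
    PCQ_stableUnderComposition f f' g' g hc hf

/-- flat base change of perfect morphisms -/
theorem perfMor_flat_baseChange {X S X' S' : Scheme.{u}} (f : X ⟶ S) (f' : X' ⟶ S') (g' : X' ⟶ X)
    (g : S' ⟶ S) [Flat g] (hc : IsPullback g' f' f g) (hf : MoreMor.IsPerfectMor f) :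
    MoreMor.IsPerfectMor f' :=
  of_isPullback_of_flat (P := PerfMor.perfMor) PerfQ_flatBaseChange PerfQ_containsIdentities
    PerfMor.PerfQ_stableUnderComposition f f' g' g hc hf

end Final

end Groth.Agent.Lib.Helper43.FlatBaseChangeHom
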