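import Mathlib.Tactic
import Groth.Agent.Lib.Helper43.PerfMor
import Groth.Agent.Lib.Helper43.PCApprox
import Groth.Agent.Lib.Helper84.DRingPerf
import Groth.Agent.Lib.Helper98.KoszulLES
import Groth.Prelude.Def_LCI2
import Groth.Agent.Lib.Helper43.FlatBaseChangeHom

/-!
# Koszul-regular sequences / ideals give perfect ring maps (helper43)

* `koszul_termwiseFiniteFree`, `koszul_vanishesOutside`, `koszul_homology_zero` (H⁰ K(l) ≅ A/(l), any l)
* `toD_iso_single`: a complex with homology concentrated in degree 0 is `H⁰[0]` in `D(A)`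
* `inD_iso_koszul`: for a Koszul-regular sequence, `K(l) ≅ (A/(l))[0]` in `D(A)`
* `perfQ_quotient_koszul`, `perfQ_quotient_of_koszulRegular`, `isPerfectHom_of_isLCI`
-/

set_option autoImplicit false
universe u

open CategoryTheory CategoryTheory.Limits DerivedCategory DRing
attribute [local instance] HasDerivedCategory.standard

namespace Groth.Agent.Lib.Helper43.KoszulPerf

open Groth.Agent.Lib.Helper84 Groth.Agent.Lib.Helper43.PCHomLocal Groth.Agent.Lib.Helper43.FTDLocal

variable {A : Type u} [CommRing A]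

lemma koszul_termwiseFiniteFree (l : List A) : TermwiseFiniteFree (Koszul.koszul A l) := by
  induction l with
  | nil =>
    exact PCApprox.termwiseFiniteFree_single (ModuleCat.of A A)
      ⟨inferInstanceAs (Module.Finite A A), inferInstanceAs (Module.Free A A)⟩ 0
  | cons f l ih =>
    exact DRingPC.termwiseFiniteFree_mappingCone _ ih ih

lemma koszul_vanishesOutside (l : List A) :
    VanishesOutside (Koszul.koszul A l) (-(l.length : ℤ)) 0 := by
  induction l with
  | nil =>
    intro i hi
    apply HomologicalComplex.isZero_single_obj_X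
    simp at hi
    lia
  | cons f l ih =>
    have h := DRingPerf.vanishesOutside_mappingCone (f • 𝟙 (Koszul.koszul A l)) _ _ _ _ ih ih
    intro i hi
    apply h
    simp only [List.length_cons, Nat.cast_add, Nat.cast_one] at hi
    rcases hi with hi | hi
    · left
      have := min_le_left (-(l.length : ℤ) - 1) (-(l.length : ℤ))
      lia
    · right
      simpa using hi

/-- `H⁰` of the Koszul complex is `A/(l)`, for any sequence. -/
lemma koszul_homology_zero (l : List A) :
    Nonempty ((Koszul.koszul A l).homology 0 ≅ ModuleCat.of A (A ⧸ Ideal.ofList l)) := by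
  induction l with
  | nil =>
    refine ⟨HomologicalComplex.singleObjHomologySelfIso _ _ _ ≪≫ LinearEquiv.toModuleIso ?_⟩
    exact (Submodule.quotEquivOfEqBot _ Ideal.ofList_nil).symm
  | cons f l ih =>
    obtain ⟨e⟩ := ih
    have h1 : IsZero ((Koszul.koszul A l).homology 1) :=
      ShortComplex.isZero_homology_of_isZero_X₂ _ (koszul_vanishesOutside l 1 (Or.inr one_pos))
    obtain ⟨c⟩ := Helper98.KoszulLES.cone_homology_zero_iso (Koszul.koszul A l) f _ e h1
    refine ⟨c ≪≫ LinearEquiv.toModuleIso (Submodule.quotEquivOfEq _ _ ?_)⟩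
    rw [Ideal.ofList_cons, sup_comm]


/-- a complex with homology concentrated in degree 0 is isomorphic in D(A) to H⁰ in degree 0 -/
lemma toD_iso_single (K : Cx A) (h : ∀ i : ℤ, i ≠ 0 → IsZero (K.homology i)) :
    Nonempty (toD K ≅ (DerivedCategory.singleFunctor (ModuleCat.{u} A) 0).obj (K.homology 0)) := by
  have hH : ∀ i, (homologyFunctor (ModuleCat.{u} A) i).obj (toD K) ≅ K.homology i :=
    fun i => (homologyFunctorFactors _ i).app K
  haveI : (toD K).IsLE 0 := by
    rw [DerivedCategory.isLE_iff]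
    intro i hi
    exact IsZero.of_iso (h i (by lia)) (hH i)
  haveI : (toD K).IsGE 0 := by
    rw [DerivedCategory.isGE_iff]
    intro i hi
    exact IsZero.of_iso (h i (by lia)) (hH i)
  obtain ⟨Y, ⟨e⟩⟩ := exists_iso_singleFunctor_obj_of_isGE_of_isLE (toD K) 0
  have e2 : K.homology 0 ≅ Y := (hH 0).symm ≪≫ (homologyFunctor _ 0).mapIso e ≪≫
    (singleFunctorCompHomologyFunctorIso _ 0).app Y
  exact ⟨e ≪≫ (singleFunctor _ 0).mapIso e2.symm⟩

theorem inD_iso_koszul (l : List A) (hl : LCI.IsKoszulRegularSeq A l) :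
    Nonempty (toD (Koszul.koszul A l) ≅ Dual.inD A (A ⧸ Ideal.ofList l)) := by
  obtain ⟨e⟩ := toD_iso_single _ hl
  obtain ⟨c⟩ := koszul_homology_zero l
  exact ⟨e ≪≫ (singleFunctor _ 0).mapIso c⟩

open Groth.Agent.Lib.Helper43.FlatBaseChangeHom in
/-- the quotient by a Koszul-regular sequence is a perfect ring map -/
theorem perfQ_quotient_koszul (l : List A) (hl : LCI.IsKoszulRegularSeq A l) :
    PerfMor.PerfQ (algebraMap A (A ⧸ Ideal.ofList l)) := by
  obtain ⟨e⟩ := inD_iso_koszul l hl
  refine ⟨PCQ_algebraMap.2 ?_, FTD_algebraMap.2 ?_⟩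
  · rw [pcHom_iff_of_finite]
    exact ⟨_, 0, fun i hi => koszul_vanishesOutside l i (Or.inr hi), koszul_termwiseFiniteFree l, ⟨e⟩⟩
  · refine ⟨l.length, ?_⟩
    rw [(Groth.Agent.S6946.result A _ l.length).1]
    refine ⟨_, koszul_vanishesOutside l, fun i => ?_, ⟨e⟩⟩
    obtain ⟨h1, h2⟩ := koszul_termwiseFiniteFree l i
    infer_instance


/-- the quotient by a Koszul-regular ideal is a perfect ring map -/
theorem perfQ_quotient_of_koszulRegular {P : Type u} [CommRing P] (I : Ideal P)
    (hI : LCI.IsKoszulRegularIdeal I) : PerfMor.PerfQ (algebraMap P (P ⧸ I)) := by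
  let s : Set (P ⧸ I) := { b | ∃ g : P, Ideal.Quotient.mk I g = b ∧
    ∃ l : List (Localization.Away g), LCI.IsKoszulRegularSeq (Localization.Away g) l ∧
      I.map (algebraMap P (Localization.Away g)) = Ideal.span {x | x ∈ l} }
  have hs : Ideal.span s = ⊤ := by
    by_contra hne
    obtain ⟨𝔪, h𝔪, hle⟩ := Ideal.exists_le_maximal _ hne
    let 𝔭 : PrimeSpectrum P := ⟨𝔪.comap (Ideal.Quotient.mk I), inferInstance⟩
    have hI𝔭 : I ≤ 𝔭.asIdeal := by
      intro x hx
      change Ideal.Quotient.mk I x ∈ 𝔪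
      rw [Ideal.Quotient.eq_zero_iff_mem.2 hx]
      exact 𝔪.zero_mem
    obtain ⟨g, hg, l, hl, hIl⟩ := hI 𝔭 hI𝔭
    exact hg (hle (Ideal.subset_span ⟨g, rfl, l, hl, hIl⟩))
  refine PerfMor.PerfQ_ofLocalizationSpanTarget.ofIsLocalization
    PerfMor.PerfQ_propertyIsLocal.respectsIso _ s hs ?_
  rintro ⟨_, g, rfl, l, hl, hIl⟩
  refine ⟨Localization.Away g ⧸ I.map (algebraMap P (Localization.Away g)), inferInstance,
    inferInstance, ?_, ?_⟩
  · have := (inferInstance : IsLocalization
      (Algebra.algebraMapSubmonoid (P ⧸ I) (Submonoid.powers g))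
      (Localization.Away g ⧸ I.map (algebraMap P (Localization.Away g))))
    rwa [Algebra.algebraMapSubmonoid_powers] at this
  · have h1 : PerfMor.PerfQ (algebraMap P (Localization.Away g)) :=
      PerfMor.PerfQ_holdsForLocalizationAway _ g
    have h2 : PerfMor.PerfQ (algebraMap (Localization.Away g)
        (Localization.Away g ⧸ I.map (algebraMap P (Localization.Away g)))) := by
      rw [hIl]
      exact perfQ_quotient_koszul l hl
    have h3 := PerfMor.PerfQ_stableUnderComposition _ _ h1 h2
    convert h3 using 1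
    ext x
    rfl


open Groth.Agent.Lib.Helper43.FlatBaseChangeHom in
lemma PerfQ_algebraMap {R S : Type u} [CommRing R] [CommRing S] [Algebra R S] :
    PerfMor.PerfQ (algebraMap R S) ↔ MoreMor.IsPerfectHom R S :=
  and_congr PCQ_algebraMap FTD_algebraMap

/-- lci ring maps are perfect -/
theorem isPerfectHom_of_isLCI (A B : Type u) [CommRing A] [CommRing B] [Algebra A B]
    (h : LCI.IsLCI A B) : MoreMor.IsPerfectHom A B := by
  obtain ⟨-, n, f, hf, hI⟩ := h
  rw [← PerfQ_algebraMap]
  have h1 : PerfMor.PerfQ (algebraMap A (MvPolynomial (Fin n) A)) :=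
    ⟨PCQ_of_flat_fp, FTD_of_flat _ (RingHom.flat_algebraMap_iff.2 inferInstance)⟩
  have h2 := perfQ_quotient_of_koszulRegular _ hI
  have h3 := PerfMor.PerfQ_stableUnderComposition _ _ h1 h2
  have h4 := PerfMor.PerfQ_propertyIsLocal.respectsIso.1 _
    (Ideal.quotientKerAlgEquivOfSurjective hf).toRingEquiv h3
  convert h4 using 1
  ext x
  change algebraMap A B x = (Ideal.quotientKerAlgEquivOfSurjective hf)
    (Ideal.Quotient.mk _ (MvPolynomial.C x))
  rw [Ideal.quotientKerAlgEquivOfSurjective_mk, ← MvPolynomial.algebraMap_eq, f.commutes]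

end Groth.Agent.Lib.Helper43.KoszulPerf
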