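import Mathlib.Tactic
import Groth.Agent.Lib.Helper43.KoszulPerf
import Groth.Prelude.Def_RegImm
import Mathlib.AlgebraicGeometry.Morphisms.ClosedImmersion
import Mathlib.AlgebraicGeometry.Morphisms.Smooth

set_option autoImplicit false
universe u

open CategoryTheory AlgebraicGeometry

namespace Groth.Agent.Lib.Helper43.KoszulAtPerf

open Groth.Agent.Lib.Helper43.KoszulPerf Groth.Agent.Lib.Helper43.PCHomLocal
  Groth.Agent.Lib.Helper43.FTDLocal

/-- flat ring maps of finite presentation are perfect -/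
lemma PerfQ_of_flat_fp {R S : Type u} [CommRing R] [CommRing S] (f : R →+* S) (h1 : f.Flat)
    (h2 : f.FinitePresentation) : PerfMor.PerfQ f := by
  letI := f.toAlgebra
  haveI : Module.Flat R S := h1
  haveI : Algebra.FinitePresentation R S := h2
  exact ⟨(Groth.Agent.S7068.result R S).1, FTD_of_flat f h1⟩

/-- flat morphisms locally of finite presentation are perfect -/
theorem perfMor_of_flat_lfp {X Y : Scheme.{u}} (f : X ⟶ Y) [Flat f]
    [LocallyOfFinitePresentation f] : MoreMor.IsPerfectMor f := by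
  intro U V hU hV e
  exact PerfQ_of_flat_fp _
    ((HasRingHomProperty.iff_appLE (P := @Flat)).1 inferInstance ⟨V, hV⟩ ⟨U, hU⟩ e)
    ((HasRingHomProperty.iff_appLE (P := @LocallyOfFinitePresentation)).1 inferInstance
      ⟨V, hV⟩ ⟨U, hU⟩ e)

lemma app_surjective_of_restrict {Z X : Scheme.{u}} (i : Z ⟶ X) (U : X.Opens)
    (hU : IsAffineOpen U) [IsClosedImmersion (i ∣_ U)] :
    Function.Surjective (i.app U).hom := by
  haveI : IsAffine U.toScheme := hU
  have h := (i ∣_ U).app_surjective ⊤ (isAffineOpen_top _)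
  rw [morphismRestrict_app'] at h
  have h2 := (Scheme.Hom.appLE_congr i _ U.ι_image_top
    (show (i ⁻¹ᵁ U).ι ''ᵁ ((i ∣_ U) ⁻¹ᵁ ⊤) = i ⁻¹ᵁ U by simp)
    (fun φ => Function.Surjective φ.hom)).1 h
  rwa [← Scheme.Hom.app_eq_appLE] at h2

lemma isAffineOpen_preimage_of_restrict {Z X : Scheme.{u}} (i : Z ⟶ X) (U : X.Opens)
    (hU : IsAffineOpen U) [IsClosedImmersion (i ∣_ U)] : IsAffineOpen (i ⁻¹ᵁ U) := by
  haveI : IsAffine U.toScheme := hU
  exact isAffine_of_isAffineHom (i ∣_ U)

/-- a Koszul-regular immersion is a perfect morphism -/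
theorem perfMor_of_koszulRegularImmersion {Z X : Scheme.{u}} (i : Z ⟶ X)
    (hi : RegImm.IsRegularImmersion .koszul i) : MoreMor.IsPerfectMor i := by
  obtain ⟨-, hreg⟩ := hi
  rw [← PerfMor.perfMor_iff, HasRingHomProperty.iff_exists_appLE (P := PerfMor.perfMor)
    PerfMor.PerfQ_stableUnderCompositionWithLocalizationAwaySource]
  intro z
  obtain ⟨U, hzU, hci, rs, hrs, hk⟩ := hreg z
  haveI := hci
  refine ⟨U, ⟨i ⁻¹ᵁ U.1, isAffineOpen_preimage_of_restrict i U.1 U.2⟩, hzU, le_rfl, ?_⟩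
  have hsurj : Function.Surjective (i.app U.1).hom := app_surjective_of_restrict i U.1 U.2
  have h1 : PerfMor.PerfQ (algebraMap Γ(X, U.1) (Γ(X, U.1) ⧸ Ideal.ofList rs)) :=
    perfQ_quotient_koszul rs hrs
  rw [← hk] at h1
  have h2 := PerfMor.PerfQ_propertyIsLocal.respectsIso.1 _
    (RingHom.quotientKerEquivOfSurjective hsurj) h1
  convert h2 using 1
  ext x
  change (i.appLE U.1 (i ⁻¹ᵁ U.1) le_rfl).hom x =
    (RingHom.quotientKerEquivOfSurjective hsurj) (Ideal.Quotient.mk _ x)
  rw [RingHom.quotientKerEquivOfSurjective_apply_mk, ← Scheme.Hom.app_eq_appLE]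

/-- a morphism which is Koszul at every point is perfect -/
theorem perfMor_of_forall_isKoszulAt {X Y : Scheme.{u}} (f : X ⟶ Y)
    (hf : ∀ x : X, Synt.IsKoszulAt f x) : MoreMor.IsPerfectMor f := by
  choose U P i π hxU hlft hi hπ hfac using hf
  rw [← PerfMor.perfMor_iff, IsZariskiLocalAtSource.iff_of_iSup_eq_top (P := PerfMor.perfMor) U
    (top_le_iff.mp fun x _ => by simpa using ⟨x, hxU x⟩)]
  intro x
  rw [← hfac x]
  haveI := hπ x
  haveI : PerfMor.perfMor.IsStableUnderComposition :=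
    HasRingHomProperty.stableUnderComposition PerfMor.PerfQ_stableUnderComposition
  exact PerfMor.perfMor.comp_mem _ _ (perfMor_of_koszulRegularImmersion _ (hi x))
    (perfMor_of_flat_lfp (π x))

end Groth.Agent.Lib.Helper43.KoszulAtPerf
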