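import Mathlib.Tactic
import Groth.Agent.Lib.Helper75.Kz2
import Groth.Agent.Lib.Helper43.PCHomLocal
import Groth.Prelude.Def_RegImm
import Groth.Agent.S9272
import Mathlib.Algebra.Category.ModuleCat.Descent
import Mathlib.RingTheory.Regular.Flat
import Mathlib.RingTheory.Flat.EquationalCriterion

/-!
# Flat ring maps preserve regular / Koszul-regular / H₁-regular / quasi-regular sequences

* `koszulRegular_of_flat`, `regular_of_flat`, `h1Regular_of_flat`, `quasiRegular_of_flat`
* `kindSeq_of_flat` : all four kinds of `RegImm.Kind.Seq` at once.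
-/

set_option autoImplicit false
universe u
open CategoryTheory CategoryTheory.Limits

namespace Groth.Agent.Lib.Helper43.SeqFlatBC

open Groth.Agent.Lib.Helper84 Groth.Agent.Lib.Helper75.Kz Groth.Agent.Lib.Helper43.PCHomLocal
open Groth.Agent.S9272

variable {R R' : Type u} [CommRing R] [CommRing R']


lemma ext_map_smul_id (φ : R →+* R') (a : R) (Y : ModuleCat.{u} R) :
    (FlatBC.ext φ).map (a • 𝟙 Y) = φ a • 𝟙 ((FlatBC.ext φ).obj Y) := by
  letI := φ.toAlgebra
  ext y
  change (1 : R') ⊗ₜ[R] (a • y) = φ a • ((1 : R') ⊗ₜ[R] y)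
  rw [TensorProduct.tmul_smul, TensorProduct.smul_tmul']
  change (a • (1 : R')) ⊗ₜ[R] y = (φ a • (1 : R')) ⊗ₜ[R] y
  rw [Algebra.smul_def, smul_eq_mul]
  rfl

lemma forall₂_ext (φ : R →+* R') (l : List R) :
    List.Forall₂ (fun a b => ∀ Y : ModuleCat.{u} R, (FlatBC.ext φ).map (a • 𝟙 Y) =
      b • 𝟙 ((FlatBC.ext φ).obj Y)) l (l.map φ) := by
  induction l with
  | nil => exact List.Forall₂.nil
  | cons b l' ih => exact List.Forall₂.cons (ext_map_smul_id φ b) ih

/-- Koszul-regular sequences are preserved by flat ring maps. -/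
theorem koszulRegular_of_flat (φ : R →+* R') (hφ : φ.Flat) (rs : List R)
    (h : LCI.IsKoszulRegularSeq R rs) : LCI.IsKoszulRegularSeq R' (rs.map φ) := by
  intro i hi
  have h0 : (Koszul.koszul R rs).ExactAt i :=
    (HomologicalComplex.exactAt_iff_isZero_homology _ _).2 (h i hi)
  rw [koszul_eq_koszulCx] at h0
  apply (HomologicalComplex.exactAt_iff_isZero_homology _ _).1
  rw [koszul_eq_koszulCx]
  letI := φ.toAlgebra
  obtain ⟨e⟩ := koszulCx_map_iso (FlatBC.ext φ) rs (rs.map φ) (forall₂_ext φ rs) (ModuleCat.of R R)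
  have e2 : CohIII.koszulCx ((FlatBC.ext φ).obj (ModuleCat.of R R)) (rs.map φ) ≅
      CohIII.koszulCx (ModuleCat.of R' R') (rs.map φ) := kmapIso (extSelfIso R R') _
  haveI := FlatBC.preservesFiniteLimits_ext φ hφ
  have h1 : (((FlatBC.ext φ).mapHomologicalComplex (ComplexShape.up ℤ)).obj
      (CohIII.koszulCx (ModuleCat.of R R) rs)).ExactAt i := by
    rw [HomologicalComplex.exactAt_iff] at h0 ⊢
    exact h0.map (FlatBC.ext φ)
  rw [HomologicalComplex.exactAt_iff_isZero_homology] at h1 ⊢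
  exact h1.of_iso ((HomologicalComplex.homologyFunctor _ _ i).mapIso (e ≪≫ e2)).symm


/-- regular sequences are preserved by flat ring maps, as long as the image ideal stays proper -/
theorem regular_of_flat (φ : R →+* R') (hφ : φ.Flat) (rs : List R)
    (h : RingTheory.Sequence.IsRegular R rs) (hne : Ideal.ofList (rs.map φ) ≠ ⊤) :
    RingTheory.Sequence.IsRegular R' (rs.map φ) := by
  letI := φ.toAlgebra
  haveI : Module.Flat R R' := hφ
  refine ⟨RingTheory.Sequence.IsWeaklyRegular.of_flat (S := R') h.toIsWeaklyRegular, ?_⟩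
  intro h1
  apply hne
  rw [smul_eq_mul, Ideal.mul_top] at h1
  exact h1.symm


/-- composing with a ring map, as an additive map on vectors -/
def vecMap (φ : R →+* R') (c : ℕ) : (Fin c → R) →+ (Fin c → R') where
  toFun v := fun i => φ (v i)
  map_zero' := by funext i; simp
  map_add' x y := by funext i; simp

lemma vecMap_apply (φ : R →+* R') (c : ℕ) (v : Fin c → R) (i : Fin c) :
    vecMap φ c v i = φ (v i) := rfl

lemma vecMap_smul (φ : R →+* R') (c : ℕ) (r : R) (v : Fin c → R) :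
    vecMap φ c (r • v) = φ r • vecMap φ c v := by
  funext i
  simp [vecMap_apply]

lemma vecMap_single (φ : R →+* R') (c : ℕ) (i : Fin c) (r : R) :
    vecMap φ c (Pi.single i r) = Pi.single i (φ r) := by
  funext l
  rw [vecMap_apply]
  by_cases hl : l = i
  · subst hl; simp
  · simp [Pi.single_eq_of_ne hl]

/-- `H₁`-regular sequences are preserved by flat ring maps -/
theorem h1Regular_of_flat (φ : R →+* R') (hφ : φ.Flat) {c : ℕ} (f : Fin c → R)
    (h : CAlgX.IsH1Regular f) : CAlgX.IsH1Regular (φ ∘ f) := by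
  letI := φ.toAlgebra
  haveI : Module.Flat R R' := hφ
  intro a' ha'
  have hrel : ∑ i, f i • a' i = 0 := by
    refine Eq.trans ?_ ha'
    refine Finset.sum_congr rfl fun i _ => ?_
    rw [Algebra.smul_def, mul_comm]
    rfl
  obtain ⟨k, a, y, hx, hj⟩ := Module.Flat.isTrivialRelation_of_sum_smul_eq_zero (R := R) (M := R') (f := f) (x := a') hrel
  set T : Set (Fin c → R) := {v | ∃ i j : Fin c, v = Pi.single i (f j) - Pi.single j (f i)} with hT
  set T' : Set (Fin c → R') :=
    {v | ∃ i j : Fin c, v = Pi.single i ((φ ∘ f) j) - Pi.single j ((φ ∘ f) i)} with hT'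
  have hΦT : ∀ v ∈ Submodule.span R T, vecMap φ c v ∈ Submodule.span R' T' := by
    intro v hv
    induction hv using Submodule.span_induction with
    | mem v hv =>
      obtain ⟨i, j, rfl⟩ := hv
      apply Submodule.subset_span
      refine ⟨i, j, ?_⟩
      rw [map_sub, vecMap_single, vecMap_single]
      rfl
    | zero => rw [map_zero]; exact Submodule.zero_mem _
    | add x y _ _ hx hy => rw [map_add]; exact Submodule.add_mem _ hx hy
    | smul r x _ hx =>
      rw [vecMap_smul]
      exact Submodule.smul_mem _ _ hx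
  have hcol : ∀ j, (fun i => a i j) ∈ Submodule.span R T := by
    intro j
    apply h
    refine Eq.trans ?_ (hj j)
    exact Finset.sum_congr rfl fun i _ => mul_comm _ _
  have ha'eq : a' = ∑ j, y j • vecMap φ c (fun i => a i j) := by
    funext i
    rw [hx i, Finset.sum_apply]
    refine Finset.sum_congr rfl fun j _ => ?_
    rw [Pi.smul_apply, vecMap_apply, Algebra.smul_def, smul_eq_mul, mul_comm]
    rfl
  rw [ha'eq]
  exact Submodule.sum_mem _ fun j _ => Submodule.smul_mem _ _ (hΦT _ (hcol j))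



lemma mon_map (φ : R →+* R') {c : ℕ} (f : Fin c → R) (d : Fin c →₀ ℕ) :
    mon (φ ∘ f) d = φ (mon f d) := by
  rw [mon, mon, map_finsuppProd]
  simp [Function.comp]

lemma span_range_comp (φ : R →+* R') {c : ℕ} (f : Fin c → R) :
    Ideal.span (Set.range (φ ∘ f)) = Ideal.map φ (Ideal.span (Set.range f)) := by
  rw [Ideal.map_span, Set.range_comp]

/-- quasi-regular sequences are preserved by flat ring maps -/
theorem quasiRegular_of_flat (φ : R →+* R') (hφ : φ.Flat) {c : ℕ} (f : Fin c → R)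
    (h : CAlgX.IsQuasiRegular f) : CAlgX.IsQuasiRegular (φ ∘ f) := by
  letI := φ.toAlgebra
  haveI : Module.Flat R R' := hφ
  intro n P' hP' hmem d
  by_cases hd : d.degree = n
  swap
  · rw [hP'.coeff_eq_zero hd]; exact Ideal.zero_mem _
  -- coefficient vector
  set c' : Mn c n → R' := fun d => MvPolynomial.coeff d.1 P' with hc'
  have hΘ : Θ (φ ∘ f) n c' = MvPolynomial.eval (φ ∘ f) P' := by
    rw [← eval_poly, poly_coeff n P' hP']
  obtain ⟨e', he'⟩ := exists_c_of_mem_pow (φ ∘ f) (n + 1) _ hmem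
  -- the relation
  obtain ⟨ρ, hρ⟩ : ∃ ρ : Mn c n ⊕ Mn c (n + 1) → R,
      ρ = Sum.elim (fun d => mon f d.1) (fun β => mon f β.1) := ⟨_, rfl⟩
  obtain ⟨x, hxdef⟩ : ∃ x : Mn c n ⊕ Mn c (n + 1) → R', x = Sum.elim c' (fun β => - e' β) := ⟨_, rfl⟩
  have hrel : ∑ ι, ρ ι • x ι = 0 := by
    rw [Fintype.sum_sum_type]
    simp only [hρ, hxdef, Sum.elim_inl, Sum.elim_inr, smul_neg, Finset.sum_neg_distrib]
    rw [add_neg_eq_zero]
    have h2 : Θ (φ ∘ f) n c' = Θ (φ ∘ f) (n + 1) e' := hΘ.trans he'.symm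
    rw [Θ_apply, Θ_apply] at h2
    have e1 : ∀ (m : ℕ) (u : Mn c m → R'), ∑ d, mon f d.1 • u d = ∑ d, u d * mon (φ ∘ f) d.1 := by
      intro m u
      refine Finset.sum_congr rfl fun d _ => ?_
      rw [Algebra.smul_def, mul_comm, mon_map]; rfl
    rw [e1, e1, h2]
  have htr : ∃ (k : ℕ) (a : Mn c n ⊕ Mn c (n + 1) → Fin k → R) (y : Fin k → R'),
      (∀ i, x i = ∑ j, a i j • y j) ∧ ∀ j, ∑ i, ρ i * a i j = 0 :=
    Module.Flat.isTrivialRelation_of_sum_smul_eq_zero (R := R) (M := R')
      (ι := Mn c n ⊕ Mn c (n + 1)) (f := ρ) (x := x) hrel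
  obtain ⟨k, a, y, hx, hj⟩ := htr
  have hmemJ : ∀ (j : Fin k) (d : Mn c n), a (Sum.inl d) j ∈ Ideal.span (Set.range f) := by
    intro j d
    refine qr_c f n h (fun d => a (Sum.inl d) j) ?_ d
    have hj' := hj j
    rw [Fintype.sum_sum_type] at hj'
    simp only [hρ, Sum.elim_inl, Sum.elim_inr] at hj'
    have h1 : Θ f n (fun d => a (Sum.inl d) j) = - Θ f (n + 1) (fun β => a (Sum.inr β) j) := by
      rw [Θ_apply, Θ_apply, eq_neg_iff_add_eq_zero]
      have e2 : ∀ (m : ℕ) (u : Mn c m → R), ∑ d, u d * mon f d.1 = ∑ d, mon f d.1 * u d :=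
        fun m u => Finset.sum_congr rfl fun d _ => mul_comm _ _
      rw [e2, e2]
      exact hj'
    rw [h1]
    exact (Ideal.neg_mem_iff _).2 (Θ_mem f (n + 1) _)
  have hcd : MvPolynomial.coeff d P' = c' ⟨d, (mem_Mn_iff n).mpr hd⟩ := rfl
  rw [hcd, span_range_comp]
  have := hx (Sum.inl ⟨d, (mem_Mn_iff n).mpr hd⟩)
  simp only [hxdef, Sum.elim_inl] at this
  rw [this]
  refine Ideal.sum_mem _ fun j _ => ?_
  rw [Algebra.smul_def]
  exact Ideal.mul_mem_right _ _ (Ideal.mem_map_of_mem _ (hmemJ j _))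


lemma get_map_eq (φ : R →+* R') (rs : List R) :
    (rs.map φ).get = (φ ∘ rs.get) ∘ Fin.cast (List.length_map φ) := by
  funext i
  simp

lemma h1_cast {c c' : ℕ} (h : c' = c) (f : Fin c → R) (hf : CAlgX.IsH1Regular f) :
    CAlgX.IsH1Regular (f ∘ Fin.cast h) := by
  subst h
  exact hf

lemma quasi_cast {c c' : ℕ} (h : c' = c) (f : Fin c → R) (hf : CAlgX.IsQuasiRegular f) :
    CAlgX.IsQuasiRegular (f ∘ Fin.cast h) := by
  subst h
  exact hf

/-- all four kinds of sequences are preserved by flat ring maps (for the kind `regular` under the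
side condition that the extended ideal is proper) -/
theorem kindSeq_of_flat (k : RegImm.Kind) (φ : R →+* R') (hφ : φ.Flat) (rs : List R)
    (h : k.Seq R rs) (hne : Ideal.ofList (rs.map φ) ≠ ⊤) : k.Seq R' (rs.map φ) := by
  cases k with
  | regular => exact regular_of_flat φ hφ rs h hne
  | koszul => exact koszulRegular_of_flat φ hφ rs h
  | h1 =>
    change CAlgX.IsH1Regular (rs.map φ).get
    rw [get_map_eq]
    exact h1_cast _ _ (h1Regular_of_flat φ hφ _ h)
  | quasi =>
    change CAlgX.IsQuasiRegular (rs.map φ).get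
    rw [get_map_eq]
    exact quasi_cast _ _ (quasiRegular_of_flat φ hφ _ h)

end Groth.Agent.Lib.Helper43.SeqFlatBC
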