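import Mathlib.Tactic
import Groth.Agent.Lib.Helper43.FlatBaseChangeHom
import Groth.Agent.Lib.Helper52.ExtScalRing
import Groth.Agent.S6941
import Groth.Agent.S6950
import Mathlib.RingTheory.Finiteness.Descent
import Mathlib.RingTheory.RingHom.FaithfullyFlat

/-!
# Faithfully flat descent of pseudo-coherent / perfect ring maps (helper43)

* `pc_module_descent`, `torAmp_module_descent`, `ftd_module_descent`: module level
* `pcHom_codescent`: `S → S ⊗[R] T` pseudo-coherent, `R → S` faithfully flat ⇒ `R → T` pc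
* `PCQ_codescendsAlong`, `PerfQ_codescendsAlong`
-/

set_option autoImplicit false
universe u

open CategoryTheory CategoryTheory.Limits DerivedCategory DRing
attribute [local instance] HasDerivedCategory.standard

namespace Groth.Agent.Lib.Helper43.FpqcDescentHom

open Groth.Agent.Lib.Helper84 Groth.Agent.Lib.Helper43.PCHomLocal Groth.Agent.Lib.Helper43.FTDLocal
  Groth.Agent.Lib.Helper43.FlatBaseChangeHom
open TensorProduct

section Module

variable {A B : Type u} [CommRing A] [CommRing B] [Algebra A B] [Module.FaithfullyFlat A B]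
  (M : Type u) [AddCommGroup M] [Module A M]

/-- the comparison `toD (B ⊗ M[0]) ≅ (B ⊗ M)[0]` -/
noncomputable def extSingleIso :
    toD (((ModuleCat.extendScalars (algebraMap A B)).mapHomologicalComplex (ComplexShape.up ℤ)).obj
      ((CochainComplex.singleFunctor (ModuleCat.{u} A) 0).obj (ModuleCat.of A M))) ≅
      Dual.inD B (B ⊗[A] M) :=
  Q.mapIso ((HomologicalComplex.singleMapHomologicalComplex
      (ModuleCat.extendScalars (algebraMap A B)) (ComplexShape.up ℤ) 0).app (ModuleCat.of A M)) ≪≫
    ((singleFunctorIsoCompQ (ModuleCat.{u} B) 0).app _).symm ≪≫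
    (DerivedCategory.singleFunctor (ModuleCat.{u} B) 0).mapIso
      (Groth.Agent.Lib.Helper52.ExtScalRing.eM B (ModuleCat.of A M)).toModuleIso

/-- faithfully flat descent of pseudo-coherence of modules -/
theorem pc_module_descent (h : IsPseudoCoherentModule' B (B ⊗[A] M)) :
    IsPseudoCoherentModule' A M := by
  have h1 := (Groth.Agent.S6941.result (R := A) (R' := B)
    ((CochainComplex.singleFunctor (ModuleCat.{u} A) 0).obj (ModuleCat.of A M)) 0).2
    (DRingPC.isPseudoCoherent'_of_iso (extSingleIso M).symm h)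
  exact DRingPC.isPseudoCoherent'_of_iso
    ((singleFunctorIsoCompQ (ModuleCat.{u} A) 0).app (ModuleCat.of A M)).symm h1

/-- faithfully flat descent of tor amplitude of modules -/
theorem torAmp_module_descent (a b : ℤ) (h : HasTorAmplitudeIn B a b (Dual.inD B (B ⊗[A] M))) :
    HasTorAmplitudeIn A a b (Dual.inD A M) := by
  have h1 := Groth.Agent.S6950.result (R := A) (R' := B)
    ((CochainComplex.singleFunctor (ModuleCat.{u} A) 0).obj (ModuleCat.of A M)) a b
    (FlatAmp.torAmp_of_iso h (extSingleIso M).symm)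
  exact FlatAmp.torAmp_of_iso h1
    ((singleFunctorIsoCompQ (ModuleCat.{u} A) 0).app (ModuleCat.of A M)).symm

/-- faithfully flat descent of finite tor dimension of modules -/
theorem ftd_module_descent (h : HasFiniteTorDim B (B ⊗[A] M)) : HasFiniteTorDim A M := by
  obtain ⟨d, hd⟩ := h
  refine ⟨d, ?_⟩
  rw [(Groth.Agent.S6946.result A M d).1]
  exact torAmp_module_descent M _ _ ((Groth.Agent.S6946.result B (B ⊗[A] M) d).1.1 hd)

end Module


section Ring

attribute [local instance] MvPolynomial.algebraMvPolynomial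

lemma faithfullyFlat_mvPolynomial (R S : Type u) [CommRing R] [CommRing S] [Algebra R S]
    [Module.FaithfullyFlat R S] (n : ℕ) :
    Module.FaithfullyFlat (MvPolynomial (Fin n) R) (MvPolynomial (Fin n) S) := by
  haveI : Algebra.IsPushout R (MvPolynomial (Fin n) R) S (MvPolynomial (Fin n) S) :=
    Algebra.IsPushout.symm inferInstance
  exact Module.FaithfullyFlat.of_linearEquiv _ _
    (Algebra.IsPushout.equiv R (MvPolynomial (Fin n) R) S
      (MvPolynomial (Fin n) S)).symm.toLinearEquiv

/-- faithfully flat descent of pseudo-coherent ring maps -/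
theorem pcHom_codescent (R S T : Type u) [CommRing R] [CommRing S] [CommRing T] [Algebra R S]
    [Algebra R T] [Module.FaithfullyFlat R S] (h : MoreMor.IsPseudoCoherentHom S (S ⊗[R] T)) :
    MoreMor.IsPseudoCoherentHom R T := by
  haveI : Algebra.FiniteType S (S ⊗[R] T) := finiteType_of_pcHom h
  have hft : Algebra.FiniteType R T :=
    Algebra.FiniteType.of_finiteType_tensorProduct_of_faithfullyFlat S
  obtain ⟨n, f, hf⟩ := Algebra.FiniteType.iff_quotient_mvPolynomial''.1 hft
  refine ⟨n, f, hf, ?_⟩
  letI algPT : Algebra (MvPolynomial (Fin n) R) T := f.toRingHom.toAlgebra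
  haveI : IsScalarTower R (MvPolynomial (Fin n) R) T :=
    IsScalarTower.of_algebraMap_eq (fun r => (f.commutes r).symm)
  haveI := faithfullyFlat_mvPolynomial R S n
  apply pc_module_descent (B := MvPolynomial (Fin n) S) T
  have h1 : MoreMor.IsPseudoCoherentHom S
      (MvPolynomial (Fin n) S ⊗[MvPolynomial (Fin n) R] T) :=
    pcHom_of_algEquiv (Algebra.IsPushout.cancelBaseChangeAlg R S (MvPolynomial (Fin n) R)
      (MvPolynomial (Fin n) S) T).symm h
  obtain ⟨n₁, φ₁, hφ₁, hpc₁⟩ := h1
  have h2 := PCHomIndep.pc_indep S (MvPolynomial (Fin n) S ⊗[MvPolynomial (Fin n) R] T) n₁ n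
    φ₁ hφ₁ (Algebra.TensorProduct.includeLeft : MvPolynomial (Fin n) S →ₐ[S] _)
    (Algebra.TensorProduct.includeLeft_surjective S (MvPolynomial (Fin n) S) hf) hpc₁
  have h3 : (Algebra.TensorProduct.includeLeft : MvPolynomial (Fin n) S →ₐ[S]
      (MvPolynomial (Fin n) S ⊗[MvPolynomial (Fin n) R] T)).toRingHom.toAlgebra =
      Algebra.TensorProduct.leftAlgebra := Algebra.algebra_ext _ _ (fun r => rfl)
  rw [h3] at h2
  exact h2


theorem PCQ_codescendsAlong : RingHom.CodescendsAlong @PCQ.{u} RingHom.FaithfullyFlat := by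
  refine .mk _ PCQ_propertyIsLocal.respectsIso fun R S T _ _ _ _ _ h h' ↦ ?_
  rw [PCQ_algebraMap] at h' ⊢
  rw [RingHom.faithfullyFlat_algebraMap_iff] at h
  exact pcHom_codescent R S T h'

theorem PerfQ_codescendsAlong :
    RingHom.CodescendsAlong @PerfMor.PerfQ.{u} RingHom.FaithfullyFlat := by
  refine .mk _ PerfMor.PerfQ_propertyIsLocal.respectsIso fun R S T _ _ _ _ _ h h' ↦ ?_
  rw [RingHom.faithfullyFlat_algebraMap_iff] at h
  have h1 := PCQ_algebraMap.1 h'.1
  have h2 := FTD_algebraMap.1 h'.2
  exact ⟨PCQ_algebraMap.2 (pcHom_codescent R S T h1), FTD_algebraMap.2 (ftd_module_descent T h2)⟩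

end Ring

end Groth.Agent.Lib.Helper43.FpqcDescentHom
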