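import Mathlib.Tactic
import Groth.Agent.Lib.Helper43.FlatBaseChangeHom
import Groth.Agent.Lib.Helper43.FpqcDescentHom
import Mathlib.AlgebraicGeometry.Morphisms.Descent
import Mathlib.AlgebraicGeometry.Morphisms.FlatDescent

/-!
# fpqc descent for pseudo-coherent / perfect morphisms (helper43)

`descendsAlong_fpqc`: a `HasRingHomProperty P Q` with `Q` stable under flat base change and
codescending along faithfully flat ring maps descends along flat surjective quasi-compact morphisms
(variant of Mathlib's `HasRingHomProperty.descendsAlong` not requiring stability of `P` under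
arbitrary base change).
-/

set_option autoImplicit false
universe u

open CategoryTheory CategoryTheory.Limits AlgebraicGeometry MorphismProperty

namespace Groth.Agent.Lib.Helper43.FpqcDescentMor

open Groth.Agent.Lib.Helper43.FlatBaseChangeHom

variable {Q : ∀ {R S : Type u} [CommRing R] [CommRing S], (R →+* S) → Prop}

/-- flat base change in `pullback.fst` form -/
lemma pullback_fst_of_flat {P : MorphismProperty Scheme.{u}}
    [HasRingHomProperty P @Q] (hQ : FlatBaseChange @Q) (hQi : RingHom.ContainsIdentities @Q)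
    (hQc : RingHom.StableUnderComposition @Q)
    {X S S' : Scheme.{u}} (g : S' ⟶ S) (f : X ⟶ S) [Flat g] (hf : P f) :
    P (pullback.fst g f) := by
  rw [← pullbackSymmetry_hom_comp_snd, P.cancel_left_of_respectsIso]
  exact pullback_snd_of_flat hQ hQi hQc f g hf

set_option backward.isDefEq.respectTransparency false in
/-- fpqc descent for a `HasRingHomProperty` which is stable under flat base change and whose
ring-level property codescends along faithfully flat maps -/
theorem descendsAlong_fpqc {P : MorphismProperty Scheme.{u}}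
    [HasRingHomProperty P @Q] (hQ : FlatBaseChange @Q) (hQi : RingHom.ContainsIdentities @Q)
    (hQc : RingHom.StableUnderComposition @Q)
    (hcod : RingHom.CodescendsAlong @Q RingHom.FaithfullyFlat) :
    P.DescendsAlong (@Surjective ⊓ @Flat ⊓ @QuasiCompact) := by
  apply IsZariskiLocalAtTarget.descendsAlong
  intro R X Y f g hf h
  wlog hX : ∃ T, X = Spec T generalizing X with H
  · have _ : CompactSpace X := by simpa [← quasiCompact_iff_compactSpace f] using hf.2
    obtain ⟨Y', p, hsurj, hP', hY⟩ := X.exists_hom_isAffine_of_isZariskiLocalAtSource @IsLocalIso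
    haveI : Flat p := IsLocalIso.le_of_isZariskiLocalAtSource @Flat _ _ p hP'
    haveI : Flat f := hf.1.2
    haveI : Surjective f := hf.1.1
    haveI : QuasiCompact f := hf.2
    refine H ((Y'.isoSpec.inv ≫ p) ≫ f) ⟨⟨inferInstance, inferInstance⟩, inferInstance⟩
      ?_ ⟨_, rfl⟩
    rw [← pullbackRightPullbackFstIso_inv_fst f g _, P.cancel_left_of_respectsIso]
    exact pullback_fst_of_flat hQ hQi hQc _ _ h
  obtain ⟨T, rfl⟩ := hX
  obtain ⟨φ, rfl⟩ := Spec.map_surjective f
  wlog hY : ∃ S, Y = Spec S generalizing Y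
  · rw [IsZariskiLocalAtSource.iff_of_openCover (P := P) Y.affineCover]
    intro i
    have heq : pullback.fst (Spec.map φ) (Y.affineCover.f i ≫ g) =
        pullback.map _ _ _ _ (𝟙 _) (Y.affineCover.f i) (𝟙 _) (by simp) (by simp) ≫
          pullback.fst (Spec.map φ) g := (pullback.lift_fst _ _ _).symm
    exact this _ (heq ▸ AlgebraicGeometry.IsZariskiLocalAtSource.comp h _) ⟨_, rfl⟩
  obtain ⟨S, rfl⟩ := hY
  refine of_pullback_fst_Spec_of_codescendsAlong (P := P) (P' := @Surjective ⊓ @Flat)
    (Q' := RingHom.FaithfullyFlat) hcod ?_ ?_ hf.1 h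
  · intro _ _ f hf
    rwa [← flat_and_surjective_SpecMap_iff, and_comm]
  · intro _ _ f
    exact HasRingHomProperty.Spec_iff (P := P)


open Groth.Agent.Lib.Helper43.PCHomLocal in
/-- fpqc descent of pseudo-coherent morphisms -/
theorem pcMor_descent {X S X' S' : Scheme.{u}} (f : X ⟶ S) (f' : X' ⟶ S') (g' : X' ⟶ X)
    (g : S' ⟶ S) [Flat g] [Surjective g] [QuasiCompact g] (hc : IsPullback g' f' f g)
    (hf' : MoreMor.IsPseudoCoherentMor f') : MoreMor.IsPseudoCoherentMor f := by
  haveI := descendsAlong_fpqc (P := PCMor.pcMor) PCQ_flatBaseChange PCQ_containsIdentities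
    PCQ_stableUnderComposition FpqcDescentHom.PCQ_codescendsAlong
  exact MorphismProperty.of_isPullback_of_descendsAlong (P := PCMor.pcMor)
    (Q := @Surjective ⊓ @Flat ⊓ @QuasiCompact) hc.flip
    ⟨⟨inferInstance, inferInstance⟩, inferInstance⟩ hf'

/-- fpqc descent of perfect morphisms -/
theorem perfMor_descent {X S X' S' : Scheme.{u}} (f : X ⟶ S) (f' : X' ⟶ S') (g' : X' ⟶ X)
    (g : S' ⟶ S) [Flat g] [Surjective g] [QuasiCompact g] (hc : IsPullback g' f' f g)
    (hf' : MoreMor.IsPerfectMor f') : MoreMor.IsPerfectMor f := by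
  haveI := descendsAlong_fpqc (P := PerfMor.perfMor) PerfQ_flatBaseChange PerfQ_containsIdentities
    PerfMor.PerfQ_stableUnderComposition FpqcDescentHom.PerfQ_codescendsAlong
  exact MorphismProperty.of_isPullback_of_descendsAlong (P := PerfMor.perfMor)
    (Q := @Surjective ⊓ @Flat ⊓ @QuasiCompact) hc.flip
    ⟨⟨inferInstance, inferInstance⟩, inferInstance⟩ hf'

end Groth.Agent.Lib.Helper43.FpqcDescentMor
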