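import Groth.Agent.S13563
import Groth.Agent.S2137
import Groth.Agent.S4494
import Groth.Agent.Lib.Helper15.LBCAdj
import Groth.Agent.Lib.Helper15.PseudoCoh
import Groth.Prelude.Def_DerCA
import Mathlib.RingTheory.TensorProduct.MvPolynomial

/-!
# Relative pseudo-coherence and tor-independent base change (helper43)

* `tor_of_flat`: for `R → P` flat, `P → A`, `R → R'` and `P' = P ⊗_R R'`:
  `Tor^R_p(A, R') = 0 → Tor^P_p(A, P') = 0`.
* `pc_bc_of_pushout`: in a tor-independent pushout square `P → A`, `P → P'`, `A' = A ⊗_P P'`,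
  `res_{P'} (K ⊗^L_A A')` is `m`-pseudo-coherent when `res_P K` is.
* `main`: relative pseudo-coherence is preserved under tor-independent base change.
-/

set_option autoImplicit false
universe u

open CategoryTheory CategoryTheory.Limits TensorProduct

attribute [local instance] HasDerivedCategory.standard

namespace Groth.Agent.Lib.Helper43.RelPCBC

open DRing DerCA

section TorFlat

variable (R P A R' P' : Type u) [CommRing R] [CommRing P] [CommRing A] [CommRing R'] [CommRing P']
  [Algebra R P] [Module.Flat R P] [Algebra R A] [Algebra P A] [IsScalarTower R P A]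
  [Algebra R R'] [Algebra P P'] [Algebra R' P'] [Algebra R P'] [IsScalarTower R P P']
  [IsScalarTower R R' P'] [Algebra.IsPushout R P R' P']

theorem tor_of_flat (p : ℕ) (h : Subsingleton (DRing.Tor R p A R')) :
    Subsingleton (DRing.Tor P p A P') := by
  obtain ⟨φ, hφ⟩ := Groth.Agent.S4494.result R P A R' p
  have h1 : Subsingleton (DRing.Tor P p A (P ⊗[R] R')) := hφ.surjective.subsingleton
  let e : P ⊗[R] R' ≃ₗ[P] P' := (Algebra.IsPushout.equiv R P R' P').toLinearEquiv
  let i : ModuleCat.of P (P ⊗[R] R') ≅ ModuleCat.of P P' := e.toModuleIso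
  have i2 := ((CategoryTheory.Tor (ModuleCat.{u} P) p).obj (ModuleCat.of P A)).mapIso i
  exact i2.symm.toLinearEquiv.toEquiv.subsingleton

end TorFlat

section Pushout

variable (P A P' A' : Type u) [CommRing P] [CommRing A] [CommRing P'] [CommRing A']
  [Algebra P A] [Algebra P P'] [Algebra A A'] [Algebra P' A'] [Algebra P A']
  [IsScalarTower P A A'] [IsScalarTower P P' A'] [Algebra.IsPushout P A P' A']

theorem pc_bc_of_pushout (htor : ∀ p : ℕ, 1 ≤ p → Subsingleton (DRing.Tor P p A P'))
    [DRing.HasLBaseChange (algebraMap A A')] (K : Dual.D A) (m : ℤ)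
    (hK : DRing.IsPseudoCoherent P m ((DRing.restrictD (algebraMap P A)).obj K)) :
    DRing.IsPseudoCoherent P' m
      ((DRing.restrictD (algebraMap P' A')).obj ((DRing.LBaseChange (algebraMap A A')).obj K)) := by
  haveI : DRing.HasLBaseChange (algebraMap P P') := Groth.Agent.Lib.Helper15.LDerived.hasLBaseChange _
  have h : (algebraMap A A').comp (algebraMap P A) = (algebraMap P' A').comp (algebraMap P P') := by
    rw [← IsScalarTower.algebraMap_eq, ← IsScalarTower.algebraMap_eq]
  haveI := Groth.Agent.S13563.result P A P' A' htor (Groth.Agent.Lib.Helper15.LBCAdj.adj _)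
    (Groth.Agent.Lib.Helper15.LBCAdj.adj _) h K
  exact Groth.Agent.Lib.Helper15.PseudoCoh.of_iso
    (asIso (TrivBC.cmp (Groth.Agent.Lib.Helper15.LBCAdj.adj _)
      (Groth.Agent.Lib.Helper15.LBCAdj.adj _) h K))
    (Groth.Agent.S2137.result (algebraMap P P') _ m hK)

end Pushout

section Main

attribute [local instance] MvPolynomial.algebraMvPolynomial

variable {R A R' : Type u} [CommRing R] [CommRing A] [CommRing R'] [Algebra R A] [Algebra R R']

/-- the induced presentation of `R' ⊗_R A` over `R'` -/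
noncomputable def bcPres {n : ℕ} (α : MvPolynomial (Fin n) R →ₐ[R] A) :
    MvPolynomial (Fin n) R' →ₐ[R'] R' ⊗[R] A :=
  MvPolynomial.aeval (fun i => (1 : R') ⊗ₜ[R] α (MvPolynomial.X i))

lemma bcPres_sq {n : ℕ} (α : MvPolynomial (Fin n) R →ₐ[R] A) :
    (bcPres (R' := R') α : MvPolynomial (Fin n) R' →+* R' ⊗[R] A).comp
        (MvPolynomial.map (algebraMap R R')) =
      (Algebra.TensorProduct.includeRight : A →ₐ[R] R' ⊗[R] A).toRingHom.comp
        (α : MvPolynomial (Fin n) R →+* A) := by
  apply MvPolynomial.ringHom_ext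
  · intro r
    simp only [RingHom.comp_apply, MvPolynomial.map_C, RingHom.coe_coe, bcPres,
      MvPolynomial.aeval_C, AlgHom.toRingHom_eq_coe]
    rw [← MvPolynomial.algebraMap_eq, AlgHom.commutes, AlgHom.commutes,
      ← IsScalarTower.algebraMap_apply]
  · intro i
    simp only [RingHom.comp_apply, MvPolynomial.map_X, RingHom.coe_coe, bcPres,
      MvPolynomial.aeval_X, AlgHom.toRingHom_eq_coe, Algebra.TensorProduct.includeRight_apply]

lemma bcPres_surjective {n : ℕ} (α : MvPolynomial (Fin n) R →ₐ[R] A)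
    (hα : Function.Surjective α) : Function.Surjective (bcPres (R' := R') α) := by
  intro t
  induction t using TensorProduct.induction_on with
  | zero => exact ⟨0, map_zero _⟩
  | add x y hx hy =>
    obtain ⟨a, rfl⟩ := hx
    obtain ⟨b, rfl⟩ := hy
    exact ⟨a + b, map_add _ _ _⟩
  | tmul r a =>
    obtain ⟨q, rfl⟩ := hα a
    refine ⟨MvPolynomial.C r * MvPolynomial.map (algebraMap R R') q, ?_⟩
    have h1 := congr($(bcPres_sq (R' := R') α) q)
    simp only [RingHom.comp_apply, RingHom.coe_coe, AlgHom.toRingHom_eq_coe,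
      Algebra.TensorProduct.includeRight_apply] at h1
    rw [map_mul, h1, ← MvPolynomial.algebraMap_eq, AlgHom.commutes,
      Algebra.TensorProduct.algebraMap_apply, Algebra.TensorProduct.tmul_mul_tmul]
    simp

theorem main (htor : ∀ p : ℕ, 0 < p → Subsingleton (DRing.Tor R p A R'))
    [DRing.HasLBaseChange
      (Algebra.TensorProduct.includeRight : A →ₐ[R] R' ⊗[R] A).toRingHom]
    (K : Dual.D A) (m : ℤ) (hK : DerCA.IsRelPseudoCoherent R A m K) :
    DerCA.IsRelPseudoCoherent R' (R' ⊗[R] A) m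
      ((DRing.LBaseChange
        (Algebra.TensorProduct.includeRight : A →ₐ[R] R' ⊗[R] A).toRingHom).obj K) := by
  obtain ⟨n, α, hα, hK⟩ := hK
  refine ⟨n, bcPres α, bcPres_surjective α hα, ?_⟩
  unfold DerCA.IsRelPseudoCoherentVia at hK ⊢
  have hsq := bcPres_sq (R' := R') α
  letI : Algebra (MvPolynomial (Fin n) R) A := (α : MvPolynomial (Fin n) R →+* A).toAlgebra
  letI : Algebra A (R' ⊗[R] A) := Algebra.TensorProduct.rightAlgebra
  letI : Algebra (MvPolynomial (Fin n) R') (R' ⊗[R] A) :=
    (bcPres (R' := R') α : MvPolynomial (Fin n) R' →+* R' ⊗[R] A).toAlgebra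
  letI : Algebra (MvPolynomial (Fin n) R) (R' ⊗[R] A) :=
    ((Algebra.TensorProduct.includeRight : A →ₐ[R] R' ⊗[R] A).toRingHom.comp
      (α : MvPolynomial (Fin n) R →+* A)).toAlgebra
  haveI : IsScalarTower (MvPolynomial (Fin n) R) A (R' ⊗[R] A) :=
    IsScalarTower.of_algebraMap_eq (fun x => rfl)
  haveI : IsScalarTower (MvPolynomial (Fin n) R) (MvPolynomial (Fin n) R') (R' ⊗[R] A) :=
    IsScalarTower.of_algebraMap_eq (fun x => (congr($hsq x)).symm)
  haveI : IsScalarTower R (MvPolynomial (Fin n) R) A :=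
    IsScalarTower.of_algebraMap_eq (fun x => (α.commutes x).symm)
  haveI : IsScalarTower R A (R' ⊗[R] A) :=
    IsScalarTower.of_algebraMap_eq (fun x =>
      ((Algebra.TensorProduct.includeRight : A →ₐ[R] R' ⊗[R] A).commutes x).symm)
  haveI : IsScalarTower R' (MvPolynomial (Fin n) R') (R' ⊗[R] A) :=
    IsScalarTower.of_algebraMap_eq (fun x => ((bcPres (R' := R') α).commutes x).symm)
  haveI : IsScalarTower R (MvPolynomial (Fin n) R') (R' ⊗[R] A) :=
    IsScalarTower.of_algebraMap_eq (fun x => by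
      rw [IsScalarTower.algebraMap_apply R R' (MvPolynomial (Fin n) R'),
        ← IsScalarTower.algebraMap_apply R' (MvPolynomial (Fin n) R') (R' ⊗[R] A),
        ← IsScalarTower.algebraMap_apply R R' (R' ⊗[R] A)])
  haveI : Algebra.IsPushout R A R' (R' ⊗[R] A) := TensorProduct.isPushout'
  haveI : Algebra.IsPushout (MvPolynomial (Fin n) R) A (MvPolynomial (Fin n) R') (R' ⊗[R] A) :=
    (Algebra.IsPushout.comp_iff R (MvPolynomial (Fin n) R) R' (MvPolynomial (Fin n) R')
      (T := A) (T' := R' ⊗[R] A)).1 inferInstance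
  have htor' : ∀ p : ℕ, 1 ≤ p →
      Subsingleton (DRing.Tor (MvPolynomial (Fin n) R) p A (MvPolynomial (Fin n) R')) :=
    fun p hp => tor_of_flat R (MvPolynomial (Fin n) R) A R' (MvPolynomial (Fin n) R') p
      (htor p hp)
  exact pc_bc_of_pushout (MvPolynomial (Fin n) R) A (MvPolynomial (Fin n) R') (R' ⊗[R] A) htor'
    K m hK

end Main

end Groth.Agent.Lib.Helper43.RelPCBC
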