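import Mathlib.Tactic
import Groth.Prelude.Def_Koszul
import Groth.Prelude.Def_LCI2
import Groth.Prelude.Def_CAlgX
import Groth.Agent.Lib.Helper43.KoszulPerf

/-!
# Koszul-regular (cone model) implies `H₁`-regular (helper43)

* `lowDegree l`: explicit description of the degrees `-2, -1, 0` of the cone model of the Koszul
  complex: `K⁰ ≅ A`, `K⁻¹ ≅ A^c`, `d⁻¹ = (f₁, …, f_c)` and the image of `d⁻²` consists of trivial
  relations.
* `isH1Regular_of_isKoszulRegularSeq`.
-/

set_option autoImplicit false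
universe u

open CategoryTheory CategoryTheory.Limits CochainComplex HomComplex

namespace Groth.Agent.Lib.Helper43.KoszulH1

variable {A : Type u} [CommRing A]

section Cone

variable {K L : CochainComplex (ModuleCat.{u} A) ℤ} (φ : K ⟶ L)

lemma decomp (i j : ℤ) (hij : i + 1 = j) (x : (mappingCone φ).X i) :
    x = ((mappingCone.inl φ).v j i (by lia)).hom (((mappingCone.fst φ).1.v i j hij).hom x) +
      ((mappingCone.inr φ).f i).hom (((mappingCone.snd φ).v i i (add_zero i)).hom x) := by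
  have h := mappingCone.id_X φ i j hij
  have := congrArg (fun t => t.hom x) h
  simpa using this.symm

lemma capply {X Y Z : ModuleCat.{u} A} (f : X ⟶ Y) (g : Y ⟶ Z) (h : X ⟶ Z) (e : f ≫ g = h)
    (x : X) : g.hom (f.hom x) = h.hom x := by
  subst e
  rfl

lemma fst_inl (i j : ℤ) (hij : i + 1 = j) (u : K.X j) :
    ((mappingCone.fst φ).1.v i j hij).hom (((mappingCone.inl φ).v j i (by lia)).hom u) = u :=
  capply _ _ _ (mappingCone.inl_v_fst_v φ j i hij) u

lemma snd_inl (i j : ℤ) (hij : i + 1 = j) (u : K.X j) :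
    ((mappingCone.snd φ).v i i (add_zero i)).hom (((mappingCone.inl φ).v j i (by lia)).hom u) = 0 :=
  capply _ _ _ (mappingCone.inl_v_snd_v φ j i (by lia)) u

lemma fst_inr (i j : ℤ) (hij : i + 1 = j) (u : L.X i) :
    ((mappingCone.fst φ).1.v i j hij).hom (((mappingCone.inr φ).f i).hom u) = 0 :=
  capply _ _ _ (mappingCone.inr_f_fst_v φ i j hij) u

lemma snd_inr (i : ℤ) (u : L.X i) :
    ((mappingCone.snd φ).v i i (add_zero i)).hom (((mappingCone.inr φ).f i).hom u) = u :=
  capply _ _ _ (mappingCone.inr_f_snd_v φ i) u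

lemma d_inl (i j k : ℤ) (hij : i + (-1) = j) (hik : k + (-1) = i) (u : K.X i) :
    ((mappingCone φ).d j i).hom (((mappingCone.inl φ).v i j hij).hom u) =
      ((mappingCone.inr φ).f i).hom ((φ.f i).hom u) -
        ((mappingCone.inl φ).v k i hik).hom ((K.d i k).hom u) := by
  have h := mappingCone.inl_v_d φ i j k hij hik
  have := congrArg (fun t => t.hom u) h
  simpa using this

lemma d_inr (i j : ℤ) (u : L.X i) :
    ((mappingCone φ).d i j).hom (((mappingCone.inr φ).f i).hom u) =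
      ((mappingCone.inr φ).f j).hom ((L.d i j).hom u) := by
  exact capply _ _ _ (mappingCone.inr_f_d φ i j) u

end Cone

section LowDegree

/-- the submodule of trivial relations -/
def Triv {c : ℕ} (g : Fin c → A) : Submodule A (Fin c → A) :=
  Submodule.span A {v | ∃ i j : Fin c, v = Pi.single i (g j) - Pi.single j (g i)}

/-- explicit description of a complex in degrees `-2, -1, 0` as the beginning of a Koszul
complex -/
def LowDeg (K : CochainComplex (ModuleCat.{u} A) ℤ) {c : ℕ} (g : Fin c → A) : Prop :=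
  ∃ (ε : K.X 0 →ₗ[A] A) (e₀ : K.X 0) (θ : (Fin c → A) →ₗ[A] K.X (-1)),
    ε e₀ = 1 ∧ (∀ x, x = ε x • e₀) ∧ Function.Bijective θ ∧
    (∀ a, ε ((K.d (-1) 0).hom (θ a)) = ∑ i, a i * g i) ∧
    (∀ z : K.X (-2), ∃ t ∈ Triv g, (K.d (-2) (-1)).hom z = θ t)

lemma triv_cons_zero {c : ℕ} (g : Fin c → A) (f : A) (t : Fin c → A) (ht : t ∈ Triv g) :
    (Fin.cons 0 t : Fin (c + 1) → A) ∈ Triv (Fin.cons f g : Fin (c + 1) → A) := by
  induction ht using Submodule.span_induction with
  | mem v hv =>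
    obtain ⟨i, j, rfl⟩ := hv
    refine Submodule.subset_span ⟨i.succ, j.succ, ?_⟩
    funext k
    refine Fin.cases ?_ (fun k' => ?_) k
    · simp
    · simp [Pi.single_apply, Fin.succ_inj]
  | zero =>
    have : (Fin.cons 0 0 : Fin (c + 1) → A) = 0 := by
      funext k
      refine Fin.cases rfl (fun k' => rfl) k
    rw [this]
    exact Submodule.zero_mem _
  | add x y _ _ hx hy =>
    have : (Fin.cons 0 (x + y) : Fin (c + 1) → A) = Fin.cons 0 x + Fin.cons 0 y := by
      funext k
      refine Fin.cases (by simp) (fun k' => by simp) k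
    rw [this]
    exact Submodule.add_mem _ hx hy
  | smul a x _ hx =>
    have : (Fin.cons 0 (a • x) : Fin (c + 1) → A) = a • Fin.cons 0 x := by
      funext k
      refine Fin.cases (by simp) (fun k' => by simp) k
    rw [this]
    exact Submodule.smul_mem _ a hx

lemma triv_cons_mixed {c : ℕ} (g : Fin c → A) (f : A) (b : Fin c → A) :
    (Fin.cons (-∑ i, b i * g i) (f • b) : Fin (c + 1) → A) ∈
      Triv (Fin.cons f g : Fin (c + 1) → A) := by
  have : (Fin.cons (-∑ i, b i * g i) (f • b) : Fin (c + 1) → A) =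
      ∑ i : Fin c, b i • (Pi.single i.succ ((Fin.cons f g : Fin (c + 1) → A) 0) -
        Pi.single 0 ((Fin.cons f g : Fin (c + 1) → A) i.succ)) := by
    funext k
    refine Fin.cases ?_ (fun k' => ?_) k
    · simp [Finset.sum_apply, Pi.single_apply, Fin.succ_ne_zero, Finset.sum_neg_distrib]
    · simp [Finset.sum_apply, Pi.single_apply, Fin.succ_inj, Finset.sum_ite_eq', mul_comm]
  rw [this]
  refine Submodule.sum_mem _ (fun i _ => Submodule.smul_mem _ _ (Submodule.subset_span ?_))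
  exact ⟨i.succ, 0, rfl⟩

lemma smul_id_f_apply (K : CochainComplex (ModuleCat.{u} A) ℤ) (f : A) (i : ℤ) (u : K.X i) :
    (((f • 𝟙 K : K ⟶ K)).f i).hom u = f • u := by
  simp

lemma lowDeg_cone (K : CochainComplex (ModuleCat.{u} A) ℤ) (hK1 : IsZero (K.X 1)) {c : ℕ}
    (g : Fin c → A) (f : A) (h : LowDeg K g) :
    LowDeg (mappingCone (f • 𝟙 K)) (Fin.cons f g : Fin (c + 1) → A) := by
  obtain ⟨ε, e₀, θ, h1, h2, hθ, hd, hT⟩ := h
  set φ : K ⟶ K := f • 𝟙 K with hφ
  haveI : Subsingleton (K.X 1) := ModuleCat.subsingleton_of_isZero hK1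
  let ε' : (mappingCone φ).X 0 →ₗ[A] A := ε ∘ₗ ((mappingCone.snd φ).v 0 0 (add_zero 0)).hom
  let θ' : (Fin (c + 1) → A) →ₗ[A] (mappingCone φ).X (-1) :=
    ((mappingCone.inl φ).v 0 (-1) (by lia)).hom ∘ₗ (LinearMap.toSpanSingleton A _ e₀) ∘ₗ
        (LinearMap.proj 0) +
      ((mappingCone.inr φ).f (-1)).hom ∘ₗ θ ∘ₗ (LinearMap.funLeft A A Fin.succ)
  have hθ' : ∀ a, θ' a = ((mappingCone.inl φ).v 0 (-1) (by lia)).hom (a 0 • e₀) +
      ((mappingCone.inr φ).f (-1)).hom (θ (fun i => a i.succ)) := fun a => rfl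
  have hfst : ∀ a, ((mappingCone.fst φ).1.v (-1) 0 (by lia)).hom (θ' a) = a 0 • e₀ := by
    intro a
    rw [hθ', map_add, fst_inl φ (-1) 0 (by lia), fst_inr φ (-1) 0 (by lia), add_zero]
  have hsnd : ∀ a, ((mappingCone.snd φ).v (-1) (-1) (add_zero _)).hom (θ' a) =
      θ (fun i => a i.succ) := by
    intro a
    rw [hθ', map_add, snd_inl φ (-1) 0 (by lia), snd_inr φ (-1), zero_add]
  refine ⟨ε', ((mappingCone.inr φ).f 0).hom e₀, θ', ?_, ?_, ⟨?_, ?_⟩, ?_, ?_⟩
  · change ε (((mappingCone.snd φ).v 0 0 (add_zero 0)).hom (((mappingCone.inr φ).f 0).hom e₀)) = 1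
    rw [snd_inr, h1]
  · intro x
    have hx := decomp φ 0 1 (by lia) x
    have h0 : ((mappingCone.fst φ).1.v 0 1 (by lia)).hom x = 0 := Subsingleton.elim _ _
    rw [h0, map_zero, zero_add] at hx
    conv_lhs => rw [hx, h2 (((mappingCone.snd φ).v 0 0 (add_zero 0)).hom x), map_smul]
    rfl
  · intro a b hab
    have e1 := hfst a
    have e2 := hsnd a
    rw [hab, hfst b] at e1
    rw [hab, hsnd b] at e2
    have e3 : a 0 = b 0 := by
      have := congrArg ε e1
      simpa [h1] using this.symm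
    have e4 := hθ.1 e2
    funext k
    refine Fin.cases e3 (fun k' => ?_) k
    exact (congrFun e4 k').symm
  · intro x
    obtain ⟨b, hb⟩ := hθ.2 (((mappingCone.snd φ).v (-1) (-1) (add_zero _)).hom x)
    refine ⟨Fin.cons (ε (((mappingCone.fst φ).1.v (-1) 0 (by lia)).hom x)) b, ?_⟩
    have hx := decomp φ (-1) 0 (by lia) x
    rw [hθ']
    simp only [Fin.cons_zero, Fin.cons_succ]
    rw [← h2, hb]
    exact hx.symm
  · intro a
    change ε (((mappingCone.snd φ).v 0 0 (add_zero 0)).hom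
      (((mappingCone φ).d (-1) 0).hom (θ' a))) = _
    rw [hθ', map_add, d_inl φ 0 (-1) 1 (by lia) (by lia), d_inr φ (-1) 0, map_add, map_sub,
      snd_inr, snd_inr]
    have h0 : (K.d 0 1).hom (a 0 • e₀) = 0 := Subsingleton.elim _ _
    rw [h0, map_zero, map_zero, sub_zero, map_add, hd, hφ, smul_id_f_apply, map_smul, map_smul, h1,
      Fin.sum_univ_succ]
    simp [mul_comm]
  · intro z
    obtain ⟨b, hb⟩ := hθ.2 (((mappingCone.fst φ).1.v (-2) (-1) (by lia)).hom z)
    obtain ⟨t, ht, htd⟩ := hT (((mappingCone.snd φ).v (-2) (-2) (add_zero _)).hom z)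
    refine ⟨Fin.cons (-∑ i, b i * g i) (f • b) + Fin.cons 0 t,
      Submodule.add_mem _ (triv_cons_mixed g f b) (triv_cons_zero g f t ht), ?_⟩
    conv_lhs => rw [decomp φ (-2) (-1) (by lia) z]
    rw [map_add, d_inl φ (-1) (-2) 0 (by lia) (by lia), d_inr φ (-2) (-1), ← hb, htd, hθ', hφ,
      smul_id_f_apply]
    have hdb : (K.d (-1) 0).hom (θ b) = (∑ i, b i * g i) • e₀ := by
      rw [h2 ((K.d (-1) 0).hom (θ b)), hd]
    rw [hdb]
    simp only [Pi.add_apply, Fin.cons_zero, Fin.cons_succ, add_zero, neg_smul, map_neg]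
    have : (fun i : Fin c => (f • b) i + t i) = f • b + t := rfl
    rw [this]
    simp only [map_add, map_smul]
    abel

lemma lowDeg_nil : LowDeg (Koszul.koszul A []) (([] : List A).get) := by
  let K : CochainComplex (ModuleCat.{u} A) ℤ :=
    (CochainComplex.singleFunctor (ModuleCat.{u} A) 0).obj (ModuleCat.of A A)
  change LowDeg K _
  let e : K.X 0 ≅ ModuleCat.of A A :=
    HomologicalComplex.singleObjXSelf (ComplexShape.up ℤ) 0 (ModuleCat.of A A)
  haveI hs : Subsingleton (K.X (-1)) :=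
    ModuleCat.subsingleton_of_isZero (HomologicalComplex.isZero_single_obj_X _ _ _ _ (by lia))
  refine ⟨e.hom.hom, e.inv.hom (1 : A), 0, ?_, ?_, ⟨?_, ?_⟩, ?_, ?_⟩
  · exact capply _ _ _ e.inv_hom_id (1 : A)
  · intro x
    have hx : x = e.inv.hom (e.hom.hom x) := (capply _ _ _ e.hom_inv_id x).symm
    conv_lhs => rw [hx]
    have h1 : e.hom.hom x = e.hom.hom x • (1 : A) := by
      rw [smul_eq_mul, mul_one]
    conv_lhs => rw [h1, map_smul]
  · intro a b _
    funext i
    exact i.elim0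
  · intro x
    exact ⟨0, Subsingleton.elim _ _⟩
  · intro a
    simp
  · intro z
    exact ⟨0, Submodule.zero_mem _, Subsingleton.elim _ _⟩

theorem lowDeg_koszul (l : List A) : LowDeg (Koszul.koszul A l) l.get := by
  induction l with
  | nil => exact lowDeg_nil
  | cons f l ih =>
    have h := lowDeg_cone (Koszul.koszul A l)
      (KoszulPerf.koszul_vanishesOutside l 1 (Or.inr one_pos)) l.get f ih
    have hg : (Fin.cons f l.get : Fin (l.length + 1) → A) = (f :: l).get := by
      funext i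
      refine Fin.cases rfl (fun j => rfl) i
    rw [hg] at h
    exact h

/-- **Koszul-regular implies `H₁`-regular** -/
theorem isH1Regular_of_isKoszulRegularSeq (l : List A) (h : LCI.IsKoszulRegularSeq A l) :
    CAlgX.IsH1Regular l.get := by
  obtain ⟨ε, e₀, θ, h1, h2, hθ, hd, hT⟩ := lowDeg_koszul l
  intro a ha
  have hz := h (-1) (by lia)
  have hex : (Koszul.koszul A l).ExactAt (-1) :=
    (HomologicalComplex.exactAt_iff_isZero_homology _ _).2 hz
  rw [HomologicalComplex.exactAt_iff' _ (-2) (-1) 0 (by simp) (by simp),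
    ShortComplex.moduleCat_exact_iff] at hex
  have hcyc : ((Koszul.koszul A l).d (-1) 0).hom (θ a) = 0 := by
    rw [h2 (((Koszul.koszul A l).d (-1) 0).hom (θ a)), hd, ha, zero_smul]
  obtain ⟨z, hz⟩ := hex (θ a) hcyc
  obtain ⟨t, ht, htd⟩ := hT z
  have hat : θ a = θ t := hz.symm.trans htd
  rw [hθ.1 hat]
  exact ht

end LowDegree

end Groth.Agent.Lib.Helper43.KoszulH1
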