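import Mathlib.Tactic
import Groth.Agent.Lib.Helper43.KoszulAtPerf
import Groth.Agent.Lib.Helper43.SeqFlatBC
import Groth.Prelude.Def_RegImm
import Mathlib.AlgebraicGeometry.Morphisms.Flat
import Mathlib.AlgebraicGeometry.Morphisms.Immersion

/-!
# Flat base change of regular immersions: geometric reduction

`regImm_baseChange` : if a ring-level property `k.Seq` is preserved by flat ring maps (under the
side condition that the image ideal is proper), then regular immersions of kind `k` are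
preserved by flat base change.
-/

set_option autoImplicit false
universe u

open CategoryTheory CategoryTheory.Limits AlgebraicGeometry

namespace Groth.Agent.Lib.Helper43.RegImmFlatBC

open Groth.Agent.Lib.Helper43.KoszulAtPerf

/-- In a pushout square of commutative rings with a surjective leg `f`, the kernel of the
opposite leg `inr` is the extension of the kernel of `f`. -/
lemma ker_inr_of_isPushout {A B C P : CommRingCat.{u}} {f : A ⟶ B} {g : A ⟶ C} {inl : B ⟶ P}
    {inr : C ⟶ P} (h : IsPushout f g inl inr) (hf : Function.Surjective f.hom) :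
    RingHom.ker inr.hom = Ideal.map g.hom (RingHom.ker f.hom) := by
  apply le_antisymm
  · set J : Ideal C := Ideal.map g.hom (RingHom.ker f.hom) with hJ
    have hle : RingHom.ker f.hom ≤ RingHom.ker ((Ideal.Quotient.mk J).comp g.hom) := by
      intro a ha
      rw [RingHom.mem_ker, RingHom.comp_apply, Ideal.Quotient.eq_zero_iff_mem]
      exact Ideal.mem_map_of_mem _ ha
    let β : B →+* C ⧸ J := RingHom.liftOfSurjective f.hom hf ⟨_, hle⟩
    have hβ : ∀ a, β (f.hom a) = Ideal.Quotient.mk J (g.hom a) := fun a =>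
      RingHom.liftOfRightInverse_comp_apply _ _ _ _ a
    have hw : f ≫ CommRingCat.ofHom β = g ≫ CommRingCat.ofHom (Ideal.Quotient.mk J) := by
      ext a
      exact hβ a
    have hd := h.inr_desc (CommRingCat.ofHom β) (CommRingCat.ofHom (Ideal.Quotient.mk J)) hw
    intro x hx
    rw [RingHom.mem_ker] at hx
    have h1 : (inr ≫ h.desc (CommRingCat.ofHom β) (CommRingCat.ofHom (Ideal.Quotient.mk J)) hw).hom x
        = Ideal.Quotient.mk J x := by rw [hd]; rfl
    rw [CommRingCat.hom_comp, RingHom.comp_apply, hx, map_zero] at h1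
    exact Ideal.Quotient.eq_zero_iff_mem.1 h1.symm
  · rw [Ideal.map_le_iff_le_comap]
    intro a ha
    rw [RingHom.mem_ker] at ha
    rw [Ideal.mem_comap, RingHom.mem_ker]
    have : (g ≫ inr).hom a = (f ≫ inl).hom a := by rw [h.w]
    rw [CommRingCat.hom_comp, CommRingCat.hom_comp, RingHom.comp_apply, RingHom.comp_apply, ha,
      map_zero] at this
    exact this

/-- Base change of a closed immersion chart: restricted over `U' ≤ g⁻¹U` the base change is again a
closed immersion and its ideal is the extension of the ideal. -/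
theorem ker_app_baseChange {X Y X' Y' : Scheme.{u}} (i : Y ⟶ X) (g : X' ⟶ X)
    (i' : Y' ⟶ X') (g' : Y' ⟶ Y) (hsq : IsPullback g' i' i g)
    (U : X.Opens) (hU : IsAffineOpen U) [hci : IsClosedImmersion (i ∣_ U)]
    (U' : X'.Opens) (hU' : IsAffineOpen U') (e : U' ≤ g ⁻¹ᵁ U) :
    IsClosedImmersion (i' ∣_ U') ∧
      RingHom.ker (i'.app U').hom = Ideal.map (g.appLE U U' e).hom (RingHom.ker (i.app U).hom) := by
  have hle : i' ⁻¹ᵁ U' ≤ g' ⁻¹ᵁ (i ⁻¹ᵁ U) := by
    rw [← Scheme.Hom.comp_preimage, hsq.w, Scheme.Hom.comp_preimage]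
    exact i'.preimage_mono e
  have hUY : i' ⁻¹ᵁ U' = g' ⁻¹ᵁ (i ⁻¹ᵁ U) ⊓ i' ⁻¹ᵁ U' := (inf_eq_right.mpr hle).symm
  have hpb := Scheme.Hom.isPullback_resLE hsq (US := U) (UT := U') (UX := i ⁻¹ᵁ U) e le_rfl hUY
  have hci' : IsClosedImmersion (i' ∣_ U') := by
    rw [← Scheme.Hom.resLE_eq_morphismRestrict]
    have h0 : IsClosedImmersion (i.resLE U (i ⁻¹ᵁ U) le_rfl) := by
      rw [Scheme.Hom.resLE_eq_morphismRestrict]; exact hci
    exact MorphismProperty.of_isPullback hpb h0
  refine ⟨hci', ?_⟩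
  haveI : IsAffine U.toScheme := hU
  haveI : IsAffine U'.toScheme := hU'
  haveI : IsAffine (i ⁻¹ᵁ U).toScheme := isAffineOpen_preimage_of_restrict i U hU
  have hpo := isPushout_appTop_of_isPullback hpb
  have hpo' : IsPushout (i.appLE U (i ⁻¹ᵁ U) le_rfl) (g.appLE U U' e)
      (g'.appLE (i ⁻¹ᵁ U) (i' ⁻¹ᵁ U') hle) (i'.appLE U' (i' ⁻¹ᵁ U') le_rfl) := by
    refine IsPushout.of_iso hpo U.topIso (i ⁻¹ᵁ U).topIso U'.topIso (i' ⁻¹ᵁ U').topIso ?_ ?_ ?_ ?_
    all_goals
      rw [Scheme.Hom.appTop, Scheme.Hom.resLE_app_top]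
      simp only [Category.assoc, Iso.inv_hom_id, Category.comp_id]
  rw [Scheme.Hom.appLE_eq_app, Scheme.Hom.appLE_eq_app] at hpo'
  exact ker_inr_of_isPushout hpo' (app_surjective_of_restrict i U hU)


/-- **Flat base change of regular immersions** (all four kinds). -/
theorem regImm_baseChange (k : RegImm.Kind) {X Y X' Y' : Scheme.{u}} (i : Y ⟶ X) (g : X' ⟶ X)
    [Flat g] (i' : Y' ⟶ X') (g' : Y' ⟶ Y) (hsq : IsPullback g' i' i g)
    (hi : RegImm.IsRegularImmersion k i) : RegImm.IsRegularImmersion k i' := by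
  refine ⟨MorphismProperty.of_isPullback hsq hi.1, fun z' => ?_⟩
  obtain ⟨U, hzU, hci, rs, hrs, hker⟩ := hi.2 (g' z')
  have hz : i' z' ∈ g ⁻¹ᵁ U.1 := by
    change g (i' z') ∈ U.1
    have : g (i' z') = i (g' z') := by
      rw [← Scheme.Hom.comp_apply, ← hsq.w, Scheme.Hom.comp_apply]
    rw [this]
    exact hzU
  obtain ⟨U', hU', hzU', hU'le⟩ := exists_isAffineOpen_mem_and_subset hz
  have e : U' ≤ g ⁻¹ᵁ U.1 := hU'le
  obtain ⟨hci', hker'⟩ := ker_app_baseChange i g i' g' hsq U.1 U.2 U' hU' e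
  have hflat : (g.appLE U.1 U' e).hom.Flat :=
    (HasRingHomProperty.iff_appLE (P := @Flat)).1 inferInstance U ⟨U', hU'⟩ e
  have hmap : Ideal.ofList (rs.map (g.appLE U.1 U' e).hom) = RingHom.ker (i'.app U').hom := by
    rw [hker', hker, Ideal.map_ofList]
  refine ⟨⟨U', hU'⟩, hzU', hci', rs.map (g.appLE U.1 U' e).hom, ?_, hmap.symm⟩
  refine Groth.Agent.Lib.Helper43.SeqFlatBC.kindSeq_of_flat k _ hflat rs hrs ?_
  rw [hmap]
  intro htop
  have h1 : (1 : Γ(X', U')) ∈ RingHom.ker (i'.app U').hom := by rw [htop]; trivial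
  rw [RingHom.mem_ker, map_one] at h1
  haveI : Nonempty (i' ⁻¹ᵁ U' : Y'.Opens) := ⟨⟨z', hzU'⟩⟩
  haveI : Nontrivial Γ(Y', i' ⁻¹ᵁ U') := Scheme.component_nontrivial Y' (i' ⁻¹ᵁ U')
  exact one_ne_zero h1

end Groth.Agent.Lib.Helper43.RegImmFlatBC
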