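import Mathlib.Tactic
import Groth.Agent.Lib.Helper43.KoszulPerf
import Groth.Agent.Lib.Helper75.Kz2
import Mathlib.Algebra.Homology.DerivedCategory.Linear

/-!
# Composition of Koszul-regular sequences (helper43)

* `kosOn K ts` : iterated cone of the multiplications `ts` on a complex `K`;
  `koszul_append`, `koszulCx_eq_kosOn`
* `cone_smul_iso`, `kosOn_iso` : these only depend on the class of `K` in `D(A)`
* `koszulRegular_append π hπ rs ts hker hrs hts` : `rs` Koszul-regular in `A`, `π : A → B` surjective
  with kernel `(rs)`, `ts.map π` Koszul-regular in `B` ⇒ `ts ++ rs` Koszul-regular in `A`.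
-/

set_option autoImplicit false
universe u

open CategoryTheory CategoryTheory.Limits DerivedCategory DRing CochainComplex Pretriangulated
attribute [local instance] HasDerivedCategory.standard

namespace Groth.Agent.Lib.Helper43.KoszulComp

variable {A : Type u} [CommRing A]

/-- iterated cone of multiplications on a complex -/
noncomputable def kosOn (K : Cx A) : List A → Cx A
  | [] => K
  | t :: ts => mappingCone (t • 𝟙 (kosOn K ts))

lemma koszul_append (ts rs : List A) :
    Koszul.koszul A (ts ++ rs) = kosOn (Koszul.koszul A rs) ts := by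
  induction ts with
  | nil => rfl
  | cons t ts ih =>
    change mappingCone (t • 𝟙 (Koszul.koszul A (ts ++ rs))) = mappingCone (t • 𝟙 (kosOn _ ts))
    rw [ih]

lemma koszulCx_eq_kosOn (M : ModuleCat.{u} A) (ts : List A) :
    CohIII.koszulCx M ts =
      kosOn ((HomologicalComplex.single (ModuleCat.{u} A) (ComplexShape.up ℤ) 0).obj M) ts := by
  induction ts with
  | nil => rfl
  | cons t ts ih =>
    change mappingCone (t • 𝟙 (CohIII.koszulCx M ts)) = mappingCone (t • 𝟙 (kosOn _ ts))
    rw [ih]

/-- cones of `t • 𝟙` on isomorphic objects of `D(A)` are isomorphic -/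
lemma cone_smul_iso (K L : Cx A) (t : A) (e : toD K ≅ toD L) :
    Nonempty (toD (mappingCone (t • 𝟙 K)) ≅ toD (mappingCone (t • 𝟙 L))) := by
  have hK := DerivedCategory.mappingCone_triangle_distinguished (t • 𝟙 K)
  have hL := DerivedCategory.mappingCone_triangle_distinguished (t • 𝟙 L)
  have comm : DerivedCategory.Q.map (t • 𝟙 K) ≫ e.hom = e.hom ≫ DerivedCategory.Q.map (t • 𝟙 L) := by
    rw [Functor.map_smul, Functor.map_smul, CategoryTheory.Functor.map_id,
      CategoryTheory.Functor.map_id]
    simp
  obtain ⟨c, hc1, hc2⟩ := complete_distinguished_triangle_morphism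
    (DerivedCategory.Q.mapTriangle.obj (mappingCone.triangle (t • 𝟙 K)))
    (DerivedCategory.Q.mapTriangle.obj (mappingCone.triangle (t • 𝟙 L))) hK hL e.hom e.hom comm
  let φ : DerivedCategory.Q.mapTriangle.obj (mappingCone.triangle (t • 𝟙 K)) ⟶
      DerivedCategory.Q.mapTriangle.obj (mappingCone.triangle (t • 𝟙 L)) :=
    { hom₁ := e.hom, hom₂ := e.hom, hom₃ := c, comm₁ := comm, comm₂ := hc1, comm₃ := hc2 }
  have h1 : IsIso φ.hom₁ := (inferInstance : IsIso e.hom)
  have h2 : IsIso φ.hom₂ := (inferInstance : IsIso e.hom)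
  have h3 : IsIso φ.hom₃ := isIso₃_of_isIso₁₂ φ hK hL h1 h2
  exact ⟨@asIso _ _ _ _ c h3⟩

lemma kosOn_iso (K L : Cx A) (e : toD K ≅ toD L) (ts : List A) :
    Nonempty (toD (kosOn K ts) ≅ toD (kosOn L ts)) := by
  induction ts with
  | nil => exact ⟨e⟩
  | cons t ts ih =>
    obtain ⟨e'⟩ := ih
    exact cone_smul_iso _ _ t e'

end Groth.Agent.Lib.Helper43.KoszulComp

namespace Groth.Agent.Lib.Helper43.KoszulComp

open Groth.Agent.Lib.Helper75.Kz Groth.Agent.Lib.Helper43.KoszulPerf

variable {A : Type u} [CommRing A]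

/-- `A/(rs) ≅ B` as `A`-modules when `π : A → B` is surjective with kernel `(rs)` -/
noncomputable def quotIsoRestrict {B : Type u} [CommRing B] (π : A →+* B)
    (hπ : Function.Surjective π) (rs : List A) (hker : RingHom.ker π = Ideal.ofList rs) :
    ModuleCat.of A (A ⧸ Ideal.ofList rs) ≅
      (ModuleCat.restrictScalars π).obj (ModuleCat.of B B) := by
  letI := π.toAlgebra
  let f : A →ₗ[A] B := Algebra.linearMap A B
  have hf : Function.Surjective f := hπ
  have hk : LinearMap.ker f = Ideal.ofList rs := by
    rw [← hker]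
    ext x
    rfl
  exact LinearEquiv.toModuleIso ((Submodule.quotEquivOfEq _ _ hk.symm).trans
    (f.quotKerEquivOfSurjective hf))

/-- **Composition of Koszul-regular sequences**: if `rs` is Koszul-regular in `A`, `π : A → B` is
surjective with kernel `(rs)` and the images of `ts` are Koszul-regular in `B`, then `ts ++ rs` is
Koszul-regular in `A`. -/
theorem koszulRegular_append {B : Type u} [CommRing B] (π : A →+* B)
    (hπ : Function.Surjective π) (rs ts : List A) (hker : RingHom.ker π = Ideal.ofList rs)
    (hrs : LCI.IsKoszulRegularSeq A rs) (hts : LCI.IsKoszulRegularSeq B (ts.map π)) :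
    LCI.IsKoszulRegularSeq A (ts ++ rs) := by
  intro i hi
  obtain ⟨e0⟩ := inD_iso_koszul rs hrs
  let M : ModuleCat.{u} A := (ModuleCat.restrictScalars π).obj (ModuleCat.of B B)
  have e1 : toD (Koszul.koszul A rs) ≅
      toD ((HomologicalComplex.single (ModuleCat.{u} A) (ComplexShape.up ℤ) 0).obj M) :=
    e0 ≪≫ (DerivedCategory.singleFunctor _ 0).mapIso (quotIsoRestrict π hπ rs hker) ≪≫
      (DerivedCategory.singleFunctorIsoCompQ (ModuleCat.{u} A) 0).app M
  obtain ⟨e2⟩ := kosOn_iso _ _ e1 ts
  rw [← koszul_append, ← koszulCx_eq_kosOn] at e2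
  have h1 : IsZero ((CohIII.koszulCx M ts).homology i) := by
    rw [isZero_homology_restrictScalars_iff, ← koszul_eq_koszulCx]
    exact hts i hi
  have e3 : (Koszul.koszul A (ts ++ rs)).homology i ≅ (CohIII.koszulCx M ts).homology i :=
    ((DerivedCategory.homologyFunctorFactors _ i).app _).symm ≪≫
      (DerivedCategory.homologyFunctor _ i).mapIso e2 ≪≫
      (DerivedCategory.homologyFunctorFactors _ i).app _
  exact h1.of_iso e3

end Groth.Agent.Lib.Helper43.KoszulComp
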