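import Mathlib.Tactic
import Groth.Agent.Lib.Helper43.KoszulComp
import Groth.Agent.Lib.Helper98.KoszulHomotopy
import Groth.Agent.Lib.Helper98.KoszulEulerPerm

/-!
# Koszul-regularity does not depend on the choice of generators (helper43)

* `nullH_of_mem_ofList` : multiplication by `s ∈ (l)` is null-homotopic on `K(l)`
* `cone_nullH_iso`, `koszul_append_nullH` : `K(ts ++ l) ≅ Dbl^|ts| K(l)` in `D(A)` if `ts ⊆ (l)`,
  where `Dbl Z = Z ⊞ Z⟦1⟧`
* `isZero_hh_of_dblPow_iso` : cancellation for iterated doubles (uses Orzech for f.g. modules)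
* `koszulRegular_of_same_length` : if `(f) = (g)`, `|f| = |g|` and `f` is Koszul-regular then so is `g`.
-/

set_option autoImplicit false
universe u

open CategoryTheory CategoryTheory.Limits DerivedCategory DRing CochainComplex HomComplex Pretriangulated
attribute [local instance] HasDerivedCategory.standard

namespace Groth.Agent.Lib.Helper43.KoszulGen

open Groth.Agent.Lib.Helper98.KoszulEuler Groth.Agent.Lib.Helper43.KoszulPerf

variable {A : Type u} [CommRing A]

lemma nullH_zero (C : Cx A) : NullH C (0 : A) := by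
  refine ⟨0, ?_⟩
  rw [δ_zero, zero_smul, Cochain.ofHom_zero]

lemma nullH_add {C : Cx A} {s t : A} (hs : NullH C s) (ht : NullH C t) : NullH C (s + t) := by
  obtain ⟨h1, hh1⟩ := hs
  obtain ⟨h2, hh2⟩ := ht
  refine ⟨h1 + h2, ?_⟩
  rw [δ_add, hh1, hh2, add_smul, Cochain.ofHom_add]

lemma nullH_mul {C : Cx A} (a : A) {s : A} (hs : NullH C s) : NullH C (a * s) := by
  obtain ⟨h1, hh1⟩ := hs
  refine ⟨a • h1, ?_⟩
  rw [δ_smul, hh1, mul_smul, ofHom_smul', ofHom_smul', ofHom_smul', smul_smul]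

/-- multiplication by an element of the ideal `(l)` is null-homotopic on the Koszul complex -/
theorem nullH_of_mem_ofList (l : List A) (s : A) (hs : s ∈ Ideal.ofList l) :
    NullH (Koszul.koszul A l) s := by
  induction hs using Submodule.span_induction with
  | mem x hx => exact nullH_koszul l x hx
  | zero => exact nullH_zero _
  | add x y _ _ hx hy => exact nullH_add hx hy
  | smul a x _ hx => exact nullH_mul a hx

/-- a null-homotopic `s • 𝟙` becomes zero in the derived category -/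
lemma Q_map_eq_zero_of_nullH {C : Cx A} {s : A} (h : NullH C s) :
    DerivedCategory.Q.map (s • 𝟙 C) = 0 := by
  obtain ⟨z, hz⟩ := h
  have H : Homotopy (s • 𝟙 C) 0 := (Cochain.equivHomotopy _ _).symm ⟨z, by
    rw [hz, Cochain.ofHom_zero, add_zero]⟩
  rw [DerivedCategory.Q_map_eq_of_homotopy (h := H), Functor.map_zero]

/-- the doubling operation `Z ↦ Z ⊞ Z⟦1⟧` on `D(A)` -/
noncomputable def Dbl (Z : Dual.D A) : Dual.D A := Z ⊞ Z⟦(1 : ℤ)⟧

noncomputable def dblIso {Z Z' : Dual.D A} (e : Z ≅ Z') : Dbl Z ≅ Dbl Z' :=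
  biprod.mapIso e ((CategoryTheory.shiftFunctor (Dual.D A) (1 : ℤ)).mapIso e)

noncomputable def DblPow : ℕ → Dual.D A → Dual.D A
  | 0, Z => Z
  | n + 1, Z => Dbl (DblPow n Z)

noncomputable def dblPowIso {Z Z' : Dual.D A} (e : Z ≅ Z') : ∀ n, DblPow n Z ≅ DblPow n Z'
  | 0 => e
  | n + 1 => dblIso (dblPowIso e n)

/-- the cone of a null-homotopic `s • 𝟙 K` splits in `D(A)` -/
lemma cone_nullH_iso (K : Cx A) (s : A) (h : NullH K s) :
    Nonempty (toD (mappingCone (s • 𝟙 K)) ≅ Dbl (toD K)) := by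
  have hT := DerivedCategory.mappingCone_triangle_distinguished (s • 𝟙 K)
  have hz : (DerivedCategory.Q.mapTriangle.obj (mappingCone.triangle (s • 𝟙 K))).rotate.mor₃ = 0 := by
    change -((DerivedCategory.Q.map (s • 𝟙 K))⟦(1 : ℤ)⟧') = 0
    rw [Q_map_eq_zero_of_nullH h, Functor.map_zero, neg_zero]
  obtain ⟨e, -, -⟩ := exists_iso_binaryBiproduct_of_distTriang _ (rot_of_distTriang _ hT) hz
  exact ⟨e⟩

/-- if all elements of `ts` lie in the ideal `(l)`, then `K(ts ++ l)` is an iterated double of `K(l)` -/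
lemma koszul_append_nullH (ts l : List A) (h : ∀ s ∈ ts, s ∈ Ideal.ofList l) :
    Nonempty (toD (Koszul.koszul A (ts ++ l)) ≅ DblPow ts.length (toD (Koszul.koszul A l))) := by
  induction ts with
  | nil => exact ⟨Iso.refl _⟩
  | cons s ts ih =>
    obtain ⟨e⟩ := ih (fun t ht => h t (List.mem_cons_of_mem _ ht))
    have hs : s ∈ Ideal.ofList (ts ++ l) := by
      rw [Ideal.ofList_append]
      exact Ideal.mem_sup_right (h s List.mem_cons_self)
    obtain ⟨e1⟩ := cone_nullH_iso (Koszul.koszul A (ts ++ l)) s (nullH_of_mem_ofList _ s hs)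
    exact ⟨e1 ≪≫ dblIso e⟩


/-! ### homology bookkeeping -/

/-- abbreviation for the cohomology modules of an object of `D(A)` -/
noncomputable abbrev hh (i : ℤ) (Z : Dual.D A) : ModuleCat.{u} A :=
  (DerivedCategory.homologyFunctor (ModuleCat.{u} A) i).obj Z

noncomputable def hDbl (Z : Dual.D A) (i : ℤ) : hh i (Dbl Z) ≅ hh i Z ⊞ hh (i + 1) Z := by
  haveI : PreservesBinaryBiproducts (DerivedCategory.homologyFunctor (ModuleCat.{u} A) i) :=
    preservesBinaryBiproducts_of_preservesBiproducts _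
  exact (DerivedCategory.homologyFunctor (ModuleCat.{u} A) i).mapBiprod Z (Z⟦(1 : ℤ)⟧) ≪≫
    biprod.mapIso (Iso.refl _)
      (((DerivedCategory.homologyFunctor (ModuleCat.{u} A) 0).shiftIso 1 i (i + 1)
        (add_comm 1 i)).app Z)

/-- cancellation: a finite module `P` with `P ≅ N ⊞ P` forces `N = 0` -/
lemma isZero_of_iso_biprod_self (P N : ModuleCat.{u} A) [Module.Finite A P] (φ : P ≅ N ⊞ P) :
    IsZero N := by
  let p : P ⟶ P := φ.hom ≫ biprod.snd
  have hsurj : Function.Surjective p.hom := by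
    intro x
    refine ⟨φ.inv.hom ((biprod.inr : P ⟶ N ⊞ P).hom x), ?_⟩
    change (φ.inv ≫ φ.hom ≫ biprod.snd).hom ((biprod.inr : P ⟶ N ⊞ P).hom x) = x
    rw [Iso.inv_hom_id_assoc]
    change ((biprod.inr : P ⟶ N ⊞ P) ≫ biprod.snd).hom x = x
    rw [biprod.inr_snd]
    rfl
  have hinj : Function.Injective p.hom :=
    OrzechProperty.injective_of_surjective_endomorphism p.hom hsurj
  haveI : Mono p := (ModuleCat.mono_iff_injective p).2 hinj
  have h0 : (biprod.inl : N ⟶ N ⊞ P) ≫ φ.inv = 0 := by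
    rw [← cancel_mono p]
    change ((biprod.inl : N ⟶ N ⊞ P) ≫ φ.inv) ≫ φ.hom ≫ biprod.snd = 0 ≫ p
    rw [Category.assoc, Iso.inv_hom_id_assoc, biprod.inl_snd, zero_comp]
  have h1 : (biprod.inl : N ⟶ N ⊞ P) = 0 := by
    have := congrArg (· ≫ φ.hom) h0
    simpa using this
  rw [IsZero.iff_id_eq_zero, ← biprod.inl_fst (X := N) (Y := P), h1, zero_comp]

lemma finite_hh_dblPow (X : Dual.D A) (hfin : ∀ i, Module.Finite A (hh i X)) :
    ∀ (n : ℕ) (i : ℤ), Module.Finite A (hh i (DblPow n X))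
  | 0, i => hfin i
  | n + 1, i => by
    haveI := finite_hh_dblPow X hfin n i
    haveI := finite_hh_dblPow X hfin n (i + 1)
    have e := hDbl (DblPow n X) i
    haveI : Module.Finite A ↑(hh i (DblPow n X) ⊞ hh (i + 1) (DblPow n X)) := by
      have e2 := (ModuleCat.biprodIsoProd (hh i (DblPow n X)) (hh (i + 1) (DblPow n X))).toLinearEquiv
      exact Module.Finite.equiv e2.symm
    exact Module.Finite.equiv e.toLinearEquiv.symm


/-- `X ≅ X ⊞ Z` when `Z` is zero -/
noncomputable def isoBiprodOfIsZero (X Z : ModuleCat.{u} A) (hZ : IsZero Z) : X ≅ X ⊞ Z where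
  hom := biprod.inl
  inv := biprod.fst
  hom_inv_id := biprod.inl_fst
  inv_hom_id := by
    apply biprod.hom_ext
    · simp
    · exact hZ.eq_of_tgt _ _

/-- bookkeeping: compare the cohomology of iterated doubles -/
lemma claim (X Y : Dual.D A) (m : ℤ) (hX : ∀ i : ℤ, i ≠ 0 → IsZero (hh i X))
    (hm : -m ≠ 0)
    (hY : ∀ i : ℤ, -m < i → i ≠ 0 → IsZero (hh i Y))
    (e0 : hh 0 Y ≅ hh 0 X) :
    ∀ n : ℕ, (∀ i : ℤ, -m < i → Nonempty (hh i (DblPow n Y) ≅ hh i (DblPow n X))) ∧
      Nonempty (hh (-m) (DblPow n Y) ≅ hh (-m) Y ⊞ hh (-m) (DblPow n X))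
  | 0 => by
    refine ⟨fun i hi => ?_, ⟨isoBiprodOfIsZero _ _ (hX _ hm)⟩⟩
    by_cases h0 : i = 0
    · subst h0; exact ⟨e0⟩
    · exact ⟨(hY i hi h0).iso (hX i h0)⟩
  | n + 1 => by
    obtain ⟨hA, ⟨hB⟩⟩ := claim X Y m hX hm hY e0 n
    refine ⟨fun i hi => ?_, ?_⟩
    · obtain ⟨a⟩ := hA i hi
      obtain ⟨b⟩ := hA (i + 1) (by omega)
      exact ⟨hDbl _ i ≪≫ biprod.mapIso a b ≪≫ (hDbl _ i).symm⟩
    · obtain ⟨b⟩ := hA (-m + 1) (by omega)
      exact ⟨hDbl _ (-m) ≪≫ biprod.mapIso hB b ≪≫ biprod.associator _ _ _ ≪≫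
        biprod.mapIso (Iso.refl _) (hDbl _ (-m)).symm⟩

/-- **Key cancellation**: if `X` has cohomology only in degree `0`, finitely generated, `Y` has
no cohomology in positive degrees and the same `H⁰`, and some iterated doubles of `X` and `Y` are
isomorphic, then `Y` has cohomology only in degree `0`. -/
theorem isZero_hh_of_dblPow_iso (X Y : Dual.D A) (hX : ∀ i : ℤ, i ≠ 0 → IsZero (hh i X))
    (hfin : Module.Finite A (hh 0 X))
    (hYpos : ∀ i : ℤ, 0 < i → IsZero (hh i Y)) (e0 : hh 0 Y ≅ hh 0 X)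
    (r : ℕ) (e : DblPow r X ≅ DblPow r Y) : ∀ i : ℤ, i ≠ 0 → IsZero (hh i Y) := by
  have hfinX : ∀ i, Module.Finite A (hh i X) := by
    intro i
    by_cases h0 : i = 0
    · subst h0; exact hfin
    · haveI : Subsingleton (hh i X) := ModuleCat.subsingleton_of_isZero (hX i h0)
      infer_instance
  -- strong induction on `m = -i`
  have key : ∀ (k : ℕ) (m : ℤ), m = (k : ℤ) + 1 →
      (∀ i : ℤ, -m < i → i ≠ 0 → IsZero (hh i Y)) → IsZero (hh (-m) Y) := by
    intro k m hmk hY
    have hm : -m ≠ 0 := by omega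
    obtain ⟨-, ⟨hB⟩⟩ := claim X Y m hX hm hY e0 r
    haveI := finite_hh_dblPow X hfinX r (-m)
    have φ : hh (-m) (DblPow r X) ≅ hh (-m) Y ⊞ hh (-m) (DblPow r X) :=
      (DerivedCategory.homologyFunctor (ModuleCat.{u} A) (-m)).mapIso e ≪≫ hB
    exact isZero_of_iso_biprod_self _ _ φ
  have all : ∀ (k : ℕ) (i : ℤ), -((k : ℤ) + 1) < i → i ≠ 0 → IsZero (hh i Y) := by
    intro k
    induction k with
    | zero =>
      intro i hi h0
      exact hYpos i (by omega)
    | succ k ih =>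
      intro i hi h0
      by_cases hik : -((k : ℤ) + 1) < i
      · exact ih i hik h0
      · have : i = -((k : ℤ) + 1) := by push_cast at hi ⊢; omega
        rw [this]
        exact key k _ rfl ih
  intro i h0
  by_cases hi : 0 < i
  · exact hYpos i hi
  · exact all (-i).toNat i (by omega) h0


/-- **Key Lemma**: two generating sequences of the same length of the same ideal: if one is
Koszul-regular then so is the other. -/
theorem koszulRegular_of_same_length (f g : List A) (hlen : f.length = g.length)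
    (hI : Ideal.ofList f = Ideal.ofList g) (hf : LCI.IsKoszulRegularSeq A f) :
    LCI.IsKoszulRegularSeq A g := by
  have hhK : ∀ (K : Cx A) (i : ℤ), hh i (toD K) ≅ K.homology i := fun K i =>
    (DerivedCategory.homologyFunctorFactors _ i).app K
  have hX : ∀ i : ℤ, i ≠ 0 → IsZero (hh i (toD (Koszul.koszul A f))) := fun i hi =>
    (hf i hi).of_iso (hhK _ i)
  obtain ⟨c1⟩ := koszul_homology_zero f
  obtain ⟨c2⟩ := koszul_homology_zero g
  rw [← hI] at c2
  have hfin : Module.Finite A (hh 0 (toD (Koszul.koszul A f))) := by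
    haveI : Module.Finite A (ModuleCat.of A (A ⧸ Ideal.ofList f)) :=
      inferInstanceAs (Module.Finite A (A ⧸ Ideal.ofList f))
    exact Module.Finite.equiv (hhK _ 0 ≪≫ c1).toLinearEquiv.symm
  have hYpos : ∀ i : ℤ, 0 < i → IsZero (hh i (toD (Koszul.koszul A g))) := fun i hi =>
    (ShortComplex.isZero_homology_of_isZero_X₂ _
      (koszul_vanishesOutside g i (Or.inr hi))).of_iso (hhK _ i)
  have e0 : hh 0 (toD (Koszul.koszul A g)) ≅ hh 0 (toD (Koszul.koszul A f)) :=
    hhK _ 0 ≪≫ c2 ≪≫ c1.symm ≪≫ (hhK _ 0).symm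
  obtain ⟨e1⟩ := koszul_append_nullH g f (fun s hs => by
    rw [hI]; exact Ideal.subset_span hs)
  obtain ⟨e2⟩ := koszul_append_nullH f g (fun s hs => by
    rw [← hI]; exact Ideal.subset_span hs)
  obtain ⟨e3⟩ := koszul_perm (A := A) (List.perm_append_comm (l₁ := g) (l₂ := f))
  rw [hlen] at e2
  have e : DblPow g.length (toD (Koszul.koszul A f)) ≅ DblPow g.length (toD (Koszul.koszul A g)) :=
    e1.symm ≪≫ DerivedCategory.Q.mapIso e3 ≪≫ e2
  intro i hi
  exact (isZero_hh_of_dblPow_iso _ _ hX hfin hYpos e0 g.length e i hi).of_iso (hhK _ i).symm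

end Groth.Agent.Lib.Helper43.KoszulGen
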