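import Mathlib.Tactic
import Groth.Agent.Lib.Helper43.KoszulComp
import Groth.Agent.Lib.Helper43.KoszulGen
import Groth.Agent.Lib.Helper43.SeqFlatBC
import Mathlib.RingTheory.Flat.Localization
import Mathlib.RingTheory.Localization.Algebra
import Mathlib.RingTheory.Localization.Away.Basic

/-!
# Koszul-regular ideals: charts, cancellation, composition (helper43)

* `koszulRegular_of_append` : cancellation, converse of `KoszulComp.koszulRegular_append`
* `flat_of_isLocalization` : a map out of a localization of `P` into a flat `P`-algebra is flat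
* `Chart K g l` : `l ⊆ K ⊆ P` generates `K` up to powers of `g` and is Koszul-regular in `P_g`
-/

set_option autoImplicit false
universe u

open CategoryTheory CategoryTheory.Limits DerivedCategory DRing CochainComplex Pretriangulated
attribute [local instance] HasDerivedCategory.standard

namespace Groth.Agent.Lib.Helper43.KRIdeal

open Groth.Agent.Lib.Helper75.Kz Groth.Agent.Lib.Helper43.KoszulPerf
open Groth.Agent.Lib.Helper43.KoszulComp Groth.Agent.Lib.Helper43.KoszulGen
open Groth.Agent.Lib.Helper43.SeqFlatBC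

variable {A : Type u} [CommRing A]

/-- **Cancellation of Koszul-regular sequences**: if `rs` is Koszul-regular in `A`, `π : A → B` is
surjective with kernel `(rs)` and `ts ++ rs` is Koszul-regular in `A`, then the images of `ts`
are Koszul-regular in `B`. -/
theorem koszulRegular_of_append {B : Type u} [CommRing B] (π : A →+* B)
    (hπ : Function.Surjective π) (rs ts : List A) (hker : RingHom.ker π = Ideal.ofList rs)
    (hrs : LCI.IsKoszulRegularSeq A rs) (hts : LCI.IsKoszulRegularSeq A (ts ++ rs)) :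
    LCI.IsKoszulRegularSeq B (ts.map π) := by
  intro i hi
  obtain ⟨e0⟩ := inD_iso_koszul rs hrs
  let M : ModuleCat.{u} A := (ModuleCat.restrictScalars π).obj (ModuleCat.of B B)
  have e1 : toD (Koszul.koszul A rs) ≅
      toD ((HomologicalComplex.single (ModuleCat.{u} A) (ComplexShape.up ℤ) 0).obj M) :=
    e0 ≪≫ (DerivedCategory.singleFunctor _ 0).mapIso (quotIsoRestrict π hπ rs hker) ≪≫
      (DerivedCategory.singleFunctorIsoCompQ (ModuleCat.{u} A) 0).app M
  obtain ⟨e2⟩ := kosOn_iso _ _ e1 ts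
  rw [← koszul_append, ← koszulCx_eq_kosOn] at e2
  have e3 : (Koszul.koszul A (ts ++ rs)).homology i ≅ (CohIII.koszulCx M ts).homology i :=
    ((DerivedCategory.homologyFunctorFactors _ i).app _).symm ≪≫
      (DerivedCategory.homologyFunctor _ i).mapIso e2 ≪≫
      (DerivedCategory.homologyFunctorFactors _ i).app _
  have h1 : IsZero ((CohIII.koszulCx M ts).homology i) := (hts i hi).of_iso e3.symm
  rw [isZero_homology_restrictScalars_iff, ← koszul_eq_koszulCx] at h1
  exact h1

/-- transport of Koszul-regular sequences along ring isomorphisms -/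
lemma koszulRegular_of_ringEquiv {B : Type u} [CommRing B] (e : A ≃+* B) (l : List A)
    (h : LCI.IsKoszulRegularSeq A l) : LCI.IsKoszulRegularSeq B (l.map e) :=
  koszulRegular_of_flat e.toRingHom (RingHom.Flat.of_bijective e.bijective) l h

/-- a ring map from a localization of `P` to a flat `P`-algebra, compatible with the structure
maps, is flat -/
lemma flat_of_isLocalization {P S₀ S : Type u} [CommRing P] [CommRing S₀] [CommRing S]
    [Algebra P S₀] [Algebra P S] (M : Submonoid P) [IsLocalization M S₀] [Module.Flat P S]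
    (φ : S₀ →+* S) (hφ : ∀ a, φ (algebraMap P S₀ a) = algebraMap P S a) : φ.Flat := by
  letI := φ.toAlgebra
  haveI : IsScalarTower P S₀ S := IsScalarTower.of_algebraMap_eq (fun a => (hφ a).symm)
  exact (Module.flat_iff_of_isLocalization S₀ M S).2 inferInstance


section Chart

variable {P : Type u} [CommRing P]

/-- `l ⊆ K` generates `K` up to powers of `g`, and `l` is Koszul-regular in `P_g` -/
structure Chart (K : Ideal P) (g : P) (l : List P) : Prop where
  sub : ∀ x ∈ l, x ∈ K
  gen : ∀ x ∈ K, ∃ u : ℕ, g ^ u * x ∈ Ideal.ofList l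
  kr : LCI.IsKoszulRegularSeq (Localization.Away g) (l.map (algebraMap P (Localization.Away g)))

variable {K : Ideal P} {g : P} {l : List P}

lemma Chart.kr_flat (c : Chart K g l) (S : Type u) [CommRing S] [Algebra P S] [Module.Flat P S]
    (hu : IsUnit (algebraMap P S g)) : LCI.IsKoszulRegularSeq S (l.map (algebraMap P S)) := by
  let φ : Localization.Away g →+* S := IsLocalization.Away.lift g hu
  have hφ : ∀ a, φ (algebraMap P _ a) = algebraMap P S a :=
    fun a => IsLocalization.Away.lift_eq g hu a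
  have h1 := koszulRegular_of_flat φ (flat_of_isLocalization (Submonoid.powers g) φ hφ) _ c.kr
  rw [List.map_map] at h1
  have h2 : (⇑φ ∘ ⇑(algebraMap P (Localization.Away g))) = ⇑(algebraMap P S) := funext hφ
  rwa [h2] at h1

lemma map_le_of_gen {K J : Ideal P} {g : P} (gen : ∀ x ∈ K, ∃ u : ℕ, g ^ u * x ∈ J)
    (S : Type u) [CommRing S] [Algebra P S] (hu : IsUnit (algebraMap P S g)) :
    K.map (algebraMap P S) ≤ J.map (algebraMap P S) := by
  rw [Ideal.map_le_iff_le_comap]
  intro x hx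
  obtain ⟨u, hu'⟩ := gen x hx
  have h1 : algebraMap P S (g ^ u * x) ∈ Ideal.map (algebraMap P S) J :=
    Ideal.mem_map_of_mem _ hu'
  rw [map_mul, map_pow] at h1
  exact (Ideal.unit_mul_mem_iff_mem _ (hu.pow u)).1 h1

lemma Chart.map_eq (c : Chart K g l) (S : Type u) [CommRing S] [Algebra P S]
    (hu : IsUnit (algebraMap P S g)) :
    K.map (algebraMap P S) = Ideal.ofList (l.map (algebraMap P S)) := by
  rw [← Ideal.map_ofList]
  apply le_antisymm
  · exact map_le_of_gen c.gen S hu
  · apply Ideal.map_mono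
    rw [Ideal.span_le]
    exact c.sub

lemma gen_of_map_le {K J : Ideal P} (g : P) (T : Type u) [CommRing T] [Algebra P T]
    [IsLocalization.Away g T] (h : K.map (algebraMap P T) ≤ J.map (algebraMap P T)) :
    ∀ x ∈ K, ∃ u : ℕ, g ^ u * x ∈ J := by
  intro x hx
  have h1 : algebraMap P T x ∈ J.map (algebraMap P T) := h (Ideal.mem_map_of_mem _ hx)
  rw [IsLocalization.algebraMap_mem_map_algebraMap_iff (Submonoid.powers g)] at h1
  obtain ⟨m, ⟨u, rfl⟩, hm⟩ := h1
  exact ⟨u, hm⟩

/-- the Prelude's notion gives charts -/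
lemma Chart.of_loc (K : Ideal P) (g : P) (T : Type u) [CommRing T] [Algebra P T]
    [IsLocalization.Away g T] (lT : List T) (hkr : LCI.IsKoszulRegularSeq T lT)
    (hgen : K.map (algebraMap P T) = Ideal.ofList lT) :
    ∃ l : List P, l.length = lT.length ∧ Chart K g l := by
  classical
  have key : ∀ y ∈ lT, ∃ x : P, x ∈ K ∧ ∃ v : T, IsUnit v ∧ algebraMap P T x = y * v := by
    intro y hy
    have h1 : y ∈ K.map (algebraMap P T) := by
      rw [hgen]; exact Ideal.subset_span hy
    rw [IsLocalization.mem_map_algebraMap_iff (Submonoid.powers g)] at h1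
    obtain ⟨⟨x, s⟩, hxs⟩ := h1
    exact ⟨x.1, x.2, algebraMap P T s.1, IsLocalization.map_units T s, hxs.symm⟩
  let c : T → P := fun y => if hy : y ∈ lT then (key y hy).choose else 0
  have hc : ∀ y ∈ lT, c y ∈ K ∧ ∃ v : T, IsUnit v ∧ algebraMap P T (c y) = y * v := by
    intro y hy
    simp only [c, dif_pos hy]
    exact (key y hy).choose_spec
  have hI : Ideal.ofList lT = Ideal.ofList ((lT.map c).map (algebraMap P T)) := by
    apply le_antisymm
    · rw [Ideal.span_le]
      intro y hy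
      obtain ⟨-, v, hv, hyv⟩ := hc y hy
      have h2 : algebraMap P T (c y) ∈ Ideal.ofList ((lT.map c).map (algebraMap P T)) :=
        Ideal.subset_span (List.mem_map.2 ⟨c y, List.mem_map.2 ⟨y, hy, rfl⟩, rfl⟩)
      rw [hyv, mul_comm] at h2
      exact (Ideal.unit_mul_mem_iff_mem _ hv).1 h2
    · rw [Ideal.span_le]
      intro z hz
      obtain ⟨x, hx, rfl⟩ := List.mem_map.1 hz
      obtain ⟨y, hy, rfl⟩ := List.mem_map.1 hx
      obtain ⟨-, v, hv, hyv⟩ := hc y hy
      change algebraMap P T (c y) ∈ Ideal.ofList lT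
      rw [hyv]
      exact Ideal.mul_mem_right _ _ (Ideal.subset_span hy)
  have hkr2 : LCI.IsKoszulRegularSeq T ((lT.map c).map (algebraMap P T)) :=
    koszulRegular_of_same_length lT _ (by simp) hI hkr
  refine ⟨lT.map c, by simp, ⟨?_, ?_, ?_⟩⟩
  · intro x hx
    obtain ⟨y, hy, rfl⟩ := List.mem_map.1 hx
    exact (hc y hy).1
  · apply gen_of_map_le g T
    rw [hgen, hI, Ideal.map_ofList]
  · let e : T ≃ₐ[P] Localization.Away g :=
      IsLocalization.algEquiv (Submonoid.powers g) T (Localization.Away g)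
    have h3 := koszulRegular_of_ringEquiv e.toRingEquiv _ hkr2
    rw [List.map_map] at h3
    have h4 : (⇑e.toRingEquiv ∘ ⇑(algebraMap P T)) = ⇑(algebraMap P (Localization.Away g)) :=
      funext (fun a => e.commutes a)
    rwa [h4] at h3

/-- charts at all primes give the Prelude's notion -/
lemma isKoszulRegularIdeal_of_charts (K : Ideal P)
    (h : ∀ 𝔭 : PrimeSpectrum P, K ≤ 𝔭.asIdeal → ∃ g : P, g ∉ 𝔭.asIdeal ∧ ∃ l, Chart K g l) :
    LCI.IsKoszulRegularIdeal K := by
  intro 𝔭 h𝔭
  obtain ⟨g, hg, l, c⟩ := h 𝔭 h𝔭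
  exact ⟨g, hg, l.map (algebraMap P (Localization.Away g)), c.kr,
    c.map_eq _ (IsLocalization.Away.algebraMap_isUnit g)⟩

lemma exists_chart {K : Ideal P} (h : LCI.IsKoszulRegularIdeal K) (𝔭 : PrimeSpectrum P)
    (h𝔭 : K ≤ 𝔭.asIdeal) : ∃ g : P, g ∉ 𝔭.asIdeal ∧ ∃ l, Chart K g l := by
  obtain ⟨g, hg, lT, hkr, hgen⟩ := h 𝔭 h𝔭
  obtain ⟨l, -, c⟩ := Chart.of_loc K g (Localization.Away g) lT hkr hgen
  exact ⟨g, hg, l, c⟩

lemma Chart.mul (c : Chart K g l) (t : P) : Chart K (g * t) l := by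
  refine ⟨c.sub, ?_, ?_⟩
  · intro x hx
    obtain ⟨u, hu⟩ := c.gen x hx
    refine ⟨u, ?_⟩
    have : (g * t) ^ u * x = t ^ u * (g ^ u * x) := by ring
    rw [this]
    exact Ideal.mul_mem_left _ _ hu
  · apply c.kr_flat
    have h1 : IsUnit (algebraMap P (Localization.Away (g * t)) (g * t)) :=
      IsLocalization.Away.algebraMap_isUnit (g * t)
    rw [map_mul] at h1
    exact isUnit_of_mul_isUnit_left h1

/-- replace the generators by another family of the same length -/
lemma Chart.of_same_length (c : Chart K g l) (l' : List P) (hlen : l'.length = l.length)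
    (hsub : ∀ x ∈ l', x ∈ K) (hgen : ∀ x ∈ K, ∃ u : ℕ, g ^ u * x ∈ Ideal.ofList l') :
    Chart K g l' := by
  refine ⟨hsub, hgen, ?_⟩
  have hu := IsLocalization.Away.algebraMap_isUnit (S := Localization.Away g) g
  apply koszulRegular_of_same_length _ _ (by simp [hlen]) ?_ c.kr
  rw [← c.map_eq _ hu, ← Ideal.map_ofList]
  apply le_antisymm
  · exact map_le_of_gen hgen _ hu
  · apply Ideal.map_mono
    rw [Ideal.span_le]
    exact hsub

end Chart


section Maps

variable {P : Type u} [CommRing P]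

/-- saturation of an ideal by the powers of `g` -/
def sat (g : P) (J : Ideal P) : Ideal P where
  carrier := {x | ∃ u : ℕ, g ^ u * x ∈ J}
  add_mem' := by
    rintro a b ⟨u, hu⟩ ⟨v, hv⟩
    refine ⟨u + v, ?_⟩
    have : g ^ (u + v) * (a + b) = g ^ v * (g ^ u * a) + g ^ u * (g ^ v * b) := by ring
    rw [this]
    exact J.add_mem (J.mul_mem_left _ hu) (J.mul_mem_left _ hv)
  zero_mem' := ⟨0, by simp⟩
  smul_mem' := by
    rintro c x ⟨u, hu⟩
    refine ⟨u, ?_⟩
    rw [smul_eq_mul, mul_left_comm]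
    exact J.mul_mem_left _ hu

lemma mem_sat {g : P} {J : Ideal P} {x : P} : x ∈ sat g J ↔ ∃ u : ℕ, g ^ u * x ∈ J := Iff.rfl

lemma le_sat (g : P) (J : Ideal P) : J ≤ sat g J := fun x hx => ⟨0, by simpa using hx⟩

lemma sat_mono (g : P) {J J' : Ideal P} (h : J ≤ J') : sat g J ≤ sat g J' :=
  fun _ ⟨u, hu⟩ => ⟨u, h hu⟩

lemma sat_sat_mul (g t : P) (J : Ideal P) : sat t (sat g J) ≤ sat (g * t) J := by
  rintro x ⟨u, v, hv⟩
  refine ⟨u + v, ?_⟩
  have : (g * t) ^ (u + v) * x = g ^ u * t ^ v * (g ^ v * (t ^ u * x)) := by ring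
  rw [this]
  exact J.mul_mem_left _ hv

lemma sat_le_sat_mul (g t : P) (J : Ideal P) : sat g J ≤ sat (g * t) J := by
  rintro x ⟨u, hu⟩
  refine ⟨u, ?_⟩
  have : (g * t) ^ u * x = t ^ u * (g ^ u * x) := by ring
  rw [this]
  exact J.mul_mem_left _ hu

lemma map_sat_le {P' : Type u} [CommRing P'] (φ : P →+* P') (g : P) (J : Ideal P) :
    (sat g J).map φ ≤ sat (φ g) (J.map φ) := by
  rw [Ideal.map_le_iff_le_comap]
  rintro x ⟨u, hu⟩
  refine ⟨u, ?_⟩
  rw [← map_pow, ← map_mul]
  exact Ideal.mem_map_of_mem _ hu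

/-- **Flat base change of Koszul-regular ideals.** -/
theorem koszulRegularIdeal_map_of_flat {P' : Type u} [CommRing P'] (φ : P →+* P') (hφ : φ.Flat)
    (K : Ideal P) (h : LCI.IsKoszulRegularIdeal K) : LCI.IsKoszulRegularIdeal (K.map φ) := by
  apply isKoszulRegularIdeal_of_charts
  intro 𝔓 h𝔓
  obtain ⟨g, hg, l, c⟩ := exists_chart h (PrimeSpectrum.comap φ 𝔓)
    (by rw [Ideal.map_le_iff_le_comap] at h𝔓; exact h𝔓)
  refine ⟨φ g, hg, l.map φ, ?_, ?_, ?_⟩
  · intro x hx
    obtain ⟨y, hy, rfl⟩ := List.mem_map.1 hx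
    exact Ideal.mem_map_of_mem _ (c.sub y hy)
  · have h1 : K ≤ sat g (Ideal.ofList l) := c.gen
    have h2 := (Ideal.map_mono (f := φ) h1).trans (map_sat_le φ g _)
    rw [Ideal.map_ofList] at h2
    exact h2
  · let ψ : P →+* Localization.Away (φ g) := (algebraMap P' (Localization.Away (φ g))).comp φ
    have hψ : ψ.Flat := hφ.comp (RingHom.flat_algebraMap_iff.2 (IsLocalization.flat _
      (Submonoid.powers (φ g))))
    letI := ψ.toAlgebra
    haveI : Module.Flat P (Localization.Away (φ g)) := hψ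
    have h1 := c.kr_flat (Localization.Away (φ g)) (IsLocalization.Away.algebraMap_isUnit (φ g))
    rw [List.map_map]
    exact h1

/-- the map induced on localizations by a surjection -/
lemma awayMap_props {P₁ : Type u} [CommRing P₁] (ρ : P →+* P₁) (hρ : Function.Surjective ρ)
    (g : P) :
    ∃ π : Localization.Away g →+* Localization.Away (ρ g), Function.Surjective π ∧
      RingHom.ker π = (RingHom.ker ρ).map (algebraMap P (Localization.Away g)) ∧
      ∀ a, π (algebraMap P _ a) = algebraMap P₁ _ (ρ a) := by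
  refine ⟨IsLocalization.Away.map (Localization.Away g) (Localization.Away (ρ g)) ρ g, ?_, ?_, ?_⟩
  · rw [IsLocalization.Away.map_surjective_iff]
    intro a
    obtain ⟨b, rfl⟩ := hρ a
    exact ⟨b, 0, by simp⟩
  · exact IsLocalization.ker_map (Localization.Away (ρ g)) ρ (Submonoid.map_powers ρ g)
  · intro a
    exact IsLocalization.map_eq _ a

end Maps


section Comp

variable {P P₁ : Type u} [CommRing P] [CommRing P₁]

/-- **Composition**: if `ρ : P → P₁` is surjective with Koszul-regular kernel and `I` is a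
Koszul-regular ideal of `P₁`, then `ρ⁻¹ I` is a Koszul-regular ideal of `P`. -/
theorem koszulRegularIdeal_comap (ρ : P →+* P₁) (hρ : Function.Surjective ρ)
    (hker : LCI.IsKoszulRegularIdeal (RingHom.ker ρ)) (I : Ideal P₁)
    (hI : LCI.IsKoszulRegularIdeal I) : LCI.IsKoszulRegularIdeal (I.comap ρ) := by
  apply isKoszulRegularIdeal_of_charts
  intro 𝔭 h𝔭
  have hkI : RingHom.ker ρ ≤ I.comap ρ := Ideal.comap_mono bot_le
  have hk𝔭 : RingHom.ker ρ ≤ 𝔭.asIdeal := hkI.trans h𝔭
  obtain ⟨g₁, hg₁, h, ch⟩ := exists_chart hker 𝔭 hk𝔭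
  haveI : (𝔭.asIdeal.map ρ).IsPrime := Ideal.map_isPrime_of_surjective hρ hk𝔭
  let 𝔭₁ : PrimeSpectrum P₁ := ⟨𝔭.asIdeal.map ρ, inferInstance⟩
  have hc𝔭 : (𝔭.asIdeal.map ρ).comap ρ = 𝔭.asIdeal := by
    rw [Ideal.comap_map_of_surjective ρ hρ]
    exact sup_eq_left.2 (by rw [← RingHom.ker_eq_comap_bot]; exact hk𝔭)
  have hI𝔭 : I ≤ 𝔭₁.asIdeal := by
    have := Ideal.map_mono (f := ρ) h𝔭
    rwa [Ideal.map_comap_of_surjective ρ hρ] at this
  obtain ⟨g₂, hg₂, l₁, cl⟩ := exists_chart hI 𝔭₁ hI𝔭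
  obtain ⟨g₂', rfl⟩ := hρ g₂
  have hg₂' : g₂' ∉ 𝔭.asIdeal := fun hh => hg₂ (Ideal.mem_map_of_mem _ hh)
  obtain ⟨ts, rfl⟩ := (List.map_surjective_iff.2 hρ) l₁
  refine ⟨g₁ * g₂', fun hh => (𝔭.2.mem_or_mem hh).elim hg₁ hg₂', ts ++ h, ?_, ?_, ?_⟩
  · intro x hx
    rcases List.mem_append.1 hx with hx | hx
    · exact cl.sub _ (List.mem_map_of_mem hx)
    · exact hkI (ch.sub x hx)
  · intro x hx
    obtain ⟨u, hu⟩ := cl.gen (ρ x) hx
    rw [← Ideal.map_ofList, ← map_pow, ← map_mul, ← Ideal.mem_comap,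
      Ideal.comap_map_of_surjective ρ hρ, ← RingHom.ker_eq_comap_bot] at hu
    obtain ⟨a, ha, k, hk, hak⟩ := Submodule.mem_sup.1 hu
    obtain ⟨v, hv⟩ := ch.gen k hk
    refine ⟨u + v, ?_⟩
    have e : (g₁ * g₂') ^ (u + v) * x = g₁ ^ u * g₂' ^ v * (g₁ ^ v * a + g₁ ^ v * k) := by
      rw [← mul_add, hak]; ring
    rw [e, Ideal.ofList_append]
    apply Ideal.mul_mem_left
    exact Ideal.add_mem _ (Ideal.mem_sup_left (Ideal.mul_mem_left _ _ ha)) (Ideal.mem_sup_right hv)
  · obtain ⟨π, hπ, hkerπ, hcomm⟩ := awayMap_props ρ hρ (g₁ * g₂')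
    set S := Localization.Away (g₁ * g₂')
    set B := Localization.Away (ρ (g₁ * g₂'))
    have hu : IsUnit (algebraMap P S (g₁ * g₂')) := IsLocalization.Away.algebraMap_isUnit _
    have hu₁ : IsUnit (algebraMap P S g₁) := by
      rw [map_mul] at hu; exact isUnit_of_mul_isUnit_left hu
    have huB : IsUnit (algebraMap P₁ B (ρ (g₁ * g₂'))) := IsLocalization.Away.algebraMap_isUnit _
    have hu₂ : IsUnit (algebraMap P₁ B (ρ g₂')) := by
      have e : algebraMap P₁ B (ρ (g₁ * g₂')) =
          algebraMap P₁ B (ρ g₁) * algebraMap P₁ B (ρ g₂') := by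
        rw [← map_mul, ← map_mul]
      rw [e] at huB; exact isUnit_of_mul_isUnit_right huB
    have hrs := ch.kr_flat S hu₁
    have hker' : RingHom.ker π = Ideal.ofList (h.map (algebraMap P S)) := by
      rw [hkerπ]; exact ch.map_eq S hu₁
    have hts : LCI.IsKoszulRegularSeq B ((ts.map (algebraMap P S)).map π) := by
      have := cl.kr_flat B hu₂
      rw [List.map_map] at this ⊢
      have e : (⇑π ∘ ⇑(algebraMap P S)) = (⇑(algebraMap P₁ B) ∘ ⇑ρ) := funext hcomm
      rwa [e]
    have := koszulRegular_append π hπ _ _ hker' hrs hts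
    rwa [← List.map_append] at this

end Comp


section Exchange

variable {P : Type u} [CommRing P]

/-- find a coefficient outside `𝔭` -/
lemma exists_coeff_not_mem (𝔭 H : Ideal P) (w : List P) :
    ∀ y : P, y ∈ H ⊔ Ideal.ofList w → y ∈ H ⊔ 𝔭 * Ideal.ofList w ∨
      ∃ (w₁ : List P) (b : P) (w₂ : List P) (c : P), w = w₁ ++ b :: w₂ ∧ c ∉ 𝔭 ∧
        c * b ∈ Ideal.span {y} ⊔ H ⊔ Ideal.ofList (w₁ ++ w₂) := by
  induction w with
  | nil =>
    intro y hy
    left
    rw [Ideal.ofList_nil, sup_bot_eq] at hy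
    exact Ideal.mem_sup_left hy
  | cons b w' ih =>
    intro y hy
    rw [Ideal.ofList_cons, ← sup_assoc, sup_comm H, sup_assoc] at hy
    obtain ⟨z, hz, y', hy', hzy⟩ := Submodule.mem_sup.1 hy
    obtain ⟨c, rfl⟩ := Ideal.mem_span_singleton'.1 hz
    by_cases hc : c ∈ 𝔭
    · rcases ih y' hy' with h1 | ⟨w₁, b', w₂, c', hw, hc', hcb⟩
      · left
        rw [← hzy]
        have h2 : c * b ∈ 𝔭 * Ideal.ofList (b :: w') :=
          Ideal.mul_mem_mul hc (Ideal.subset_span (List.mem_cons_self ..))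
        have h3 : H ⊔ 𝔭 * Ideal.ofList w' ≤ H ⊔ 𝔭 * Ideal.ofList (b :: w') := by
          apply sup_le_sup_left
          apply Ideal.mul_mono_right
          rw [Ideal.ofList_cons]
          exact le_sup_right
        exact Ideal.add_mem _ (Ideal.mem_sup_right h2) (h3 h1)
      · right
        refine ⟨b :: w₁, b', w₂, c', by rw [hw]; rfl, hc', ?_⟩
        have h4 : Ideal.span {y'} ⊔ H ⊔ Ideal.ofList (w₁ ++ w₂) ≤
            Ideal.span {y} ⊔ H ⊔ Ideal.ofList (b :: w₁ ++ w₂) := by
          rw [List.cons_append, Ideal.ofList_cons]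
          apply sup_le
          · apply sup_le
            · rw [Ideal.span_le, Set.singleton_subset_iff]
              have : y' = y - c * b := by rw [← hzy]; ring
              rw [this]
              apply Ideal.sub_mem
              · exact Ideal.mem_sup_left (Ideal.mem_sup_left (Ideal.subset_span rfl))
              · exact Ideal.mem_sup_right (Ideal.mem_sup_left
                  (Ideal.mul_mem_left _ _ (Ideal.subset_span rfl)))
            · exact le_sup_of_le_left le_sup_right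
          · exact le_sup_of_le_right le_sup_right
        exact h4 hcb
    · right
      refine ⟨[], b, w', c, rfl, hc, ?_⟩
      have : c * b = y - y' := by rw [← hzy]; ring
      rw [this, List.nil_append]
      apply Ideal.sub_mem
      · exact Ideal.mem_sup_left (Ideal.mem_sup_left (Ideal.subset_span rfl))
      · rw [sup_assoc]
        exact Ideal.mem_sup_right hy'

/-- **Exchange**: `h ⊆ K` independent modulo `𝔭 K` can be completed to a generating family of `K`
near `𝔭` by part of a given generating family. -/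
lemma exchange (K : Ideal P) (𝔭 : Ideal P) [𝔭.IsPrime] (N : ℕ) (h : List P)
    (hind : ∀ (h₁ : List P) (a : P) (h₂ : List P), h = h₁ ++ a :: h₂ → ∀ s : P, s ∉ 𝔭 →
      ∀ z ∈ Ideal.ofList h₁, s * a - z ∉ 𝔭 * K)
    (hsub : ∀ x ∈ h, x ∈ K) :
    ∀ (h₂ h₁ : List P), h = h₁ ++ h₂ → ∀ (g : P), g ∉ 𝔭 → ∀ (w : List P), (∀ x ∈ w, x ∈ K) →
      w.length + h₁.length = N → K ≤ sat g (Ideal.ofList (h₁ ++ w)) →
      ∃ t : P, t ∉ 𝔭 ∧ ∃ w' : List P, (∀ x ∈ w', x ∈ K) ∧ w'.length + h.length = N ∧
        K ≤ sat (g * t) (Ideal.ofList (h ++ w')) := by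
  intro h₂
  induction h₂ with
  | nil =>
    intro h₁ hh g hg w hw hlen hgen
    rw [List.append_nil] at hh
    subst hh
    refine ⟨1, (Ideal.ne_top_iff_one 𝔭).1 (Ideal.IsPrime.ne_top inferInstance), w, hw, hlen, ?_⟩
    rwa [mul_one]
  | cons a h₂' ih =>
    intro h₁ hh g hg w hw hlen hgen
    have haK : a ∈ K := hsub a (by rw [hh]; simp)
    obtain ⟨u, hu⟩ := hgen haK
    rw [Ideal.ofList_append] at hu
    rcases exists_coeff_not_mem 𝔭 (Ideal.ofList h₁) w _ hu with h1 | ⟨w₁, b, w₂, c, hw12, hc, hcb⟩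
    · exfalso
      obtain ⟨z, hz, z', hz', hzz⟩ := Submodule.mem_sup.1 h1
      have hgu : g ^ u ∉ 𝔭 := fun hh' => hg (Ideal.IsPrime.mem_of_pow_mem inferInstance _ hh')
      apply hind h₁ a h₂' hh (g ^ u) hgu z hz
      have : g ^ u * a - z = z' := by rw [← hzz]; ring
      rw [this]
      have h5 : 𝔭 * Ideal.ofList w ≤ 𝔭 * K := Ideal.mul_mono_right (by rw [Ideal.span_le]; exact hw)
      exact h5 hz'
    · subst hw12
      have hw' : ∀ x ∈ w₁ ++ w₂, x ∈ K := by
        intro x hx
        apply hw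
        rcases List.mem_append.1 hx with hx | hx
        · exact List.mem_append_left _ hx
        · exact List.mem_append_right _ (List.mem_cons_of_mem _ hx)
      have hlen' : (w₁ ++ w₂).length + (h₁ ++ [a]).length = N := by
        rw [← hlen]; simp; omega
      set J' := Ideal.ofList ((h₁ ++ [a]) ++ (w₁ ++ w₂)) with hJ'
      have hJ'e : J' = Ideal.ofList h₁ ⊔ Ideal.span {a} ⊔ Ideal.ofList (w₁ ++ w₂) := by
        rw [hJ', Ideal.ofList_append, Ideal.ofList_append, Ideal.ofList_singleton]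
      have hcbJ : c * b ∈ J' := by
        have : Ideal.span {g ^ u * a} ⊔ Ideal.ofList h₁ ⊔ Ideal.ofList (w₁ ++ w₂) ≤ J' := by
          rw [hJ'e]
          apply sup_le_sup_right
          rw [sup_comm]
          apply sup_le_sup_left
          rw [Ideal.span_le, Set.singleton_subset_iff]
          exact Ideal.mul_mem_left _ _ (Ideal.subset_span rfl)
        exact this hcb
      have hgen' : K ≤ sat (g * c) J' := by
        intro x hx
        obtain ⟨v, hv⟩ := hgen hx
        have h6 : Ideal.ofList (h₁ ++ (w₁ ++ b :: w₂)) =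
            Ideal.span {b} ⊔ (Ideal.ofList h₁ ⊔ Ideal.ofList (w₁ ++ w₂)) := by
          rw [Ideal.ofList_append, Ideal.ofList_append, Ideal.ofList_cons, Ideal.ofList_append]
          ac_rfl
        rw [h6] at hv
        obtain ⟨z, hz, j, hj, hzj⟩ := Submodule.mem_sup.1 hv
        obtain ⟨d, rfl⟩ := Ideal.mem_span_singleton'.1 hz
        have hjJ : j ∈ J' := by
          rw [hJ'e]
          have : Ideal.ofList h₁ ⊔ Ideal.ofList (w₁ ++ w₂) ≤
              Ideal.ofList h₁ ⊔ Ideal.span {a} ⊔ Ideal.ofList (w₁ ++ w₂) :=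
            sup_le_sup_right le_sup_left _
          exact this hj
        refine ⟨v + 1, ?_⟩
        have e : (g * c) ^ (v + 1) * x = g * c ^ v * (d * (c * b) + c * j) := by
          have : g ^ v * x = d * b + j := hzj.symm
          calc (g * c) ^ (v + 1) * x = g * c ^ v * (c * (g ^ v * x)) := by ring
            _ = _ := by rw [this]; ring
        rw [e]
        apply Ideal.mul_mem_left
        exact Ideal.add_mem _ (Ideal.mul_mem_left _ _ hcbJ) (Ideal.mul_mem_left _ _ hjJ)
      obtain ⟨t, ht, w', hw'K, hlen'', hgen''⟩ := ih (h₁ ++ [a]) (by rw [hh]; simp) (g * c)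
        (fun hh' => (Ideal.IsPrime.mem_or_mem inferInstance hh').elim hg hc) (w₁ ++ w₂) hw' hlen' hgen'
      refine ⟨c * t, fun hh' => (Ideal.IsPrime.mem_or_mem inferInstance hh').elim hc ht, w', hw'K,
        hlen'', ?_⟩
      rwa [← mul_assoc]

end Exchange


section Cancel

variable {P P₂ : Type u} [CommRing P] [CommRing P₂]

/-- **Cancellation for Koszul-regular ideals**: `ρ : P → P₂` surjective with kernel generated by
a Koszul-regular sequence `h`, `K ⊇ ker ρ` a Koszul-regular ideal such that `h` is independent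
modulo `𝔭 K` at all primes `𝔭 ⊇ K`. Then `ρ(K)` is a Koszul-regular ideal. -/
theorem koszulRegularIdeal_map (ρ : P →+* P₂) (hρ : Function.Surjective ρ) (h : List P)
    (hker : RingHom.ker ρ = Ideal.ofList h) (hkr : LCI.IsKoszulRegularSeq P h) (K : Ideal P)
    (hK : LCI.IsKoszulRegularIdeal K) (hle : RingHom.ker ρ ≤ K)
    (hind : ∀ 𝔭 : Ideal P, 𝔭.IsPrime → K ≤ 𝔭 → ∀ (h₁ : List P) (a : P) (h₂ : List P),
      h = h₁ ++ a :: h₂ → ∀ s : P, s ∉ 𝔭 → ∀ z ∈ Ideal.ofList h₁, s * a - z ∉ 𝔭 * K) :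
    LCI.IsKoszulRegularIdeal (K.map ρ) := by
  apply isKoszulRegularIdeal_of_charts
  intro 𝔭₂ h𝔭₂
  let 𝔭 : PrimeSpectrum P := PrimeSpectrum.comap ρ 𝔭₂
  have h𝔭 : K ≤ 𝔭.asIdeal := by rw [Ideal.map_le_iff_le_comap] at h𝔭₂; exact h𝔭₂
  have hsub : ∀ x ∈ h, x ∈ K := fun x hx => hle (by rw [hker]; exact Ideal.subset_span hx)
  obtain ⟨g₀, hg₀, l, c⟩ := exists_chart hK 𝔭 h𝔭
  obtain ⟨t, ht, w, hwK, hlen, hgen⟩ := exchange K 𝔭.asIdeal l.length h
    (hind 𝔭.asIdeal 𝔭.2 h𝔭) hsub h [] rfl g₀ hg₀ l c.sub (by simp)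
    (by rw [List.nil_append]; exact c.gen)
  have hgen' : K ≤ sat (g₀ * t) (Ideal.ofList (w ++ h)) := by
    rwa [Ideal.ofList_append, sup_comm, ← Ideal.ofList_append]
  have c' : Chart K (g₀ * t) (w ++ h) := (c.mul t).of_same_length (w ++ h)
    (by rw [List.length_append]; exact hlen)
    (fun x hx => (List.mem_append.1 hx).elim (hwK x) (hsub x)) hgen'
  have hmapbot : Ideal.ofList (h.map ρ) = ⊥ := by
    rw [← Ideal.map_ofList, ← hker, Ideal.map_eq_bot_iff_le_ker]
  refine ⟨ρ (g₀ * t), fun hh => (𝔭.2.mem_or_mem (show g₀ * t ∈ 𝔭.asIdeal from hh)).elim hg₀ ht,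
    w.map ρ, ?_, ?_, ?_⟩
  · intro x hx
    obtain ⟨y, hy, rfl⟩ := List.mem_map.1 hx
    exact Ideal.mem_map_of_mem _ (hwK y hy)
  · have h2 := (Ideal.map_mono (f := ρ) hgen').trans (map_sat_le ρ _ _)
    rw [Ideal.map_ofList, List.map_append, Ideal.ofList_append, hmapbot, sup_bot_eq] at h2
    exact h2
  · obtain ⟨π, hπ, hkerπ, hcomm⟩ := awayMap_props ρ hρ (g₀ * t)
    set S := Localization.Away (g₀ * t)
    set B := Localization.Away (ρ (g₀ * t))
    have hrs : LCI.IsKoszulRegularSeq S (h.map (algebraMap P S)) :=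
      koszulRegular_of_flat (algebraMap P S) (RingHom.flat_algebraMap_iff.2
        (IsLocalization.flat _ (Submonoid.powers (g₀ * t)))) h hkr
    have hker' : RingHom.ker π = Ideal.ofList (h.map (algebraMap P S)) := by
      rw [hkerπ, hker, Ideal.map_ofList]
    have hts : LCI.IsKoszulRegularSeq S (w.map (algebraMap P S) ++ h.map (algebraMap P S)) := by
      rw [← List.map_append]
      exact c'.kr
    have := koszulRegular_of_append π hπ _ _ hker' hrs hts
    rw [List.map_map] at this ⊢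
    have e : (⇑π ∘ ⇑(algebraMap P S)) = (⇑(algebraMap P₂ B) ∘ ⇑ρ) := funext hcomm
    rwa [e] at this

/-- transport of Koszul-regular ideals along ring isomorphisms -/
theorem koszulRegularIdeal_map_equiv (e : P ≃+* P₂) (K : Ideal P)
    (hK : LCI.IsKoszulRegularIdeal K) : LCI.IsKoszulRegularIdeal (K.map (e : P →+* P₂)) :=
  koszulRegularIdeal_map_of_flat _ (RingHom.Flat.of_bijective e.bijective) K hK

end Cancel

section Descend

variable {A : Type u} [CommRing A]

/-- charts of `K A_G` give charts of `K` at primes not containing `G` -/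
theorem exists_chart_of_away (K : Ideal A) (G : A)
    (hK : LCI.IsKoszulRegularIdeal (K.map (algebraMap A (Localization.Away G))))
    (𝔮 : PrimeSpectrum A) (hG : G ∉ 𝔮.asIdeal) (hle : K ≤ 𝔮.asIdeal) :
    ∃ g : A, g ∉ 𝔮.asIdeal ∧ ∃ l, Chart K g l := by
  have hdisj : Disjoint (Submonoid.powers G : Set A) (𝔮.asIdeal : Set A) := by
    rw [Set.disjoint_left]
    rintro x ⟨n, rfl⟩ hx
    exact hG (𝔮.2.mem_of_pow_mem _ hx)
  have hprime : (𝔮.asIdeal.map (algebraMap A (Localization.Away G))).IsPrime :=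
    IsLocalization.isPrime_of_isPrime_disjoint (Submonoid.powers G) _ _ 𝔮.2 hdisj
  have hcomap : (𝔮.asIdeal.map (algebraMap A (Localization.Away G))).comap
      (algebraMap A (Localization.Away G)) = 𝔮.asIdeal :=
    IsLocalization.comap_map_of_isPrime_disjoint (Submonoid.powers G) _ 𝔮.2 hdisj
  let 𝔮' : PrimeSpectrum (Localization.Away G) := ⟨_, hprime⟩
  obtain ⟨g'', hg'', lT, hkr, hgen⟩ := hK 𝔮' (Ideal.map_mono hle)
  obtain ⟨n, a, ha⟩ := IsLocalization.Away.surj G g''
  have hunit : IsUnit (algebraMap A (Localization.Away G) G ^ n) :=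
    (IsLocalization.Away.algebraMap_isUnit G).pow n
  have hassoc : Associated (algebraMap A (Localization.Away G) a) g'' := by
    obtain ⟨v, hv⟩ := hunit
    exact ⟨v⁻¹, by rw [← ha, ← hv, mul_assoc, Units.mul_inv, mul_one]⟩
  have haq : a ∉ 𝔮.asIdeal := by
    intro hh
    apply hg''
    have h1 : algebraMap A (Localization.Away G) a ∈ 𝔮'.asIdeal := Ideal.mem_map_of_mem _ hh
    rw [← ha] at h1
    exact (hprime.mem_or_mem h1).resolve_right (fun h2 => hprime.ne_top
      (Ideal.eq_top_of_isUnit_mem _ h2 hunit))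
  haveI : IsLocalization.Away (G * a) (Localization.Away g'') :=
    IsLocalization.Away.mul_of_associated G a g'' hassoc
  have hgen' : K.map (algebraMap A (Localization.Away g'')) = Ideal.ofList lT := by
    refine Eq.trans ?_ hgen
    rw [Ideal.map_map, ← IsScalarTower.algebraMap_eq]
  obtain ⟨l, -, c⟩ := Chart.of_loc K (G * a) (Localization.Away g'') lT hkr hgen'
  exact ⟨G * a, fun hh => (𝔮.2.mem_or_mem hh).elim hG haq, l, c⟩

end Descend

end Groth.Agent.Lib.Helper43.KRIdeal
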