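import Mathlib.Tactic
import Groth.Agent.Lib.Helper43.KRIdeal
import Groth.Agent.S18935
import Mathlib.RingTheory.Flat.EquationalCriterion
import Mathlib.RingTheory.Ideal.Colon
import Mathlib.RingTheory.Flat.FaithfullyFlat.Algebra
import Mathlib.RingTheory.Spectrum.Prime.Topology

/-!
# Faithfully flat descent of Koszul-regular ideals (helper43)

* `mem_map_colon_of_flat` : `(J : y) B = (J B : y)` for flat `B`
-/

set_option autoImplicit false
universe u

open CategoryTheory CategoryTheory.Limits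

namespace Groth.Agent.Lib.Helper43.KRDescent

open Groth.Agent.Lib.Helper43.KRIdeal Groth.Agent.Lib.Helper43.KoszulGen
open Groth.Agent.Lib.Helper43.SeqFlatBC

section Colon

variable {A B : Type u} [CommRing A] [CommRing B] [Algebra A B] [Module.Flat A B]

/-- flat base change of a colon ideal -/
lemma mem_map_colon_of_flat (J : Ideal A) (y : A) (b : B)
    (h : b * algebraMap A B y ∈ J.map (algebraMap A B)) :
    b ∈ (J.colon {y}).map (algebraMap A B) := by
  classical
  rw [Ideal.map, Ideal.span, Submodule.mem_span_set'] at h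
  obtain ⟨n, c, j, hsum⟩ := h
  choose j' hj' hjj' using fun i => (j i).2
  let f' : Option (Fin n) → A := fun o => o.elim y (fun i => -(j' i))
  let x' : Option (Fin n) → B := fun o => o.elim b (fun i => c i)
  have hrel : ∑ o, f' o • x' o = 0 := by
    rw [Fintype.sum_option]
    simp only [f', x', Option.elim_none, Option.elim_some]
    rw [Algebra.smul_def, mul_comm, ← hsum, ← Finset.sum_add_distrib]
    apply Finset.sum_eq_zero
    intro i _
    rw [neg_smul, Algebra.smul_def (j' i), smul_eq_mul, ← hjj' i, mul_comm]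
    exact add_neg_cancel _
  obtain ⟨k, a, z, hx, hj⟩ : ∃ (k : ℕ) (a : Option (Fin n) → Fin k → A) (z : Fin k → B),
      (∀ i, x' i = ∑ j, a i j • z j) ∧ ∀ j, ∑ i, f' i * a i j = 0 :=
    Module.Flat.isTrivialRelation_of_sum_smul_eq_zero (R := A) (M := B) (ι := Option (Fin n))
      (f := f') (x := x') hrel
  have hb : b = ∑ l, a none l • z l := hx none
  rw [hb]
  apply Ideal.sum_mem
  intro l _
  rw [Algebra.smul_def]
  apply Ideal.mul_mem_right
  apply Ideal.mem_map_of_mem
  rw [Submodule.mem_colon_singleton, smul_eq_mul]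
  have := hj l
  rw [Fintype.sum_option] at this
  simp only [f', Option.elim_none, Option.elim_some] at this
  have e : a none l * y = ∑ i, j' i * a (some i) l := by
    have h2 : y * a none l = -∑ i, -(j' i) * a (some i) l := eq_neg_of_add_eq_zero_left this
    rw [mul_comm, h2, ← Finset.sum_neg_distrib]
    exact Finset.sum_congr rfl fun i _ => by ring
  rw [e]
  exact Ideal.sum_mem _ fun i _ => Ideal.mul_mem_right _ _ (hj' i)

/-- transfer of local membership between two primes with the same contraction -/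
lemma transfer (J : Ideal A) (y : A) (𝔮₁ 𝔮₂ : Ideal B) [𝔮₁.IsPrime]
    (hcon : 𝔮₁.comap (algebraMap A B) = 𝔮₂.comap (algebraMap A B))
    (h : ∃ s₁ : B, s₁ ∉ 𝔮₁ ∧ s₁ * algebraMap A B y ∈ J.map (algebraMap A B)) :
    ∃ t : A, algebraMap A B t ∉ 𝔮₂ ∧ t * y ∈ J := by
  obtain ⟨s₁, hs₁, hmem⟩ := h
  have h1 := mem_map_colon_of_flat J y s₁ hmem
  by_contra hcon'
  push Not at hcon'
  have h2 : J.colon {y} ≤ 𝔮₁.comap (algebraMap A B) := by
    intro t ht
    rw [hcon, Ideal.mem_comap]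
    by_contra h3
    exact hcon' t h3 (by rwa [Submodule.mem_colon_singleton, smul_eq_mul] at ht)
  have h4 : (J.colon {y}).map (algebraMap A B) ≤ 𝔮₁ := by
    rw [Ideal.map_le_iff_le_comap]; exact h2
  exact hs₁ (h4 h1)

end Colon


section Gens

variable {B : Type u} [CommRing B]

/-- elements whose `b`-coefficient modulo `J` (up to powers of `g`) can be taken in `𝔮` -/
def coeffIdeal (𝔮 J : Ideal B) (g b : B) : Ideal B where
  carrier := {x | ∃ (u : ℕ) (d : B), d ∈ 𝔮 ∧ g ^ u * x - d * b ∈ J}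
  add_mem' := by
    rintro x x' ⟨u, d, hd, h⟩ ⟨u', d', hd', h'⟩
    refine ⟨u + u', g ^ u' * d + g ^ u * d', 𝔮.add_mem (𝔮.mul_mem_left _ hd)
      (𝔮.mul_mem_left _ hd'), ?_⟩
    have e : g ^ (u + u') * (x + x') - (g ^ u' * d + g ^ u * d') * b =
        g ^ u' * (g ^ u * x - d * b) + g ^ u * (g ^ u' * x' - d' * b) := by ring
    rw [e]
    exact J.add_mem (J.mul_mem_left _ h) (J.mul_mem_left _ h')
  zero_mem' := ⟨0, 0, 𝔮.zero_mem, by simp⟩
  smul_mem' := by
    rintro c x ⟨u, d, hd, h⟩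
    refine ⟨u, c * d, 𝔮.mul_mem_left _ hd, ?_⟩
    have e : g ^ u * (c • x) - c * d * b = c * (g ^ u * x - d * b) := by
      rw [smul_eq_mul]; ring
    rw [e]
    exact J.mul_mem_left _ h

lemma sat_swap {K J J' : Ideal B} {g b d : B} (hK : K ≤ sat g (J ⊔ Ideal.span {b}))
    (hd : d * b ∈ J') (hJ : J ≤ J') : K ≤ sat (g * d) J' := by
  intro y hy
  obtain ⟨v, hv⟩ := hK hy
  obtain ⟨j, hj, z, hz, hjz⟩ := Submodule.mem_sup.1 hv
  obtain ⟨e, rfl⟩ := Ideal.mem_span_singleton'.1 hz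
  refine ⟨v + 1, ?_⟩
  have e1 : (g * d) ^ (v + 1) * y = g * d ^ v * (d * j + e * (d * b)) := by
    calc (g * d) ^ (v + 1) * y = g * d ^ v * (d * (g ^ v * y)) := by ring
      _ = _ := by rw [← hjz]; ring
  rw [e1]
  exact J'.mul_mem_left _ (J'.add_mem (J'.mul_mem_left _ (hJ hj)) (J'.mul_mem_left _ hd))

lemma ofList_insert (h w' : List B) (b : B) :
    Ideal.ofList (h ++ b :: w') = Ideal.ofList (h ++ w') ⊔ Ideal.span {b} := by
  rw [Ideal.ofList_append, Ideal.ofList_cons, Ideal.ofList_append]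
  ac_rfl

/-- replace one generator of a chart by an element of a generating subset -/
lemma chart_replace (K 𝔮 : Ideal B) [𝔮.IsPrime] (hK𝔮 : K ≤ 𝔮) (Sg : Set B)
    (hSK : ∀ x ∈ Sg, x ∈ K) (hSg : K ≤ Ideal.span Sg) (g : B) (hg : g ∉ 𝔮) (h w' : List B) (b : B)
    (c : Chart K g (h ++ b :: w')) :
    ∃ x ∈ Sg, ∃ d : B, d ∉ 𝔮 ∧ Chart K (g * d) (h ++ x :: w') := by
  classical
  set J := Ideal.ofList (h ++ w') with hJ
  have hJK : J ≤ K := by
    rw [hJ, Ideal.span_le]
    intro x hx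
    apply c.sub
    rcases List.mem_append.1 hx with hx | hx
    · exact List.mem_append_left _ hx
    · exact List.mem_append_right _ (List.mem_cons_of_mem _ hx)
  have hgen : K ≤ sat g (J ⊔ Ideal.span {b}) := by
    rw [hJ, ← ofList_insert]; exact c.gen
  have hbK : b ∈ K := c.sub b (by simp)
  by_cases hall : ∀ x ∈ Sg, x ∈ coeffIdeal 𝔮 J g b
  · exfalso
    have h1 : K ≤ coeffIdeal 𝔮 J g b := hSg.trans (Ideal.span_le.2 hall)
    obtain ⟨u, d, hd, hmem⟩ := h1 hbK
    set s := g ^ u - d with hs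
    have hs𝔮 : s ∉ 𝔮 := by
      intro hh
      have : g ^ u ∈ 𝔮 := by
        have e : g ^ u = s + d := by rw [hs]; ring
        rw [e]; exact 𝔮.add_mem hh hd
      exact hg (Ideal.IsPrime.mem_of_pow_mem inferInstance _ this)
    have hsb : s * b ∈ J := by
      have e : s * b = g ^ u * b - d * b := by rw [hs]; ring
      rw [e]; exact hmem
    have hgen2 : K ≤ sat (g * s) J := sat_swap hgen hsb le_rfl
    -- minimality in the localization
    set R' := Localization.Away (g * s)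
    have hu : IsUnit (algebraMap B R' (g * s)) := IsLocalization.Away.algebraMap_isUnit _
    have hne : K.map (algebraMap B R') ≠ ⊤ := by
      have hdisj : Disjoint (Submonoid.powers (g * s) : Set B) (𝔮 : Set B) := by
        rw [Set.disjoint_left]
        rintro x ⟨n, rfl⟩ hx
        exact (Ideal.IsPrime.mem_or_mem inferInstance
          (Ideal.IsPrime.mem_of_pow_mem inferInstance _ hx)).elim hg hs𝔮
      have h𝔮ne : 𝔮.map (algebraMap B R') ≠ ⊤ :=
        (IsLocalization.map_algebraMap_ne_top_iff_disjoint (Submonoid.powers (g * s)) R' 𝔮).2 hdisj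
      intro htop
      apply h𝔮ne
      rw [eq_top_iff, ← htop]
      exact Ideal.map_mono hK𝔮
    have c2 := c.mul s
    have hl₁ : Ideal.ofList ((h ++ b :: w').map (algebraMap B R')) = K.map (algebraMap B R') :=
      (c2.map_eq R' hu).symm
    have hl₂ : Ideal.ofList ((h ++ w').map (algebraMap B R')) = K.map (algebraMap B R') := by
      rw [← Ideal.map_ofList]
      apply le_antisymm
      · exact Ideal.map_mono hJK
      · exact map_le_of_gen hgen2 R' hu
    have := Groth.Agent.S18935.length_le_of_koszulRegular hne _ c2.kr hl₁ _ hl₂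
    simp at this
  · push Not at hall
    obtain ⟨x, hxS, hxT⟩ := hall
    obtain ⟨u, hu⟩ := hgen (hSK x hxS)
    obtain ⟨j, hj, z, hz, hjz⟩ := Submodule.mem_sup.1 hu
    obtain ⟨d, rfl⟩ := Ideal.mem_span_singleton'.1 hz
    have hd : d ∉ 𝔮 := by
      intro hd
      apply hxT
      refine ⟨u, d, hd, ?_⟩
      have e : g ^ u * x - d * b = j := by rw [← hjz]; ring
      rw [e]; exact hj
    refine ⟨x, hxS, d, hd, ?_⟩
    have hdb : d * b ∈ J ⊔ Ideal.span {x} := by
      have e : d * b = g ^ u * x - j := by rw [← hjz]; ring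
      rw [e]
      exact Ideal.sub_mem _ (Ideal.mem_sup_right (Ideal.mul_mem_left _ _ (Ideal.subset_span rfl)))
        (Ideal.mem_sup_left hj)
    have hgen3 : K ≤ sat (g * d) (Ideal.ofList (h ++ x :: w')) := by
      rw [ofList_insert]
      exact sat_swap hgen hdb le_sup_left
    refine (c.mul d).of_same_length _ (by simp) ?_ hgen3
    intro y hy
    rcases List.mem_append.1 hy with hy | hy
    · exact c.sub y (List.mem_append_left _ hy)
    · rcases List.mem_cons.1 hy with rfl | hy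
      · exact hSK _ hxS
      · exact c.sub y (List.mem_append_right _ (List.mem_cons_of_mem _ hy))

/-- a chart can be replaced by one whose generators are taken from a generating subset -/
lemma chart_from_subset (K 𝔮 : Ideal B) [𝔮.IsPrime] (hK𝔮 : K ≤ 𝔮) (Sg : Set B)
    (hSK : ∀ x ∈ Sg, x ∈ K) (hSg : K ≤ Ideal.span Sg) :
    ∀ (w h : List B) (g : B), g ∉ 𝔮 → (∀ x ∈ h, x ∈ Sg) → Chart K g (h ++ w) →
      ∃ (f : List B) (g₁ : B), (∀ x ∈ f, x ∈ Sg) ∧ f.length = h.length + w.length ∧ g₁ ∉ 𝔮 ∧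
        Chart K g₁ f := by
  intro w
  induction w with
  | nil =>
    intro h g hg hh c
    rw [List.append_nil] at c
    exact ⟨h, g, hh, by simp, hg, c⟩
  | cons b w' ih =>
    intro h g hg hh c
    obtain ⟨x, hx, d, hd, c'⟩ := chart_replace K 𝔮 hK𝔮 Sg hSK hSg g hg h w' b c
    have c'' : Chart K (g * d) ((h ++ [x]) ++ w') := by
      rw [List.append_assoc]; exact c'
    obtain ⟨f, g₁, hf, hlen, hg₁, cf⟩ := ih (h ++ [x]) (g * d)
      (fun hh' => (Ideal.IsPrime.mem_or_mem inferInstance hh').elim hg hd)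
      (fun y hy => (List.mem_append.1 hy).elim (hh y) (fun hy' => by
        rw [List.mem_singleton] at hy'; rw [hy']; exact hx)) c''
    refine ⟨f, g₁, hf, ?_, hg₁, cf⟩
    rw [hlen]; simp; omega

end Gens


section Trivial

attribute [local instance] HasDerivedCategory.standard

variable {B : Type u} [CommRing B]

/-- if `1 ∈ (l)` then `l` is Koszul-regular (the Koszul complex is contractible) -/
lemma koszulRegular_of_one_mem (l : List B) (h : (1 : B) ∈ Ideal.ofList l) :
    LCI.IsKoszulRegularSeq B l := by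
  intro i _
  have h0 := Q_map_eq_zero_of_nullH (nullH_of_mem_ofList l 1 h)
  rw [one_smul, CategoryTheory.Functor.map_id] at h0
  have hz : IsZero (DerivedCategory.Q.obj (Koszul.koszul B l)) := (IsZero.iff_id_eq_zero _).2 h0
  have e := (DerivedCategory.homologyFunctorFactors (ModuleCat.{u} B) i).app (Koszul.koszul B l)
  exact ((DerivedCategory.homologyFunctor _ i).map_isZero hz).of_iso e.symm

/-- the trivial chart at primes not containing `(f)` -/
lemma chart_of_mem (K : Ideal B) (f : List B) (hf : ∀ x ∈ f, x ∈ K) (g : B)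
    (hg : g ∈ Ideal.ofList f) : Chart K g f := by
  refine ⟨hf, fun x _ => ⟨1, by rw [pow_one]; exact Ideal.mul_mem_right _ _ hg⟩, ?_⟩
  apply koszulRegular_of_one_mem
  have h1 : algebraMap B (Localization.Away g) g ∈
      Ideal.ofList (f.map (algebraMap B (Localization.Away g))) := by
    rw [← Ideal.map_ofList]; exact Ideal.mem_map_of_mem _ hg
  have hu := IsLocalization.Away.algebraMap_isUnit (S := Localization.Away g) g
  rw [← Ideal.eq_top_iff_one]
  exact Ideal.eq_top_of_isUnit_mem _ h1 hu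

/-- a Koszul-regular chart has minimal length among generating families near `𝔮` -/
lemma chart_length_le {K : Ideal B} {g : B} {l : List B} (c : Chart K g l) (𝔮 : Ideal B)
    [𝔮.IsPrime] (hK𝔮 : K ≤ 𝔮) (hg : g ∉ 𝔮) (l' : List B) (hl' : ∀ x ∈ l', x ∈ K)
    (hgen : K ≤ sat g (Ideal.ofList l')) : l.length ≤ l'.length := by
  set R' := Localization.Away g
  have hu : IsUnit (algebraMap B R' g) := IsLocalization.Away.algebraMap_isUnit _
  have hne : K.map (algebraMap B R') ≠ ⊤ := by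
    have hdisj : Disjoint (Submonoid.powers g : Set B) (𝔮 : Set B) := by
      rw [Set.disjoint_left]
      rintro x ⟨n, rfl⟩ hx
      exact hg (Ideal.IsPrime.mem_of_pow_mem inferInstance _ hx)
    have h𝔮ne : 𝔮.map (algebraMap B R') ≠ ⊤ :=
      (IsLocalization.map_algebraMap_ne_top_iff_disjoint (Submonoid.powers g) R' 𝔮).2 hdisj
    intro htop
    apply h𝔮ne
    rw [eq_top_iff, ← htop]
    exact Ideal.map_mono hK𝔮
  have hl₁ : Ideal.ofList (l.map (algebraMap B R')) = K.map (algebraMap B R') :=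
    (c.map_eq R' hu).symm
  have hl₂ : Ideal.ofList (l'.map (algebraMap B R')) = K.map (algebraMap B R') := by
    rw [← Ideal.map_ofList]
    apply le_antisymm
    · apply Ideal.map_mono
      rw [Ideal.span_le]; exact hl'
    · exact map_le_of_gen hgen R' hu
  have := Groth.Agent.S18935.length_le_of_koszulRegular hne _ c.kr hl₁ _ hl₂
  simpa using this

end Trivial

section Transfer

variable {A B : Type u} [CommRing A] [CommRing B] [Algebra A B] [Module.Flat A B]

lemma exists_lift_list (I : Ideal A) :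
    ∀ l : List B, (∀ x ∈ l, x ∈ (algebraMap A B) '' (I : Set A)) →
      ∃ l' : List A, (∀ x ∈ l', x ∈ I) ∧ l'.map (algebraMap A B) = l := by
  intro l
  induction l with
  | nil => intro _; exact ⟨[], by simp, rfl⟩
  | cons b t ih =>
    intro h
    obtain ⟨a, ha, rfl⟩ := h b (by simp)
    obtain ⟨t', ht', rfl⟩ := ih (fun x hx => h x (List.mem_cons_of_mem _ hx))
    refine ⟨a :: t', ?_, rfl⟩
    intro x hx
    rcases List.mem_cons.1 hx with rfl | hx
    · exact ha
    · exact ht' x hx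

/-- simultaneous transfer for a finite list -/
lemma transfer_list (J : Ideal A) (𝔮₁ 𝔮₂ : Ideal B) [𝔮₁.IsPrime] [𝔮₂.IsPrime]
    (hcon : 𝔮₁.comap (algebraMap A B) = 𝔮₂.comap (algebraMap A B)) :
    ∀ l : List A, (∀ y ∈ l, ∃ s₁ : B, s₁ ∉ 𝔮₁ ∧
      s₁ * algebraMap A B y ∈ J.map (algebraMap A B)) →
      ∃ t : A, algebraMap A B t ∉ 𝔮₂ ∧ ∀ y ∈ l, t * y ∈ J := by
  intro l
  induction l with
  | nil =>
    intro _
    exact ⟨1, by rw [map_one]; exact (Ideal.ne_top_iff_one 𝔮₂).1 (Ideal.IsPrime.ne_top inferInstance),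
      by simp⟩
  | cons y l' ih =>
    intro h
    obtain ⟨t₁, ht₁, hty⟩ := transfer J y 𝔮₁ 𝔮₂ hcon (h y (by simp))
    obtain ⟨t₂, ht₂, htl⟩ := ih (fun z hz => h z (List.mem_cons_of_mem _ hz))
    refine ⟨t₁ * t₂, ?_, ?_⟩
    · rw [map_mul]
      exact fun hh => (Ideal.IsPrime.mem_or_mem inferInstance hh).elim ht₁ ht₂
    · intro z hz
      rcases List.mem_cons.1 hz with rfl | hz
      · rw [mul_comm t₁ t₂, mul_assoc]; exact J.mul_mem_left _ hty
      · rw [mul_assoc]; exact J.mul_mem_left _ (htl z hz)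

/-- **Saturation**: a chart of `I B` by elements of `I` at one prime gives a chart with the same
elements at any other prime with the same contraction. -/
lemma chart_transfer (I : Ideal A) (hKR : LCI.IsKoszulRegularIdeal (I.map (algebraMap A B)))
    (f : List A) (hfI : ∀ x ∈ f, x ∈ I) (𝔮₁ 𝔮₂ : PrimeSpectrum B)
    (hcon : 𝔮₁.asIdeal.comap (algebraMap A B) = 𝔮₂.asIdeal.comap (algebraMap A B))
    (g₁ : B) (hg₁ : g₁ ∉ 𝔮₁.asIdeal)
    (c₁ : Chart (I.map (algebraMap A B)) g₁ (f.map (algebraMap A B))) :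
    ∃ g₂ : B, g₂ ∉ 𝔮₂.asIdeal ∧
      Chart (I.map (algebraMap A B)) g₂ (f.map (algebraMap A B)) := by
  classical
  set K := I.map (algebraMap A B) with hK
  haveI := 𝔮₁.2
  haveI := 𝔮₂.2
  have hfK : ∀ x ∈ f.map (algebraMap A B), x ∈ K := by
    intro x hx
    obtain ⟨y, hy, rfl⟩ := List.mem_map.1 hx
    exact Ideal.mem_map_of_mem _ (hfI y hy)
  -- elements of `I` are locally in `(f)` near `𝔮₁`
  have hloc₁ : ∀ y ∈ I, ∃ s₁ : B, s₁ ∉ 𝔮₁.asIdeal ∧
      s₁ * algebraMap A B y ∈ (Ideal.ofList f).map (algebraMap A B) := by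
    intro y hy
    obtain ⟨u, hu⟩ := c₁.gen _ (Ideal.mem_map_of_mem _ hy)
    rw [← Ideal.map_ofList] at hu
    exact ⟨g₁ ^ u, fun hh => hg₁ (Ideal.IsPrime.mem_of_pow_mem inferInstance _ hh), hu⟩
  by_cases hK𝔮₂ : K ≤ 𝔮₂.asIdeal
  · have hI𝔭 : I ≤ 𝔮₂.asIdeal.comap (algebraMap A B) := Ideal.map_le_iff_le_comap.1 hK𝔮₂
    have hK𝔮₁ : K ≤ 𝔮₁.asIdeal := Ideal.map_le_iff_le_comap.2 (hcon ▸ hI𝔭)
    obtain ⟨g₂, hg₂, l₂, c₂⟩ := exists_chart hKR 𝔮₂ hK𝔮₂
    obtain ⟨f₂', g₂', hf₂', hlen₂, hg₂', cf₂⟩ := chart_from_subset K 𝔮₂.asIdeal hK𝔮₂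
      ((algebraMap A B) '' (I : Set A))
      (by rintro _ ⟨a, ha, rfl⟩; exact Ideal.mem_map_of_mem _ ha) le_rfl l₂ [] g₂ hg₂
      (by simp) (by simpa using c₂)
    obtain ⟨f₂, hf₂I, rfl⟩ := exists_lift_list I f₂' hf₂'
    -- `f₂ ⊆ (f)` near `𝔮₂`
    obtain ⟨t₂, ht₂, ht₂f⟩ := transfer_list (Ideal.ofList f) 𝔮₁.asIdeal 𝔮₂.asIdeal hcon f₂
      (fun y hy => hloc₁ y (hf₂I y hy))
    -- `f ⊆ (f₂)` near `𝔮₁`
    have hloc₂ : ∀ y ∈ f, ∃ s₂ : B, s₂ ∉ 𝔮₂.asIdeal ∧
        s₂ * algebraMap A B y ∈ (Ideal.ofList f₂).map (algebraMap A B) := by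
      intro y hy
      obtain ⟨u, hu⟩ := cf₂.gen _ (Ideal.mem_map_of_mem _ (hfI y hy))
      rw [← Ideal.map_ofList] at hu
      exact ⟨g₂' ^ u, fun hh => hg₂' (Ideal.IsPrime.mem_of_pow_mem inferInstance _ hh), hu⟩
    obtain ⟨t₁, ht₁, ht₁f⟩ := transfer_list (Ideal.ofList f₂) 𝔮₂.asIdeal 𝔮₁.asIdeal hcon.symm f
      hloc₂
    -- generation statements
    have hgenA : K ≤ sat (g₂' * algebraMap A B t₂) (Ideal.ofList (f.map (algebraMap A B))) := by
      refine le_trans ?_ (sat_sat_mul g₂' (algebraMap A B t₂) _)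
      intro x hx
      obtain ⟨u, hu⟩ := cf₂.gen x hx
      have h1 : Ideal.ofList (f₂.map (algebraMap A B)) ≤
          sat (algebraMap A B t₂) (Ideal.ofList (f.map (algebraMap A B))) := by
        rw [Ideal.span_le]
        intro z hz
        obtain ⟨y, hy, rfl⟩ := List.mem_map.1 hz
        refine ⟨1, ?_⟩
        rw [pow_one, ← map_mul, ← Ideal.map_ofList]
        exact Ideal.mem_map_of_mem _ (ht₂f y hy)
      obtain ⟨v, hv⟩ := h1 hu
      exact ⟨v, u, by
        have e : g₂' ^ u * (algebraMap A B t₂ ^ v * x) = algebraMap A B t₂ ^ v * (g₂' ^ u * x) := by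
          ring
        rw [e]; exact hv⟩
    have hgenB : K ≤ sat (g₁ * algebraMap A B t₁) (Ideal.ofList (f₂.map (algebraMap A B))) := by
      refine le_trans ?_ (sat_sat_mul g₁ (algebraMap A B t₁) _)
      intro x hx
      obtain ⟨u, hu⟩ := c₁.gen x hx
      have h1 : Ideal.ofList (f.map (algebraMap A B)) ≤
          sat (algebraMap A B t₁) (Ideal.ofList (f₂.map (algebraMap A B))) := by
        rw [Ideal.span_le]
        intro z hz
        obtain ⟨y, hy, rfl⟩ := List.mem_map.1 hz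
        refine ⟨1, ?_⟩
        rw [pow_one, ← map_mul, ← Ideal.map_ofList]
        exact Ideal.mem_map_of_mem _ (ht₁f y hy)
      obtain ⟨v, hv⟩ := h1 hu
      exact ⟨v, u, by
        have e : g₁ ^ u * (algebraMap A B t₁ ^ v * x) = algebraMap A B t₁ ^ v * (g₁ ^ u * x) := by
          ring
        rw [e]; exact hv⟩
    have hf₂K : ∀ x ∈ f₂.map (algebraMap A B), x ∈ K := cf₂.sub
    have hle₁ : (f.map (algebraMap A B)).length ≤ (f₂.map (algebraMap A B)).length :=
      chart_length_le (c₁.mul (algebraMap A B t₁)) 𝔮₁.asIdeal hK𝔮₁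
        (fun hh => (Ideal.IsPrime.mem_or_mem inferInstance hh).elim hg₁ ht₁) _ hf₂K hgenB
    have hle₂ : (f₂.map (algebraMap A B)).length ≤ (f.map (algebraMap A B)).length :=
      chart_length_le (cf₂.mul (algebraMap A B t₂)) 𝔮₂.asIdeal hK𝔮₂
        (fun hh => (Ideal.IsPrime.mem_or_mem inferInstance hh).elim hg₂' ht₂) _ hfK hgenA
    exact ⟨g₂' * algebraMap A B t₂,
      fun hh => (Ideal.IsPrime.mem_or_mem inferInstance hh).elim hg₂' ht₂,
      (cf₂.mul (algebraMap A B t₂)).of_same_length _ (le_antisymm hle₁ hle₂) hfK hgenA⟩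
  · -- some element of `I` is a unit near `𝔮₂`
    have hex : ∃ y ∈ I, algebraMap A B y ∉ 𝔮₂.asIdeal := by
      by_contra hcon'
      push Not at hcon'
      apply hK𝔮₂
      rw [hK, Ideal.map_le_iff_le_comap]
      exact fun y hy => hcon' y hy
    obtain ⟨y, hyI, hy𝔮⟩ := hex
    obtain ⟨t, ht, hty⟩ := transfer (Ideal.ofList f) y 𝔮₁.asIdeal 𝔮₂.asIdeal hcon (hloc₁ y hyI)
    refine ⟨algebraMap A B (t * y), ?_, chart_of_mem K _ hfK _ ?_⟩
    · rw [map_mul]
      exact fun hh => (Ideal.IsPrime.mem_or_mem inferInstance hh).elim ht hy𝔮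
    · rw [← Ideal.map_ofList]
      exact Ideal.mem_map_of_mem _ hty

end Transfer


section Family

open TensorProduct

/-- a module vanishing after a jointly surjective family of flat base changes is zero -/
lemma subsingleton_of_family {R : Type u} [CommRing R] (H : Type u) [AddCommGroup H] [Module R H]
    {ι : Type*} (R' : ι → Type u) [∀ i, CommRing (R' i)] [∀ i, Algebra R (R' i)]
    [∀ i, Module.Flat R (R' i)]
    (hsurj : ∀ 𝔪 : Ideal R, 𝔪.IsMaximal → ∃ i, 𝔪.map (algebraMap R (R' i)) ≠ ⊤)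
    (h : ∀ i, Subsingleton (R' i ⊗[R] H)) : Subsingleton H := by
  refine ⟨fun x y => ?_⟩
  suffices hz : ∀ x : H, x = 0 by rw [hz x, hz y]
  intro x
  by_contra hx
  let ψ₀ : R →ₗ[R] H := LinearMap.toSpanSingleton R H x
  set 𝔞 : Ideal R := LinearMap.ker ψ₀ with h𝔞def
  have h𝔞 : 𝔞 ≠ ⊤ := by
    intro htop
    have h1 : (1 : R) ∈ 𝔞 := by rw [htop]; trivial
    rw [h𝔞def, LinearMap.mem_ker, LinearMap.toSpanSingleton_apply, one_smul] at h1
    exact hx h1
  obtain ⟨𝔪, h𝔪, hle⟩ := Ideal.exists_le_maximal 𝔞 h𝔞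
  obtain ⟨i, hi⟩ := hsurj 𝔪 h𝔪
  apply hi
  rw [eq_top_iff]
  refine le_trans ?_ (Ideal.map_mono hle)
  let ψ : (R ⧸ 𝔞) →ₗ[R] H := Submodule.liftQ 𝔞 ψ₀ le_rfl
  have hψ : Function.Injective ψ := by
    rw [← LinearMap.ker_eq_bot]; exact Submodule.ker_liftQ_eq_bot _ _ _ le_rfl
  have hinj := Module.Flat.lTensor_preserves_injective_linearMap (M := R' i) ψ hψ
  haveI := h i
  have hss : Subsingleton (R' i ⊗[R] (R ⧸ 𝔞)) := hinj.subsingleton
  have hss2 : Subsingleton (R' i ⧸ (𝔞 • (⊤ : Submodule R (R' i)))) :=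
    (TensorProduct.tensorQuotEquivQuotSMul (R' i) 𝔞).symm.injective.subsingleton
  rw [Submodule.Quotient.subsingleton_iff, Ideal.smul_top_eq_map] at hss2
  intro z _
  have hz : z ∈ (𝔞.map (algebraMap R (R' i))).restrictScalars R := by rw [hss2]; trivial
  exact hz

open Groth.Agent.Lib.Helper84 Groth.Agent.Lib.Helper75.Kz Groth.Agent.Lib.Helper43.PCHomLocal

/-- **Koszul-regularity descends along a jointly surjective family of flat ring maps** -/
theorem koszulRegular_of_family {R : Type u} [CommRing R] (rs : List R) {ι : Type*}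
    (R' : ι → Type u) [∀ i, CommRing (R' i)] (φ : ∀ i, R →+* R' i) (hφ : ∀ i, (φ i).Flat)
    (hsurj : ∀ 𝔪 : Ideal R, 𝔪.IsMaximal → ∃ i, 𝔪.map (φ i) ≠ ⊤)
    (hkr : ∀ i, LCI.IsKoszulRegularSeq (R' i) (rs.map (φ i))) : LCI.IsKoszulRegularSeq R rs := by
  intro j hj
  apply (HomologicalComplex.exactAt_iff_isZero_homology _ _).1
  rw [koszul_eq_koszulCx, HomologicalComplex.exactAt_iff_isZero_homology]
  set K := CohIII.koszulCx (ModuleCat.of R R) rs with hKdef
  have key : ∀ i, IsZero ((FlatBC.ext (φ i)).obj (K.homology j)) := by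
    intro i
    letI := (φ i).toAlgebra
    haveI := FlatBC.preservesFiniteLimits_ext (φ i) (hφ i)
    haveI : (FlatBC.ext (φ i)).PreservesHomology :=
      Functor.preservesHomology_of_map_exact _ (fun S hS => hS.map _)
    obtain ⟨e⟩ := koszulCx_map_iso (FlatBC.ext (φ i)) rs (rs.map (φ i)) (forall₂_ext (φ i) rs)
      (ModuleCat.of R R)
    have e2 : CohIII.koszulCx ((FlatBC.ext (φ i)).obj (ModuleCat.of R R)) (rs.map (φ i)) ≅
        CohIII.koszulCx (ModuleCat.of (R' i) (R' i)) (rs.map (φ i)) :=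
      kmapIso (extSelfIso R (R' i)) _
    have h1 : IsZero ((CohIII.koszulCx (ModuleCat.of (R' i) (R' i)) (rs.map (φ i))).homology j) := by
      rw [← koszul_eq_koszulCx]; exact hkr i j hj
    have h2 : IsZero ((((FlatBC.ext (φ i)).mapHomologicalComplex (ComplexShape.up ℤ)).obj
        K).homology j) :=
      h1.of_iso ((HomologicalComplex.homologyFunctor _ _ j).mapIso (e ≪≫ e2))
    exact h2.of_iso ((K.sc j).mapHomologyIso (FlatBC.ext (φ i))).symm
  letI : ∀ i, Algebra R (R' i) := fun i => (φ i).toAlgebra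
  haveI : ∀ i, Module.Flat R (R' i) := fun i => hφ i
  haveI : Subsingleton (K.homology j) := by
    apply subsingleton_of_family (K.homology j) R' hsurj
    intro i
    exact ModuleCat.subsingleton_of_isZero (key i)
  exact ModuleCat.isZero_of_subsingleton _

end Family


section Main

variable (A B : Type u) [CommRing A] [CommRing B] [Algebra A B] [Module.FaithfullyFlat A B]

/-- **Faithfully flat descent of Koszul-regular ideals.** -/
theorem koszulRegularIdeal_of_faithfullyFlat (I : Ideal A)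
    (h : LCI.IsKoszulRegularIdeal (I.map (algebraMap A B))) : LCI.IsKoszulRegularIdeal I := by
  classical
  apply isKoszulRegularIdeal_of_charts
  intro 𝔭 h𝔭
  set K := I.map (algebraMap A B) with hK
  obtain ⟨𝔮, h𝔮⟩ := PrimeSpectrum.comap_surjective_of_faithfullyFlat (A := A) (B := B) 𝔭
  have hK𝔮 : K ≤ 𝔮.asIdeal := by
    rw [hK, Ideal.map_le_iff_le_comap]
    rw [← h𝔮] at h𝔭
    exact h𝔭
  obtain ⟨g₀, hg₀, l₀, c₀⟩ := exists_chart h 𝔮 hK𝔮
  haveI := 𝔮.2
  obtain ⟨f', g₁, hf', -, hg₁, c₁⟩ := chart_from_subset K 𝔮.asIdeal hK𝔮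
    ((algebraMap A B) '' (I : Set A))
    (by rintro _ ⟨a, ha, rfl⟩; exact Ideal.mem_map_of_mem _ ha) le_rfl l₀ [] g₀ hg₀
    (by simp) (by simpa using c₀)
  obtain ⟨f, hfI, rfl⟩ := exists_lift_list I f' hf'
  let W : Set (PrimeSpectrum B) :=
    {𝔮' | ∃ g' : B, g' ∉ 𝔮'.asIdeal ∧ Chart K g' (f.map (algebraMap A B))}
  have hWopen : IsOpen W := by
    rw [isOpen_iff_forall_mem_open]
    rintro 𝔮' ⟨g', hg', c'⟩
    exact ⟨(PrimeSpectrum.basicOpen g' : Set _), fun x hx => ⟨g', hx, c'⟩,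
      (PrimeSpectrum.basicOpen g').isOpen, hg'⟩
  have hWsat : (PrimeSpectrum.comap (algebraMap A B)) ⁻¹'
      ((PrimeSpectrum.comap (algebraMap A B)) '' W) = W := by
    apply Set.Subset.antisymm
    · rintro 𝔮₂ ⟨𝔮₁, ⟨g', hg', c'⟩, hcon⟩
      obtain ⟨g₂, hg₂, c₂⟩ := chart_transfer I h f hfI 𝔮₁ 𝔮₂
        (congrArg PrimeSpectrum.asIdeal hcon) g' hg' c'
      exact ⟨g₂, hg₂, c₂⟩
    · exact Set.subset_preimage_image _ _
  have hflat : (algebraMap A B).Flat := RingHom.flat_algebraMap_iff.2 inferInstance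
  have hquot : Topology.IsQuotientMap (PrimeSpectrum.comap (algebraMap A B)) :=
    PrimeSpectrum.isQuotientMap_of_generalizingMap
      PrimeSpectrum.comap_surjective_of_faithfullyFlat hflat.generalizingMap_comap
  have hopen : IsOpen ((PrimeSpectrum.comap (algebraMap A B)) '' W) := by
    rw [← hquot.isOpen_preimage, hWsat]; exact hWopen
  have h𝔭W : 𝔭 ∈ (PrimeSpectrum.comap (algebraMap A B)) '' W := ⟨𝔮, ⟨g₁, hg₁, c₁⟩, h𝔮⟩
  obtain ⟨_, ⟨g, rfl⟩, h𝔭g, hgW⟩ :=
    PrimeSpectrum.isTopologicalBasis_basic_opens.exists_subset_of_mem_open h𝔭W hopen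
  -- every prime of `A` not containing `g` has a prime of `B` over it with a chart
  have hcover : ∀ 𝔭' : PrimeSpectrum A, g ∉ 𝔭'.asIdeal → ∃ (𝔮' : PrimeSpectrum B) (g' : B),
      𝔮'.asIdeal.comap (algebraMap A B) = 𝔭'.asIdeal ∧ g' ∉ 𝔮'.asIdeal ∧
      Chart K g' (f.map (algebraMap A B)) := by
    intro 𝔭' hg𝔭'
    obtain ⟨𝔮', ⟨g', hg', c'⟩, hcon⟩ := hgW (show 𝔭' ∈ (PrimeSpectrum.basicOpen g : Set _) from hg𝔭')
    exact ⟨𝔮', g', congrArg PrimeSpectrum.asIdeal hcon, hg', c'⟩
  refine ⟨g, h𝔭g, f, hfI, ?_, ?_⟩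
  · -- generation
    intro y hy
    set 𝔞 : Ideal A := (Ideal.ofList f).colon {y} with h𝔞
    have hrad : g ∈ 𝔞.radical := by
      rw [Ideal.radical_eq_sInf, Ideal.mem_sInf]
      rintro 𝔭' ⟨h𝔞𝔭', h𝔭'prime⟩
      by_contra hg𝔭'
      obtain ⟨𝔮', g', hcon, hg', c'⟩ := hcover ⟨𝔭', h𝔭'prime⟩ hg𝔭'
      obtain ⟨u, hu⟩ := c'.gen _ (Ideal.mem_map_of_mem _ hy)
      rw [← Ideal.map_ofList] at hu
      have h1 := mem_map_colon_of_flat (Ideal.ofList f) y (g' ^ u) hu
      have h2 : 𝔞.map (algebraMap A B) ≤ 𝔮'.asIdeal := by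
        rw [Ideal.map_le_iff_le_comap, hcon]; exact h𝔞𝔭'
      exact hg' (𝔮'.2.mem_of_pow_mem _ (h2 h1))
    obtain ⟨u, hu⟩ := hrad
    refine ⟨u, ?_⟩
    rw [h𝔞, Submodule.mem_colon_singleton, smul_eq_mul] at hu
    exact hu
  · -- Koszul-regularity, by descent along the family of charts
    let ι := {p : PrimeSpectrum B × B // p.2 ∉ p.1.asIdeal ∧ algebraMap A B g ∉ p.1.asIdeal ∧
      Chart K p.2 (f.map (algebraMap A B))}
    let R' : ι → Type u := fun p => Localization.Away (p.1.2 * algebraMap A B g)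
    have hu : ∀ p : ι, IsUnit (algebraMap A (R' p) g) := by
      intro p
      have h1 : IsUnit (algebraMap B (R' p) (p.1.2 * algebraMap A B g)) :=
        IsLocalization.Away.algebraMap_isUnit _
      rw [map_mul] at h1
      have h2 := isUnit_of_mul_isUnit_right h1
      rwa [← IsScalarTower.algebraMap_apply] at h2
    let φ : ∀ p : ι, Localization.Away g →+* R' p := fun p => IsLocalization.Away.lift g (hu p)
    have hφ : ∀ (p : ι) (a : A), φ p (algebraMap A _ a) = algebraMap A (R' p) a :=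
      fun p a => IsLocalization.Away.lift_eq g (hu p) a
    apply koszulRegular_of_family (f.map (algebraMap A (Localization.Away g))) R' φ
    · intro p
      haveI : Module.Flat B (R' p) := IsLocalization.flat _ (Submonoid.powers (p.1.2 * algebraMap A B g))
      haveI : Module.Flat A (R' p) := Module.Flat.trans A B (R' p)
      exact flat_of_isLocalization (Submonoid.powers g) (φ p) (hφ p)
    · intro 𝔪 h𝔪
      have h𝔪prime : 𝔪.IsPrime := h𝔪.isPrime
      let 𝔭' : PrimeSpectrum A := ⟨𝔪.comap (algebraMap A (Localization.Away g)), inferInstance⟩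
      have hg𝔭' : g ∉ 𝔭'.asIdeal := by
        intro hh
        exact h𝔪prime.ne_top (Ideal.eq_top_of_isUnit_mem _ hh
          (IsLocalization.Away.algebraMap_isUnit g))
      obtain ⟨𝔮', g', hcon, hg', c'⟩ := hcover 𝔭' hg𝔭'
      have hg𝔮' : algebraMap A B g ∉ 𝔮'.asIdeal := by
        intro hh
        apply hg𝔭'
        rw [← hcon]; exact hh
      refine ⟨⟨(𝔮', g'), hg', hg𝔮', c'⟩, ?_⟩
      have h𝔪eq : 𝔪 = 𝔭'.asIdeal.map (algebraMap A (Localization.Away g)) :=
        (IsLocalization.map_under (Submonoid.powers g) (Localization.Away g) 𝔪).symm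
      have hdisj : Disjoint (Submonoid.powers (g' * algebraMap A B g) : Set B)
          (𝔮'.asIdeal : Set B) := by
        rw [Set.disjoint_left]
        rintro x ⟨n, rfl⟩ hx
        exact (𝔮'.2.mem_or_mem (𝔮'.2.mem_of_pow_mem _ hx)).elim hg' hg𝔮'
      have h𝔮ne : 𝔮'.asIdeal.map (algebraMap B (Localization.Away (g' * algebraMap A B g))) ≠ ⊤ :=
        (IsLocalization.map_algebraMap_ne_top_iff_disjoint
          (Submonoid.powers (g' * algebraMap A B g)) _ 𝔮'.asIdeal).2 hdisj
      intro htop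
      apply h𝔮ne
      rw [eq_top_iff, ← htop, h𝔪eq, Ideal.map_map]
      have hcomp : (φ ⟨(𝔮', g'), hg', hg𝔮', c'⟩).comp (algebraMap A (Localization.Away g)) =
          (algebraMap B (Localization.Away (g' * algebraMap A B g))).comp (algebraMap A B) := by
        ext a
        exact hφ _ a
      rw [hcomp, ← Ideal.map_map]
      apply Ideal.map_mono
      rw [Ideal.map_le_iff_le_comap, hcon]
    · intro p
      have h1 := (p.2.2.2.mul (algebraMap A B g)).kr
      rw [List.map_map] at h1 ⊢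
      have e : (⇑(φ p) ∘ ⇑(algebraMap A (Localization.Away g))) =
          (⇑(algebraMap B (Localization.Away (p.1.2 * algebraMap A B g))) ∘ ⇑(algebraMap A B)) := by
        funext a
        exact hφ p a
      rw [e]
      exact h1

end Main

end Groth.Agent.Lib.Helper43.KRDescent
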