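import Mathlib.Tactic
import Groth.Agent.Lib.Helper43.KRIdeal
import Groth.Agent.Lib.Helper98.KoszulLES
import Mathlib.RingTheory.MvPowerSeries.Inverse
import Mathlib.Algebra.MvPolynomial.PDeriv

/-!
# Koszul-regular sequences in polynomial rings (helper43)

* `koszulRegular_X_sub_C c` : `X_i - C (c i)` is a Koszul-regular sequence in `T[X_1..X_n]`
  (any commutative ring `T`), and generates the kernel of evaluation at `c` (`ker_eval_eq`)
* `ind_of_derivation` : independence modulo `𝔭 K` from a derivation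
* `isSMulRegular_of_isUnit_constantCoeff`, `koszulRegular_singleton`
-/

set_option autoImplicit false
universe u

open MvPolynomial RingTheory.Sequence

namespace Groth.Agent.Lib.Helper43.KRPoly

open Groth.Agent.Lib.Helper43.KRIdeal

section Vars

variable (T : Type u) [CommRing T] (n : ℕ)

/-- the endomorphism killing the first `i` variables -/
noncomputable def kill (i : ℕ) : MvPolynomial (Fin n) T →ₐ[T] MvPolynomial (Fin n) T :=
  MvPolynomial.aeval (fun j : Fin n => if (j : ℕ) < i then 0 else MvPolynomial.X j)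

theorem kill_X_lt (i : ℕ) (j : Fin n) (h : (j : ℕ) < i) : kill T n i (X j) = 0 := by
  simp [kill, h]

theorem kill_X_ge (i : ℕ) (j : Fin n) (h : ¬ (j : ℕ) < i) : kill T n i (X j) = X j := by
  simp [kill, h]

theorem sub_kill_mem (i : ℕ) (K : Ideal (MvPolynomial (Fin n) T))
    (hK : ∀ j : Fin n, (j : ℕ) < i → (X j : MvPolynomial (Fin n) T) ∈ K)
    (f : MvPolynomial (Fin n) T) : f - kill T n i f ∈ K := by
  induction f using MvPolynomial.induction_on with
  | C a => simp [kill]
  | add p q hp hq =>
    rw [map_add]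
    have : p + q - (kill T n i p + kill T n i q) = (p - kill T n i p) + (q - kill T n i q) := by
      ring
    rw [this]
    exact K.add_mem hp hq
  | mul_X p j hp =>
    rw [map_mul]
    by_cases h : (j : ℕ) < i
    · rw [kill_X_lt T n i j h, mul_zero, sub_zero]
      exact K.mul_mem_left _ (hK j h)
    · rw [kill_X_ge T n i j h, ← sub_mul]
      exact K.mul_mem_right _ hp

/-- the variables form a weakly regular sequence over any commutative ring
(adapted from helper77 `PolyDepth.isWeaklyRegular_X`, which assumes a domain) -/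
theorem isWeaklyRegular_X :
    IsWeaklyRegular (MvPolynomial (Fin n) T)
      (List.ofFn (fun j : Fin n => (X j : MvPolynomial (Fin n) T))) := by
  rw [isWeaklyRegular_iff]
  intro i hi
  rw [List.length_ofFn] at hi
  rw [isSMulRegular_quotient_iff_mem_of_smul_mem]
  intro a ha
  set K := Ideal.ofList ((List.ofFn (fun j : Fin n => (X j : MvPolynomial (Fin n) T))).take i)
    with hKdef
  rw [smul_eq_mul, Ideal.mul_top] at ha ⊢
  rw [List.getElem_ofFn, smul_eq_mul] at ha
  have hle : K ≤ RingHom.ker (kill T n i).toRingHom := by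
    rw [hKdef, Ideal.ofList, Ideal.span_le]
    intro x hx
    rw [Set.mem_setOf_eq, List.mem_take_iff_getElem] at hx
    obtain ⟨j, hj, rfl⟩ := hx
    rw [List.length_ofFn] at hj
    rw [List.getElem_ofFn, SetLike.mem_coe, RingHom.mem_ker]
    exact kill_X_lt T n i _ (by simp only []; omega)
  have hXK : ∀ j : Fin n, (j : ℕ) < i → (X j : MvPolynomial (Fin n) T) ∈ K := by
    intro j hj
    rw [hKdef, Ideal.ofList]
    apply Ideal.subset_span
    rw [Set.mem_setOf_eq, List.mem_take_iff_getElem]
    refine ⟨j, ?_, ?_⟩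
    · rw [List.length_ofFn]; omega
    · rw [List.getElem_ofFn]
  have h1 : kill T n i (X ⟨i, hi⟩ * a) = 0 := hle ha
  rw [map_mul, kill_X_ge T n i ⟨i, hi⟩ (by simp)] at h1
  have h2 : kill T n i a = 0 :=
    (MvPolynomial.isRegular_X (n := (⟨i, hi⟩ : Fin n))).left (h1.trans (mul_zero _).symm)
  have h3 := sub_kill_mem T n i K hXK a
  rwa [h2, sub_zero] at h3

theorem koszulRegular_X :
    LCI.IsKoszulRegularSeq (MvPolynomial (Fin n) T)
      (List.ofFn (fun j : Fin n => (X j : MvPolynomial (Fin n) T))) :=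
  (Helper98.KoszulLES.koszul_of_weaklyRegular _ (isWeaklyRegular_X T n)).1

variable {T n}

/-- the shift automorphism `X_i ↦ X_i - C (c i)` -/
noncomputable def shift (c : Fin n → T) : MvPolynomial (Fin n) T ≃ₐ[T] MvPolynomial (Fin n) T :=
  AlgEquiv.ofAlgHom (aeval fun i => X i - C (c i)) (aeval fun i => X i + C (c i))
    (by ext i; simp) (by ext i; simp)

@[simp] lemma shift_X (c : Fin n → T) (i : Fin n) : shift c (X i) = X i - C (c i) := by
  simp [shift]

/-- `X_i - C (c i)` is a Koszul-regular sequence -/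
theorem koszulRegular_X_sub_C (c : Fin n → T) :
    LCI.IsKoszulRegularSeq (MvPolynomial (Fin n) T)
      (List.ofFn (fun j : Fin n => (X j - C (c j) : MvPolynomial (Fin n) T))) := by
  have h := koszulRegular_of_ringEquiv (shift c).toRingEquiv _ (koszulRegular_X T n)
  rw [List.map_ofFn] at h
  convert h using 2
  funext j
  simp

/-- the kernel of evaluation at `c` is generated by the `X_i - C (c i)` -/
theorem ker_eval_eq (c : Fin n → T) :
    RingHom.ker (MvPolynomial.eval c) =
      Ideal.ofList (List.ofFn (fun j : Fin n => (X j - C (c j) : MvPolynomial (Fin n) T))) := by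
  set J := Ideal.ofList (List.ofFn (fun j : Fin n => (X j - C (c j) : MvPolynomial (Fin n) T)))
    with hJ
  have hmem : ∀ j : Fin n, (X j - C (c j) : MvPolynomial (Fin n) T) ∈ J := fun j =>
    Ideal.subset_span ((List.mem_ofFn' _ _).2 ⟨j, rfl⟩)
  apply le_antisymm
  · have key : ∀ f : MvPolynomial (Fin n) T, f - C (MvPolynomial.eval c f) ∈ J := by
      intro f
      induction f using MvPolynomial.induction_on with
      | C a => simp
      | add p q hp hq =>
        have : p + q - C (MvPolynomial.eval c (p + q)) =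
            (p - C (MvPolynomial.eval c p)) + (q - C (MvPolynomial.eval c q)) := by
          rw [map_add, map_add]; ring
        rw [this]
        exact J.add_mem hp hq
      | mul_X p j hp =>
        have : p * X j - C (MvPolynomial.eval c (p * X j)) =
            (p - C (MvPolynomial.eval c p)) * X j + C (MvPolynomial.eval c p) * (X j - C (c j)) := by
          rw [map_mul, eval_X, map_mul]; ring
        rw [this]
        exact J.add_mem (J.mul_mem_right _ hp) (J.mul_mem_left _ (hmem j))
    intro f hf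
    have := key f
    rw [RingHom.mem_ker] at hf
    rwa [hf, map_zero, sub_zero] at this
  · rw [hJ, Ideal.span_le]
    intro x hx
    obtain ⟨j, rfl⟩ := (List.mem_ofFn' _ _).1 hx
    simp [RingHom.mem_ker]

end Vars


section Ind

variable {R Q : Type u} [CommRing R] [CommRing Q] [Algebra R Q]

/-- independence modulo `𝔭 K` from a derivation `D` with `D a ∉ 𝔭` and `D H ⊆ K` -/
lemma ind_of_derivation (D : Derivation R Q Q) (K 𝔭 : Ideal Q) [𝔭.IsPrime] (hK𝔭 : K ≤ 𝔭)
    (a : Q) (haK : a ∈ K) (hDa : D a ∉ 𝔭) (G : Set Q) (hG : ∀ x ∈ G, x ∈ K ∧ D x ∈ K)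
    (s : Q) (hs : s ∉ 𝔭) (z : Q) (hz : z ∈ Ideal.span G) : s * a - z ∉ 𝔭 * K := by
  have h1 : ∀ z ∈ Ideal.span G, z ∈ K ∧ D z ∈ K := by
    intro z hz
    induction hz using Submodule.span_induction with
    | mem x hx => exact hG x hx
    | zero => exact ⟨K.zero_mem, by rw [map_zero]; exact K.zero_mem⟩
    | add x y _ _ hx hy => exact ⟨K.add_mem hx.1 hy.1, by rw [map_add]; exact K.add_mem hx.2 hy.2⟩
    | smul r x _ hx =>
      refine ⟨K.mul_mem_left _ hx.1, ?_⟩
      rw [smul_eq_mul, Derivation.leibniz, smul_eq_mul, smul_eq_mul]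
      exact K.add_mem (K.mul_mem_left _ hx.2) (K.mul_mem_right _ hx.1)
  have h2 : ∀ y ∈ 𝔭 * K, D y ∈ 𝔭 := by
    intro y hy
    refine Submodule.mul_induction_on hy ?_ ?_
    · intro p hp k hk
      rw [Derivation.leibniz, smul_eq_mul, smul_eq_mul]
      exact 𝔭.add_mem (𝔭.mul_mem_right _ hp) (𝔭.mul_mem_right _ (hK𝔭 hk))
    · intro x y hx hy
      rw [map_add]; exact 𝔭.add_mem hx hy
  intro hmem
  have h3 := h2 _ hmem
  rw [map_sub, Derivation.leibniz, smul_eq_mul, smul_eq_mul] at h3
  have h4 : s * D a = (s * D a + a * D s - D z) - a * D s + D z := by ring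
  have h5 : s * D a ∈ 𝔭 := by
    rw [h4]
    exact 𝔭.add_mem (𝔭.sub_mem h3 (𝔭.mul_mem_right _ (hK𝔭 haK))) (hK𝔭 (h1 z hz).2)
  exact (Ideal.IsPrime.mem_or_mem inferInstance h5).elim hs hDa

end Ind

section IndPoly

variable {T : Type u} [CommRing T] {n : ℕ}

/-- the independence hypothesis of `KRIdeal.koszulRegularIdeal_map` for `X_i - C (c i)` -/
lemma ind_X_sub_C (c : Fin n → T) (K : Ideal (MvPolynomial (Fin n) T))
    (hle : Ideal.ofList (List.ofFn (fun j : Fin n => (X j - C (c j) : MvPolynomial (Fin n) T))) ≤ K)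
    (𝔭 : Ideal (MvPolynomial (Fin n) T)) (h𝔭 : 𝔭.IsPrime) (hK𝔭 : K ≤ 𝔭)
    (h₁ : List (MvPolynomial (Fin n) T)) (a : MvPolynomial (Fin n) T)
    (h₂ : List (MvPolynomial (Fin n) T))
    (hh : List.ofFn (fun j : Fin n => (X j - C (c j) : MvPolynomial (Fin n) T)) = h₁ ++ a :: h₂)
    (s : MvPolynomial (Fin n) T) (hs : s ∉ 𝔭) (z : MvPolynomial (Fin n) T)
    (hz : z ∈ Ideal.ofList h₁) : s * a - z ∉ 𝔭 * K := by
  classical
  set F : Fin n → MvPolynomial (Fin n) T := fun j => X j - C (c j) with hF
  have hFK : ∀ j, F j ∈ K := fun j => hle (Ideal.subset_span ((List.mem_ofFn' _ _).2 ⟨j, rfl⟩))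
  have hlen : h₁.length < n := by
    have := congrArg List.length hh
    simp only [List.length_ofFn, List.length_append, List.length_cons] at this
    omega
  have hget : ∀ (i : ℕ) (hi : i < (h₁ ++ a :: h₂).length), (h₁ ++ a :: h₂)[i] =
      F ⟨i, by
        have := congrArg List.length hh
        simp only [List.length_ofFn] at this
        omega⟩ := by
    intro i hi
    have h1 : (List.ofFn F)[i]'(by rw [hh]; exact hi) = (h₁ ++ a :: h₂)[i] :=
      List.getElem_of_eq hh _
    rw [← h1, List.getElem_ofFn]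
  have ha : a = F ⟨h₁.length, hlen⟩ := by
    have := hget h₁.length (by simp)
    rw [List.getElem_append_right (le_refl _)] at this
    simpa using this
  have hmem : ∀ x ∈ h₁, ∃ j : Fin n, (j : ℕ) < h₁.length ∧ x = F j := by
    intro x hx
    obtain ⟨i, hi, rfl⟩ := List.mem_iff_getElem.1 hx
    have := hget i (by simp; omega)
    rw [List.getElem_append_left hi] at this
    exact ⟨_, hi, this⟩
  have hD : ∀ j : Fin n, (j : ℕ) ≠ h₁.length → pderiv ⟨h₁.length, hlen⟩ (F j) = 0 := by
    intro j hj
    simp only [hF, map_sub, pderiv_X, pderiv_C, sub_zero]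
    rw [Pi.single_apply, if_neg]
    intro h
    exact hj (congrArg Fin.val h)
  have hDa : pderiv ⟨h₁.length, hlen⟩ a = 1 := by
    rw [ha]
    simp [hF]
  refine ind_of_derivation (pderiv ⟨h₁.length, hlen⟩) K 𝔭 hK𝔭 a (ha ▸ hFK _) ?_ {x | x ∈ h₁} ?_
    s hs z hz
  · rw [hDa]
    exact (Ideal.ne_top_iff_one 𝔭).1 h𝔭.ne_top
  · intro x hx
    obtain ⟨j, hj, rfl⟩ := hmem x hx
    refine ⟨hFK j, ?_⟩
    rw [hD j (by omega)]
    exact K.zero_mem

end IndPoly


section Single

variable {A : Type u} [CommRing A]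

/-- a single nonzerodivisor is a Koszul-regular sequence -/
lemma koszulRegular_singleton (a : A) (ha : IsSMulRegular A a) : LCI.IsKoszulRegularSeq A [a] :=
  (Helper98.KoszulLES.koszul_of_weaklyRegular [a]
    ((RingTheory.Sequence.isWeaklyRegular_singleton_iff A a).2 ha)).1

/-- a globally generated ideal by a Koszul-regular sequence is a Koszul-regular ideal -/
lemma isKoszulRegularIdeal_of_seq (h : List A) (hh : LCI.IsKoszulRegularSeq A h) :
    LCI.IsKoszulRegularIdeal (Ideal.ofList h) := by
  apply isKoszulRegularIdeal_of_charts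
  intro 𝔭 _
  refine ⟨1, (Ideal.ne_top_iff_one _).1 𝔭.2.ne_top, h, fun x hx => Ideal.subset_span hx,
    fun x hx => ⟨0, by simpa using hx⟩, ?_⟩
  exact Groth.Agent.Lib.Helper43.SeqFlatBC.koszulRegular_of_flat (algebraMap A _)
    (RingHom.flat_algebraMap_iff.2 (IsLocalization.flat _ (Submonoid.powers (1 : A)))) h hh

/-- a polynomial with invertible constant coefficient is a nonzerodivisor -/
lemma isSMulRegular_of_isUnit_constantCoeff {σ : Type*} (p : MvPolynomial σ A)
    (hp : IsUnit (MvPolynomial.constantCoeff p)) : IsSMulRegular (MvPolynomial σ A) p := by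
  have hu : IsUnit ((p : MvPolynomial σ A) : MvPowerSeries σ A) := by
    rw [MvPowerSeries.isUnit_iff_constantCoeff]
    have : MvPowerSeries.constantCoeff ((p : MvPolynomial σ A) : MvPowerSeries σ A) =
        MvPolynomial.constantCoeff p := by
      rw [← MvPowerSeries.coeff_zero_eq_constantCoeff_apply, MvPolynomial.coeff_coe,
        MvPolynomial.constantCoeff_eq]
    rwa [this]
  intro x y hxy
  simp only [smul_eq_mul] at hxy
  apply MvPolynomial.coe_injective
  have := congrArg (fun q : MvPolynomial σ A => (q : MvPowerSeries σ A)) hxy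
  simp only [MvPolynomial.coe_mul] at this
  exact hu.mul_right_injective this

end Single

end Groth.Agent.Lib.Helper43.KRPoly
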