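import Mathlib.Tactic
import Groth.Agent.Lib.Helper43.KRPoly

/-!
# Independence of presentation for Koszul-regular kernels (helper43)

* `ker_koszulRegular_indep` : if the kernel of one presentation `A[x_1..x_n] → B` is a
  Koszul-regular ideal, so is the kernel of any other presentation `A[y_1..y_m] → B`.
-/

set_option autoImplicit false
universe u

open MvPolynomial

namespace Groth.Agent.Lib.Helper43.KRPres

open Groth.Agent.Lib.Helper43.KRIdeal Groth.Agent.Lib.Helper43.KRPoly

theorem ker_koszulRegular_indep (A B : Type u) [CommRing A] [CommRing B]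
    [Algebra A B] (n m : ℕ) (α : MvPolynomial (Fin n) A →ₐ[A] B) (hα : Function.Surjective α)
    (β : MvPolynomial (Fin m) A →ₐ[A] B) (hβ : Function.Surjective β)
    (h : LCI.IsKoszulRegularIdeal (RingHom.ker α.toRingHom)) :
    LCI.IsKoszulRegularIdeal (RingHom.ker β.toRingHom) := by
  classical
  choose p hp using fun j : Fin m => hα (β (X j))
  choose q hq using fun i : Fin n => hβ (α (X i))
  let σ : MvPolynomial (Fin n) (MvPolynomial (Fin m) A) ≃ₐ[A]
      MvPolynomial (Fin m) (MvPolynomial (Fin n) A) := commAlgEquiv A (Fin n) (Fin m)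
  let ρ₁ : MvPolynomial (Fin m) (MvPolynomial (Fin n) A) →+* MvPolynomial (Fin n) A :=
    MvPolynomial.eval p
  let ρ₂ : MvPolynomial (Fin n) (MvPolynomial (Fin m) A) →+* MvPolynomial (Fin m) A :=
    MvPolynomial.eval q
  have hρ₁ : Function.Surjective ρ₁ := fun a => ⟨C a, eval_C _⟩
  have hρ₂ : Function.Surjective ρ₂ := fun a => ⟨C a, eval_C _⟩
  -- step 1
  have h1 : LCI.IsKoszulRegularIdeal ((RingHom.ker α.toRingHom).comap ρ₁) :=
    koszulRegularIdeal_comap ρ₁ hρ₁
      (by rw [ker_eval_eq]; exact isKoszulRegularIdeal_of_seq _ (koszulRegular_X_sub_C p)) _ h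
  -- step 2
  have h2 := koszulRegularIdeal_map_equiv σ.symm.toRingEquiv _ h1
  have hcomp : (α.toRingHom.comp ρ₁).comp (σ : _ →+* _) = β.toRingHom.comp ρ₂ := by
    apply MvPolynomial.ringHom_ext
    · intro t
      induction t using MvPolynomial.induction_on with
      | C a => simp [σ, ρ₁, ρ₂]
      | add t₁ t₂ h₁ h₂ => simp only [map_add, h₁, h₂]
      | mul_X t j ht =>
        simp only [map_mul, ht]
        congr 1
        simp [σ, ρ₁, ρ₂, commAlgEquiv_C_X, hp]
    · intro i
      simp [σ, ρ₁, ρ₂, hq]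
  have hK : ((RingHom.ker α.toRingHom).comap ρ₁).map
      ((σ.symm.toRingEquiv : _ ≃+* _) : _ →+* _) = (RingHom.ker β.toRingHom).comap ρ₂ := by
    rw [Ideal.map_comap_of_equiv, RingHom.comap_ker, RingHom.comap_ker, ← hcomp]
    rfl
  rw [hK] at h2
  -- step 3
  have h3 := koszulRegularIdeal_map ρ₂ hρ₂ _ (ker_eval_eq q) (koszulRegular_X_sub_C q) _ h2
    (Ideal.comap_mono bot_le)
    (fun 𝔭 h𝔭 hK𝔭 => ind_X_sub_C q _ (by rw [← ker_eval_eq]; exact Ideal.comap_mono bot_le)
      𝔭 h𝔭 hK𝔭)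
  rwa [Ideal.map_comap_of_surjective ρ₂ hρ₂] at h3

end Groth.Agent.Lib.Helper43.KRPres
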