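import Mathlib.Tactic
import Groth.Agent.Lib.Helper43.KRDescent
import Groth.Agent.Lib.Helper43.KRPres
import Mathlib.RingTheory.Unramified.Basic
import Mathlib.RingTheory.Etale.Basic
import Mathlib.RingTheory.RingHom.StandardSmooth
import Mathlib.RingTheory.Spectrum.Prime.Chevalley

/-!
# Étale and smooth invariance of Koszul-regular ideals (helper43)

* `le_sq_sup`, `exists_finset_sup`, `exists_mul_mem` : for `B` unramified over `P`, `I ⊂ B` with
  `P → B/I` surjective: `∃ h ≡ 1 mod I` with `h I ⊆ ĨB` (`Ĩ` the contraction)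
* `koszulRegularIdeal_of_comap`, `koszulRegularIdeal_comap_of_etale` : for `B` étale over `P`,
  `I` is Koszul-regular iff `Ĩ` is
* `koszulRegularIdeal_ker_iff` : Koszul-regularity of `ker (A → C)` via any polynomial
  presentation of `C`
* `koszulRegularIdeal_iff_of_isStandardSmooth` : the same for `B` standard smooth over `A`
-/

set_option autoImplicit false
set_option linter.style.haveILetI false
universe u

namespace Groth.Agent.Lib.Helper43.KREtale

open Groth.Agent.Lib.Helper43.KRIdeal Groth.Agent.Lib.Helper43.KRDescent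

section Unramified

variable {P B : Type u} [CommRing P] [CommRing B] [Algebra P B]

/-- For a formally unramified `P`-algebra `B` and an ideal `I` of `B` such that `P → B/I` is
surjective, `I = I² + ĨB` where `Ĩ` is the contraction of `I`. -/
lemma le_sq_sup [Algebra.FormallyUnramified P B] (I : Ideal B)
    (hsurj : ∀ b : B, ∃ a : P, b - algebraMap P B a ∈ I) :
    I ≤ I ^ 2 ⊔ (I.comap (algebraMap P B)).map (algebraMap P B) := by
  set It : Ideal P := I.comap (algebraMap P B) with hIt
  set K : Ideal B := I ^ 2 ⊔ It.map (algebraMap P B) with hK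
  have hKI : K ≤ I := sup_le (Ideal.pow_le_self two_ne_zero) (Ideal.map_comap_le)
  -- the quotient map `D = B/K → B/I`
  let f : B ⧸ K →+* B ⧸ I := Ideal.Quotient.factor hKI
  have hf : IsNilpotent (RingHom.ker f) := by
    refine ⟨2, ?_⟩
    have hker : RingHom.ker f = I.map (Ideal.Quotient.mk K) := by
      rw [Ideal.Quotient.factor_ker]
    rw [hker, ← Ideal.map_pow, Ideal.zero_eq_bot, ← le_bot_iff, Ideal.map_le_iff_le_comap]
    intro x hx
    rw [Ideal.mem_comap, Ideal.mem_bot, Ideal.Quotient.eq_zero_iff_mem]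
    exact le_sup_left (a := I ^ 2) hx
  -- the presentation `P → B/I` and its kernel
  let φ : P →ₐ[P] B ⧸ I := (Ideal.Quotient.mkₐ P I).comp (Algebra.ofId P B)
  have hφ : Function.Surjective φ := by
    intro y
    obtain ⟨b, rfl⟩ := Ideal.Quotient.mk_surjective y
    obtain ⟨a, ha⟩ := hsurj b
    refine ⟨a, ?_⟩
    change Ideal.Quotient.mk I (algebraMap P B a) = Ideal.Quotient.mk I b
    rw [eq_comm, Ideal.Quotient.eq]
    exact ha
  have hkerφ : RingHom.ker (φ : P →+* B ⧸ I) = It := by
    ext a
    rw [RingHom.mem_ker, hIt, Ideal.mem_comap]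
    change Ideal.Quotient.mk I (algebraMap P B a) = 0 ↔ _
    rw [Ideal.Quotient.eq_zero_iff_mem]
  let e : (P ⧸ RingHom.ker (φ : P →+* B ⧸ I)) ≃ₐ[P] B ⧸ I :=
    Ideal.quotientKerAlgEquivOfSurjective hφ
  let lam : (P ⧸ RingHom.ker (φ : P →+* B ⧸ I)) →ₐ[P] B ⧸ K :=
    Ideal.Quotient.liftₐ _ (Algebra.ofId P (B ⧸ K)) (by
      intro a ha
      rw [hkerφ] at ha
      change Ideal.Quotient.mk K (algebraMap P B a) = 0
      rw [Ideal.Quotient.eq_zero_iff_mem]
      exact le_sup_right (a := I ^ 2) (Ideal.mem_map_of_mem _ ha))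
  let g₁ : B →ₐ[P] B ⧸ K := Ideal.Quotient.mkₐ P K
  let g₂ : B →ₐ[P] B ⧸ K := lam.comp (e.symm.toAlgHom.comp (Ideal.Quotient.mkₐ P I))
  have hflam : ∀ y, f (lam y) = e y := by
    intro y
    obtain ⟨a, rfl⟩ := Ideal.Quotient.mk_surjective y
    have h0 : (Ideal.Quotient.mk (RingHom.ker (φ : P →+* B ⧸ I)) a) =
        algebraMap P (P ⧸ RingHom.ker (φ : P →+* B ⧸ I)) a := rfl
    rw [h0, AlgHom.commutes, AlgEquiv.commutes]
    rfl
  have h12 : g₁ = g₂ := by
    apply Algebra.FormallyUnramified.ext' f hf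
    intro x
    change f (Ideal.Quotient.mk K x) = f (lam (e.symm (Ideal.Quotient.mk I x)))
    rw [hflam, AlgEquiv.apply_symm_apply]
    rfl
  intro b hb
  have h1 : g₁ b = g₂ b := by rw [h12]
  have h2 : g₂ b = 0 := by
    change lam (e.symm (Ideal.Quotient.mk I b)) = 0
    rw [Ideal.Quotient.eq_zero_iff_mem.2 hb, map_zero, map_zero]
  rw [h2] at h1
  exact Ideal.Quotient.eq_zero_iff_mem.1 h1

/-- if `B` is of finite type over `P` and `P → B/I` is surjective then `I` is finitely generated
modulo the extension of its contraction -/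
lemma exists_finset_sup [Algebra.FiniteType P B] (I : Ideal B)
    (hsurj : ∀ b : B, ∃ a : P, b - algebraMap P B a ∈ I) :
    ∃ s : Finset B, I = (I.comap (algebraMap P B)).map (algebraMap P B) ⊔ Ideal.span (s : Set B) := by
  classical
  obtain ⟨t, ht⟩ := Algebra.FiniteType.out (R := P) (A := B)
  choose a ha using hsurj
  let s : Finset B := t.image (fun b => b - algebraMap P B (a b))
  refine ⟨s, ?_⟩
  set K : Ideal B := Ideal.span (s : Set B) with hK
  have hKI : K ≤ I := by
    rw [hK, Ideal.span_le]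
    intro x hx
    rw [Finset.mem_coe, Finset.mem_image] at hx
    obtain ⟨b, -, rfl⟩ := hx
    exact ha b
  let S' : Subalgebra P B :=
    { carrier := {b | ∃ a' : P, b - algebraMap P B a' ∈ K}
      mul_mem' := by
        rintro x y ⟨a₁, h₁⟩ ⟨a₂, h₂⟩
        refine ⟨a₁ * a₂, ?_⟩
        have : x * y - algebraMap P B (a₁ * a₂) =
            (x - algebraMap P B a₁) * y + algebraMap P B a₁ * (y - algebraMap P B a₂) := by
          rw [map_mul]; ring
        rw [this]
        exact K.add_mem (K.mul_mem_right _ h₁) (K.mul_mem_left _ h₂)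
      add_mem' := by
        rintro x y ⟨a₁, h₁⟩ ⟨a₂, h₂⟩
        refine ⟨a₁ + a₂, ?_⟩
        have : x + y - algebraMap P B (a₁ + a₂) =
            (x - algebraMap P B a₁) + (y - algebraMap P B a₂) := by
          rw [map_add]; ring
        rw [this]
        exact K.add_mem h₁ h₂
      algebraMap_mem' := by
        intro r
        exact ⟨r, by simp⟩ }
  have hS' : S' = ⊤ := by
    rw [eq_top_iff, ← ht, Algebra.adjoin_le_iff]
    intro b hb
    refine ⟨a b, ?_⟩
    apply Ideal.subset_span
    rw [Finset.mem_coe, Finset.mem_image]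
    exact ⟨b, hb, rfl⟩
  apply le_antisymm
  · intro b hb
    have hb' : b ∈ S' := by rw [hS']; trivial
    obtain ⟨a', ha'⟩ := hb'
    have h1 : algebraMap P B a' ∈ I := by
      have : algebraMap P B a' = b - (b - algebraMap P B a') := by ring
      rw [this]
      exact I.sub_mem hb (hKI ha')
    have h2 : b = algebraMap P B a' + (b - algebraMap P B a') := by ring
    rw [h2]
    exact Ideal.add_mem _ (Ideal.mem_sup_left (Ideal.mem_map_of_mem _ h1)) (Ideal.mem_sup_right ha')
  · exact sup_le Ideal.map_comap_le hKI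

/-- **Key local structure**: for `B` unramified (formally unramified and of finite type) over `P`
and `P → B/I` surjective, there is `h ≡ 1 mod I` with `h I ⊆ ĨB`. -/
lemma exists_mul_mem [Algebra.FormallyUnramified P B] [Algebra.FiniteType P B] (I : Ideal B)
    (hsurj : ∀ b : B, ∃ a : P, b - algebraMap P B a ∈ I) :
    ∃ h : B, h - 1 ∈ I ∧
      ∀ b ∈ I, h * b ∈ (I.comap (algebraMap P B)).map (algebraMap P B) := by
  obtain ⟨s, hs⟩ := exists_finset_sup I hsurj
  set K₀ : Ideal B := (I.comap (algebraMap P B)).map (algebraMap P B) with hK₀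
  have hsq : I ≤ I ^ 2 ⊔ K₀ := le_sq_sup I hsurj
  -- Nakayama for the image of `I` in `B / K₀`
  have hsI : Ideal.span (s : Set B) ≤ I := by
    conv_rhs => rw [hs]
    exact le_sup_right
  let N : Submodule B (B ⧸ K₀) := Submodule.map K₀.mkQ (Ideal.span (s : Set B))
  have hNfg : N.FG := (Submodule.fg_span s.finite_toSet).map _
  have hin : N ≤ I • N := by
    rintro _ ⟨x, hx, rfl⟩
    have h1 : x ∈ I ^ 2 ⊔ K₀ := hsq (hsI hx)
    have h2 : I ^ 2 ≤ I * Ideal.span (s : Set B) ⊔ K₀ := by
      rw [pow_two]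
      nth_rewrite 2 [hs]
      rw [Ideal.mul_sup, sup_comm]
      exact sup_le_sup le_rfl Ideal.mul_le_right
    have h3 : x ∈ I * Ideal.span (s : Set B) ⊔ K₀ := (sup_le h2 le_sup_right) h1
    obtain ⟨y, hy, k, hk, rfl⟩ := Submodule.mem_sup.1 h3
    have h4 : K₀.mkQ (y + k) = K₀.mkQ y := by
      rw [map_add, Submodule.mkQ_apply, Submodule.mkQ_apply,
        (Submodule.Quotient.mk_eq_zero K₀).2 hk, add_zero]
    rw [h4]
    change K₀.mkQ y ∈ I • Submodule.map K₀.mkQ (Ideal.span (s : Set B))
    rw [← Submodule.map_smul'']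
    exact ⟨y, hy, rfl⟩
  obtain ⟨r, hr1, hr2⟩ :=
    Submodule.exists_sub_one_mem_and_smul_eq_zero_of_fg_of_le_smul I N hNfg hin
  refine ⟨r, hr1, ?_⟩
  intro b hb
  rw [hs] at hb
  obtain ⟨k, hk, c, hc, rfl⟩ := Submodule.mem_sup.1 hb
  rw [mul_add]
  refine Ideal.add_mem _ (Ideal.mul_mem_left _ _ hk) ?_
  have h5 := hr2 (K₀.mkQ c) ⟨c, hc, rfl⟩
  rw [← map_smul, smul_eq_mul, Submodule.mkQ_apply] at h5
  exact (Submodule.Quotient.mk_eq_zero K₀).1 h5


end Unramified

section Etale

/-- a prime of `B` over a given prime containing the contraction of `I` -/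
lemma exists_prime_over {P B : Type u} [CommRing P] [CommRing B] [Algebra P B] (I : Ideal B)
    (hsurj : ∀ b : B, ∃ a : P, b - algebraMap P B a ∈ I) (𝔭 : Ideal P) [𝔭.IsPrime]
    (h𝔭 : I.comap (algebraMap P B) ≤ 𝔭) :
    ∃ 𝔮 : Ideal B, 𝔮.IsPrime ∧ I ≤ 𝔮 ∧ 𝔮.comap (algebraMap P B) = 𝔭 := by
  let ψ : P →+* B ⧸ I := (Ideal.Quotient.mk I).comp (algebraMap P B)
  have hψ : Function.Surjective ψ := by
    intro y
    obtain ⟨b, rfl⟩ := Ideal.Quotient.mk_surjective y
    obtain ⟨a, ha⟩ := hsurj b
    refine ⟨a, ?_⟩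
    change Ideal.Quotient.mk I (algebraMap P B a) = Ideal.Quotient.mk I b
    rw [eq_comm, Ideal.Quotient.eq]
    exact ha
  have hker : RingHom.ker ψ ≤ 𝔭 := by
    intro a ha
    apply h𝔭
    rw [Ideal.mem_comap]
    rw [RingHom.mem_ker] at ha
    exact Ideal.Quotient.eq_zero_iff_mem.1 ha
  have hprime : (𝔭.map ψ).IsPrime := Ideal.map_isPrime_of_surjective hψ hker
  refine ⟨(𝔭.map ψ).comap (Ideal.Quotient.mk I), inferInstance, ?_, ?_⟩
  · intro b hb
    rw [Ideal.mem_comap, Ideal.Quotient.eq_zero_iff_mem.2 hb]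
    exact Ideal.zero_mem _
  · rw [Ideal.comap_comap]
    change (𝔭.map ψ).comap ψ = 𝔭
    rw [Ideal.comap_map_of_surjective' ψ hψ]
    exact sup_eq_left.2 hker


variable {P B : Type u} [CommRing P] [CommRing B] [Algebra P B] [Algebra.Etale P B]


/-- a localization of a flat algebra which hits every prime of `D(t)` is faithfully flat over
`P_t` -/
lemma faithfullyFlat_away {P B : Type u} [CommRing P] [CommRing B] [Algebra P B] [Module.Flat P B]
    (t : P) (s : B)
    (hs : ∀ 𝔭 : PrimeSpectrum P, t ∉ 𝔭.asIdeal → ∃ 𝔮 : PrimeSpectrum B, s ∉ 𝔮.asIdeal ∧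
      𝔮.asIdeal.comap (algebraMap P B) = 𝔭.asIdeal)
    (hts : IsUnit (algebraMap B (Localization.Away s) (algebraMap P B t))) :
    ∃ φ : Localization.Away t →+* Localization.Away s,
      (∀ a, φ (algebraMap P _ a) = algebraMap P _ a) ∧ φ.FaithfullyFlat := by
  have hu : IsUnit (algebraMap P (Localization.Away s) t) := by
    rw [IsScalarTower.algebraMap_apply P B (Localization.Away s)]
    exact hts
  let φ : Localization.Away t →+* Localization.Away s := IsLocalization.Away.lift t hu
  have hφ : ∀ a, φ (algebraMap P _ a) = algebraMap P _ a :=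
    fun a => IsLocalization.Away.lift_eq t hu a
  refine ⟨φ, hφ, ?_⟩
  haveI : Module.Flat B (Localization.Away s) := IsLocalization.flat _ (Submonoid.powers s)
  haveI : Module.Flat P (Localization.Away s) := Module.Flat.trans P B _
  rw [RingHom.FaithfullyFlat.iff_flat_and_comap_surjective]
  refine ⟨flat_of_isLocalization (Submonoid.powers t) φ hφ, ?_⟩
  intro 𝔭₁
  let 𝔭₁' : PrimeSpectrum P := PrimeSpectrum.comap (algebraMap P (Localization.Away t)) 𝔭₁
  have ht : t ∉ 𝔭₁'.asIdeal := by
    intro hcon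
    exact 𝔭₁.2.ne_top (Ideal.eq_top_of_isUnit_mem _ hcon
      (IsLocalization.Away.algebraMap_isUnit t))
  obtain ⟨𝔮, hs𝔮, hcomap⟩ := hs 𝔭₁' ht
  have hdisj : Disjoint (Submonoid.powers s : Set B) (𝔮.asIdeal : Set B) := by
    rw [Set.disjoint_left]
    rintro x ⟨n, rfl⟩ hx
    exact hs𝔮 (𝔮.2.mem_of_pow_mem _ hx)
  have hprime : (𝔮.asIdeal.map (algebraMap B (Localization.Away s))).IsPrime :=
    IsLocalization.isPrime_of_isPrime_disjoint (Submonoid.powers s) _ _ 𝔮.2 hdisj
  have hback : (𝔮.asIdeal.map (algebraMap B (Localization.Away s))).comap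
      (algebraMap B (Localization.Away s)) = 𝔮.asIdeal :=
    IsLocalization.under_map_of_isPrime_disjoint (Submonoid.powers s) _ 𝔮.2 hdisj
  refine ⟨⟨_, hprime⟩, ?_⟩
  apply PrimeSpectrum.ext
  change (𝔮.asIdeal.map (algebraMap B (Localization.Away s))).comap φ = 𝔭₁.asIdeal
  rw [← IsLocalization.map_under (Submonoid.powers t) (Localization.Away t) 𝔭₁.asIdeal,
    ← IsLocalization.map_under (Submonoid.powers t) (Localization.Away t)
      ((𝔮.asIdeal.map (algebraMap B (Localization.Away s))).comap φ)]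
  congr 1
  rw [Ideal.under_def, Ideal.under_def, Ideal.comap_comap]
  have hcomp : φ.comp (algebraMap P (Localization.Away t)) =
      (algebraMap B (Localization.Away s)).comp (algebraMap P B) := by
    ext a
    rw [RingHom.comp_apply, hφ, RingHom.comp_apply,
      ← IsScalarTower.algebraMap_apply P B (Localization.Away s)]
  rw [hcomp, ← Ideal.comap_comap, hback, hcomap]
  rfl

/-- étale invariance of Koszul-regular ideals, going up -/
theorem koszulRegularIdeal_of_comap (I : Ideal B)
    (hsurj : ∀ b : B, ∃ a : P, b - algebraMap P B a ∈ I)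
    (hKR : LCI.IsKoszulRegularIdeal (I.comap (algebraMap P B))) : LCI.IsKoszulRegularIdeal I := by
  have hflat : (algebraMap P B).Flat := RingHom.flat_algebraMap_iff.2 inferInstance
  set K₀ : Ideal B := (I.comap (algebraMap P B)).map (algebraMap P B) with hK₀
  have hK₀KR : LCI.IsKoszulRegularIdeal K₀ := koszulRegularIdeal_map_of_flat _ hflat _ hKR
  have hK₀I : K₀ ≤ I := Ideal.map_comap_le
  obtain ⟨h, hh1, hh2⟩ := exists_mul_mem I hsurj
  apply isKoszulRegularIdeal_of_charts
  intro 𝔮 h𝔮
  have hh𝔮 : h ∉ 𝔮.asIdeal := by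
    intro hcon
    apply 𝔮.2.ne_top
    rw [Ideal.eq_top_iff_one]
    have : (1 : B) = h - (h - 1) := by ring
    rw [this]
    exact Ideal.sub_mem _ hcon (h𝔮 hh1)
  have hu : IsUnit (algebraMap B (Localization.Away h) h) :=
    IsLocalization.Away.algebraMap_isUnit h
  have heq : I.map (algebraMap B (Localization.Away h)) =
      K₀.map (algebraMap B (Localization.Away h)) := by
    apply le_antisymm
    · exact map_le_of_gen (g := h) (fun x hx => ⟨1, by rw [pow_one]; exact hh2 x hx⟩) _ hu
    · exact Ideal.map_mono hK₀I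
  have hflat' : (algebraMap B (Localization.Away h)).Flat :=
    RingHom.flat_algebraMap_iff.2 (IsLocalization.flat _ (Submonoid.powers h))
  have h3 : LCI.IsKoszulRegularIdeal (I.map (algebraMap B (Localization.Away h))) := by
    rw [heq]
    exact koszulRegularIdeal_map_of_flat _ hflat' _ hK₀KR
  exact exists_chart_of_away I h h3 𝔮 hh𝔮 h𝔮


/-- étale invariance of Koszul-regular ideals, going down -/
theorem koszulRegularIdeal_comap_of_etale (I : Ideal B)
    (hsurj : ∀ b : B, ∃ a : P, b - algebraMap P B a ∈ I)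
    (hKR : LCI.IsKoszulRegularIdeal I) : LCI.IsKoszulRegularIdeal (I.comap (algebraMap P B)) := by
  classical
  set It : Ideal P := I.comap (algebraMap P B) with hIt
  set K₀ : Ideal B := It.map (algebraMap P B) with hK₀
  have hK₀I : K₀ ≤ I := Ideal.map_comap_le
  obtain ⟨h, hh1, hh2⟩ := exists_mul_mem I hsurj
  apply isKoszulRegularIdeal_of_charts
  intro 𝔭 h𝔭
  haveI := 𝔭.2
  obtain ⟨𝔮, h𝔮prime, hI𝔮, h𝔮𝔭⟩ := exists_prime_over I hsurj 𝔭.asIdeal h𝔭
  have hh𝔮 : h ∉ 𝔮 := by
    intro hcon
    apply h𝔮prime.ne_top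
    rw [Ideal.eq_top_iff_one]
    have : (1 : B) = h - (h - 1) := by ring
    rw [this]
    exact Ideal.sub_mem _ hcon (hI𝔮 hh1)
  haveI : Module.Flat P B := inferInstance
  haveI : Module.Flat B (Localization.Away h) := IsLocalization.flat _ (Submonoid.powers h)
  haveI : Module.Flat P (Localization.Away h) := Module.Flat.trans P B _
  haveI : Algebra.FinitePresentation B (Localization.Away h) :=
    IsLocalization.Away.finitePresentation h
  haveI : Algebra.FinitePresentation P (Localization.Away h) :=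
    Algebra.FinitePresentation.trans P B _
  have hW : IsOpen (Set.range (PrimeSpectrum.comap (algebraMap P (Localization.Away h)))) :=
    (PrimeSpectrum.isOpenMap_comap_of_hasGoingDown_of_finitePresentation).isOpen_range
  have h𝔭W : 𝔭 ∈ Set.range (PrimeSpectrum.comap (algebraMap P (Localization.Away h))) := by
    have hdisj : Disjoint (Submonoid.powers h : Set B) (𝔮 : Set B) := by
      rw [Set.disjoint_left]
      rintro x ⟨n, rfl⟩ hx
      exact hh𝔮 (h𝔮prime.mem_of_pow_mem _ hx)
    refine ⟨⟨𝔮.map (algebraMap B (Localization.Away h)),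
      IsLocalization.isPrime_of_isPrime_disjoint (Submonoid.powers h) _ _ h𝔮prime hdisj⟩, ?_⟩
    apply PrimeSpectrum.ext
    change (𝔮.map (algebraMap B (Localization.Away h))).comap
      (algebraMap P (Localization.Away h)) = 𝔭.asIdeal
    rw [IsScalarTower.algebraMap_eq P B (Localization.Away h), ← Ideal.comap_comap]
    have := IsLocalization.under_map_of_isPrime_disjoint (Submonoid.powers h)
      (Localization.Away h) h𝔮prime hdisj
    rw [Ideal.under_def] at this
    rw [this, h𝔮𝔭]
  obtain ⟨_, ⟨t, rfl⟩, h𝔭t, htW⟩ :=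
    PrimeSpectrum.isTopologicalBasis_basic_opens.exists_subset_of_mem_open h𝔭W hW
  set s : B := h * algebraMap P B t with hs_def
  have hs : ∀ 𝔭' : PrimeSpectrum P, t ∉ 𝔭'.asIdeal → ∃ 𝔮' : PrimeSpectrum B, s ∉ 𝔮'.asIdeal ∧
      𝔮'.asIdeal.comap (algebraMap P B) = 𝔭'.asIdeal := by
    intro 𝔭' ht
    obtain ⟨𝔮h, h𝔮h⟩ := htW (show 𝔭' ∈ (PrimeSpectrum.basicOpen t : Set _) from ht)
    have hcomap : (𝔮h.asIdeal.comap (algebraMap B (Localization.Away h))).comap
        (algebraMap P B) = 𝔭'.asIdeal := by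
      rw [Ideal.comap_comap, ← IsScalarTower.algebraMap_eq P B (Localization.Away h)]
      exact congrArg PrimeSpectrum.asIdeal h𝔮h
    refine ⟨PrimeSpectrum.comap (algebraMap B (Localization.Away h)) 𝔮h, ?_, hcomap⟩
    intro hcon
    rcases (PrimeSpectrum.comap (algebraMap B (Localization.Away h)) 𝔮h).2.mem_or_mem hcon
      with h1 | h1
    · exact 𝔮h.2.ne_top (Ideal.eq_top_of_isUnit_mem _ h1
        (IsLocalization.Away.algebraMap_isUnit h))
    · apply ht
      rw [← hcomap]
      exact h1
  have hts : IsUnit (algebraMap B (Localization.Away s) (algebraMap P B t)) := by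
    have h1 : IsUnit (algebraMap B (Localization.Away s) s) :=
      IsLocalization.Away.algebraMap_isUnit s
    rw [hs_def, map_mul] at h1
    exact isUnit_of_mul_isUnit_right h1
  obtain ⟨φ, hφ, hff⟩ := faithfullyFlat_away t s hs hts
  have hus : IsUnit (algebraMap B (Localization.Away s) s) :=
    IsLocalization.Away.algebraMap_isUnit s
  have heq : I.map (algebraMap B (Localization.Away s)) =
      K₀.map (algebraMap B (Localization.Away s)) := by
    apply le_antisymm
    · refine map_le_of_gen (g := s) (fun x hx => ⟨1, ?_⟩) _ hus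
      rw [pow_one, hs_def]
      have : h * algebraMap P B t * x = algebraMap P B t * (h * x) := by ring
      rw [this]
      exact Ideal.mul_mem_left _ _ (hh2 x hx)
    · exact Ideal.map_mono hK₀I
  have hflat' : (algebraMap B (Localization.Away s)).Flat :=
    RingHom.flat_algebraMap_iff.2 (IsLocalization.flat _ (Submonoid.powers s))
  letI := φ.toAlgebra
  haveI : Module.FaithfullyFlat (Localization.Away t) (Localization.Away s) := hff
  have key : LCI.IsKoszulRegularIdeal ((It.map (algebraMap P (Localization.Away t))).map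
      (algebraMap (Localization.Away t) (Localization.Away s))) := by
    rw [Ideal.map_map]
    have hcomp : (algebraMap (Localization.Away t) (Localization.Away s)).comp
        (algebraMap P (Localization.Away t)) =
        (algebraMap B (Localization.Away s)).comp (algebraMap P B) := by
      ext a
      rw [RingHom.comp_apply, RingHom.algebraMap_toAlgebra, hφ, RingHom.comp_apply,
        ← IsScalarTower.algebraMap_apply P B (Localization.Away s)]
    rw [hcomp, ← Ideal.map_map, ← hK₀, ← heq]
    exact koszulRegularIdeal_map_of_flat _ hflat' _ hKR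
  have hfin := koszulRegularIdeal_of_faithfullyFlat (Localization.Away t) (Localization.Away s)
    _ key
  exact exists_chart_of_away It t hfin 𝔭 h𝔭t h𝔭

end Etale

section Smooth

variable {A B : Type u} [CommRing A] [CommRing B] [Algebra A B]

/-- Koszul-regularity of the kernel of a surjection `A → C` in terms of polynomial
presentations -/
lemma koszulRegularIdeal_ker_iff {C : Type u} [CommRing C] [Algebra A C]
    (hC : Function.Surjective (algebraMap A C)) (n : ℕ) (α : MvPolynomial (Fin n) A →ₐ[A] C)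
    (hα : Function.Surjective α) :
    LCI.IsKoszulRegularIdeal (RingHom.ker (algebraMap A C)) ↔
      LCI.IsKoszulRegularIdeal (RingHom.ker α.toRingHom) := by
  let e : MvPolynomial (Fin 0) A ≃ₐ[A] A := MvPolynomial.isEmptyAlgEquiv A (Fin 0)
  let β : MvPolynomial (Fin 0) A →ₐ[A] C := (Algebra.ofId A C).comp e.toAlgHom
  have hβ : Function.Surjective β := by
    intro c
    obtain ⟨a, rfl⟩ := hC c
    exact ⟨e.symm a, by simp [β]⟩
  let re : MvPolynomial (Fin 0) A ≃+* A := e.toRingEquiv
  have hker : RingHom.ker β.toRingHom = (RingHom.ker (algebraMap A C)).comap re := by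
    ext x
    rw [RingHom.mem_ker, Ideal.mem_comap, RingHom.mem_ker]
    rfl
  constructor
  · intro h
    have h1 : LCI.IsKoszulRegularIdeal (RingHom.ker β.toRingHom) := by
      rw [hker, ← Ideal.map_symm]
      exact koszulRegularIdeal_map_equiv re.symm _ h
    exact Groth.Agent.Lib.Helper43.KRPres.ker_koszulRegular_indep A C 0 n β hβ α hα h1
  · intro h
    have h1 := Groth.Agent.Lib.Helper43.KRPres.ker_koszulRegular_indep A C n 0 α hα β hβ h
    have h2 := koszulRegularIdeal_map_equiv re _ h1
    have h3 : ((RingHom.ker (algebraMap A C)).comap re).map re = RingHom.ker (algebraMap A C) :=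
      Ideal.map_comap_of_surjective _ re.surjective _
    rw [hker] at h2
    rw [← h3]
    exact h2

/-- **Smooth invariance of Koszul-regular ideals**: for `B` standard smooth over `A` and an
ideal `I` of `B` with `A → B/I` surjective, `I` is Koszul-regular iff its contraction is. -/
theorem koszulRegularIdeal_iff_of_isStandardSmooth [Algebra.IsStandardSmooth A B] (I : Ideal B)
    (hsurj : ∀ b : B, ∃ a : A, b - algebraMap A B a ∈ I) :
    LCI.IsKoszulRegularIdeal (I.comap (algebraMap A B)) ↔ LCI.IsKoszulRegularIdeal I := by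
  obtain ⟨n, g, hgC, hg⟩ := RingHom.IsStandardSmooth.exists_etale_mvPolynomial
    (f := algebraMap A B) (RingHom.isStandardSmooth_algebraMap.2 inferInstance)
  have hgC' : ∀ a, g (MvPolynomial.C a) = algebraMap A B a := fun a => RingHom.congr_fun hgC a
  -- the presentation `A[x] → B/I`
  let α : MvPolynomial (Fin n) A →ₐ[A] B ⧸ I :=
    { toRingHom := (Ideal.Quotient.mk I).comp g
      commutes' := by
        intro a
        change Ideal.Quotient.mk I (g (MvPolynomial.C a)) = _
        rw [hgC']
        rfl }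
  have hα : Function.Surjective α := by
    intro y
    obtain ⟨b, rfl⟩ := Ideal.Quotient.mk_surjective y
    obtain ⟨a, ha⟩ := hsurj b
    refine ⟨MvPolynomial.C a, ?_⟩
    change Ideal.Quotient.mk I (g (MvPolynomial.C a)) = Ideal.Quotient.mk I b
    rw [hgC', eq_comm, Ideal.Quotient.eq]
    exact ha
  have hC : Function.Surjective (algebraMap A (B ⧸ I)) := by
    intro y
    obtain ⟨b, rfl⟩ := Ideal.Quotient.mk_surjective y
    obtain ⟨a, ha⟩ := hsurj b
    refine ⟨a, ?_⟩
    change Ideal.Quotient.mk I (algebraMap A B a) = Ideal.Quotient.mk I b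
    rw [eq_comm, Ideal.Quotient.eq]
    exact ha
  have hkerA : RingHom.ker (algebraMap A (B ⧸ I)) = I.comap (algebraMap A B) := by
    ext a
    rw [RingHom.mem_ker, Ideal.mem_comap]
    change Ideal.Quotient.mk I (algebraMap A B a) = 0 ↔ _
    rw [Ideal.Quotient.eq_zero_iff_mem]
  have hkerα : RingHom.ker α.toRingHom = I.comap g := by
    ext x
    rw [RingHom.mem_ker, Ideal.mem_comap]
    change Ideal.Quotient.mk I (g x) = 0 ↔ _
    rw [Ideal.Quotient.eq_zero_iff_mem]
  rw [← hkerA, koszulRegularIdeal_ker_iff hC n α hα, hkerα]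
  letI := g.toAlgebra
  haveI : Algebra.Etale (MvPolynomial (Fin n) A) B := hg
  have hsurjP : ∀ b : B, ∃ p : MvPolynomial (Fin n) A,
      b - algebraMap (MvPolynomial (Fin n) A) B p ∈ I := by
    intro b
    obtain ⟨a, ha⟩ := hsurj b
    refine ⟨MvPolynomial.C a, ?_⟩
    rw [RingHom.algebraMap_toAlgebra, hgC']
    exact ha
  constructor
  · intro h
    exact koszulRegularIdeal_of_comap I hsurjP h
  · intro h
    exact koszulRegularIdeal_comap_of_etale I hsurjP h

end Smooth

end Groth.Agent.Lib.Helper43.KREtale
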