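import Mathlib.Tactic
import Groth.Agent.Lib.Helper43.RegImmFlatBC
import Groth.Agent.Lib.Helper43.KoszulComp

/-!
# Composition of Koszul-regular immersions (helper43)

* `chart_restrict` : a chart `(U, rs)` of a regular immersion of kind `k` restricts to any affine
  open `U₁ ≤ U`
* `koszul_comp_at` : charts of `i` at `i (j z)` and of `j` at `z` give a chart of `j ≫ i` at `z`
  whose sequence has length the sum of the lengths.
-/

set_option autoImplicit false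
universe u

open CategoryTheory CategoryTheory.Limits AlgebraicGeometry

namespace Groth.Agent.Lib.Helper43.RegImmComp

open Groth.Agent.Lib.Helper43.KoszulAtPerf Groth.Agent.Lib.Helper43.RegImmFlatBC
  Groth.Agent.Lib.Helper43.KoszulComp

/-- restriction of a chart of a regular immersion to a smaller affine open -/
theorem chart_restrict (k : RegImm.Kind) {X Y : Scheme.{u}} (i : Y ⟶ X) (U : X.Opens)
    (hU : IsAffineOpen U) [IsClosedImmersion (i ∣_ U)] (rs : List Γ(X, U))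
    (hrs : k.Seq Γ(X, U) rs) (hker : RingHom.ker (i.app U).hom = Ideal.ofList rs)
    (U₁ : X.Opens) (hU₁ : IsAffineOpen U₁) (hle : U₁ ≤ U) (z : Y) (hz : i z ∈ U₁) :
    IsClosedImmersion (i ∣_ U₁) ∧ ∃ rs₁ : List Γ(X, U₁), rs₁.length = rs.length ∧
      k.Seq Γ(X, U₁) rs₁ ∧ RingHom.ker (i.app U₁).hom = Ideal.ofList rs₁ := by
  have e : U₁ ≤ (𝟙 X) ⁻¹ᵁ U := by simpa using hle
  obtain ⟨hci', hker'⟩ := ker_app_baseChange i (𝟙 X) i (𝟙 Y) (IsPullback.id_horiz i) U hU U₁ hU₁ e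
  have hflat : ((𝟙 X : X ⟶ X).appLE U U₁ e).hom.Flat :=
    (HasRingHomProperty.iff_appLE (P := @Flat)).1 inferInstance ⟨U, hU⟩ ⟨U₁, hU₁⟩ e
  have hmap : Ideal.ofList (rs.map ((𝟙 X : X ⟶ X).appLE U U₁ e).hom) =
      RingHom.ker (i.app U₁).hom := by
    rw [hker', hker, Ideal.map_ofList]
  refine ⟨hci', rs.map ((𝟙 X : X ⟶ X).appLE U U₁ e).hom, List.length_map _, ?_, hmap.symm⟩
  refine Groth.Agent.Lib.Helper43.SeqFlatBC.kindSeq_of_flat k _ hflat rs hrs ?_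
  rw [hmap]
  intro htop
  have h1 : (1 : Γ(X, U₁)) ∈ RingHom.ker (i.app U₁).hom := by rw [htop]; trivial
  rw [RingHom.mem_ker, map_one] at h1
  haveI : Nonempty (i ⁻¹ᵁ U₁ : Y.Opens) := ⟨⟨z, hz⟩⟩
  haveI : Nontrivial Γ(Y, i ⁻¹ᵁ U₁) := Scheme.component_nontrivial Y (i ⁻¹ᵁ U₁)
  exact one_ne_zero h1

/-- composition of Koszul-regular charts -/
theorem koszul_comp_at {X Y Z : Scheme.{u}} (i : Y ⟶ X) (j : Z ⟶ Y) (z : Z)
    (U : X.Opens) (hU : IsAffineOpen U) (hzU : i (j z) ∈ U) [IsClosedImmersion (i ∣_ U)]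
    (rs : List Γ(X, U)) (hrs : LCI.IsKoszulRegularSeq Γ(X, U) rs)
    (hker : RingHom.ker (i.app U).hom = Ideal.ofList rs)
    (V : Y.Opens) (hV : IsAffineOpen V) (hzV : j z ∈ V) [IsClosedImmersion (j ∣_ V)]
    (ts : List Γ(Y, V)) (hts : LCI.IsKoszulRegularSeq Γ(Y, V) ts)
    (hkerj : RingHom.ker (j.app V).hom = Ideal.ofList ts) :
    ∃ U₁ : X.affineOpens, (j ≫ i) z ∈ U₁.1 ∧ IsClosedImmersion ((j ≫ i) ∣_ U₁.1) ∧
      ∃ l : List Γ(X, U₁.1), l.length = ts.length + rs.length ∧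
        LCI.IsKoszulRegularSeq Γ(X, U₁.1) l ∧
          RingHom.ker ((j ≫ i).app U₁.1).hom = Ideal.ofList l := by
  have hU' : IsAffineOpen (i ⁻¹ᵁ U) := isAffineOpen_preimage_of_restrict i U hU
  obtain ⟨fbar, hfV, hzf⟩ := hU'.exists_basicOpen_le ⟨j z, hzV⟩ hzU
  obtain ⟨f, rfl⟩ := app_surjective_of_restrict i U hU fbar
  have hpre : i ⁻¹ᵁ X.basicOpen f = Y.basicOpen ((i.app U).hom f) := Scheme.preimage_basicOpen i f
  have hU₁ : IsAffineOpen (X.basicOpen f) := hU.basicOpen f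
  have hz₁ : i (j z) ∈ X.basicOpen f := by
    change j z ∈ i ⁻¹ᵁ X.basicOpen f
    rw [hpre]
    exact hzf
  -- restrict the chart of `i`
  obtain ⟨hci₁, rs₁, hlen₁, hrs₁, hker₁⟩ := chart_restrict .koszul i U hU rs hrs hker
    (X.basicOpen f) hU₁ (X.basicOpen_le f) (j z) hz₁
  haveI := hci₁
  have hW : IsAffineOpen (i ⁻¹ᵁ X.basicOpen f) :=
    isAffineOpen_preimage_of_restrict i _ hU₁
  have hWV : i ⁻¹ᵁ X.basicOpen f ≤ V := by rw [hpre]; exact hfV
  -- restrict the chart of `j`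
  obtain ⟨hcj₁, ts₁, hlen₂, hts₁, hkerj₁⟩ := chart_restrict .koszul j V hV ts hts hkerj
    (i ⁻¹ᵁ X.basicOpen f) hW hWV z hz₁
  haveI := hcj₁
  refine ⟨⟨X.basicOpen f, hU₁⟩, hz₁, ?_, ?_⟩
  · change IsClosedImmersion ((j ≫ i) ∣_ X.basicOpen f)
    rw [morphismRestrict_comp]
    exact @IsClosedImmersion.comp _ _ _ _ _ hcj₁ hci₁
  · have hπ : Function.Surjective (i.app (X.basicOpen f)).hom :=
      app_surjective_of_restrict i _ hU₁
    obtain ⟨tl, rfl⟩ := (List.map_surjective_iff.2 hπ) ts₁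
    refine ⟨tl ++ rs₁, ?_, ?_, ?_⟩
    · rw [List.length_append, hlen₁, ← hlen₂, List.length_map]
    · exact koszulRegular_append _ hπ rs₁ tl hker₁ hrs₁ hts₁
    · change RingHom.ker ((j ≫ i).app (X.basicOpen f)).hom = _
      have hmem : ∀ x, x ∈ RingHom.ker ((j ≫ i).app (X.basicOpen f)).hom ↔
          (i.app (X.basicOpen f)).hom x ∈ RingHom.ker (j.app (i ⁻¹ᵁ X.basicOpen f)).hom := by
        intro x
        rw [RingHom.mem_ker, RingHom.mem_ker, Scheme.Hom.comp_app]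
        rfl
      ext x
      rw [hmem, hkerj₁, ← Ideal.mem_comap, ← Ideal.map_ofList,
        Ideal.comap_map_of_surjective _ hπ, ← RingHom.ker_eq_comap_bot, hker₁,
        Ideal.ofList_append]

end Groth.Agent.Lib.Helper43.RegImmComp
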