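import Mathlib.Tactic
import Groth.Agent.Lib.Helper43.RegImmComp
import Groth.Agent.Lib.Helper43.KRDescent
import Mathlib.AlgebraicGeometry.Morphisms.FlatDescent
import Mathlib.AlgebraicGeometry.Morphisms.Descent

/-!
# fpqc descent of Koszul-regular immersions (helper43)

* `isClosedImmersion_restrict_of_le_coborderRange`
* `ker_app_basicOpen`, `ker_le_primeIdealOf`, `mem_range_of_ker_le`
* `regImmAt_of_isKoszulRegularIdeal` : Koszul-regular kernel ideal on an affine chart ⇒ chart of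
  a Koszul-regular immersion at every point of the chart
* `isKoszulRegularIdeal_ker_of_regImm` : the converse for closed Koszul-regular immersions
* `faithfullyFlat_appLE`
* `regImm_koszul_descent` : Koszul-regular immersions descend along flat surjective quasi-compact
  morphisms (the immersion property being assumed downstairs)
-/

set_option autoImplicit false
set_option linter.style.haveILetI false
universe u

open CategoryTheory CategoryTheory.Limits AlgebraicGeometry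

namespace Groth.Agent.Lib.Helper43.KRImmDescent

open Groth.Agent.Lib.Helper43.KoszulAtPerf Groth.Agent.Lib.Helper43.RegImmFlatBC
open Groth.Agent.Lib.Helper43.KRIdeal Groth.Agent.Lib.Helper43.RegImmComp
open Groth.Agent.Lib.Helper43.KRDescent


/-- an immersion restricts to a closed immersion over any open contained in the coborder of its
range -/
lemma isClosedImmersion_restrict_of_le_coborderRange {X Y : Scheme.{u}} (i : Y ⟶ X)
    [IsImmersion i] (U : X.Opens) (hU : U ≤ i.coborderRange) : IsClosedImmersion (i ∣_ U) := by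
  have h1 : IsPullback i.liftCoborder (𝟙 Y) i.coborderRange.ι i :=
    IsPullback.of_vert_isIso_mono ⟨by rw [i.liftCoborder_ι, Category.id_comp]⟩
  have h2 := isPullback_morphismRestrict i U
  have hι : X.homOfLE hU ≫ i.coborderRange.ι = U.ι := X.homOfLE_ι hU
  have h3 : IsPullback (i ∣_ U) ((i ⁻¹ᵁ U).ι ≫ 𝟙 Y) (X.homOfLE hU ≫ i.coborderRange.ι) i := by
    rw [hι, Category.comp_id]; exact h2
  have h4 : IsPullback (i ∣_ U) (i ⁻¹ᵁ U).ι (X.homOfLE hU) i.liftCoborder := by
    refine IsPullback.of_bot h3 ?_ h1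
    rw [← cancel_mono i.coborderRange.ι, Category.assoc, Category.assoc, hι, i.liftCoborder_ι]
    exact h2.w
  exact MorphismProperty.of_isPullback h4.flip inferInstance




/-- restriction of a closed-immersion chart to a basic open: the ideal is the extension -/
lemma ker_app_basicOpen {X Y : Scheme.{u}} (i : Y ⟶ X) (U : X.Opens) (hU : IsAffineOpen U)
    [IsClosedImmersion (i ∣_ U)] (h : Γ(X, U)) :
    IsClosedImmersion (i ∣_ X.basicOpen h) ∧
      RingHom.ker (i.app (X.basicOpen h)).hom =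
        (RingHom.ker (i.app U).hom).map (algebraMap Γ(X, U) Γ(X, X.basicOpen h)) := by
  have e : X.basicOpen h ≤ (𝟙 X) ⁻¹ᵁ U := by simpa using X.basicOpen_le h
  obtain ⟨h1, h2⟩ := ker_app_baseChange i (𝟙 X) i (𝟙 Y) (IsPullback.id_horiz i) U hU
    (X.basicOpen h) (hU.basicOpen h) e
  refine ⟨h1, ?_⟩
  rw [h2]
  congr 1

/-- the kernel of a chart is contained in the prime of any point of the image -/
lemma ker_le_primeIdealOf {X Y : Scheme.{u}} (i : Y ⟶ X) (U : X.Opens) (hU : IsAffineOpen U)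
    (z : Y) (hz : i z ∈ U) :
    RingHom.ker (i.app U).hom ≤ (hU.primeIdealOf ⟨i z, hz⟩).asIdeal := by
  intro a ha
  by_contra hcon
  have h1 : hU.primeIdealOf ⟨i z, hz⟩ ∈ (PrimeSpectrum.basicOpen a : Set _) := hcon
  rw [← hU.fromSpec_preimage_basicOpen] at h1
  have h2 : i z ∈ X.basicOpen a := by
    have h0 : hU.fromSpec (hU.primeIdealOf ⟨i z, hz⟩) = i z := hU.fromSpec_primeIdealOf ⟨i z, hz⟩
    rw [← h0]
    exact h1
  have h3 : z ∈ i ⁻¹ᵁ X.basicOpen a := h2
  rw [Scheme.preimage_basicOpen, RingHom.mem_ker.1 ha, Scheme.basicOpen_zero] at h3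
  exact h3

/-- from a Koszul-regular kernel on an affine chart to a regular-immersion chart at a point -/
theorem regImmAt_of_isKoszulRegularIdeal {X Y : Scheme.{u}} (i : Y ⟶ X) (U : X.Opens)
    (hU : IsAffineOpen U) [IsClosedImmersion (i ∣_ U)]
    (hI : LCI.IsKoszulRegularIdeal (RingHom.ker (i.app U).hom)) (z : Y) (hz : i z ∈ U) :
    RegImm.IsRegularImmersionAt .koszul i z := by
  obtain ⟨g, hg, l, c⟩ := exists_chart hI (hU.primeIdealOf ⟨i z, hz⟩)
    (ker_le_primeIdealOf i U hU z hz)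
  obtain ⟨hci, hker⟩ := ker_app_basicOpen i U hU g
  haveI := hU.isLocalization_basicOpen g
  have hu : IsUnit (algebraMap Γ(X, U) Γ(X, X.basicOpen g) g) :=
    IsLocalization.Away.algebraMap_isUnit g
  haveI : Module.Flat Γ(X, U) Γ(X, X.basicOpen g) :=
    IsLocalization.flat _ (Submonoid.powers g)
  have hzg : i z ∈ X.basicOpen g := by
    have h1 : hU.primeIdealOf ⟨i z, hz⟩ ∈ (PrimeSpectrum.basicOpen g : Set _) := hg
    rw [← hU.fromSpec_preimage_basicOpen] at h1
    have h0 : hU.fromSpec (hU.primeIdealOf ⟨i z, hz⟩) = i z := hU.fromSpec_primeIdealOf ⟨i z, hz⟩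
    rw [← h0]
    exact h1
  refine ⟨⟨X.basicOpen g, hU.basicOpen g⟩, hzg, hci,
    l.map (algebraMap Γ(X, U) Γ(X, X.basicOpen g)), c.kr_flat _ hu, ?_⟩
  rw [hker]
  exact c.map_eq _ hu




/-- points of an affine open whose prime contains the kernel lie in the image of a closed
immersion -/
lemma mem_range_of_ker_le {X Y : Scheme.{u}} (i : Y ⟶ X) [IsClosedImmersion i] (U : X.Opens)
    (hU : IsAffineOpen U) (𝔮 : PrimeSpectrum Γ(X, U))
    (h : RingHom.ker (i.app U).hom ≤ 𝔮.asIdeal) : hU.fromSpec 𝔮 ∈ Set.range i := by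
  have hmemU : hU.fromSpec 𝔮 ∈ U := by
    have : hU.fromSpec 𝔮 ∈ Set.range hU.fromSpec := ⟨𝔮, rfl⟩
    rwa [hU.range_fromSpec] at this
  have h1 : hU.fromSpec 𝔮 ∈ i.ker.support := by
    rw [Scheme.IdealSheafData.mem_support_iff_of_mem (U := ⟨U, hU⟩) hmemU,
      Scheme.mem_zeroLocus_iff]
    intro a ha hmem
    rw [Scheme.Hom.ker_apply] at ha
    have h2 : 𝔮 ∈ (PrimeSpectrum.basicOpen a : Set _) := by
      rw [← hU.fromSpec_preimage_basicOpen]; exact hmem
    exact h2 (h ha)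
  have h1' : hU.fromSpec 𝔮 ∈ (i.ker.support : Set X) := h1
  rw [Scheme.Hom.support_ker] at h1'
  have hcl : IsClosed (Set.range i) := i.isClosedEmbedding.isClosed_range
  rwa [hcl.closure_eq] at h1'

/-- the kernel of a closed Koszul-regular immersion on an affine open is a Koszul-regular
ideal -/
theorem isKoszulRegularIdeal_ker_of_regImm {T Y : Scheme.{u}} (j : Y ⟶ T) (V : T.Opens)
    (hV : IsAffineOpen V) [IsClosedImmersion j]
    (hj : ∀ z, RegImm.IsRegularImmersionAt .koszul j z) :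
    LCI.IsKoszulRegularIdeal (RingHom.ker (j.app V).hom) := by
  apply isKoszulRegularIdeal_of_charts
  intro 𝔮 h𝔮
  obtain ⟨z, hz⟩ := mem_range_of_ker_le j V hV 𝔮 h𝔮
  have hzV : j z ∈ V := by
    rw [hz]
    have : hV.fromSpec 𝔮 ∈ Set.range hV.fromSpec := ⟨𝔮, rfl⟩
    rwa [hV.range_fromSpec] at this
  obtain ⟨U₁, hzU₁, hci₁, rs, hrs, hker⟩ := hj z
  obtain ⟨h, hle, hzh⟩ := hV.exists_basicOpen_le (V := U₁.1) ⟨j z, hzU₁⟩ hzV
  have hzh' : j z ∈ T.basicOpen h := hzh
  haveI := hci₁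
  obtain ⟨-, rs₁, -, hrs₁, hker₁⟩ := chart_restrict .koszul j U₁.1 U₁.2 rs hrs hker
    (T.basicOpen h) (hV.basicOpen h) hle z hzh'
  haveI : IsClosedImmersion (j ∣_ V) := inferInstance
  obtain ⟨-, hker₂⟩ := ker_app_basicOpen j V hV h
  haveI := hV.isLocalization_basicOpen h
  obtain ⟨l, -, c⟩ := Chart.of_loc (RingHom.ker (j.app V).hom) h Γ(T, T.basicOpen h) rs₁ hrs₁
    (hker₂.symm.trans hker₁)
  refine ⟨h, ?_, l, c⟩
  intro hcon
  rw [hz] at hzh'
  have h2 : 𝔮 ∈ (PrimeSpectrum.basicOpen h : Set _) := by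
    rw [← hV.fromSpec_preimage_basicOpen]; exact hzh'
  exact h2 hcon



/-- a flat morphism which is surjective from an affine open onto an affine open gives a
faithfully flat ring map -/
lemma faithfullyFlat_appLE {X T : Scheme.{u}} (g : T ⟶ X) [Flat g] (U : X.Opens)
    (hU : IsAffineOpen U) (V : T.Opens) (hV : IsAffineOpen V) (e : V ≤ g ⁻¹ᵁ U)
    (hsurj : ∀ x ∈ U, ∃ t ∈ V, g t = x) : (g.appLE U V e).hom.FaithfullyFlat := by
  rw [RingHom.FaithfullyFlat.iff_flat_and_comap_surjective]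
  refine ⟨(HasRingHomProperty.iff_appLE (P := @Flat)).1 inferInstance ⟨U, hU⟩ ⟨V, hV⟩ e, ?_⟩
  intro 𝔭
  have hxU : hU.fromSpec 𝔭 ∈ U := by
    have : hU.fromSpec 𝔭 ∈ Set.range hU.fromSpec := ⟨𝔭, rfl⟩
    rwa [hU.range_fromSpec] at this
  obtain ⟨t, htV, hgt⟩ := hsurj _ hxU
  refine ⟨hV.primeIdealOf ⟨t, htV⟩, ?_⟩
  have h1 := IsAffineOpen.comap_primeIdealOf_appLE (f := g) U hU V hV e htV
  apply hU.fromSpec.isOpenEmbedding.injective
  have h2 : hU.fromSpec (hU.primeIdealOf ⟨g t, e htV⟩) = g t := hU.fromSpec_primeIdealOf _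
  rw [← hgt, ← h2]
  congr 1


/-- **fpqc descent of Koszul-regular immersions.** -/
theorem regImm_koszul_descent {X Y X' Y' : Scheme.{u}} (i : Y ⟶ X) [IsImmersion i]
    (g : X' ⟶ X) [Flat g] [Surjective g] [QuasiCompact g]
    (i' : Y' ⟶ X') (g' : Y' ⟶ Y) (hsq : IsPullback g' i' i g)
    (hi' : RegImm.IsRegularImmersion .koszul i') : RegImm.IsRegularImmersion .koszul i := by
  refine ⟨inferInstance, fun z => ?_⟩
  have hzW : i z ∈ i.coborderRange := subset_coborder ⟨z, rfl⟩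
  obtain ⟨U, hU, hzU, hUW⟩ := exists_isAffineOpen_mem_and_subset hzW
  haveI hci : IsClosedImmersion (i ∣_ U) :=
    isClosedImmersion_restrict_of_le_coborderRange i U hUW
  refine regImmAt_of_isKoszulRegularIdeal i U hU ?_ z hzU
  -- an affine scheme covering `g ⁻¹ U`
  have hcomp : IsCompact (g ⁻¹ᵁ U : Set X') := g.isCompact_preimage hU.isCompact
  haveI : CompactSpace (g ⁻¹ᵁ U).toScheme := isCompact_iff_compactSpace.mp hcomp
  obtain ⟨T', p, hsurj, hP', hT'⟩ :=
    (g ⁻¹ᵁ U).toScheme.exists_hom_isAffine_of_isZariskiLocalAtSource @IsLocalIso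
  haveI : Flat p := (IsLocalIso.le_of_isZariskiLocalAtSource @Flat) _ _ p hP'
  let g₂' : T' ⟶ X' := p ≫ (g ⁻¹ᵁ U).ι
  let g₂ : T' ⟶ X := g₂' ≫ g
  haveI : Flat g₂' := inferInstanceAs (Flat (p ≫ (g ⁻¹ᵁ U).ι))
  haveI : Flat g₂ := inferInstanceAs (Flat (g₂' ≫ g))
  -- base change of `i'` to `T'`
  have hpb := IsPullback.of_hasPullback i' g₂'
  have hsq'' : IsPullback (pullback.fst i' g₂' ≫ g') (pullback.snd i' g₂') i g₂ :=
    hpb.paste_horiz hsq
  have hi'' : RegImm.IsRegularImmersion .koszul (pullback.snd i' g₂') :=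
    regImm_baseChange .koszul i' g₂' _ _ hpb hi'
  have e : (⊤ : T'.Opens) ≤ g₂ ⁻¹ᵁ U := by
    intro t _
    change g ((g ⁻¹ᵁ U).ι (p t)) ∈ U
    exact (p t).2
  obtain ⟨hci'', hker''⟩ := ker_app_baseChange i g₂ (pullback.snd i' g₂') _ hsq'' U hU ⊤
    (isAffineOpen_top T') e
  have hff : (g₂.appLE U ⊤ e).hom.FaithfullyFlat := by
    apply faithfullyFlat_appLE g₂ U hU ⊤ (isAffineOpen_top T') e
    intro x hx
    obtain ⟨x', rfl⟩ := g.surjective x
    obtain ⟨t, ht⟩ := p.surjective ⟨x', hx⟩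
    refine ⟨t, trivial, ?_⟩
    change g ((g ⁻¹ᵁ U).ι (p t)) = g x'
    rw [ht]
    rfl
  haveI : IsClosedImmersion (pullback.snd i' g₂') :=
    (IsZariskiLocalAtTarget.iff_of_iSup_eq_top (P := @IsClosedImmersion)
      (fun _ : Unit => (⊤ : T'.Opens)) (by simp)).2 (fun _ => hci'')
  have hK := isKoszulRegularIdeal_ker_of_regImm (pullback.snd i' g₂') ⊤ (isAffineOpen_top T')
    hi''.2
  rw [hker''] at hK
  letI := (g₂.appLE U ⊤ e).hom.toAlgebra
  haveI : Module.FaithfullyFlat Γ(X, U) Γ(T', ⊤) := hff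
  exact koszulRegularIdeal_of_faithfullyFlat Γ(X, U) Γ(T', ⊤) _ hK

end Groth.Agent.Lib.Helper43.KRImmDescent
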