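import Mathlib.Tactic
import Groth.Agent.Lib.Helper43.KRImmDescent
import Groth.Agent.Lib.Helper43.KREtale
import Mathlib.AlgebraicGeometry.Morphisms.Smooth

/-!
# Smooth invariance of Koszul-regular immersions (helper43)

* `mem_range_of_ker_le'`, `isKoszulRegularIdeal_ker_of_regImmAt` : chart form ⇒ Koszul-regular
  kernel ideal on any affine open over which the immersion is closed
* `isStandardSmooth_appLE_basicOpen_source/target` : shrinking standard smooth charts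
* `exists_charts` : compatible charts for immersions `j : X → V'`, `j ≫ p : X → V`, `p` smooth
* `koszulRegularIdeal_ker_iff_of_charts`
* `regImm_koszul_iff_of_smooth` : for immersions `i = j ≫ p` with `p` smooth, `i` is
  Koszul-regular iff `j` is
-/

set_option autoImplicit false
set_option linter.style.haveILetI false
universe u

open CategoryTheory CategoryTheory.Limits AlgebraicGeometry

namespace Groth.Agent.Lib.Helper43.KRSmoothImm

open Groth.Agent.Lib.Helper43.KoszulAtPerf Groth.Agent.Lib.Helper43.RegImmFlatBC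
open Groth.Agent.Lib.Helper43.KRIdeal Groth.Agent.Lib.Helper43.RegImmComp
open Groth.Agent.Lib.Helper43.KRImmDescent Groth.Agent.Lib.Helper43.KREtale

/-- points of an affine chart whose prime contains the kernel lie in the image -/
lemma mem_range_of_ker_le' {X Y : Scheme.{u}} (i : Y ⟶ X) (U : X.Opens)
    (hU : IsAffineOpen U) [IsClosedImmersion (i ∣_ U)] (𝔮 : PrimeSpectrum Γ(X, U))
    (h : RingHom.ker (i.app U).hom ≤ 𝔮.asIdeal) : hU.fromSpec 𝔮 ∈ Set.range i := by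
  have hU' : IsAffineOpen (i ⁻¹ᵁ U) := isAffineOpen_preimage_of_restrict i U hU
  have hsurj : Function.Surjective (i.app U).hom := app_surjective_of_restrict i U hU
  haveI := 𝔮.2
  have hprime : (𝔮.asIdeal.map (i.app U).hom).IsPrime :=
    Ideal.map_isPrime_of_surjective hsurj h
  have hcomap : (𝔮.asIdeal.map (i.app U).hom).comap (i.app U).hom = 𝔮.asIdeal := by
    rw [Ideal.comap_map_of_surjective' _ hsurj]
    exact sup_eq_left.2 h
  let 𝔮' : ↥(Spec Γ(Y, i ⁻¹ᵁ U)) := (⟨_, hprime⟩ : PrimeSpectrum Γ(Y, i ⁻¹ᵁ U))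
  refine ⟨hU'.fromSpec 𝔮', ?_⟩
  have h1 := IsAffineOpen.SpecMap_appLE_fromSpec i hU hU' le_rfl
  have h2 : i (hU'.fromSpec 𝔮') = hU.fromSpec (Spec.map (i.appLE U (i ⁻¹ᵁ U) le_rfl) 𝔮') := by
    rw [← Scheme.Hom.comp_apply, ← Scheme.Hom.comp_apply, h1]
  rw [h2]
  congr 1
  apply PrimeSpectrum.ext
  change (𝔮.asIdeal.map (i.app U).hom).comap (i.appLE U (i ⁻¹ᵁ U) le_rfl).hom = 𝔮.asIdeal
  rw [Scheme.Hom.appLE_eq_app]
  exact hcomap

/-- the kernel of an immersion on an affine chart over which it is closed is a Koszul-regular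
ideal as soon as the immersion is Koszul-regular at the points of the chart -/
theorem isKoszulRegularIdeal_ker_of_regImmAt {T Y : Scheme.{u}} (j : Y ⟶ T) (V : T.Opens)
    (hV : IsAffineOpen V) [IsClosedImmersion (j ∣_ V)]
    (hj : ∀ z, j z ∈ V → RegImm.IsRegularImmersionAt .koszul j z) :
    LCI.IsKoszulRegularIdeal (RingHom.ker (j.app V).hom) := by
  apply isKoszulRegularIdeal_of_charts
  intro 𝔮 h𝔮
  obtain ⟨z, hz⟩ := mem_range_of_ker_le' j V hV 𝔮 h𝔮
  have hzV : j z ∈ V := by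
    rw [hz]
    have : hV.fromSpec 𝔮 ∈ Set.range hV.fromSpec := ⟨𝔮, rfl⟩
    rwa [hV.range_fromSpec] at this
  obtain ⟨U₁, hzU₁, hci₁, rs, hrs, hker⟩ := hj z hzV
  obtain ⟨h, hle, hzh⟩ := hV.exists_basicOpen_le (V := U₁.1) ⟨j z, hzU₁⟩ hzV
  have hzh' : j z ∈ T.basicOpen h := hzh
  haveI := hci₁
  obtain ⟨-, rs₁, -, hrs₁, hker₁⟩ := chart_restrict .koszul j U₁.1 U₁.2 rs hrs hker
    (T.basicOpen h) (hV.basicOpen h) hle z hzh'
  obtain ⟨-, hker₂⟩ := ker_app_basicOpen j V hV h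
  haveI := hV.isLocalization_basicOpen h
  obtain ⟨l, -, c⟩ := Chart.of_loc (RingHom.ker (j.app V).hom) h Γ(T, T.basicOpen h) rs₁ hrs₁
    (hker₂.symm.trans hker₁)
  refine ⟨h, ?_, l, c⟩
  intro hcon
  rw [hz] at hzh'
  have h2 : 𝔮 ∈ (PrimeSpectrum.basicOpen h : Set _) := by
    rw [← hV.fromSpec_preimage_basicOpen]; exact hzh'
  exact h2 hcon


/-- standard smooth charts: shrinking the source chart to a basic open -/
lemma isStandardSmooth_appLE_basicOpen_source {V V' : Scheme.{u}} (p : V' ⟶ V) (U : V.Opens)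
    (_hU : IsAffineOpen U) (W : V'.Opens) (hW : IsAffineOpen W) (e : W ≤ p ⁻¹ᵁ U)
    (hstd : (p.appLE U W e).hom.IsStandardSmooth) (b : Γ(V', W)) :
    ∃ e' : V'.basicOpen b ≤ p ⁻¹ᵁ U, (p.appLE U (V'.basicOpen b) e').hom.IsStandardSmooth := by
  have e' : V'.basicOpen b ≤ p ⁻¹ᵁ U := (V'.basicOpen_le b).trans e
  refine ⟨e', ?_⟩
  have h1 : p.appLE U (V'.basicOpen b) e' =
      p.appLE U W e ≫ V'.presheaf.map (homOfLE (V'.basicOpen_le b)).op := by
    rw [Scheme.Hom.appLE_map]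
  haveI := hW.isLocalization_basicOpen b
  have h2 := RingHom.isStandardSmooth_stableUnderCompositionWithLocalizationAway.2
    Γ(V', V'.basicOpen b) b (p.appLE U W e).hom hstd
  rw [h1]
  exact h2

/-- standard smooth charts: shrinking the target chart to a basic open -/
lemma isStandardSmooth_appLE_basicOpen_target {V V' : Scheme.{u}} (p : V' ⟶ V) (U : V.Opens)
    (hU : IsAffineOpen U) (W : V'.Opens) (hW : IsAffineOpen W) (e : W ≤ p ⁻¹ᵁ U)
    (hstd : (p.appLE U W e).hom.IsStandardSmooth) (a : Γ(V, U)) :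
    ∃ e' : V'.basicOpen (p.appLE U W e a) ≤ p ⁻¹ᵁ (V.basicOpen a),
      (p.appLE (V.basicOpen a) (V'.basicOpen (p.appLE U W e a)) e').hom.IsStandardSmooth := by
  have e' : V'.basicOpen (p.appLE U W e a) ≤ p ⁻¹ᵁ (V.basicOpen a) := by
    rw [Scheme.basicOpen_appLE]
    exact inf_le_right
  refine ⟨e', ?_⟩
  haveI := hU.isLocalization_basicOpen a
  haveI := hW.isLocalization_basicOpen (p.appLE U W e a)
  have h1 := IsAffineOpen.appLE_eq_away_map p hU hW e a
  have h2 := RingHom.isStandardSmooth_localizationPreserves.away (p.appLE U W e).hom a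
    Γ(V, V.basicOpen a) Γ(V', V'.basicOpen (p.appLE U W e a)) hstd
  rw [h1]
  exact h2


/-- compatible affine charts for two immersions related by a smooth morphism -/
theorem exists_charts {X V V' : Scheme.{u}} (j : X ⟶ V') [IsImmersion j]
    (p : V' ⟶ V) [Smooth p] [IsImmersion (j ≫ p)] (z : X) :
    ∃ (U : V.Opens) (W : V'.Opens) (_ : IsAffineOpen U) (_ : IsAffineOpen W)
      (e : W ≤ p ⁻¹ᵁ U),
      (j ≫ p) z ∈ U ∧ j z ∈ W ∧ IsClosedImmersion ((j ≫ p) ∣_ U) ∧ IsClosedImmersion (j ∣_ W) ∧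
      (p.appLE U W e).hom.IsStandardSmooth ∧ j ⁻¹ᵁ W = (j ≫ p) ⁻¹ᵁ U := by
  obtain ⟨U₁, hU₁, W₁, hW₁, hzW₁, e₁, hstd₁⟩ := Smooth.exists_isStandardSmooth p (j z)
  have hzU₁ : (j ≫ p) z ∈ U₁ := e₁ hzW₁
  -- shrink `W₁` into the coborder of `j`
  have hzc : j z ∈ j.coborderRange := subset_coborder ⟨z, rfl⟩
  obtain ⟨b, hble, hzb⟩ := hW₁.exists_basicOpen_le (V := j.coborderRange) ⟨j z, hzc⟩ hzW₁
  have hzb' : j z ∈ V'.basicOpen b := hzb
  have hW₂ : IsAffineOpen (V'.basicOpen b) := hW₁.basicOpen b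
  obtain ⟨e₂, hstd₂⟩ := isStandardSmooth_appLE_basicOpen_source p U₁ hU₁ W₁ hW₁ e₁ hstd₁ b
  -- shrink `U₁` into the coborder of `i`
  have hzci : (j ≫ p) z ∈ (j ≫ p).coborderRange := subset_coborder ⟨z, rfl⟩
  obtain ⟨a₁, ha₁le, hza₁⟩ := hU₁.exists_basicOpen_le (V := (j ≫ p).coborderRange)
    ⟨(j ≫ p) z, hzci⟩ hzU₁
  have hza₁' : (j ≫ p) z ∈ V.basicOpen a₁ := hza₁
  have hU₂ : IsAffineOpen (V.basicOpen a₁) := hU₁.basicOpen a₁
  obtain ⟨e₃, hstd₃⟩ := isStandardSmooth_appLE_basicOpen_target p U₁ hU₁ _ hW₂ e₂ hstd₂ a₁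
  set W₃ : V'.Opens := V'.basicOpen (p.appLE U₁ (V'.basicOpen b) e₂ a₁) with hW₃def
  have hW₃ : IsAffineOpen W₃ := hW₂.basicOpen _
  have hW₃eq : W₃ = V'.basicOpen b ⊓ p ⁻¹ᵁ (V.basicOpen a₁) := Scheme.basicOpen_appLE _ _ _ _ _
  have hzW₃ : j z ∈ W₃ := by
    rw [hW₃eq]
    exact ⟨hzb', hza₁'⟩
  haveI hci₂ : IsClosedImmersion ((j ≫ p) ∣_ V.basicOpen a₁) :=
    isClosedImmersion_restrict_of_le_coborderRange _ _ ha₁le
  -- shrink once more so that the preimages agree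
  have hU₂' : IsAffineOpen ((j ≫ p) ⁻¹ᵁ V.basicOpen a₁) :=
    isAffineOpen_preimage_of_restrict _ _ hU₂
  obtain ⟨abar, habar_le, hzabar⟩ := hU₂'.exists_basicOpen_le (V := j ⁻¹ᵁ W₃) ⟨z, hzW₃⟩ hza₁'
  obtain ⟨a₂, rfl⟩ := app_surjective_of_restrict (j ≫ p) _ hU₂ abar
  have hpre : (j ≫ p) ⁻¹ᵁ V.basicOpen a₂ =
      X.basicOpen (((j ≫ p).app (V.basicOpen a₁)).hom a₂) := Scheme.preimage_basicOpen _ a₂
  have hU : IsAffineOpen (V.basicOpen a₂) := hU₂.basicOpen a₂
  obtain ⟨e, hstd⟩ := isStandardSmooth_appLE_basicOpen_target p _ hU₂ W₃ hW₃ e₃ hstd₃ a₂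
  set W : V'.Opens := V'.basicOpen (p.appLE (V.basicOpen a₁) W₃ e₃ a₂) with hWdef
  have hW : IsAffineOpen W := hW₃.basicOpen _
  have hWeq : W = W₃ ⊓ p ⁻¹ᵁ (V.basicOpen a₂) := Scheme.basicOpen_appLE _ _ _ _ _
  have hzU : (j ≫ p) z ∈ V.basicOpen a₂ := by
    change z ∈ (j ≫ p) ⁻¹ᵁ V.basicOpen a₂
    rw [hpre]
    exact hzabar
  refine ⟨V.basicOpen a₂, W, hU, hW, e, hzU, ?_, ?_, ?_, hstd, ?_⟩
  · rw [hWeq]
    exact ⟨hzW₃, hzU⟩
  · exact isClosedImmersion_restrict_of_le_coborderRange _ _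
      ((V.basicOpen_le a₂).trans ha₁le)
  · apply isClosedImmersion_restrict_of_le_coborderRange
    rw [hWeq, hW₃eq]
    exact inf_le_left.trans (inf_le_left.trans hble)
  · rw [hWeq, Scheme.Hom.preimage_inf, ← Scheme.Hom.comp_preimage]
    apply inf_eq_right.2
    rw [hpre]
    exact habar_le


/-- Koszul-regularity of the two kernels on compatible charts -/
theorem koszulRegularIdeal_ker_iff_of_charts {X V V' : Scheme.{u}} (j : X ⟶ V') (p : V' ⟶ V)
    (U : V.Opens) (W : V'.Opens) (hU : IsAffineOpen U) (e : W ≤ p ⁻¹ᵁ U)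
    [IsClosedImmersion ((j ≫ p) ∣_ U)]
    (hstd : (p.appLE U W e).hom.IsStandardSmooth) (hpre : j ⁻¹ᵁ W = (j ≫ p) ⁻¹ᵁ U) :
    LCI.IsKoszulRegularIdeal (RingHom.ker ((j ≫ p).app U).hom) ↔
      LCI.IsKoszulRegularIdeal (RingHom.ker (j.app W).hom) := by
  letI := (p.appLE U W e).hom.toAlgebra
  haveI : Algebra.IsStandardSmooth Γ(V, U) Γ(V', W) := hstd
  have hle : j ⁻¹ᵁ W ≤ (j ≫ p) ⁻¹ᵁ U := hpre.le
  -- the restriction map between the two (equal) opens of `X`
  let ρ : Γ(X, (j ≫ p) ⁻¹ᵁ U) ⟶ Γ(X, j ⁻¹ᵁ W) := X.presheaf.map (homOfLE hle).op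
  haveI : IsIso (homOfLE hle) :=
    ⟨homOfLE hpre.ge, Subsingleton.elim _ _, Subsingleton.elim _ _⟩
  haveI : IsIso ρ := inferInstanceAs (IsIso (X.presheaf.map (homOfLE hle).op))
  have hρbij : Function.Bijective ρ.hom := ConcreteCategory.bijective_of_isIso ρ
  have hcompat : ∀ a : Γ(V, U), ρ.hom (((j ≫ p).app U).hom a) =
      (j.app W).hom ((p.appLE U W e).hom a) := by
    intro a
    have h1 : (j ≫ p).app U ≫ ρ = p.appLE U W e ≫ j.app W := by
      have h2 := Scheme.Hom.appLE_comp_appLE j p U W (j ⁻¹ᵁ W) e le_rfl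
      rw [Scheme.Hom.appLE_eq_app] at h2
      rw [h2]
      rfl
    have h3 := congrArg (fun f => f.hom a) h1
    exact h3
  have hsurjU : Function.Surjective ((j ≫ p).app U).hom := app_surjective_of_restrict _ U hU
  have hcomap : RingHom.ker ((j ≫ p).app U).hom =
      (RingHom.ker (j.app W).hom).comap (algebraMap Γ(V, U) Γ(V', W)) := by
    ext a
    rw [RingHom.mem_ker, Ideal.mem_comap, RingHom.mem_ker, RingHom.algebraMap_toAlgebra,
      ← hcompat]
    constructor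
    · intro h; rw [h, map_zero]
    · intro h
      apply hρbij.1
      rw [h, map_zero]
  have hsurj : ∀ b : Γ(V', W), ∃ a : Γ(V, U),
      b - algebraMap Γ(V, U) Γ(V', W) a ∈ RingHom.ker (j.app W).hom := by
    intro b
    obtain ⟨y', hy'⟩ := hρbij.2 ((j.app W).hom b)
    obtain ⟨a, rfl⟩ := hsurjU y'
    refine ⟨a, ?_⟩
    rw [RingHom.mem_ker, map_sub, RingHom.algebraMap_toAlgebra, ← hcompat, hy', sub_self]
  rw [hcomap]
  exact koszulRegularIdeal_iff_of_isStandardSmooth _ hsurj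


/-- **Smooth invariance of Koszul-regular immersions.** -/
theorem regImm_koszul_iff_of_smooth {X V V' : Scheme.{u}} (i : X ⟶ V) [IsImmersion i]
    (j : X ⟶ V') [IsImmersion j] (p : V' ⟶ V) [Smooth p] (h : j ≫ p = i) :
    RegImm.IsRegularImmersion .koszul i ↔ RegImm.IsRegularImmersion .koszul j := by
  subst h
  constructor
  · intro hi
    refine ⟨inferInstance, fun z => ?_⟩
    obtain ⟨U, W, hU, hW, e, hzU, hzW, hci, hcj, hstd, hpre⟩ := exists_charts j p z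
    haveI := hci
    haveI := hcj
    have hJ := isKoszulRegularIdeal_ker_of_regImmAt (j ≫ p) U hU (fun z' _ => hi.2 z')
    have hI := (koszulRegularIdeal_ker_iff_of_charts j p U W hU e hstd hpre).1 hJ
    exact regImmAt_of_isKoszulRegularIdeal j W hW hI z hzW
  · intro hj
    refine ⟨inferInstance, fun z => ?_⟩
    obtain ⟨U, W, hU, hW, e, hzU, hzW, hci, hcj, hstd, hpre⟩ := exists_charts j p z
    haveI := hci
    haveI := hcj
    have hI := isKoszulRegularIdeal_ker_of_regImmAt j W hW (fun z' _ => hj.2 z')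
    have hJ := (koszulRegularIdeal_ker_iff_of_charts j p U W hU e hstd hpre).2 hI
    exact regImmAt_of_isKoszulRegularIdeal (j ≫ p) U hU hJ z hzU

end Groth.Agent.Lib.Helper43.KRSmoothImm
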