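import Mathlib.Tactic
import Groth.Agent.Lib.Helper43.SeqFlatBC
import Mathlib.LinearAlgebra.Matrix.NonsingularInverse
import Mathlib.RingTheory.Flat.FaithfullyFlat.Algebra

/-!
# `H₁`-regular sequences: change of generators and flat-local descent (helper43)

* `smul_sub_mem_triv` : `f k • a ≡ (Σ aᵢ fᵢ) e_k` modulo the trivial relations
* `triv_vecMul` : if `e = N f` then `Triv e * N ⊆ Triv f`
* `h1_indep` : `f = M e`, `e = N f`, `det (M N)` a unit, `e` `H₁`-regular ⇒ `f` `H₁`-regular
* `exists_matrix`, `det_sub_one_mem`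
* `h1_of_family` : `H₁`-regularity can be checked after a family of flat ring maps covering all
  maximal ideals containing the sequence
-/

set_option autoImplicit false
set_option linter.style.haveILetI false
universe u

open Matrix

namespace Groth.Agent.Lib.Helper43.H1Descent

section Basic

variable {R : Type u} [CommRing R]

/-- the submodule of trivial relations -/
def Triv {c : ℕ} (f : Fin c → R) : Submodule R (Fin c → R) :=
  Submodule.span R {v | ∃ i j : Fin c, v = Pi.single i (f j) - Pi.single j (f i)}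

lemma isH1Regular_iff {c : ℕ} (f : Fin c → R) :
    CAlgX.IsH1Regular f ↔ ∀ a : Fin c → R, ∑ i, a i * f i = 0 → a ∈ Triv f := Iff.rfl

/-- `f k • a ≡ (Σ aᵢ fᵢ) e_k` modulo trivial relations -/
lemma smul_sub_mem_triv {c : ℕ} (f : Fin c → R) (a : Fin c → R) (k : Fin c) :
    f k • a - Pi.single k (∑ i, a i * f i) ∈ Triv f := by
  classical
  have h : f k • a - Pi.single k (∑ i, a i * f i) =
      ∑ i, a i • (Pi.single i (f k) - Pi.single k (f i)) := by
    funext m
    rw [Finset.sum_apply]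
    simp only [Pi.sub_apply, Pi.smul_apply, smul_eq_mul, Pi.single_apply, mul_sub, mul_ite,
      mul_zero, Finset.sum_sub_distrib]
    rw [Finset.sum_ite_eq Finset.univ m]
    simp only [Finset.mem_univ, if_true]
    by_cases hmk : m = k
    · subst hmk; simp [mul_comm]
    · simp [hmk, mul_comm]
  rw [h]
  refine Submodule.sum_mem _ (fun i _ => Submodule.smul_mem _ _ (Submodule.subset_span ?_))
  exact ⟨i, k, rfl⟩

/-- for a relation `a`, `f k • a` is a trivial relation -/
lemma smul_mem_triv {c : ℕ} (f : Fin c → R) (a : Fin c → R) (ha : ∑ i, a i * f i = 0)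
    (k : Fin c) : f k • a ∈ Triv f := by
  have := smul_sub_mem_triv f a k
  rwa [ha, Pi.single_zero, sub_zero] at this

/-- if `e = N f` then right multiplication by `N` maps trivial relations of `e` to trivial
relations of `f` -/
lemma triv_vecMul {r s : ℕ} (f : Fin r → R) (e : Fin s → R) (N : Matrix (Fin s) (Fin r) R)
    (he : e = N *ᵥ f) (v : Fin s → R) (hv : v ∈ Triv e) : v ᵥ* N ∈ Triv f := by
  classical
  have hle : Triv e ≤ (Triv f).comap (Matrix.vecMulLinear N) := by
    refine Submodule.span_le.2 ?_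
    rintro _ ⟨i, j, rfl⟩
    change (Pi.single i (e j) - Pi.single j (e i)) ᵥ* N ∈ Triv f
    have h : (Pi.single i (e j) - Pi.single j (e i)) ᵥ* N =
        ∑ m, ∑ n, (N j m * N i n) • (Pi.single n (f m) - Pi.single m (f n)) := by
      rw [Matrix.sub_vecMul, Matrix.single_vecMul, Matrix.single_vecMul]
      funext p
      rw [Finset.sum_apply]
      simp only [Finset.sum_apply, Pi.sub_apply, Pi.smul_apply, smul_eq_mul, Pi.single_apply,
        mul_sub, mul_ite, mul_zero, Finset.sum_sub_distrib]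
      have e1 : ∀ x : Fin r, (∑ x_1 : Fin r, if p = x_1 then N j x * N i x_1 * f x else 0) =
          N j x * N i p * f x := fun x => by
        rw [Finset.sum_ite_eq Finset.univ p]; simp
      have e2 : ∀ x : Fin r, (∑ x_1 : Fin r, if p = x then N j x * N i x_1 * f x_1 else 0) =
          if p = x then ∑ x_1, N j x * N i x_1 * f x_1 else 0 := fun x => by
        split_ifs <;> simp
      simp only [e1, e2]
      rw [Finset.sum_ite_eq Finset.univ p]
      simp only [Finset.mem_univ, if_true]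
      rw [he]
      change (∑ x, N j x * f x) * N i p - (∑ x, N i x * f x) * N j p = _
      rw [Finset.sum_mul, Finset.sum_mul]
      congr 1
      · exact Finset.sum_congr rfl fun m _ => by ring
      · exact Finset.sum_congr rfl fun m _ => by ring
    rw [h]
    refine Submodule.sum_mem _ fun m _ => Submodule.sum_mem _ fun n _ =>
      Submodule.smul_mem _ _ (Submodule.subset_span ⟨n, m, rfl⟩)
  exact hle hv

/-- **independence of generators for `H₁`-regular sequences** -/
theorem h1_indep {r s : ℕ} (f : Fin r → R) (e : Fin s → R) (M : Matrix (Fin r) (Fin s) R)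
    (N : Matrix (Fin s) (Fin r) R) (hf : f = M *ᵥ e) (he : e = N *ᵥ f)
    (hdet : IsUnit (M * N).det) (hreg : CAlgX.IsH1Regular e) : CAlgX.IsH1Regular f := by
  classical
  intro a ha
  change a ∈ Triv f
  have hb : ∑ j, (a ᵥ* M) j * e j = 0 := by
    have h1 : (a ᵥ* M) ⬝ᵥ e = a ⬝ᵥ (M *ᵥ e) := (Matrix.dotProduct_mulVec a M e).symm
    change (a ᵥ* M) ⬝ᵥ e = 0
    rw [h1, ← hf]
    exact ha
  have h1 : a ᵥ* M ∈ Triv e := hreg _ hb
  have h2 : (a ᵥ* M) ᵥ* N ∈ Triv f := triv_vecMul f e N he _ h1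
  rw [Matrix.vecMul_vecMul] at h2
  set K := M * N with hK
  have hKf : K *ᵥ f = f := by
    rw [hK, ← Matrix.mulVec_mulVec, ← he, ← hf]
  have hKinv : f = K⁻¹ *ᵥ f := by
    conv_lhs => rw [← Matrix.one_mulVec f, ← Matrix.nonsing_inv_mul K hdet,
      ← Matrix.mulVec_mulVec, hKf]
  have h3 : (a ᵥ* K) ᵥ* K⁻¹ ∈ Triv f := triv_vecMul f f K⁻¹ hKinv _ h2
  rwa [Matrix.vecMul_vecMul, Matrix.mul_nonsing_inv K hdet, Matrix.vecMul_one] at h3

/-- two generating families of the same ideal are related by matrices -/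
lemma exists_matrix {r s : ℕ} (f : Fin r → R) (e : Fin s → R)
    (h : Ideal.span (Set.range f) ≤ Ideal.span (Set.range e)) :
    ∃ M : Matrix (Fin r) (Fin s) R, f = M *ᵥ e := by
  have h1 : ∀ i, ∃ c : Fin s → R, ∑ j, c j * e j = f i := fun i =>
    Ideal.mem_span_range_iff_exists_fun.1 (h (Ideal.subset_span ⟨i, rfl⟩))
  choose M hM using h1
  exact ⟨Matrix.of M, funext fun i => (hM i).symm⟩

/-- if relations among `f` have coefficients in `J` and `K f = f` then `det K ≡ 1` mod `J` -/
lemma det_sub_one_mem {r : ℕ} (f : Fin r → R) (J : Ideal R)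
    (hrel : ∀ a : Fin r → R, ∑ i, a i * f i = 0 → ∀ i, a i ∈ J)
    (K : Matrix (Fin r) (Fin r) R) (hK : K *ᵥ f = f) : K.det - 1 ∈ J := by
  classical
  have hent : ∀ i j, (K - 1) i j ∈ J := by
    intro i
    apply hrel
    have h1 : (K - 1) *ᵥ f = 0 := by rw [Matrix.sub_mulVec, hK, Matrix.one_mulVec, sub_self]
    exact congrFun h1 i
  have hmap : (Ideal.Quotient.mk J).mapMatrix K = 1 := by
    ext i j
    have h2 := hent i j
    rw [Matrix.sub_apply, ← Ideal.Quotient.eq] at h2
    rw [RingHom.mapMatrix_apply, Matrix.map_apply, h2]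
    by_cases hij : i = j
    · subst hij; simp
    · simp [hij]
  have hdet : Ideal.Quotient.mk J K.det = 1 := by
    rw [RingHom.map_det, hmap, Matrix.det_one]
  rw [← Ideal.Quotient.eq, hdet, map_one]

end Basic

section Family

open TensorProduct

variable {R : Type u} [CommRing R]

/-- if `1 ⊗ x = 0` after a flat base change then the annihilator of `x` extends to the unit
ideal -/
lemma ann_map_eq_top (H : Type u) [AddCommGroup H] [Module R H] (x : H)
    (R' : Type u) [CommRing R'] [Algebra R R'] [Module.Flat R R']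
    (hx : (1 : R') ⊗ₜ[R] x = 0) :
    Ideal.map (algebraMap R R') (LinearMap.ker (LinearMap.toSpanSingleton R H x) : Ideal R) = ⊤ := by
  set ψ₀ := LinearMap.toSpanSingleton R H x with hψ₀
  set 𝔞 : Ideal R := LinearMap.ker ψ₀ with h𝔞
  let ψ : (R ⧸ 𝔞) →ₗ[R] H := Submodule.liftQ 𝔞 ψ₀ le_rfl
  have hψ : Function.Injective ψ := by
    rw [← LinearMap.ker_eq_bot]; exact Submodule.ker_liftQ_eq_bot _ _ _ le_rfl
  have hinj := Module.Flat.lTensor_preserves_injective_linearMap (M := R') ψ hψ
  have h1 : (LinearMap.lTensor R' ψ) ((1 : R') ⊗ₜ[R] (Ideal.Quotient.mk 𝔞 1)) = 0 := by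
    rw [LinearMap.lTensor_tmul]
    have : ψ (Ideal.Quotient.mk 𝔞 1) = x := by
      change ψ₀ 1 = x
      rw [hψ₀, LinearMap.toSpanSingleton_apply, one_smul]
    rw [this]
    exact hx
  have h2 : (1 : R') ⊗ₜ[R] (Ideal.Quotient.mk 𝔞 1) = 0 := hinj (by rw [h1, map_zero])
  have h3 := congrArg (TensorProduct.tensorQuotEquivQuotSMul R' 𝔞) h2
  rw [map_zero, TensorProduct.tensorQuotEquivQuotSMul_tmul_mk, one_smul,
    Submodule.Quotient.mk_eq_zero, Ideal.smul_top_eq_map] at h3
  rw [Ideal.eq_top_iff_one]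
  exact h3

/-- **flat-local descent of `H₁`-regularity**: `H₁`-regularity of `f` may be checked after flat
ring maps covering every maximal ideal containing `f`. -/
theorem h1_of_family {c : ℕ} (f : Fin c → R)
    (h : ∀ 𝔪 : Ideal R, 𝔪.IsMaximal → Ideal.span (Set.range f) ≤ 𝔪 →
      ∃ (R' : Type u) (_ : CommRing R') (ψ : R →+* R'), ψ.Flat ∧ 𝔪.map ψ ≠ ⊤ ∧
        CAlgX.IsH1Regular (ψ ∘ f)) : CAlgX.IsH1Regular f := by
  classical
  intro a ha
  change a ∈ Triv f
  set N := (Fin c → R) ⧸ Triv f with hN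
  set x : N := Submodule.Quotient.mk a with hx
  suffices hx0 : x = 0 by rwa [hx, Submodule.Quotient.mk_eq_zero] at hx0
  set 𝔞 : Ideal R := LinearMap.ker (LinearMap.toSpanSingleton R N x) with h𝔞
  by_cases htop : 𝔞 = ⊤
  · have h1 : (1 : R) ∈ 𝔞 := by rw [htop]; trivial
    rw [h𝔞, LinearMap.mem_ker, LinearMap.toSpanSingleton_apply, one_smul] at h1
    exact h1
  exfalso
  obtain ⟨𝔪, h𝔪, hle⟩ := Ideal.exists_le_maximal 𝔞 htop
  have hf𝔞 : Ideal.span (Set.range f) ≤ 𝔞 := by
    rw [Ideal.span_le]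
    rintro _ ⟨k, rfl⟩
    change f k ∈ LinearMap.ker (LinearMap.toSpanSingleton R N x)
    rw [LinearMap.mem_ker, LinearMap.toSpanSingleton_apply, hx, ← Submodule.Quotient.mk_smul,
      Submodule.Quotient.mk_eq_zero]
    exact smul_mem_triv f a ha k
  obtain ⟨R', _, ψ, hψ, hne, hreg⟩ := h 𝔪 h𝔪 (hf𝔞.trans hle)
  letI := ψ.toAlgebra
  haveI : Module.Flat R R' := hψ
  apply hne
  rw [eq_top_iff]
  refine le_trans ?_ (Ideal.map_mono hle)
  refine (ann_map_eq_top N x R' ?_).ge
  -- the `R'`-linear map `R'^c → R' ⊗ N`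
  let Θ : (Fin c → R') →ₗ[R'] R' ⊗[R] N :=
    Fintype.linearCombination R'
      (fun i => (1 : R') ⊗ₜ[R] (Submodule.Quotient.mk (Pi.single i 1) : N))
  have hΘ : ∀ v : Fin c → R', Θ v =
      ∑ i, v i • ((1 : R') ⊗ₜ[R] (Submodule.Quotient.mk (Pi.single i 1) : N)) := fun v =>
    Fintype.linearCombination_apply R' _ v
  have hsm : ∀ (b : R) (n : N), (ψ b : R') • ((1 : R') ⊗ₜ[R] n) = (1 : R') ⊗ₜ[R] (b • n) := by
    intro b n
    rw [TensorProduct.smul_tmul', smul_eq_mul, mul_one, TensorProduct.tmul_smul,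
      TensorProduct.smul_tmul', Algebra.smul_def, mul_one]
    rfl
  have hmk : ∀ (b : R) (i : Fin c),
      b • (Submodule.Quotient.mk (Pi.single i 1) : N) = Submodule.Quotient.mk (Pi.single i b) := by
    intro b i
    rw [← Submodule.Quotient.mk_smul]
    congr 1
    funext m
    simp [Pi.single_apply]
  have hΘsingle : ∀ (b : R) (i : Fin c), Θ (Pi.single i (ψ b)) =
      (1 : R') ⊗ₜ[R] (Submodule.Quotient.mk (Pi.single i b) : N) := by
    intro b i
    rw [hΘ, Finset.sum_eq_single i]
    · rw [Pi.single_eq_same, hsm, hmk]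
    · intro j _ hji
      rw [Pi.single_eq_of_ne hji, zero_smul]
    · intro hi; exact absurd (Finset.mem_univ i) hi
  have hker : Triv (ψ ∘ f) ≤ LinearMap.ker Θ := by
    refine Submodule.span_le.2 ?_
    rintro _ ⟨i, j, rfl⟩
    change Θ _ = 0
    rw [map_sub, Function.comp_apply, Function.comp_apply, hΘsingle, hΘsingle, ← TensorProduct.tmul_sub,
      ← Submodule.Quotient.mk_sub]
    have : (Submodule.Quotient.mk (Pi.single i (f j) - Pi.single j (f i)) : N) = 0 := by
      rw [Submodule.Quotient.mk_eq_zero]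
      exact Submodule.subset_span ⟨i, j, rfl⟩
    rw [this, TensorProduct.tmul_zero]
  have hrel' : ∑ i, (ψ ∘ a) i * (ψ ∘ f) i = 0 := by
    simp only [Function.comp_apply, ← map_mul, ← map_sum, ha, map_zero]
  have h1 : Θ (ψ ∘ a) = 0 := hker (hreg _ hrel')
  have h2 : Θ (ψ ∘ a) = (1 : R') ⊗ₜ[R] x := by
    rw [hΘ]
    have : ∀ i, (ψ ∘ a) i • ((1 : R') ⊗ₜ[R] (Submodule.Quotient.mk (Pi.single i 1) : N)) =
        (1 : R') ⊗ₜ[R] (Submodule.Quotient.mk (Pi.single i (a i)) : N) := fun i => by
      rw [Function.comp_apply, hsm, hmk]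
    simp only [this]
    rw [← TensorProduct.tmul_sum, hx]
    congr 1
    have hsum : (∑ i, (Submodule.Quotient.mk (Pi.single i (a i)) : N)) =
        Submodule.Quotient.mk (∑ i, Pi.single i (a i)) :=
      (map_sum (Triv f).mkQ (fun i => (Pi.single i (a i) : Fin c → R)) Finset.univ).symm
    rw [hsum]
    congr 1
    funext m
    rw [Finset.sum_apply, Finset.sum_eq_single m]
    · simp
    · intro j _ hjm
      rw [Pi.single_eq_of_ne hjm.symm]
    · intro hm; exact absurd (Finset.mem_univ m) hm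
  rw [← h2, h1]

end Family

end Groth.Agent.Lib.Helper43.H1Descent
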