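import Mathlib.Tactic
import Groth.Agent.Lib.Helper43.H1Descent
import Groth.Agent.Lib.Helper43.KRIdeal
import Groth.Agent.S9252
import Groth.Agent.S2103

/-!
# Ideals locally generated by `H₁`-regular / quasi-regular sequences: faithfully flat descent
(helper43)

* `IsLocallyH1 J` : every prime containing `J` has a basic open neighbourhood on which `J` is
  generated by an `H₁`-regular sequence
* `quasi_rel_mem` : relations among a quasi-regular sequence have coefficients in the ideal
* `exists_det` : if `f` is quasi-regular, `e` is `H₁`-regular and they generate the same ideal,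
  then `f` is `H₁`-regular after inverting some `d ≡ 1` modulo the ideal
* `isLocallyH1_of_faithfullyFlat` : faithfully flat descent for `IsLocallyH1`
-/

set_option autoImplicit false
set_option linter.style.haveILetI false
universe u

open Matrix

namespace Groth.Agent.Lib.Helper43.KindIdeal

open Groth.Agent.Lib.Helper43.H1Descent Groth.Agent.Lib.Helper43.SeqFlatBC
open Groth.Agent.Lib.Helper43.KRIdeal

/-- `J` is locally generated by an `H₁`-regular sequence -/
def IsLocallyH1 {R : Type u} [CommRing R] (J : Ideal R) : Prop :=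
  ∀ (P : Ideal R) [P.IsPrime], J ≤ P → ∃ g : R, g ∉ P ∧
    ∃ (r : ℕ) (f : Fin r → Localization.Away g),
      CAlgX.IsH1Regular f ∧ Ideal.span (Set.range f) = J.map (algebraMap R (Localization.Away g))

lemma IsLocallyH1.quasi {R : Type u} [CommRing R] {J : Ideal R} (h : IsLocallyH1 J) :
    PP16.IsLocallyQuasiRegular R J := by
  intro P _ hP
  obtain ⟨g, hg, r, f, hf, hs⟩ := h P hP
  exact ⟨g, hg, r, f, Groth.Agent.S2103.result f hf, hs⟩

section Det

variable {R : Type u} [CommRing R]

open MvPolynomial in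
/-- relations among a quasi-regular sequence have coefficients in the ideal -/
lemma quasi_rel_mem {c : ℕ} (f : Fin c → R) (hq : CAlgX.IsQuasiRegular f) (a : Fin c → R)
    (ha : ∑ i, a i * f i = 0) (i : Fin c) : a i ∈ Ideal.span (Set.range f) := by
  classical
  let P : MvPolynomial (Fin c) R := ∑ j, C (a j) * X j
  have hP : P.IsHomogeneous 1 := IsHomogeneous.sum _ _ _ (fun j _ => isHomogeneous_C_mul_X _ _)
  have hev : eval f P = 0 := by simp [P, ha]
  have h1 := hq 1 P hP (by rw [hev]; exact zero_mem _) (Finsupp.single i 1)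
  have h2 : coeff (Finsupp.single i 1) P = a i := by
    simp only [P, coeff_sum, coeff_C_mul, coeff_X', Finsupp.single_left_inj one_ne_zero]
    simp
  rwa [h2] at h1

/-- if `f` is quasi-regular, `e` is `H₁`-regular and they generate the same ideal, then `f` is
`H₁`-regular after inverting some `d ≡ 1` modulo the ideal -/
lemma exists_det {r s : ℕ} (f : Fin r → R) (e : Fin s → R) (hq : CAlgX.IsQuasiRegular f)
    (he : CAlgX.IsH1Regular e) (hspan : Ideal.span (Set.range f) = Ideal.span (Set.range e)) :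
    ∃ d : R, d - 1 ∈ Ideal.span (Set.range f) ∧
      ∀ (D' : Type u) [CommRing D'] (ψ : R →+* D'), ψ.Flat → IsUnit (ψ d) →
        CAlgX.IsH1Regular (ψ ∘ f) := by
  classical
  obtain ⟨M, hM⟩ := exists_matrix f e hspan.le
  obtain ⟨N, hN⟩ := exists_matrix e f hspan.ge
  have hK : (M * N) *ᵥ f = f := by rw [← Matrix.mulVec_mulVec, ← hN, ← hM]
  refine ⟨(M * N).det, det_sub_one_mem f _ (quasi_rel_mem f hq) _ hK, ?_⟩
  intro D' _ ψ hψ hu
  have hM' : ψ ∘ f = (M.map ψ) *ᵥ (ψ ∘ e) := by
    funext i
    rw [Function.comp_apply]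
    conv_lhs => rw [hM]
    exact RingHom.map_mulVec ψ M e i
  have hN' : ψ ∘ e = (N.map ψ) *ᵥ (ψ ∘ f) := by
    funext i
    rw [Function.comp_apply]
    conv_lhs => rw [hN]
    exact RingHom.map_mulVec ψ N f i
  refine h1_indep (ψ ∘ f) (ψ ∘ e) (M.map ψ) (N.map ψ) hM' hN' ?_ (h1Regular_of_flat ψ hψ e he)
  have h1 : M.map ψ * N.map ψ = (M * N).map ψ := (Matrix.map_mul).symm
  rw [h1]
  have h2 : ((M * N).map ψ).det = ψ (M * N).det := (RingHom.map_det ψ (M * N)).symm
  rw [h2]
  exact hu

end Det

section Main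

variable (A B : Type u) [CommRing A] [CommRing B] [Algebra A B] [Module.FaithfullyFlat A B]

/-- **faithfully flat descent of ideals locally generated by `H₁`-regular sequences** -/
theorem isLocallyH1_of_faithfullyFlat (I : Ideal A)
    (h : IsLocallyH1 (I.map (algebraMap A B))) : IsLocallyH1 I := by
  classical
  have hq : PP16.IsLocallyQuasiRegular A I := Groth.Agent.S9252.result A B I h.quasi
  intro P _ hP
  obtain ⟨g, hg, r, f, hf, hs⟩ := hq P hP
  refine ⟨g, hg, r, f, ?_, hs⟩
  apply h1_of_family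
  intro 𝔪 h𝔪 hf𝔪
  have h𝔪p : 𝔪.IsPrime := h𝔪.isPrime
  set 𝔭₁ : Ideal A := 𝔪.comap (algebraMap A (Localization.Away g)) with h𝔭₁
  haveI : 𝔭₁.IsPrime := Ideal.comap_isPrime _ _
  have hI𝔭₁ : I ≤ 𝔭₁ := by
    intro x hx
    change algebraMap A (Localization.Away g) x ∈ 𝔪
    apply hf𝔪
    rw [hs]; exact Ideal.mem_map_of_mem _ hx
  have h𝔪map : 𝔭₁.map (algebraMap A (Localization.Away g)) = 𝔪 :=
    IsLocalization.map_under (Submonoid.powers g) (Localization.Away g) 𝔪
  have hg𝔭₁ : g ∉ 𝔭₁ := by
    intro hcon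
    exact h𝔪p.ne_top (Ideal.eq_top_of_isUnit_mem _ hcon
      (IsLocalization.Away.algebraMap_isUnit g))
  obtain ⟨𝔮, h𝔮, hlies⟩ := Ideal.exists_isPrime_liesOver_of_faithfullyFlat (B := B) 𝔭₁
  have h𝔮comap : 𝔮.comap (algebraMap A B) = 𝔭₁ := hlies.over.symm
  have hI𝔮 : I.map (algebraMap A B) ≤ 𝔮 := by
    rw [Ideal.map_le_iff_le_comap, h𝔮comap]; exact hI𝔭₁
  obtain ⟨h', hh', s, e, he, hes⟩ := h 𝔮 hI𝔮
  have hg𝔮 : algebraMap A B g ∉ 𝔮 := by
    intro hcon
    apply hg𝔭₁
    rw [← h𝔮comap]; exact hcon
  set t : B := h' * algebraMap A B g with ht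
  have ht𝔮 : t ∉ 𝔮 := fun hcon => (h𝔮.mem_or_mem hcon).elim hh' hg𝔮
  -- the common localization
  have hut : IsUnit (algebraMap B (Localization.Away t) t) :=
    IsLocalization.Away.algebraMap_isUnit t
  have hu_h : IsUnit (algebraMap B (Localization.Away t) h') := by
    rw [ht, map_mul] at hut
    exact isUnit_of_mul_isUnit_left hut
  have hu_g : IsUnit (algebraMap A (Localization.Away t) g) := by
    rw [IsScalarTower.algebraMap_apply A B (Localization.Away t)]
    rw [ht, map_mul] at hut
    exact isUnit_of_mul_isUnit_right hut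
  haveI : Module.Flat B (Localization.Away t) := IsLocalization.flat _ (Submonoid.powers t)
  haveI : Module.Flat A (Localization.Away t) := Module.Flat.trans A B (Localization.Away t)
  let α : Localization.Away g →+* Localization.Away t := IsLocalization.Away.lift g hu_g
  have hα : ∀ a, α (algebraMap A _ a) = algebraMap A (Localization.Away t) a :=
    fun a => IsLocalization.Away.lift_eq g hu_g a
  have hαflat : α.Flat := flat_of_isLocalization (Submonoid.powers g) α hα
  let β : Localization.Away h' →+* Localization.Away t := IsLocalization.Away.lift h' hu_h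
  have hβ : ∀ b, β (algebraMap B _ b) = algebraMap B (Localization.Away t) b :=
    fun b => IsLocalization.Away.lift_eq h' hu_h b
  have hβflat : β.Flat := flat_of_isLocalization (Submonoid.powers h') β hβ
  have hαcomp : α.comp (algebraMap A (Localization.Away g)) = algebraMap A (Localization.Away t) :=
    RingHom.ext hα
  have hβcomp : β.comp (algebraMap B (Localization.Away h')) = algebraMap B (Localization.Away t) :=
    RingHom.ext hβ
  have hspanf : Ideal.span (Set.range (α ∘ f)) = I.map (algebraMap A (Localization.Away t)) := by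
    rw [Set.range_comp, ← Ideal.map_span, hs, Ideal.map_map, hαcomp]
  have hspane : Ideal.span (Set.range (β ∘ e)) = I.map (algebraMap A (Localization.Away t)) := by
    rw [Set.range_comp, ← Ideal.map_span, hes, Ideal.map_map, Ideal.map_map, hβcomp,
      ← IsScalarTower.algebraMap_eq]
  obtain ⟨d, hd1, hdreg⟩ := exists_det (α ∘ f) (β ∘ e) (quasiRegular_of_flat α hαflat f hf)
    (h1Regular_of_flat β hβflat e he) (hspanf.trans hspane.symm)
  -- the prime of the common localization
  have hdisj : Disjoint (Submonoid.powers t : Set B) (𝔮 : Set B) :=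
    (Ideal.disjoint_powers_iff_notMem t h𝔮.isRadical).2 ht𝔮
  have h𝔔 : (𝔮.map (algebraMap B (Localization.Away t))).IsPrime :=
    IsLocalization.isPrime_of_isPrime_disjoint (Submonoid.powers t) _ 𝔮 h𝔮 hdisj
  set 𝔔 : Ideal (Localization.Away t) := 𝔮.map (algebraMap B (Localization.Away t)) with h𝔔def
  have h𝔭₁𝔔 : 𝔭₁.map (algebraMap A (Localization.Away t)) ≤ 𝔔 := by
    rw [IsScalarTower.algebraMap_eq A B (Localization.Away t), ← Ideal.map_map]
    apply Ideal.map_mono
    rw [Ideal.map_le_iff_le_comap, h𝔮comap]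
  have h𝔪𝔔 : 𝔪.map α ≤ 𝔔 := by
    rw [← h𝔪map, Ideal.map_map, hαcomp]; exact h𝔭₁𝔔
  have hd𝔔 : d ∉ 𝔔 := by
    intro hcon
    have h1 : d - 1 ∈ 𝔔 := by
      apply h𝔭₁𝔔
      rw [hspanf] at hd1
      exact Ideal.map_mono hI𝔭₁ hd1
    have h2 : (1 : Localization.Away t) ∈ 𝔔 := by
      have := 𝔔.sub_mem hcon h1
      rwa [sub_sub_cancel] at this
    exact h𝔔.ne_top ((Ideal.eq_top_iff_one _).2 h2)
  have hdisj' : Disjoint (Submonoid.powers d : Set (Localization.Away t)) (𝔔 : Set _) :=
    (Ideal.disjoint_powers_iff_notMem d h𝔔.isRadical).2 hd𝔔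
  have h𝔔' : (𝔔.map (algebraMap _ (Localization.Away d))).IsPrime :=
    IsLocalization.isPrime_of_isPrime_disjoint (Submonoid.powers d) _ 𝔔 h𝔔 hdisj'
  have hγflat : (algebraMap (Localization.Away t) (Localization.Away d)).Flat :=
    RingHom.flat_algebraMap_iff.2 (IsLocalization.flat _ (Submonoid.powers d))
  refine ⟨Localization.Away d, inferInstance,
    (algebraMap (Localization.Away t) (Localization.Away d)).comp α,
    RingHom.Flat.comp hαflat hγflat, ?_, ?_⟩
  · intro hcon
    apply h𝔔'.ne_top
    rw [eq_top_iff, ← hcon, ← Ideal.map_map]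
    exact Ideal.map_mono h𝔪𝔔
  · have := hdreg (Localization.Away d) (algebraMap (Localization.Away t) (Localization.Away d))
      hγflat (IsLocalization.Away.algebraMap_isUnit d)
    exact this

end Main

end Groth.Agent.Lib.Helper43.KindIdeal
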