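import Mathlib.Tactic
import Groth.Agent.Lib.Helper43.KRSmoothImm
import Groth.Agent.Lib.Helper43.KindIdeal

/-!
# fpqc descent of `H₁`-regular and quasi-regular immersions (helper43)

* `IsLocallyKind k J` : `J` is locally (on basic opens) generated by a sequence of kind `k`
* `kindSeq_of_flat'` : flat maps preserve sequences of kind `k ≠ regular`
* `isLocallyKind_of_isLocalization`, `IsLocallyKind.exists_of_isLocalization`
* `regImmAt_of_isLocallyKind`, `isLocallyKind_ker_of_regImmAt`
* `regImm_kind_descent` : descent along flat surjective quasi-compact morphisms, given the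
  ring-level descent
* `isLocallyKind_h1_iff`, `isLocallyKind_quasi_iff`, `isLocallyKind_of_faithfullyFlat`
* `regImm_descent` : the final statement for the kinds koszul, h1, quasi
-/

set_option autoImplicit false
set_option linter.style.haveILetI false
universe u

open CategoryTheory CategoryTheory.Limits AlgebraicGeometry

namespace Groth.Agent.Lib.Helper43.KindImmDescent

open Groth.Agent.Lib.Helper43.KoszulAtPerf Groth.Agent.Lib.Helper43.RegImmFlatBC
open Groth.Agent.Lib.Helper43.KRIdeal Groth.Agent.Lib.Helper43.RegImmComp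
open Groth.Agent.Lib.Helper43.KRImmDescent Groth.Agent.Lib.Helper43.KRSmoothImm
open Groth.Agent.Lib.Helper43.SeqFlatBC Groth.Agent.Lib.Helper43.KindIdeal

/-- `J` is locally generated by a sequence of kind `k` -/
def IsLocallyKind (k : RegImm.Kind) {R : Type u} [CommRing R] (J : Ideal R) : Prop :=
  ∀ (P : Ideal R) [P.IsPrime], J ≤ P → ∃ g : R, g ∉ P ∧ ∃ rs : List (Localization.Away g),
    k.Seq (Localization.Away g) rs ∧
      Ideal.ofList rs = J.map (algebraMap R (Localization.Away g))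

/-- flat maps preserve sequences of kind `k ≠ regular` -/
theorem kindSeq_of_flat' (k : RegImm.Kind) (hk : k ≠ .regular) {R R' : Type u} [CommRing R]
    [CommRing R'] (φ : R →+* R') (hφ : φ.Flat) (rs : List R) (h : k.Seq R rs) :
    k.Seq R' (rs.map φ) := by
  cases k with
  | regular => exact absurd rfl hk
  | koszul => exact koszulRegular_of_flat φ hφ rs h
  | h1 =>
    change CAlgX.IsH1Regular (rs.map φ).get
    rw [get_map_eq]
    exact h1_cast _ _ (h1Regular_of_flat φ hφ _ h)
  | quasi =>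
    change CAlgX.IsQuasiRegular (rs.map φ).get
    rw [get_map_eq]
    exact quasi_cast _ _ (quasiRegular_of_flat φ hφ _ h)

section Transport

variable {R : Type u} [CommRing R]

/-- transport of a generating sequence between two localizations away from `g` -/
lemma transport (k : RegImm.Kind) (hk : k ≠ .regular) (J : Ideal R) (g : R)
    (S S' : Type u) [CommRing S] [CommRing S'] [Algebra R S] [Algebra R S']
    [IsLocalization.Away g S] [IsLocalization.Away g S'] (rs : List S) (hrs : k.Seq S rs)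
    (hgen : Ideal.ofList rs = J.map (algebraMap R S)) :
    ∃ rs' : List S', k.Seq S' rs' ∧ Ideal.ofList rs' = J.map (algebraMap R S') := by
  let e : S ≃ₐ[R] S' := IsLocalization.algEquiv (Submonoid.powers g) S S'
  let φ : S →+* S' := e.toRingEquiv.toRingHom
  have hφ : φ.Flat := RingHom.Flat.of_bijective e.bijective
  refine ⟨rs.map φ, kindSeq_of_flat' k hk φ hφ rs hrs, ?_⟩
  rw [← Ideal.map_ofList, hgen, Ideal.map_map]
  congr 1
  ext a
  exact e.commutes a

lemma isLocallyKind_of_isLocalization (k : RegImm.Kind) (hk : k ≠ .regular) (J : Ideal R)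
    (h : ∀ (P : Ideal R) [P.IsPrime], J ≤ P → ∃ g : R, g ∉ P ∧ ∃ (S : Type u) (_ : CommRing S)
      (_ : Algebra R S) (_ : IsLocalization.Away g S) (rs : List S), k.Seq S rs ∧
        Ideal.ofList rs = J.map (algebraMap R S)) : IsLocallyKind k J := by
  intro P _ hP
  obtain ⟨g, hg, S, _, _, _, rs, hrs, hgen⟩ := h P hP
  exact ⟨g, hg, transport k hk J g S (Localization.Away g) rs hrs hgen⟩

lemma IsLocallyKind.exists_of_isLocalization {k : RegImm.Kind} (hk : k ≠ .regular) {J : Ideal R}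
    (h : IsLocallyKind k J) (P : Ideal R) [P.IsPrime] (hP : J ≤ P) :
    ∃ g : R, g ∉ P ∧ ∀ (S : Type u) [CommRing S] [Algebra R S] [IsLocalization.Away g S],
      ∃ rs : List S, k.Seq S rs ∧ Ideal.ofList rs = J.map (algebraMap R S) := by
  obtain ⟨g, hg, rs, hrs, hgen⟩ := h P hP
  exact ⟨g, hg, fun S _ _ _ => transport k hk J g (Localization.Away g) S rs hrs hgen⟩

end Transport

/-- from a kernel locally generated by `k`-sequences on an affine chart to a regular-immersion
chart at a point -/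
theorem regImmAt_of_isLocallyKind (k : RegImm.Kind) (hk : k ≠ .regular) {X Y : Scheme.{u}}
    (i : Y ⟶ X) (U : X.Opens) (hU : IsAffineOpen U) [IsClosedImmersion (i ∣_ U)]
    (hI : IsLocallyKind k (RingHom.ker (i.app U).hom)) (z : Y) (hz : i z ∈ U) :
    RegImm.IsRegularImmersionAt k i z := by
  haveI := (hU.primeIdealOf ⟨i z, hz⟩).2
  obtain ⟨g, hg, hS⟩ := hI.exists_of_isLocalization hk (hU.primeIdealOf ⟨i z, hz⟩).asIdeal
    (ker_le_primeIdealOf i U hU z hz)
  obtain ⟨hci, hker⟩ := ker_app_basicOpen i U hU g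
  haveI := hU.isLocalization_basicOpen g
  obtain ⟨rs, hrs, hgen⟩ := hS Γ(X, X.basicOpen g)
  have hzg : i z ∈ X.basicOpen g := by
    have h1 : hU.primeIdealOf ⟨i z, hz⟩ ∈ (PrimeSpectrum.basicOpen g : Set _) := hg
    rw [← hU.fromSpec_preimage_basicOpen] at h1
    have h0 : hU.fromSpec (hU.primeIdealOf ⟨i z, hz⟩) = i z := hU.fromSpec_primeIdealOf ⟨i z, hz⟩
    rw [← h0]
    exact h1
  refine ⟨⟨X.basicOpen g, hU.basicOpen g⟩, hzg, hci, rs, hrs, ?_⟩
  rw [hker]
  exact hgen.symm

/-- the kernel of a regular immersion of kind `k` on an affine chart over which it is a closed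
immersion is locally generated by `k`-sequences -/
theorem isLocallyKind_ker_of_regImmAt (k : RegImm.Kind) (hk : k ≠ .regular) {T Y : Scheme.{u}}
    (j : Y ⟶ T) (V : T.Opens) (hV : IsAffineOpen V) [IsClosedImmersion (j ∣_ V)]
    (hj : ∀ z, j z ∈ V → RegImm.IsRegularImmersionAt k j z) :
    IsLocallyKind k (RingHom.ker (j.app V).hom) := by
  apply isLocallyKind_of_isLocalization k hk
  intro P _ hP
  let 𝔮 : PrimeSpectrum Γ(T, V) := ⟨P, inferInstance⟩
  obtain ⟨z, hz⟩ := mem_range_of_ker_le' j V hV 𝔮 hP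
  have hzV : j z ∈ V := by
    rw [hz]
    have : hV.fromSpec 𝔮 ∈ Set.range hV.fromSpec := ⟨𝔮, rfl⟩
    rwa [hV.range_fromSpec] at this
  obtain ⟨U₁, hzU₁, hci₁, rs, hrs, hker⟩ := hj z hzV
  obtain ⟨h, hle, hzh⟩ := hV.exists_basicOpen_le (V := U₁.1) ⟨j z, hzU₁⟩ hzV
  have hzh' : j z ∈ T.basicOpen h := hzh
  haveI := hci₁
  obtain ⟨-, rs₁, -, hrs₁, hker₁⟩ := chart_restrict k j U₁.1 U₁.2 rs hrs hker
    (T.basicOpen h) (hV.basicOpen h) hle z hzh'
  obtain ⟨-, hker₂⟩ := ker_app_basicOpen j V hV h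
  refine ⟨h, ?_, Γ(T, T.basicOpen h), inferInstance, inferInstance,
    hV.isLocalization_basicOpen h, rs₁, hrs₁, hker₁.symm.trans hker₂⟩
  intro hcon
  rw [hz] at hzh'
  have h2 : 𝔮 ∈ (PrimeSpectrum.basicOpen h : Set _) := by
    rw [← hV.fromSpec_preimage_basicOpen]; exact hzh'
  exact h2 hcon

/-- **fpqc descent of regular immersions of kind `k`**, given the ring-level descent. -/
theorem regImm_kind_descent (k : RegImm.Kind) (hk : k ≠ .regular)
    (hdesc : ∀ (A B : Type u) [CommRing A] [CommRing B] [Algebra A B]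
      [Module.FaithfullyFlat A B] (I : Ideal A),
      IsLocallyKind k (I.map (algebraMap A B)) → IsLocallyKind k I)
    {X Y X' Y' : Scheme.{u}} (i : Y ⟶ X) [IsImmersion i]
    (g : X' ⟶ X) [Flat g] [Surjective g] [QuasiCompact g]
    (i' : Y' ⟶ X') (g' : Y' ⟶ Y) (hsq : IsPullback g' i' i g)
    (hi' : RegImm.IsRegularImmersion k i') : RegImm.IsRegularImmersion k i := by
  refine ⟨inferInstance, fun z => ?_⟩
  have hzW : i z ∈ i.coborderRange := subset_coborder ⟨z, rfl⟩
  obtain ⟨U, hU, hzU, hUW⟩ := exists_isAffineOpen_mem_and_subset hzW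
  haveI hci : IsClosedImmersion (i ∣_ U) :=
    isClosedImmersion_restrict_of_le_coborderRange i U hUW
  refine regImmAt_of_isLocallyKind k hk i U hU ?_ z hzU
  -- an affine scheme covering `g ⁻¹ U`
  have hcomp : IsCompact (g ⁻¹ᵁ U : Set X') := g.isCompact_preimage hU.isCompact
  haveI : CompactSpace (g ⁻¹ᵁ U).toScheme := isCompact_iff_compactSpace.mp hcomp
  obtain ⟨T', p, hsurj, hP', hT'⟩ :=
    (g ⁻¹ᵁ U).toScheme.exists_hom_isAffine_of_isZariskiLocalAtSource @IsLocalIso
  haveI : Flat p := (IsLocalIso.le_of_isZariskiLocalAtSource @Flat) _ _ p hP'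
  let g₂' : T' ⟶ X' := p ≫ (g ⁻¹ᵁ U).ι
  let g₂ : T' ⟶ X := g₂' ≫ g
  haveI : Flat g₂' := inferInstanceAs (Flat (p ≫ (g ⁻¹ᵁ U).ι))
  haveI : Flat g₂ := inferInstanceAs (Flat (g₂' ≫ g))
  -- base change of `i'` to `T'`
  have hpb := IsPullback.of_hasPullback i' g₂'
  have hsq'' : IsPullback (pullback.fst i' g₂' ≫ g') (pullback.snd i' g₂') i g₂ :=
    hpb.paste_horiz hsq
  have hi'' : RegImm.IsRegularImmersion k (pullback.snd i' g₂') :=
    regImm_baseChange k i' g₂' _ _ hpb hi'
  have e : (⊤ : T'.Opens) ≤ g₂ ⁻¹ᵁ U := by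
    intro t _
    change g ((g ⁻¹ᵁ U).ι (p t)) ∈ U
    exact (p t).2
  obtain ⟨hci'', hker''⟩ := ker_app_baseChange i g₂ (pullback.snd i' g₂') _ hsq'' U hU ⊤
    (isAffineOpen_top T') e
  have hff : (g₂.appLE U ⊤ e).hom.FaithfullyFlat := by
    apply faithfullyFlat_appLE g₂ U hU ⊤ (isAffineOpen_top T') e
    intro x hx
    obtain ⟨x', rfl⟩ := g.surjective x
    obtain ⟨t, ht⟩ := p.surjective ⟨x', hx⟩
    refine ⟨t, trivial, ?_⟩
    change g ((g ⁻¹ᵁ U).ι (p t)) = g x'
    rw [ht]
    rfl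
  haveI := hci''
  have hK := isLocallyKind_ker_of_regImmAt k hk (pullback.snd i' g₂') ⊤ (isAffineOpen_top T')
    (fun z _ => hi''.2 z)
  rw [hker''] at hK
  letI := (g₂.appLE U ⊤ e).hom.toAlgebra
  haveI : Module.FaithfullyFlat Γ(X, U) Γ(T', ⊤) := hff
  exact hdesc Γ(X, U) Γ(T', ⊤) _ hK

section Conv

variable {R : Type u} [CommRing R]

lemma ofList_eq_span_range_get (rs : List R) :
    Ideal.ofList rs = Ideal.span (Set.range rs.get) := by
  rw [Set.range_list_get]

lemma ofList_ofFn {c : ℕ} (f : Fin c → R) :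
    Ideal.ofList (List.ofFn f) = Ideal.span (Set.range f) := by
  unfold Ideal.ofList
  congr 1
  ext x
  exact List.mem_ofFn' f x

omit [CommRing R] in
lemma get_ofFn_eq {c : ℕ} (f : Fin c → R) :
    (List.ofFn f).get = f ∘ Fin.cast (List.length_ofFn (f := f)) :=
  funext (List.get_ofFn f)

lemma isLocallyKind_h1_iff (J : Ideal R) : IsLocallyKind .h1 J ↔ IsLocallyH1 J := by
  constructor
  · intro h P _ hP
    obtain ⟨g, hg, rs, hrs, hgen⟩ := h P hP
    exact ⟨g, hg, rs.length, rs.get, hrs, by rw [← ofList_eq_span_range_get]; exact hgen⟩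
  · intro h P _ hP
    obtain ⟨g, hg, r, f, hf, hgen⟩ := h P hP
    refine ⟨g, hg, List.ofFn f, ?_, by rw [ofList_ofFn]; exact hgen⟩
    change CAlgX.IsH1Regular (List.ofFn f).get
    rw [get_ofFn_eq]
    exact h1_cast _ _ hf

lemma isLocallyKind_quasi_iff (J : Ideal R) :
    IsLocallyKind .quasi J ↔ PP16.IsLocallyQuasiRegular R J := by
  constructor
  · intro h P _ hP
    obtain ⟨g, hg, rs, hrs, hgen⟩ := h P hP
    exact ⟨g, hg, rs.length, rs.get, hrs, by rw [← ofList_eq_span_range_get]; exact hgen⟩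
  · intro h P _ hP
    obtain ⟨g, hg, r, f, hf, hgen⟩ := h P hP
    refine ⟨g, hg, List.ofFn f, ?_, by rw [ofList_ofFn]; exact hgen⟩
    change CAlgX.IsQuasiRegular (List.ofFn f).get
    rw [get_ofFn_eq]
    exact quasi_cast _ _ hf

end Conv

/-- **fpqc descent of Koszul-regular, `H₁`-regular and quasi-regular immersions** -/
theorem regImm_descent (k : RegImm.Kind) (hk : k ≠ .regular)
    {X Y X' Y' : Scheme.{u}} (i : Y ⟶ X) [IsImmersion i]
    (g : X' ⟶ X) [Flat g] [Surjective g] [QuasiCompact g]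
    (i' : Y' ⟶ X') (g' : Y' ⟶ Y) (hsq : IsPullback g' i' i g)
    (hi' : RegImm.IsRegularImmersion k i') : RegImm.IsRegularImmersion k i := by
  cases k with
  | regular => exact absurd rfl hk
  | koszul => exact regImm_koszul_descent i g i' g' hsq hi'
  | h1 =>
    refine regImm_kind_descent .h1 hk ?_ i g i' g' hsq hi'
    intro A B _ _ _ _ I h
    exact (isLocallyKind_h1_iff _).2
      (isLocallyH1_of_faithfullyFlat A B I ((isLocallyKind_h1_iff _).1 h))
  | quasi =>
    refine regImm_kind_descent .quasi hk ?_ i g i' g' hsq hi'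
    intro A B _ _ _ _ I h
    exact (isLocallyKind_quasi_iff _).2
      (Groth.Agent.S9252.result A B I ((isLocallyKind_quasi_iff _).1 h))

end Groth.Agent.Lib.Helper43.KindImmDescent
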