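import Mathlib.Tactic
import Groth.Agent.Lib.Helper43.KindImmDescent
import Groth.Agent.S9272
import Groth.Agent.S9273

/-!
# Base change of relative `H₁`-regular and quasi-regular immersions (helper43)
-/

set_option autoImplicit false
set_option linter.style.haveILetI false
universe u

open CategoryTheory CategoryTheory.Limits AlgebraicGeometry TensorProduct

namespace Groth.Agent.Lib.Helper43.RelRegImmBC

open Groth.Agent.Lib.Helper43.SeqFlatBC

/-- `H₁`-regular / quasi-regular sequences with flat quotient are preserved by arbitrary base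
change (pushout form) -/
theorem kindSeq_of_isPushout (k : RegImm.Kind) (hk : k = .h1 ∨ k = .quasi)
    {A B A' B' : CommRingCat.{u}} {f : A ⟶ B} {g : A ⟶ A'} {inl : B ⟶ B'} {inr : A' ⟶ B'}
    (hpo : IsPushout f g inl inr) (rs : List B) (hrs : k.Seq B rs)
    (hflat : letI := f.hom.toAlgebra; Module.Flat A (B ⧸ Ideal.span (Set.range rs.get))) :
    k.Seq B' (rs.map inl.hom) := by
  letI := f.hom.toAlgebra
  letI := g.hom.toAlgebra
  have hpo' := CommRingCat.isPushout_tensorProduct A A' B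
  have hpoflip : IsPushout (CommRingCat.ofHom (algebraMap A A')) (CommRingCat.ofHom (algebraMap A B))
      inr inl := hpo.flip
  let e : B' ≅ CommRingCat.of (A' ⊗[A] B) := hpoflip.isoIsPushout _ _ hpo'
  have he : inl ≫ e.hom = CommRingCat.ofHom
      (Algebra.TensorProduct.includeRight (R := A) (A := A') (B := B)).toRingHom :=
    hpoflip.inr_isoIsPushout_hom _ _ hpo'
  have hinl : ∀ b : B, inl.hom b = e.inv.hom ((1 : A') ⊗ₜ[A] b) := by
    intro b
    have h1 : e.hom.hom (inl.hom b) = (1 : A') ⊗ₜ[A] b := by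
      have := congrArg (fun φ => φ.hom b) he
      exact this
    rw [← h1]
    exact (congrArg (fun φ => φ.hom (inl.hom b)) e.hom_inv_id).symm
  have hflat' : e.inv.hom.Flat :=
    RingHom.Flat.of_bijective (ConcreteCategory.bijective_of_isIso e.inv)
  have hcomp : (inl.hom ∘ rs.get) =
      (e.inv.hom ∘ fun i => ((1 : A') ⊗ₜ[A] rs.get i : A' ⊗[A] B)) := by
    funext i
    exact hinl _
  rcases hk with rfl | rfl
  · change CAlgX.IsH1Regular (rs.map inl.hom).get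
    rw [get_map_eq, hcomp]
    exact h1_cast _ _ (h1Regular_of_flat e.inv.hom hflat' _
      (Groth.Agent.S9273.result A B A' rs.length rs.get hflat hrs))
  · change CAlgX.IsQuasiRegular (rs.map inl.hom).get
    rw [get_map_eq, hcomp]
    exact quasi_cast _ _ (quasiRegular_of_flat e.inv.hom hflat' _
      (Groth.Agent.S9272.result A B A' rs.length rs.get hflat hrs))

open Groth.Agent.Lib.Helper43.KoszulAtPerf Groth.Agent.Lib.Helper43.RegImmFlatBC
open Groth.Agent.Lib.Helper43.RegImmComp Groth.Agent.Lib.Helper43.KindImmDescent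

/-- flatness of the quotient by the kernel of a chart of an immersion with flat composite -/
lemma flat_quotient_of_chart {Z X S : Scheme.{u}} (f : X ⟶ S) (i : Z ⟶ X) [Flat (i ≫ f)]
    (W : S.Opens) (hW : IsAffineOpen W) (U₁ : X.Opens) (hU₁ : IsAffineOpen U₁)
    (e : U₁ ≤ f ⁻¹ᵁ W) [IsClosedImmersion (i ∣_ U₁)] (rs : List Γ(X, U₁))
    (hker : RingHom.ker (i.app U₁).hom = Ideal.ofList rs) :
    letI := (f.appLE W U₁ e).hom.toAlgebra
    Module.Flat Γ(S, W) (Γ(X, U₁) ⧸ Ideal.span (Set.range rs.get)) := by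
  letI := (f.appLE W U₁ e).hom.toAlgebra
  have hUZ : IsAffineOpen (i ⁻¹ᵁ U₁) := isAffineOpen_preimage_of_restrict i U₁ hU₁
  have hsurj : Function.Surjective (i.app U₁).hom := app_surjective_of_restrict i U₁ hU₁
  have e' : i ⁻¹ᵁ U₁ ≤ (i ≫ f) ⁻¹ᵁ W := by
    rw [Scheme.Hom.comp_preimage]
    exact i.preimage_mono e
  have hflatC : ((i ≫ f).appLE W (i ⁻¹ᵁ U₁) e').hom.Flat :=
    (HasRingHomProperty.iff_appLE (P := @Flat)).1 inferInstance ⟨W, hW⟩ ⟨i ⁻¹ᵁ U₁, hUZ⟩ e'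
  have hcomp : (i ≫ f).appLE W (i ⁻¹ᵁ U₁) e' = f.appLE W U₁ e ≫ i.app U₁ := by
    have h2 := Scheme.Hom.appLE_comp_appLE i f W U₁ (i ⁻¹ᵁ U₁) e le_rfl
    rw [Scheme.Hom.appLE_eq_app] at h2
    exact h2.symm
  letI algC : Algebra Γ(S, W) Γ(Z, i ⁻¹ᵁ U₁) :=
    ((i.app U₁).hom.comp (f.appLE W U₁ e).hom).toAlgebra
  haveI hflatC' : Module.Flat Γ(S, W) Γ(Z, i ⁻¹ᵁ U₁) := by
    have h1 : ((i.app U₁).hom.comp (f.appLE W U₁ e).hom) =
        ((i ≫ f).appLE W (i ⁻¹ᵁ U₁) e').hom := by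
      rw [hcomp]; rfl
    change ((i.app U₁).hom.comp (f.appLE W U₁ e).hom).Flat
    rw [h1]
    exact hflatC
  let ψ : Γ(X, U₁) →ₐ[Γ(S, W)] Γ(Z, i ⁻¹ᵁ U₁) :=
    { toRingHom := (i.app U₁).hom
      commutes' := fun a => rfl }
  have hψsurj : Function.Surjective ψ := hsurj
  have heq : Ideal.span (Set.range rs.get) = RingHom.ker ψ := by
    rw [← ofList_eq_span_range_get, ← hker]
    rfl
  let E : (Γ(X, U₁) ⧸ Ideal.span (Set.range rs.get)) ≃ₗ[Γ(S, W)] Γ(Z, i ⁻¹ᵁ U₁) :=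
    (Ideal.quotientEquivAlgOfEq Γ(S, W) heq).toLinearEquiv ≪≫ₗ
      (Ideal.quotientKerAlgEquivOfSurjective hψsurj).toLinearEquiv
  exact Module.Flat.of_linearEquiv E

/-- **base change of relative `H₁`-regular / quasi-regular immersions** -/
theorem relRegImm_baseChange (k : RegImm.Kind) (hk : k = .h1 ∨ k = .quasi)
    {Z X S S' : Scheme.{u}} (f : X ⟶ S) (i : Z ⟶ X)
    (hi : RegImm.IsRelRegularImmersion k f i) (g : S' ⟶ S) :
    RegImm.IsRelRegularImmersion k (pullback.snd f g) (pullback.snd i (pullback.fst f g)) := by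
  set pr₁ := pullback.fst f g with hpr₁
  set pr₂ := pullback.snd f g with hpr₂
  set q := pullback.fst i pr₁ with hq
  set i' := pullback.snd i pr₁ with hi'
  have hsqZ : IsPullback q i' i pr₁ := IsPullback.of_hasPullback i pr₁
  have hsqX : IsPullback pr₁ pr₂ f g := IsPullback.of_hasPullback f g
  have hbig : IsPullback q (i' ≫ pr₂) (i ≫ f) g := hsqZ.paste_vert hsqX
  haveI : Flat (i ≫ f) := hi.2
  haveI : IsImmersion i := hi.1.1
  refine ⟨⟨inferInstance, fun z' => ?_⟩, MorphismProperty.of_isPullback hbig hi.2⟩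
  have hx : pr₁ (i' z') = i (q z') := by
    have := congrArg (fun φ => φ z') hsqZ.w
    simp only [Scheme.Hom.comp_apply] at this
    exact this.symm
  have hs : g (pr₂ (i' z')) = f (pr₁ (i' z')) := by
    have := congrArg (fun φ => φ (i' z')) hsqX.w
    simp only [Scheme.Hom.comp_apply] at this
    exact this.symm
  obtain ⟨U, hzU, hci, rs, hrs, hker⟩ := hi.1.2 (q z')
  obtain ⟨W, hW, hsW, -⟩ := exists_isAffineOpen_mem_and_subset (x := f (i (q z'))) (U := ⊤) trivial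
  obtain ⟨U₁, hU₁, hxU₁, hU₁le⟩ := exists_isAffineOpen_mem_and_subset (x := i (q z'))
    (U := U.1 ⊓ f ⁻¹ᵁ W) ⟨hzU, hsW⟩
  have hU₁U : U₁ ≤ U.1 := fun y hy => (hU₁le hy).1
  have hU₁W : U₁ ≤ f ⁻¹ᵁ W := fun y hy => (hU₁le hy).2
  haveI := hci
  obtain ⟨hci₁, rs₁, -, hrs₁, hker₁⟩ := chart_restrict k i U.1 U.2 rs hrs hker U₁ hU₁ hU₁U
    (q z') hxU₁
  haveI := hci₁
  have hs'W : pr₂ (i' z') ∈ g ⁻¹ᵁ W := by
    change g (pr₂ (i' z')) ∈ W
    rw [hs, hx]; exact hsW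
  obtain ⟨W', hW', hs'W', hW'W⟩ := exists_isAffineOpen_mem_and_subset hs'W
  set U' : (pullback f g).Opens := pr₁ ⁻¹ᵁ U₁ ⊓ pr₂ ⁻¹ᵁ W' with hU'def
  have hpbU := Scheme.Hom.isPullback_resLE hsqX (US := W) (UT := W') (UX := U₁) hW'W hU₁W
    (UY := U') rfl
  haveI : IsAffine (U₁ : Scheme.{u}) := hU₁
  haveI : IsAffine (W : Scheme.{u}) := hW
  haveI : IsAffine (W' : Scheme.{u}) := hW'
  have hU' : IsAffineOpen U' := IsAffine.of_isPullback hpbU
  haveI : IsAffine (U' : Scheme.{u}) := hU'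
  have e₁ : U' ≤ pr₁ ⁻¹ᵁ U₁ := inf_le_left
  have e₂ : U' ≤ pr₂ ⁻¹ᵁ W' := inf_le_right
  have hpo := isPushout_appTop_of_isPullback hpbU
  have hpo' : IsPushout (f.appLE W U₁ hU₁W) (g.appLE W W' hW'W)
      (pr₁.appLE U₁ U' e₁) (pr₂.appLE W' U' e₂) := by
    refine IsPushout.of_iso hpo W.topIso U₁.topIso W'.topIso U'.topIso ?_ ?_ ?_ ?_
    all_goals
      rw [Scheme.Hom.appTop, Scheme.Hom.resLE_app_top]
      simp only [Category.assoc, Iso.inv_hom_id, Category.comp_id]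
  have hflat := flat_quotient_of_chart f i W hW U₁ hU₁ hU₁W rs₁ hker₁
  have hseq := kindSeq_of_isPushout k hk hpo' rs₁ hrs₁ hflat
  obtain ⟨hci', hker'⟩ := ker_app_baseChange i pr₁ i' q hsqZ U₁ hU₁ U' hU' e₁
  have hx'U' : i' z' ∈ U' := ⟨by change pr₁ (i' z') ∈ U₁; rw [hx]; exact hxU₁, hs'W'⟩
  refine ⟨⟨U', hU'⟩, hx'U', hci', rs₁.map (pr₁.appLE U₁ U' e₁).hom, hseq, ?_⟩
  rw [hker', hker₁, Ideal.map_ofList]

end Groth.Agent.Lib.Helper43.RelRegImmBC
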