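import Mathlib.Tactic
import Groth.Agent.Lib.Helper43.ResLocal
import Mathlib.RingTheory.Flat.CategoryTheory
import Mathlib.RingTheory.FiniteLength
import Mathlib.Algebra.Homology.HomologicalComplexAbelian
import Mathlib.Algebra.Homology.HomologySequence

/-!
# Termwise tensor products `N ⊗ F` as a functor of the module `N` (helper43)

* `tensMap f F`, `tensIso e F` : functoriality of `(tens N).obj F` in `N`.
* `exactAt_tens_of_ses` : for a termwise flat complex `F` and a short exact sequence of modules
  `0 → N₁ → N₂ → N₃ → 0`, exactness of `N₁ ⊗ F` and `N₃ ⊗ F` in degree `i` gives that of `N₂ ⊗ F`.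
* `exactAt_tens_of_isFiniteLength` : over a local ring, exactness of `κ ⊗ F` in degree `i`
  propagates to `N ⊗ F` for all modules `N` of finite length.
-/

set_option autoImplicit false
universe u
open CategoryTheory CategoryTheory.Limits MonoidalCategory DRing

namespace Groth.Agent.Lib.Helper43.TensSES

open Groth.Agent.Lib.Helper84 Groth.Agent.Lib.Helper84.TensCx

variable {R : Type u} [CommRing R]

/-- functoriality of `N ⊗ F` in the module `N` -/
noncomputable def tensMap {N N' : ModuleCat.{u} R} (f : N ⟶ N') (F : DRing.Cx R) :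
    (tens N).obj F ⟶ (tens N').obj F where
  f n := f ▷ F.X n
  comm' i j _ := (whisker_exchange f (F.d i j)).symm

/-- isomorphic modules give isomorphic complexes -/
noncomputable def tensIso {N N' : ModuleCat.{u} R} (e : N ≅ N') (F : DRing.Cx R) :
    (tens N).obj F ≅ (tens N').obj F :=
  HomologicalComplex.Hom.isoOfComponents (fun n => whiskerRightIso e (F.X n))
    (fun i j _ => (whisker_exchange e.hom (F.d i j)).symm)

theorem exactAt_tens_of_ses {N₁ N₂ N₃ : ModuleCat.{u} R} (f : N₁ ⟶ N₂) (g : N₂ ⟶ N₃)
    (hfg : f ≫ g = 0) (hS : (ShortComplex.mk f g hfg).ShortExact) (F : DRing.Cx R)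
    (hF : ∀ n, Module.Flat R (F.X n)) (i : ℤ) (h1 : ((tens N₁).obj F).ExactAt i)
    (h3 : ((tens N₃).obj F).ExactAt i) : ((tens N₂).obj F).ExactAt i := by
  have hzero : tensMap f F ≫ tensMap g F = 0 := by
    ext n : 1
    change (f ▷ F.X n) ≫ (g ▷ F.X n) = 0
    rw [← comp_whiskerRight, hfg, MonoidalPreadditive.zero_whiskerRight]
  let S : ShortComplex (DRing.Cx R) := ShortComplex.mk (tensMap f F) (tensMap g F) hzero
  have hSe : S.ShortExact := by
    refine HomologicalComplex.shortExact_of_degreewise_shortExact S (fun n => ?_)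
    haveI := hF n
    exact hS.map_of_exact (tensorRight (F.X n))
  have ex := hSe.homology_exact₂ i
  rw [HomologicalComplex.exactAt_iff_isZero_homology] at h1 h3 ⊢
  exact ex.isZero_of_both_zeros (IsZero.eq_of_src h1 _ _) (IsZero.eq_of_tgt h3 _ _)

/-- the residue field of a local ring, as a quotient module and as a restricted module -/
noncomputable def residueLin [IsLocalRing R] :
    (R ⧸ IsLocalRing.maximalIdeal R) ≃ₗ[R] ↑(ResLocal.modOf (IsLocalRing.residue R)) :=
  { toFun := fun x => x
    invFun := fun x => x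
    map_add' := fun _ _ => rfl
    map_smul' := fun r x => by
      obtain ⟨y, rfl⟩ := Ideal.Quotient.mk_surjective x
      rfl
    left_inv := fun _ => rfl
    right_inv := fun _ => rfl }

/-- over a local ring, exactness of `κ ⊗ F` in one degree propagates to `N ⊗ F` for all modules
of finite length `N` (`F` termwise flat) -/
theorem exactAt_tens_of_isFiniteLength [IsLocalRing R] (F : DRing.Cx R)
    (hF : ∀ n, Module.Flat R (F.X n)) (i : ℤ)
    (hκ : ((tens (ResLocal.modOf (IsLocalRing.residue R))).obj F).ExactAt i)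
    (N : Type u) [AddCommGroup N] [Module R N] (hN : IsFiniteLength R N) :
    ((tens (ModuleCat.of R N)).obj F).ExactAt i := by
  induction hN with
  | @of_subsingleton M _ _ _ =>
    refine ShortComplex.exact_of_isZero_X₂ _ ?_
    have hz : IsZero (ModuleCat.of R M) := ModuleCat.isZero_of_subsingleton _
    exact Functor.map_isZero (tensorRight (F.X i)) hz
  | @of_simple_quotient M _ _ S hsimple h ih =>
    obtain ⟨I, hI, ⟨e⟩⟩ := isSimpleModule_iff_quot_maximal.1 hsimple
    obtain rfl := IsLocalRing.eq_maximalIdeal hI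
    have h3 : ((tens (ModuleCat.of R (M ⧸ S))).obj F).ExactAt i :=
      ResTensor.exactAt_of_iso (tensIso (e.trans residueLin).toModuleIso.symm F) i hκ
    have hfg : ModuleCat.ofHom S.subtype ≫ ModuleCat.ofHom S.mkQ = 0 := by
      ext x
      exact (Submodule.Quotient.mk_eq_zero S).2 x.2
    refine exactAt_tens_of_ses (ModuleCat.ofHom S.subtype) (ModuleCat.ofHom S.mkQ) hfg ?_ F hF i
      ih h3
    have hex : (ShortComplex.mk (ModuleCat.ofHom S.subtype) (ModuleCat.ofHom S.mkQ) hfg).Exact := by
      rw [ShortComplex.ShortExact.moduleCat_exact_iff_function_exact]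
      exact LinearMap.exact_subtype_mkQ S
    haveI : Mono (ModuleCat.ofHom S.subtype) :=
      (ModuleCat.mono_iff_injective _).2 S.injective_subtype
    haveI : Epi (ModuleCat.ofHom S.mkQ) :=
      (ModuleCat.epi_iff_surjective _).2 S.mkQ_surjective
    exact ShortComplex.ShortExact.mk hex

/-- the kernel version: exactness of `N₃ ⊗ F` in degree `i - 1` and of `N₂ ⊗ F` in degree `i`
gives that of `N₁ ⊗ F` in degree `i` -/
theorem exactAt_tens_X₁_of_ses {N₁ N₂ N₃ : ModuleCat.{u} R} (f : N₁ ⟶ N₂) (g : N₂ ⟶ N₃)
    (hfg : f ≫ g = 0) (hS : (ShortComplex.mk f g hfg).ShortExact) (F : DRing.Cx R)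
    (hF : ∀ n, Module.Flat R (F.X n)) (i j : ℤ) (hij : i + 1 = j)
    (h3 : ((tens N₃).obj F).ExactAt i) (h2 : ((tens N₂).obj F).ExactAt j) :
    ((tens N₁).obj F).ExactAt j := by
  have hzero : tensMap f F ≫ tensMap g F = 0 := by
    ext n : 1
    change (f ▷ F.X n) ≫ (g ▷ F.X n) = 0
    rw [← comp_whiskerRight, hfg, MonoidalPreadditive.zero_whiskerRight]
  let S : ShortComplex (DRing.Cx R) := ShortComplex.mk (tensMap f F) (tensMap g F) hzero
  have hSe : S.ShortExact := by
    refine HomologicalComplex.shortExact_of_degreewise_shortExact S (fun n => ?_)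
    haveI := hF n
    exact hS.map_of_exact (tensorRight (F.X n))
  have ex := hSe.homology_exact₁ i j (by simpa using hij)
  rw [HomologicalComplex.exactAt_iff_isZero_homology] at h2 h3 ⊢
  exact ex.isZero_of_both_zeros (IsZero.eq_of_src h3 _ _) (IsZero.eq_of_tgt h2 _ _)

end Groth.Agent.Lib.Helper43.TensSES
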