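import Mathlib.Tactic
import Groth.Agent.Lib.Helper43.TensSES
import Groth.Agent.Lib.Helper84.FlatAmpDim
import Groth.Agent.Lib.Helper15.LDerived
import Groth.Agent.Lib.Helper15.LBCKFlat

/-!
# Tensoring a complex with a restricted module (helper43)

* `exactAt_tens_res_iff φ N' P i` : for `φ : R → R'`, an `R'`-module `N'` and a complex `P` of
  `R`-modules, `N'|_R ⊗_R P` is exact in degree `i` iff `N' ⊗_{R'} (R' ⊗_R P)` is.
* `exactAt_tens_res_of_flat_fibre` : if `P` is bounded above termwise flat and `P ⊗^L_R R'` is a flat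
  `R'`-module in degree `0`, then `N'|_R ⊗_R P` is exact in negative degrees.
-/

set_option autoImplicit false
universe u
open CategoryTheory CategoryTheory.Limits MonoidalCategory DRing

attribute [local instance] HasDerivedCategory.standard

namespace Groth.Agent.Lib.Helper43.TensRes

open Groth.Agent.Lib.Helper84 Groth.Agent.Lib.Helper84.TensCx Groth.Agent.Lib.Helper25.KFlat
  Groth.Agent.Lib.Helper84.FlatAmp Groth.Agent.Lib.Helper84.FlatBC

variable {R R' : Type u} [CommRing R] [CommRing R'] (φ : R →+* R')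

theorem psi_natural (N' : ModuleCat.{u} R') {X Y : ModuleCat.{u} R} (d : X ⟶ Y)
    (t : TensorProduct R ((ModuleCat.restrictScalars φ).obj N') X) :
    (N' ◁ (ModuleCat.extendScalars φ).map d) (psi φ N' X t) =
      psi φ N' Y (((ModuleCat.restrictScalars φ).obj N' ◁ d) t) := by
  induction t using TensorProduct.induction_on with
  | zero => simp only [map_zero]
  | tmul l k => rfl
  | add a b ha hb => simp only [map_add, ha, hb]

theorem exactAt_tens_res_iff (N' : ModuleCat.{u} R') (P : DRing.Cx R) (i : ℤ) :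
    ((tens ((ModuleCat.restrictScalars φ).obj N')).obj P).ExactAt i ↔
      ((tens N').obj (Groth.Agent.Lib.Helper25.KFlat.extCx φ P)).ExactAt i :=
  ⟨ResTensor.exactAt_of_addEquiv _ _ i (fun n => psi φ N' (P.X n))
      (fun n => psi_bijective φ N' (P.X n)) (fun n x => psi_natural φ N' (P.d n (n + 1)) x),
    ResTensor.exactAt_of_addEquiv' _ _ i (fun n => psi φ N' (P.X n))
      (fun n => psi_bijective φ N' (P.X n)) (fun n x => psi_natural φ N' (P.d n (n + 1)) x)⟩

/-- if `P ⊗^L R'` is a flat module in degree `0`, then `N'|_R ⊗_R P` is exact in negative degrees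
for every `R'`-module `N'` -/
theorem exactAt_tens_res_of_flat_fibre [DRing.HasLBaseChange φ] (P : DRing.Cx R) (b : ℤ)
    (hPb : VanishesAbove P b) (hPflat : TermwiseFlat P)
    (F : ModuleCat.{u} R') (hF : Module.Flat R' F)
    (e : (DRing.LBaseChange φ).obj (toD P) ≅
      (DerivedCategory.singleFunctor (ModuleCat.{u} R') 0).obj F)
    (N' : ModuleCat.{u} R') (i : ℤ) (hi : i < 0) :
    ((tens ((ModuleCat.restrictScalars φ).obj N')).obj P).ExactAt i := by
  rw [exactAt_tens_res_iff]
  have htor : HasTorAmplitudeIn R' 0 0 (toD (Groth.Agent.Lib.Helper25.KFlat.extCx φ P)) :=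
    torAmp_of_iso (torAmp_single_of_flat F 0)
      (e.symm ≪≫ Groth.Agent.Lib.Helper15.LBCKFlat.lbcIsoOfFlat φ P b hPb hPflat)
  exact exactAt_tens_of_hasTorAmplitudeIn _ b (vanishesAbove_extCx φ P b hPb)
    (termwiseFlat_extCx φ P hPflat) 0 0 htor N' i hi

end Groth.Agent.Lib.Helper43.TensRes
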