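import Mathlib.Tactic
import Groth.Agent.Lib.Helper43.TensRes
import Mathlib.Algebra.Module.Torsion.Basic
import Mathlib.Algebra.Module.LocalizedModule.Basic

/-!
# Exactness of `N ⊗ P` in negative degrees, from `R_f` and `R/f` (helper43)

`Good P N` : `N ⊗ P` is exact in all negative degrees.  For a termwise flat bounded above complex
`P` such that `P ⊗^L R_f` and `P ⊗^L R/f` are flat modules in degree `0`, every module is good.
-/

set_option autoImplicit false
universe u
open CategoryTheory CategoryTheory.Limits MonoidalCategory DRing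

attribute [local instance] HasDerivedCategory.standard

namespace Groth.Agent.Lib.Helper43.AwayQuot

open Groth.Agent.Lib.Helper84 Groth.Agent.Lib.Helper84.TensCx

variable {R : Type u} [CommRing R] (P : DRing.Cx R)

/-- `N ⊗ P` is exact in all negative degrees -/
def Good (N : ModuleCat.{u} R) : Prop := ∀ i : ℤ, i < 0 → ((tens N).obj P).ExactAt i

variable {P}

lemma good_of_iso {N N' : ModuleCat.{u} R} (e : N ≅ N') (h : Good P N) : Good P N' :=
  fun i hi => ResTensor.exactAt_of_iso (TensSES.tensIso e P) i (h i hi)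

lemma good_of_linearEquiv {N N' : Type u} [AddCommGroup N] [Module R N] [AddCommGroup N']
    [Module R N'] (e : N ≃ₗ[R] N') (h : Good P (ModuleCat.of R N)) : Good P (ModuleCat.of R N') :=
  good_of_iso e.toModuleIso h

lemma good_of_subsingleton (N : Type u) [AddCommGroup N] [Module R N] [Subsingleton N] :
    Good P (ModuleCat.of R N) := by
  intro i _
  refine ShortComplex.exact_of_isZero_X₂ _ ?_
  have hz : IsZero (ModuleCat.of R N) := ModuleCat.isZero_of_subsingleton _
  exact Functor.map_isZero (tensorRight (P.X i)) hz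

section SES

variable {N₁ N₂ N₃ : Type u} [AddCommGroup N₁] [Module R N₁] [AddCommGroup N₂] [Module R N₂]
  [AddCommGroup N₃] [Module R N₃] (f : N₁ →ₗ[R] N₂) (g : N₂ →ₗ[R] N₃)

lemma comp_eq_zero (hfg : Function.Exact f g) : ModuleCat.ofHom f ≫ ModuleCat.ofHom g = 0 := by
  ext x
  exact hfg.apply_apply_eq_zero x

lemma shortExact_of (hf : Function.Injective f) (hg : Function.Surjective g)
    (hfg : Function.Exact f g) :
    (ShortComplex.mk (ModuleCat.ofHom f) (ModuleCat.ofHom g) (comp_eq_zero f g hfg)).ShortExact := by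
  have hex : (ShortComplex.mk (ModuleCat.ofHom f) (ModuleCat.ofHom g)
      (comp_eq_zero f g hfg)).Exact := by
    rw [ShortComplex.ShortExact.moduleCat_exact_iff_function_exact]
    exact hfg
  haveI : Mono (ModuleCat.ofHom f) := (ModuleCat.mono_iff_injective _).2 hf
  haveI : Epi (ModuleCat.ofHom g) := (ModuleCat.epi_iff_surjective _).2 hg
  exact ShortComplex.ShortExact.mk hex

lemma good_of_exact (hP : TermwiseFlat P) (hf : Function.Injective f) (hg : Function.Surjective g)
    (hfg : Function.Exact f g) (h1 : Good P (ModuleCat.of R N₁)) (h3 : Good P (ModuleCat.of R N₃)) :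
    Good P (ModuleCat.of R N₂) := fun i hi =>
  TensSES.exactAt_tens_of_ses _ _ (comp_eq_zero f g hfg) (shortExact_of f g hf hg hfg) P hP i
    (h1 i hi) (h3 i hi)

lemma good_ker_of_exact (hP : TermwiseFlat P) (hf : Function.Injective f)
    (hg : Function.Surjective g) (hfg : Function.Exact f g) (h2 : Good P (ModuleCat.of R N₂))
    (h3 : Good P (ModuleCat.of R N₃)) : Good P (ModuleCat.of R N₁) := fun i hi =>
  TensSES.exactAt_tens_X₁_of_ses _ _ (comp_eq_zero f g hfg) (shortExact_of f g hf hg hfg) P hP
    (i - 1) i (by ring) (h3 (i - 1) (by lia)) (h2 i hi)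

end SES

section Killed

variable (f : R)

/-- an `R`-module killed by `f`, as the restriction of an `R/f`-module -/
lemma good_of_smul_eq_zero
    (hq : ∀ (N' : ModuleCat.{u} (R ⧸ Ideal.span ({f} : Set R))),
      Good P ((ModuleCat.restrictScalars (Ideal.Quotient.mk (Ideal.span ({f} : Set R)))).obj N'))
    (N : Type u) [AddCommGroup N] [Module R N] (hN : ∀ x : N, f • x = 0) :
    Good P (ModuleCat.of R N) := by
  have htors : Module.IsTorsionBySet R N (Ideal.span ({f} : Set R)) :=
    (Module.isTorsionBySet_span_singleton_iff f).2 (fun x => hN x)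
  letI : Module (R ⧸ Ideal.span ({f} : Set R)) N := htors.module
  let N' : ModuleCat.{u} (R ⧸ Ideal.span ({f} : Set R)) :=
    ModuleCat.of (R ⧸ Ideal.span ({f} : Set R)) N
  let e : ↑((ModuleCat.restrictScalars (Ideal.Quotient.mk (Ideal.span ({f} : Set R)))).obj N')
      ≃ₗ[R] N :=
    { toFun := fun x => x
      invFun := fun x => x
      map_add' := fun _ _ => rfl
      map_smul' := fun _ _ => rfl
      left_inv := fun _ => rfl
      right_inv := fun _ => rfl }
  exact good_of_iso e.toModuleIso (hq N')

/-- modules killed by a power of `f` -/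
lemma good_of_pow_smul_eq_zero (hP : TermwiseFlat P)
    (hq : ∀ (N' : ModuleCat.{u} (R ⧸ Ideal.span ({f} : Set R))),
      Good P ((ModuleCat.restrictScalars (Ideal.Quotient.mk (Ideal.span ({f} : Set R)))).obj N')) :
    ∀ (n : ℕ) (N : Type u) [AddCommGroup N] [Module R N], (∀ x : N, f ^ n • x = 0) →
      Good P (ModuleCat.of R N) := by
  intro n
  induction n with
  | zero =>
    intro N _ _ hN
    haveI : Subsingleton N := ⟨fun x y => by
      have hx := hN x
      have hy := hN y
      rw [pow_zero, one_smul] at hx hy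
      rw [hx, hy]⟩
    exact good_of_subsingleton N
  | succ n ih =>
    intro N _ _ hN
    let S : Submodule R N := LinearMap.range (LinearMap.lsmul R N f)
    have h1 : Good P (ModuleCat.of R S) := by
      refine ih S (fun x => ?_)
      obtain ⟨y, hy⟩ := x.2
      apply Subtype.ext
      change f ^ n • (x : N) = 0
      rw [← hy]
      change f ^ n • (f • y) = 0
      rw [smul_smul, ← pow_succ]
      exact hN y
    have h3 : Good P (ModuleCat.of R (N ⧸ S)) := by
      refine good_of_smul_eq_zero f hq (N ⧸ S) (fun x => ?_)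
      obtain ⟨y, rfl⟩ := Submodule.Quotient.mk_surjective S x
      rw [← Submodule.Quotient.mk_smul, Submodule.Quotient.mk_eq_zero]
      exact ⟨y, rfl⟩
    exact good_of_exact S.subtype S.mkQ hP S.injective_subtype S.mkQ_surjective
      (LinearMap.exact_subtype_mkQ S) h1 h3

end Killed

section Torsion

variable (f : R)

/-- the `f^n`-torsion submodule -/
abbrev T (N : Type u) [AddCommGroup N] [Module R N] (n : ℕ) : Submodule R N :=
  Submodule.torsionBy R N (f ^ n)

lemma T_mono (N : Type u) [AddCommGroup N] [Module R N] {n m : ℕ} (h : n ≤ m) :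
    T f N n ≤ T f N m := by
  intro x hx
  rw [Submodule.mem_torsionBy_iff] at hx ⊢
  obtain ⟨k, rfl⟩ := Nat.exists_eq_add_of_le h
  rw [pow_add, mul_comm, mul_smul, hx, smul_zero]

/-- every tensor comes from a torsion level -/
lemma exists_level {N : Type u} [AddCommGroup N] [Module R N]
    (hN : ∀ x : N, ∃ n : ℕ, f ^ n • x = 0) (X : Type u) [AddCommGroup X] [Module R X]
    (z : TensorProduct R N X) :
    ∃ (n : ℕ) (zn : TensorProduct R (T f N n) X), LinearMap.rTensor X (T f N n).subtype zn = z := by
  induction z using TensorProduct.induction_on with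
  | zero => exact ⟨0, 0, map_zero _⟩
  | tmul x y =>
    obtain ⟨n, hn⟩ := hN x
    exact ⟨n, (⟨x, (Submodule.mem_torsionBy_iff _ _).2 hn⟩ : T f N n) ⊗ₜ[R] y, rfl⟩
  | add a b ha hb =>
    obtain ⟨na, za, hza⟩ := ha
    obtain ⟨nb, zb, hzb⟩ := hb
    refine ⟨max na nb,
      LinearMap.rTensor X (Submodule.inclusion (T_mono f N (le_max_left na nb))) za +
        LinearMap.rTensor X (Submodule.inclusion (T_mono f N (le_max_right na nb))) zb, ?_⟩
    rw [map_add, ← LinearMap.rTensor_comp_apply, ← LinearMap.rTensor_comp_apply,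
      Submodule.subtype_comp_inclusion, Submodule.subtype_comp_inclusion, hza, hzb]

/-- `f`-power torsion modules are good as soon as the modules killed by a power of `f` are -/
lemma good_of_torsion (hP : TermwiseFlat P)
    (hpow : ∀ (n : ℕ) (N : Type u) [AddCommGroup N] [Module R N], (∀ x : N, f ^ n • x = 0) →
      Good P (ModuleCat.of R N))
    (N : Type u) [AddCommGroup N] [Module R N] (hN : ∀ x : N, ∃ n : ℕ, f ^ n • x = 0) :
    Good P (ModuleCat.of R N) := by
  intro i hi
  rw [ResTensor.exactAt_iff_elem]
  intro z hz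
  obtain ⟨n, zn, hzn⟩ := exists_level f hN (P.X i) z
  let ι : ModuleCat.of R (T f N n) ⟶ ModuleCat.of R N := ModuleCat.ofHom (T f N n).subtype
  have hcomm : ∀ (k k' : ℤ) (a : ((tens (ModuleCat.of R (T f N n))).obj P).X k),
      ((tens (ModuleCat.of R N)).obj P).d k k' ((TensSES.tensMap ι P).f k a) =
        (TensSES.tensMap ι P).f k' (((tens (ModuleCat.of R (T f N n))).obj P).d k k' a) :=
    fun k k' a => congrArg (fun φ => (ModuleCat.Hom.hom φ) a) ((TensSES.tensMap ι P).comm k k')
  have hinj : Function.Injective ((TensSES.tensMap ι P).f (i + 1)) := by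
    haveI := hP (i + 1)
    exact Module.Flat.rTensor_preserves_injective_linearMap (M := P.X (i + 1))
      (T f N n).subtype (T f N n).injective_subtype
  have hzn' : ((tens (ModuleCat.of R (T f N n))).obj P).d i (i + 1) zn = 0 := by
    apply hinj
    rw [← hcomm, map_zero]
    have : (TensSES.tensMap ι P).f i zn = z := hzn
    rw [this, hz]
  have hgood := hpow n (T f N n) (fun x => by
    apply Subtype.ext
    exact (Submodule.mem_torsionBy_iff _ _).1 x.2) i hi
  rw [ResTensor.exactAt_iff_elem] at hgood
  obtain ⟨wn, hwn⟩ := hgood zn hzn'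
  refine ⟨(TensSES.tensMap ι P).f (i - 1) wn, ?_⟩
  rw [hcomm, hwn]
  exact hzn

end Torsion

section General

variable (f : R)

/-- **All modules are good** as soon as the restrictions of `R/f`-modules and of `R_f`-modules
are. -/
theorem good_all (hP : TermwiseFlat P)
    (hq : ∀ (N' : ModuleCat.{u} (R ⧸ Ideal.span ({f} : Set R))),
      Good P ((ModuleCat.restrictScalars (Ideal.Quotient.mk (Ideal.span ({f} : Set R)))).obj N'))
    (hl : ∀ (N' : ModuleCat.{u} (Localization.Away f)),
      Good P ((ModuleCat.restrictScalars (algebraMap R (Localization.Away f))).obj N'))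
    (N : Type u) [AddCommGroup N] [Module R N] : Good P (ModuleCat.of R N) := by
  have hpow := good_of_pow_smul_eq_zero f hP hq
  have htors : ∀ (N' : Type u) [AddCommGroup N'] [Module R N'],
      (∀ x : N', ∃ n : ℕ, f ^ n • x = 0) → Good P (ModuleCat.of R N') :=
    fun N' _ _ h => good_of_torsion f hP hpow N' h
  let L := LocalizedModule (Submonoid.powers f) N
  let ℓ : N →ₗ[R] L := LocalizedModule.mkLinearMap (Submonoid.powers f) N
  have hL : Good P (ModuleCat.of R L) := by
    let N' : ModuleCat.{u} (Localization.Away f) := ModuleCat.of (Localization.Away f) L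
    let e : ↑((ModuleCat.restrictScalars (algebraMap R (Localization.Away f))).obj N') ≃ₗ[R] L :=
      { toFun := fun x => x
        invFun := fun x => x
        map_add' := fun _ _ => rfl
        map_smul' := fun r x => algebraMap_smul (Localization.Away f) r (show L from x)
        left_inv := fun _ => rfl
        right_inv := fun _ => rfl }
    exact good_of_iso e.toModuleIso (hl N')
  have hK : Good P (ModuleCat.of R (LinearMap.ker ℓ)) := htors _ (fun x => by
    obtain ⟨c, hc⟩ := (IsLocalizedModule.eq_zero_iff (Submonoid.powers f) ℓ).1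
      (LinearMap.mem_ker.1 x.2)
    obtain ⟨n, hn⟩ := (Submonoid.mem_powers_iff _ _).1 c.2
    refine ⟨n, Subtype.ext ?_⟩
    change f ^ n • (x : N) = 0
    rw [hn]
    exact hc)
  have hC : Good P (ModuleCat.of R (L ⧸ LinearMap.range ℓ)) := htors _ (fun y => by
    obtain ⟨y, rfl⟩ := Submodule.Quotient.mk_surjective _ y
    obtain ⟨⟨m, c⟩, hmc⟩ := IsLocalizedModule.surj (Submonoid.powers f) ℓ y
    obtain ⟨n, hn⟩ := (Submonoid.mem_powers_iff _ _).1 c.2
    refine ⟨n, ?_⟩
    rw [← Submodule.Quotient.mk_smul, Submodule.Quotient.mk_eq_zero]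
    refine ⟨m, ?_⟩
    rw [← hmc, hn]
    rfl)
  have hI : Good P (ModuleCat.of R (LinearMap.range ℓ)) :=
    good_ker_of_exact (LinearMap.range ℓ).subtype (LinearMap.range ℓ).mkQ hP
      (LinearMap.range ℓ).injective_subtype (LinearMap.range ℓ).mkQ_surjective
      (LinearMap.exact_subtype_mkQ _) hL hC
  refine good_of_exact (LinearMap.ker ℓ).subtype ℓ.rangeRestrict hP
    (LinearMap.ker ℓ).injective_subtype (LinearMap.surjective_rangeRestrict ℓ) ?_ hK hI
  rw [LinearMap.exact_iff, LinearMap.ker_rangeRestrict, Submodule.range_subtype]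

end General

end Groth.Agent.Lib.Helper43.AwayQuot
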