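import Groth.Agent.Lib.Helper43.GlDimKer
import Mathlib.RingTheory.Flat.EquationalCriterion
import Mathlib.LinearAlgebra.Dual.Lemmas
import Mathlib.Algebra.Module.FinitePresentation

/-!
# Biduals of finitely generated modules over Noetherian rings of global dimension `≤ 2`

The dual of a finitely generated module is finitely generated projective. Maps from a finitely
generated module `G` to a flat module extend uniquely along `G → G**`.
-/

set_option autoImplicit false

universe u v

open CategoryTheory

namespace Groth.Agent.Lib.Helper43.BidualExt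

variable {R : Type u} [CommRing R] [IsNoetherianRing R]

/-- Over a Noetherian ring of global dimension `≤ 2`, the dual of a finitely generated module is
finitely generated projective. -/
theorem dual_finite_projective (hgl : ∀ M : ModuleCat.{u} R, HasProjectiveDimensionLT M 3)
    (G : Type u) [AddCommGroup G] [Module R G] [Module.Finite R G] :
    Module.Finite R (Module.Dual R G) ∧ Module.Projective R (Module.Dual R G) := by
  obtain ⟨b, q, hq⟩ := Module.Finite.exists_fin' R G
  obtain ⟨a, q', hq'⟩ := Module.Finite.exists_fin' R (LinearMap.ker q)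
  let q'' : (Fin a → R) →ₗ[R] (Fin b → R) := (LinearMap.ker q).subtype ∘ₗ q'
  have hqq : q ∘ₗ q'' = 0 := by
    apply LinearMap.ext
    intro x
    exact (q' x).2
  -- the map `G* → ker (q''*)`
  let e₀ : Module.Dual R G →ₗ[R] LinearMap.ker q''.dualMap :=
    q.dualMap.codRestrict _ (fun φ => by
      rw [LinearMap.mem_ker]
      apply LinearMap.ext
      intro x
      change φ (q (q'' x)) = 0
      have : q (q'' x) = 0 := LinearMap.congr_fun hqq x
      rw [this, map_zero])
  have hinj : Function.Injective e₀ := by
    intro φ φ' h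
    have h' : q.dualMap φ = q.dualMap φ' := congrArg Subtype.val h
    apply LinearMap.ext
    intro g
    obtain ⟨x, rfl⟩ := hq g
    exact LinearMap.congr_fun h' x
  have hsurj : Function.Surjective e₀ := by
    rintro ⟨ψ, hψ⟩
    rw [LinearMap.mem_ker] at hψ
    have hker : LinearMap.ker q ≤ LinearMap.ker ψ := by
      intro x hx
      obtain ⟨y, hy⟩ := hq' ⟨x, hx⟩
      have h1 : q'' y = x := by
        change ((q' y : LinearMap.ker q) : Fin b → R) = x
        rw [hy]
      rw [LinearMap.mem_ker, ← h1]
      exact LinearMap.congr_fun hψ y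
    let φ : Module.Dual R G :=
      ((LinearMap.ker q).liftQ ψ hker) ∘ₗ (q.quotKerEquivOfSurjective hq).symm.toLinearMap
    refine ⟨φ, Subtype.ext ?_⟩
    apply LinearMap.ext
    intro x
    change ((LinearMap.ker q).liftQ ψ hker) ((q.quotKerEquivOfSurjective hq).symm (q x)) = ψ x
    have h2 : (q.quotKerEquivOfSurjective hq).symm (q x) = (LinearMap.ker q).mkQ x := by
      rw [LinearEquiv.symm_apply_eq]
      rfl
    rw [h2]
    rfl
  let e : Module.Dual R G ≃ₗ[R] LinearMap.ker q''.dualMap :=
    LinearEquiv.ofBijective e₀ ⟨hinj, hsurj⟩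
  have hproj : Module.Projective R (LinearMap.ker q''.dualMap) :=
    Groth.Agent.Lib.Helper43.GlDimKer.projective_ker hgl q''.dualMap
  have hfin : Module.Finite R (LinearMap.ker q''.dualMap) := inferInstance
  exact ⟨Module.Finite.equiv e.symm, Module.Projective.of_equiv e.symm⟩

/-- the bidual -/
abbrev Bidual (R : Type u) [CommRing R] (G : Type u) [AddCommGroup G] [Module R G] : Type u :=
  Module.Dual R (Module.Dual R G)

section Ext

variable {G : Type u} [AddCommGroup G] [Module R G] [Module.Finite R G]

theorem bidual_finite_projective (hgl : ∀ M : ModuleCat.{u} R, HasProjectiveDimensionLT M 3) :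
    Module.Finite R (Bidual R G) ∧ Module.Projective R (Bidual R G) := by
  obtain ⟨h1, h2⟩ := dual_finite_projective hgl G
  exact ⟨inferInstance, inferInstance⟩

/-- a linear form on the bidual vanishing on the image of `G` is zero -/
theorem dual_bidual_eq_zero (hgl : ∀ M : ModuleCat.{u} R, HasProjectiveDimensionLT M 3)
    (ζ : Module.Dual R (Bidual R G)) (h : ∀ g : G, ζ (Module.Dual.eval R G g) = 0) : ζ = 0 := by
  obtain ⟨h1, h2⟩ := dual_finite_projective hgl G
  obtain ⟨φ, rfl⟩ := (Module.bijective_dual_eval R (Module.Dual R G)).2 ζ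
  have hφ : φ = 0 := by
    apply LinearMap.ext
    intro g
    exact h g
  rw [hφ, map_zero]

/-- maps from `G` to a flat module extend to the bidual -/
theorem exists_ext {L : Type v} [AddCommGroup L] [Module R L] [Module.Flat R L]
    (h : G →ₗ[R] L) : ∃ h' : Bidual R G →ₗ[R] L, h' ∘ₗ Module.Dual.eval R G = h := by
  haveI : Module.FinitePresentation R G := Module.finitePresentation_of_finite R G
  obtain ⟨k, α, β, hαβ⟩ := Module.Flat.exists_factorization_of_finitePresentation h
  -- extend `α` coordinatewise
  let α' : Bidual R G →ₗ[R] (Fin k →₀ R) :=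
    (Finsupp.linearEquivFunOnFinite R R (Fin k)).symm.toLinearMap ∘ₗ
      LinearMap.pi (fun j => Module.Dual.eval R (Module.Dual R G) (Finsupp.lapply j ∘ₗ α))
  refine ⟨β ∘ₗ α', ?_⟩
  rw [hαβ]
  apply LinearMap.ext
  intro g
  have hα : α' (Module.Dual.eval R G g) = α g := by
    apply Finsupp.ext
    intro j
    rfl
  change β (α' (Module.Dual.eval R G g)) = β (α g)
  rw [hα]

/-- a map from the bidual to a flat module vanishing on the image of `G` is zero -/
theorem ext_unique (hgl : ∀ M : ModuleCat.{u} R, HasProjectiveDimensionLT M 3)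
    {L : Type v} [AddCommGroup L] [Module R L] [Module.Flat R L]
    (d : Bidual R G →ₗ[R] L) (hd : d ∘ₗ Module.Dual.eval R G = 0) : d = 0 := by
  obtain ⟨h1, h2⟩ := bidual_finite_projective (G := G) hgl
  obtain ⟨n, f, g, -, -, hfg⟩ := Module.Finite.exists_comp_eq_id_of_projective R (Bidual R G)
  have h0 : (d ∘ₗ f) ∘ₗ (g ∘ₗ Module.Dual.eval R G) = 0 := by
    apply LinearMap.ext
    intro x
    have h3 : f (g (Module.Dual.eval R G x)) = Module.Dual.eval R G x :=
      LinearMap.congr_fun hfg _
    have h4 : d (Module.Dual.eval R G x) = 0 := LinearMap.congr_fun hd x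
    simp only [LinearMap.comp_apply, LinearMap.zero_apply]
    rw [h3, h4]
  obtain ⟨k, a, y, hya, haf⟩ := Module.Flat.exists_factorization_of_comp_eq_zero_of_free h0
  have hag : a ∘ₗ g = 0 := by
    apply LinearMap.ext
    intro ξ
    apply Finsupp.ext
    intro j
    have hz := dual_bidual_eq_zero hgl (Finsupp.lapply j ∘ₗ a ∘ₗ g) (fun x => by
      have := LinearMap.congr_fun haf x
      simp only [LinearMap.comp_apply] at this ⊢
      rw [this]
      rfl)
    exact LinearMap.congr_fun hz ξ
  calc d = d ∘ₗ (f ∘ₗ g) := by rw [hfg, LinearMap.comp_id]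
    _ = (d ∘ₗ f) ∘ₗ g := (LinearMap.comp_assoc _ _ _).symm
    _ = (y ∘ₗ a) ∘ₗ g := by rw [hya]
    _ = y ∘ₗ (a ∘ₗ g) := LinearMap.comp_assoc _ _ _
    _ = 0 := by rw [hag, LinearMap.comp_zero]

/-- two maps from the bidual to a flat module agreeing on the image of `G` are equal -/
theorem ext_eq (hgl : ∀ M : ModuleCat.{u} R, HasProjectiveDimensionLT M 3)
    {L : Type v} [AddCommGroup L] [Module R L] [Module.Flat R L]
    (d d' : Bidual R G →ₗ[R] L)
    (h : ∀ g : G, d (Module.Dual.eval R G g) = d' (Module.Dual.eval R G g)) : d = d' := by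
  rw [← sub_eq_zero]
  apply ext_unique hgl
  apply LinearMap.ext
  intro g
  rw [LinearMap.comp_apply, LinearMap.sub_apply, h g, sub_self, LinearMap.zero_apply]

end Ext

end Groth.Agent.Lib.Helper43.BidualExt
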