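import Groth.Agent.Lib.Helper96.TensGen2

/-!
# Comodules with small coefficient space are direct summands of multiples (helper43)

Over a field, if `cW`, `cE` are finite-dimensional comodules over a coalgebra with
`cf cW ≤ cf cE` and every finite-dimensional comodule is semisimple, then `cW` is a direct summand
(as a comodule) of a finite direct sum of copies of `cE`.
-/

set_option autoImplicit false

open TensorProduct

universe u v w w'

namespace Groth.Agent.Lib.Helper43.CfSummand

open Groth.Agent.Lib.Helper96 Groth.Agent.Lib.Helper96.TensGen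

section Proj

variable {k : Type u} [Field k] {A : Type v} [AddCommGroup A] [Module k A] [Coalgebra k A]
variable {M : Type w} [AddCommGroup M] [Module k M]

/-- an endomorphism which is the identity on a subcomodule and zero on a complementary
subcomodule is a morphism of comodules -/
theorem isHom_of_compl (c : HopfRep.Comod k A M) {N N' : Submodule k M} (hN : IsSub c N)
    (hN' : IsSub c N') (hsup : N ⊔ N' = ⊤) (f : M →ₗ[k] M) (h1 : ∀ x ∈ N, f x = x)
    (h0 : ∀ x ∈ N', f x = 0) : IsHom c c f := by
  apply LinearMap.ext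
  intro m
  have hm : m ∈ N ⊔ N' := by rw [hsup]; trivial
  obtain ⟨x, hx, y, hy, rfl⟩ := Submodule.mem_sup.mp hm
  simp only [LinearMap.coe_comp, Function.comp_apply, map_add]
  rw [h1 x hx, h0 y hy, map_zero, add_zero]
  obtain ⟨tx, htx⟩ := hN x hx
  obtain ⟨ty, hty⟩ := hN' y hy
  have e1 : f ∘ₗ N.subtype = N.subtype := by
    apply LinearMap.ext
    intro z
    exact h1 z z.2
  have e2 : f ∘ₗ N'.subtype = 0 := by
    apply LinearMap.ext
    intro z
    exact h0 z z.2
  have hx' : c.coact x = N.subtype.rTensor A tx := htx.symm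
  have hy' : c.coact y = N'.subtype.rTensor A ty := hty.symm
  rw [hx', hy', ← LinearMap.rTensor_comp_apply, ← LinearMap.rTensor_comp_apply, e1, e2,
    LinearMap.rTensor_zero, LinearMap.zero_apply, add_zero]

variable {W : Type w'} [AddCommGroup W] [Module k W]

/-- an injective morphism into a semisimple comodule has a retraction which is a morphism -/
theorem exists_retraction (cM : HopfRep.Comod k A M) (hSS : IsSS cM) (cW : HopfRep.Comod k A W)
    (i : W →ₗ[k] M) (hi : IsHom cW cM i) (hinj : Function.Injective i) :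
    ∃ p : M →ₗ[k] W, IsHom cM cW p ∧ p ∘ₗ i = LinearMap.id := by
  have hN : IsSub cM (LinearMap.range i) := isSub_range hi
  obtain ⟨N', hN', hc⟩ := hSS _ hN
  let π : M →ₗ[k] M := (LinearMap.range i).subtype ∘ₗ Submodule.projectionOnto _ _ hc
  have hπ1 : ∀ x ∈ LinearMap.range i, π x = x := by
    intro x hx
    have := Submodule.projectionOnto_apply_left hc ⟨x, hx⟩
    simp only [π, LinearMap.comp_apply, Submodule.subtype_apply]
    exact congrArg Subtype.val this
  have hπ0 : ∀ x ∈ N', π x = 0 := by
    intro x hx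
    have := (Submodule.projectionOnto_apply_eq_zero_iff hc).mpr hx
    simp only [π, LinearMap.comp_apply, Submodule.subtype_apply]
    rw [this]
    rfl
  have hπ : IsHom cM cM π := isHom_of_compl cM hN hN' hc.sup_eq_top π hπ1 hπ0
  have hle : LinearMap.range π ≤ LinearMap.range i := by
    rintro _ ⟨m, rfl⟩
    exact (Submodule.projectionOnto (LinearMap.range i) N' hc m).2
  obtain ⟨p, hp, hip⟩ := exists_isHom_lift hi hinj hπ hle
  refine ⟨p, hp, ?_⟩
  apply LinearMap.ext
  intro w
  apply hinj
  have h1 := LinearMap.congr_fun hip (i w)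
  simp only [LinearMap.comp_apply] at h1
  simp only [LinearMap.comp_apply, LinearMap.id_apply]
  rw [h1]
  exact hπ1 _ ⟨w, rfl⟩

variable {X : Type*} [AddCommGroup X] [Module k X]

/-- a morphism into a comodule `X` whose range lies in the range of a morphism from a semisimple
comodule lifts -/
theorem exists_section_lift (cM : HopfRep.Comod k A M) (hSS : IsSS cM) (cX : HopfRep.Comod k A X)
    (Q : M →ₗ[k] X) (hQ : IsHom cM cX Q) (cW : HopfRep.Comod k A W) (ι : W →ₗ[k] X)
    (hι : IsHom cW cX ι) (hle : LinearMap.range ι ≤ LinearMap.range Q) :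
    ∃ i : W →ₗ[k] M, IsHom cW cM i ∧ Q ∘ₗ i = ι := by
  have hK : IsSub cM (LinearMap.ker Q) := isSub_ker hQ
  obtain ⟨K', hK', hc⟩ := hSS _ hK
  let g : K' →ₗ[k] X := Q ∘ₗ K'.subtype
  have hg : IsHom (ComodSub.Comod.restr cM K' hK') cX g :=
    isHom_comp (ComodSub.isComodHom_subtype cM K' hK') hQ
  have hginj : Function.Injective g := by
    rw [← LinearMap.ker_eq_bot, LinearMap.ker_eq_bot']
    intro y hy
    have h1 : (y : M) ∈ LinearMap.ker Q ⊓ K' := ⟨hy, y.2⟩
    rw [hc.inf_eq_bot, Submodule.mem_bot] at h1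
    exact Subtype.ext h1
  have hrange : LinearMap.range ι ≤ LinearMap.range g := by
    intro x hx
    obtain ⟨m, rfl⟩ := hle hx
    have hm : m ∈ LinearMap.ker Q ⊔ K' := by rw [hc.sup_eq_top]; trivial
    obtain ⟨a, ha, b, hb, rfl⟩ := Submodule.mem_sup.mp hm
    refine ⟨⟨b, hb⟩, ?_⟩
    simp only [g, LinearMap.comp_apply, Submodule.subtype_apply, map_add]
    rw [LinearMap.mem_ker.mp ha, zero_add]
  obtain ⟨h, hh, hgh⟩ := exists_isHom_lift hg hginj hι hrange
  refine ⟨K'.subtype ∘ₗ h, isHom_comp hh (ComodSub.isComodHom_subtype cM K' hK'), ?_⟩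
  rw [← LinearMap.comp_assoc]
  exact hgh

end Proj

section Main

variable {k : Type u} [Field k] {A : Type v} [AddCommGroup A] [Module k A] [Coalgebra k A]
variable {E : Type w} [AddCommGroup E] [Module k E]
variable {W : Type w'} [AddCommGroup W] [Module k W]

/-- every element of the coefficient space is a sum of coefficients against a dual basis -/
theorem exists_eq_sum_cfMap {n : ℕ} (bE : Module.Basis (Fin n) k E) (cE : HopfRep.Comod k A E)
    {z : A} (hz : z ∈ cf cE) :
    ∃ e : Fin n → E, z = ∑ l, cfMap cE (bE.coord l) (e l) := by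
  let R : (Fin n → E) →ₗ[k] A := ∑ l, cfMap cE (bE.coord l) ∘ₗ LinearMap.proj l
  have hR : ∀ e, R e = ∑ l, cfMap cE (bE.coord l) (e l) := by
    intro e
    simp only [R, LinearMap.sum_apply, LinearMap.comp_apply, LinearMap.proj_apply]
  have hle : cf cE ≤ LinearMap.range R := by
    rw [cf_le]
    intro φ v
    refine ⟨fun l => φ (bE l) • v, ?_⟩
    rw [hR]
    have hφ : φ = ∑ l, φ (bE l) • bE.coord l := by
      apply bE.ext
      intro j
      simp only [LinearMap.sum_apply, LinearMap.smul_apply, Module.Basis.coord_apply,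
        Module.Basis.repr_self, smul_eq_mul]
      rw [Finset.sum_eq_single j]
      · simp
      · intro l _ hl
        simp [Ne.symm hl]
      · intro h
        exact absurd (Finset.mem_univ _) h
    conv_rhs => rw [hφ]
    simp only [map_sum, map_smul, LinearMap.sum_apply, LinearMap.smul_apply]
  obtain ⟨e, he⟩ := hle hz
  exact ⟨e, by rw [← he, hR]⟩

/-- **Summand lemma.**  If the coefficient space of the finite-dimensional comodule `cW` lies in
that of `cE` and all finite direct sums of copies of `cE` are semisimple, then `cW` is a direct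
summand of such a direct sum. -/
theorem exists_summand [Module.Finite k E] [Module.Finite k W] (cE : HopfRep.Comod k A E)
    (cW : HopfRep.Comod k A W)
    (hSS : ∀ b : ℕ, IsSS (ComodTens.Comod.pi fun _ : Fin b => cE))
    (hcf : cf cW ≤ cf cE) :
    ∃ (b : ℕ) (i : W →ₗ[k] (Fin b → E)) (p : (Fin b → E) →ₗ[k] W),
      p ∘ₗ i = LinearMap.id ∧ IsHom cW (ComodTens.Comod.pi fun _ : Fin b => cE) i ∧
        IsHom (ComodTens.Comod.pi fun _ : Fin b => cE) cW p := by
  classical
  obtain ⟨s, ⟨bW⟩⟩ : ∃ s : ℕ, Nonempty (Module.Basis (Fin s) k W) := ⟨_, ⟨Module.finBasis k W⟩⟩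
  obtain ⟨n, ⟨bE⟩⟩ : ∃ n : ℕ, Nonempty (Module.Basis (Fin n) k E) := ⟨_, ⟨Module.finBasis k E⟩⟩
  let eI : Fin (s * n) ≃ Fin s × Fin n := finProdFinEquiv.symm
  let cM := ComodTens.Comod.pi fun _ : Fin (s * n) => cE
  let cY := ComodTens.Comod.pi (fun _ : Fin s => HopfRep.Comod.regular k A)
  let Q : (Fin (s * n) → E) →ₗ[k] (Fin s → A) :=
    ∑ i, (LinearMap.single k (fun _ : Fin s => A) (eI i).1) ∘ₗ cfMap cE (bE.coord (eI i).2) ∘ₗ
      LinearMap.proj i
  have hQ : IsHom cM cY Q :=
    isHom_sum _ _ (fun i _ => isHom_comp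
      (isHom_comp (isHom_proj (fun _ : Fin (s * n) => cE) i) (isHom_cfMap _ _))
      (isHom_single (fun _ : Fin s => HopfRep.Comod.regular k A) (eI i).1))
  let ιW : W →ₗ[k] (Fin s → A) :=
    ∑ p, (LinearMap.single k (fun _ : Fin s => A) p) ∘ₗ cfMap cW (bW.coord p)
  have hι : IsHom cW cY ιW :=
    isHom_sum _ _ (fun p _ => isHom_comp (isHom_cfMap _ _)
      (isHom_single (fun _ : Fin s => HopfRep.Comod.regular k A) p))
  have hιapp : ∀ w p, ιW w p = cfMap cW (bW.coord p) w := by
    intro w p
    simp only [ιW, LinearMap.sum_apply, LinearMap.comp_apply, LinearMap.coe_single,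
      Finset.sum_apply, Pi.single_apply]
    rw [Finset.sum_eq_single p]
    · simp
    · intro p' _ hp'
      simp [Ne.symm hp']
    · intro h
      exact absurd (Finset.mem_univ _) h
  have hinj : Function.Injective ιW := by
    rw [← LinearMap.ker_eq_bot, LinearMap.ker_eq_bot']
    intro w hw
    apply bW.ext_elem
    intro p
    have h1 : lsl' (bW.coord p) (cW.coact w) = 0 := by
      have := congrFun hw p
      rw [hιapp] at this
      exact this
    have h2 := congrArg (CoalgebraStruct.counit (R := k)) h1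
    rw [counit_lsl'_coact, map_zero] at h2
    simpa [Module.Basis.coord_apply] using h2
  have hQapp : ∀ (x : Fin (s * n) → E) (p : Fin s),
      Q x p = ∑ l, cfMap cE (bE.coord l) (x (eI.symm (p, l))) := by
    intro x p
    simp only [Q, LinearMap.sum_apply, LinearMap.comp_apply, LinearMap.coe_single,
      Finset.sum_apply, LinearMap.proj_apply, Pi.single_apply]
    rw [← Equiv.sum_comp eI.symm
      (fun i => if p = (eI i).1 then cfMap cE (bE.coord (eI i).2) (x i) else 0),
      Fintype.sum_prod_type, Finset.sum_eq_single p]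
    · simp
    · intro p' _ hp'
      simp [Ne.symm hp']
    · intro h
      exact absurd (Finset.mem_univ _) h
  have hle : LinearMap.range ιW ≤ LinearMap.range Q := by
    rintro _ ⟨w, rfl⟩
    have hz : ∀ p, ∃ e : Fin n → E,
        cfMap cW (bW.coord p) w = ∑ l, cfMap cE (bE.coord l) (e l) :=
      fun p => exists_eq_sum_cfMap bE cE (hcf (cfMap_mem_cf cW _ w))
    choose e he using hz
    refine ⟨fun i => e (eI i).1 (eI i).2, ?_⟩
    funext p
    rw [hQapp, hιapp, he p]
    refine Finset.sum_congr rfl (fun l _ => ?_)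
    simp
  obtain ⟨i, hi, hQi⟩ := exists_section_lift cM (hSS (s * n)) cY Q hQ cW ιW hι hle
  have hiinj : Function.Injective i := by
    intro w w' hww
    apply hinj
    rw [← hQi]
    simp only [LinearMap.comp_apply, hww]
  obtain ⟨p, hp, hpi⟩ := exists_retraction cM (hSS (s * n)) cW i hi hiinj
  exact ⟨s * n, i, p, hpi, hi, hp⟩

end Main

end Groth.Agent.Lib.Helper43.CfSummand
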