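import Mathlib.Tactic
import Mathlib.Algebra.Module.FinitePresentation
import Mathlib.LinearAlgebra.FreeModule.Finite.Basic
import Mathlib.LinearAlgebra.Pi

/-!
# Coherent rings (helper43)

`R` is coherent if every finitely generated ideal is finitely presented.  Then finitely generated
submodules of finite free modules are finitely presented and kernels of maps between finite free
modules are finitely generated.
-/

set_option autoImplicit false
universe u

namespace Groth.Agent.Lib.Helper43.CoherentRing

variable {R : Type u} [CommRing R]

/-- f.g. submodules of `Rᵇ` are finitely presented over a coherent ring -/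
theorem finitePresentation_submodule_pi
    (hR : ∀ I : Ideal R, I.FG → Module.FinitePresentation R I) :
    ∀ (b : ℕ) (N : Submodule R (Fin b → R)), N.FG → Module.FinitePresentation R N := by
  intro b
  induction b with
  | zero =>
    intro N _
    haveI : Subsingleton (Fin 0 → R) := inferInstance
    haveI : Subsingleton N := inferInstance
    infer_instance
  | succ b ih =>
    intro N hN
    haveI : Module.Finite R N := Module.Finite.iff_fg.2 hN
    -- projection to the first coordinate
    let π : (Fin (b + 1) → R) →ₗ[R] R := LinearMap.proj 0
    let I : Ideal R := N.map π
    have hI : I.FG := hN.map π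
    haveI : Module.FinitePresentation R I := hR I hI
    let l : N →ₗ[R] I := (π.domRestrict N).codRestrict I (fun x => ⟨x.1, x.2, rfl⟩)
    have hl : Function.Surjective l := by
      rintro ⟨y, x, hx, rfl⟩
      exact ⟨⟨x, hx⟩, rfl⟩
    haveI : Module.Finite R (LinearMap.ker l) :=
      Module.Finite.iff_fg.2 (Module.FinitePresentation.fg_ker l hl)
    -- the kernel embeds into `R^b`
    let tail : (Fin (b + 1) → R) →ₗ[R] (Fin b → R) := LinearMap.funLeft R R Fin.succ
    let t : LinearMap.ker l →ₗ[R] (Fin b → R) :=
      tail ∘ₗ N.subtype ∘ₗ (LinearMap.ker l).subtype
    have ht : Function.Injective t := by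
      rw [injective_iff_map_eq_zero]
      rintro ⟨⟨x, hxN⟩, hx⟩ h0
      have h1 : x 0 = 0 := by
        have := congrArg Subtype.val (LinearMap.mem_ker.1 hx)
        simpa [l, π] using this
      have h2 : ∀ i : Fin b, x i.succ = 0 := fun i => by
        have := congrFun h0 i
        simpa [t, tail, LinearMap.funLeft_apply] using this
      have hx0 : x = 0 := by
        funext i
        refine Fin.cases h1 h2 i
      ext
      simp [hx0]
    have hfg : (LinearMap.range t).FG := by
      rw [LinearMap.range_eq_map]
      exact Submodule.FG.map _ Module.Finite.fg_top
    haveI : Module.FinitePresentation R (LinearMap.range t) := ih _ hfg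
    haveI : Module.FinitePresentation R (LinearMap.ker l) := by
      exact @Module.FinitePresentation.of_equiv R (LinearMap.range t) (LinearMap.ker l) _ _ _ _ _
        (LinearEquiv.ofInjective t ht).symm _
    exact Module.finitePresentation_of_ker l hl

/-- f.g. submodules of finite free modules are finitely presented over a coherent ring -/
theorem finitePresentation_submodule
    (hR : ∀ I : Ideal R, I.FG → Module.FinitePresentation R I)
    {F : Type u} [AddCommGroup F] [Module R F] [Module.Finite R F] [Module.Free R F]
    (N : Submodule R F) (hN : N.FG) : Module.FinitePresentation R N := by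
  let ι := Module.Free.ChooseBasisIndex R F
  let e : F ≃ₗ[R] (Fin (Fintype.card ι) → R) :=
    ((Module.Free.chooseBasis R F).reindex (Fintype.equivFin ι)).equivFun
  have h := finitePresentation_submodule_pi hR _ (N.map e.toLinearMap) (hN.map _)
  exact Module.FinitePresentation.of_equiv (e.submoduleMap N).symm

/-- kernels of maps from a finite module to a finite free module are finitely generated over a
coherent ring -/
theorem fg_ker (hR : ∀ I : Ideal R, I.FG → Module.FinitePresentation R I)
    {M F : Type u} [AddCommGroup M] [Module R M] [Module.Finite R M]
    [AddCommGroup F] [Module R F] [Module.Finite R F] [Module.Free R F]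
    (φ : M →ₗ[R] F) : (LinearMap.ker φ).FG := by
  have hfg : (LinearMap.range φ).FG := by
    rw [LinearMap.range_eq_map]
    exact Submodule.FG.map _ Module.Finite.fg_top
  haveI := finitePresentation_submodule hR _ hfg
  have h := Module.FinitePresentation.fg_ker φ.rangeRestrict φ.surjective_rangeRestrict
  rwa [LinearMap.ker_rangeRestrict] at h

end Groth.Agent.Lib.Helper43.CoherentRing
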