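import Groth.Agent.Lib.Helper96.Integral
import Groth.Agent.Lib.Helper10.ComodRing
import Groth.Agent.S3021

/-!
# Covering a finitely generated comodule by a subcomodule of a cofree comodule

`A` a coalgebra over `k`, projective as a `k`-module, `(V, c)` a comodule, `p : X → V` linear.
On `L = X ⊗ A` (cofree comodule) consider `φ = (id ⊗ ε) ∘ (p ⊗ id) : L → V` and
`P₀ = ker (c ∘ φ - p ⊗ id)`. Then `P₀` is a subcomodule of `L`, `φ` restricted to `P₀` is a
morphism of comodules, and `φ (P₀) = V` when `p` is surjective.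
-/

set_option autoImplicit false

universe u

open TensorProduct

namespace Groth.Agent.Lib.Helper43.ComodCover

open Groth.Agent.Lib.Helper10.ComodRing
open Groth.Agent.Lib.Helper96 (indComod indComod_coact indComod_coact_tmul assoc_symm_rTensor)

variable {k : Type u} [CommRing k] {A : Type u} [AddCommGroup A] [Module k A] [Coalgebra k A]
variable {V : Type u} [AddCommGroup V] [Module k V]
variable {X : Type u} [AddCommGroup X] [Module k X]

/-- the counit slice -/
noncomputable abbrev eps (k : Type u) [CommRing k] (A : Type u) [AddCommGroup A] [Module k A]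
    [Coalgebra k A] : A →ₗ[k] k := CoalgebraStruct.counit (R := k) (A := A)

/-- `φ = (id ⊗ ε) ∘ (p ⊗ id) : X ⊗ A → V` -/
noncomputable def phiL (p : X →ₗ[k] V) : X ⊗[k] A →ₗ[k] V :=
  slice V (eps k A) ∘ₗ p.rTensor A

/-- `ψ = c ∘ φ - p ⊗ id : X ⊗ A → V ⊗ A` -/
noncomputable def psi (c : HopfRep.Comod k A V) (p : X →ₗ[k] V) : X ⊗[k] A →ₗ[k] V ⊗[k] A :=
  c.coact ∘ₗ phiL p - p.rTensor A

/-- `P₀ = ker ψ` -/
noncomputable def P0 (c : HopfRep.Comod k A V) (p : X →ₗ[k] V) : Submodule k (X ⊗[k] A) :=
  LinearMap.ker (psi c p)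

theorem mem_P0_iff (c : HopfRep.Comod k A V) (p : X →ₗ[k] V) (z : X ⊗[k] A) :
    z ∈ P0 c p ↔ c.coact (phiL p z) = p.rTensor A z := by
  unfold P0 psi
  rw [LinearMap.mem_ker, LinearMap.sub_apply, LinearMap.comp_apply, sub_eq_zero]

theorem mem_P0_of_eq (c : HopfRep.Comod k A V) (p : X →ₗ[k] V) (z : X ⊗[k] A) (v : V)
    (h : p.rTensor A z = c.coact v) : z ∈ P0 c p ∧ phiL p z = v := by
  have hv : phiL p z = v := by
    unfold phiL
    rw [LinearMap.comp_apply, h, slice_counit_coact]
  exact ⟨(mem_P0_iff c p z).2 (by rw [hv, h]), hv⟩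

theorem slice_eps_assoc_symm (v : V) (t : A ⊗[k] A) :
    (slice V (eps k A)).rTensor A ((TensorProduct.assoc k V A A).symm (v ⊗ₜ[k] t)) =
      v ⊗ₜ[k] (TensorProduct.lid k A ((eps k A).rTensor A t)) := by
  induction t using TensorProduct.induction_on with
  | zero => simp
  | add x y hx hy => simp only [TensorProduct.tmul_add, map_add, hx, hy]
  | tmul a b =>
    simp only [TensorProduct.assoc_symm_tmul, LinearMap.rTensor_tmul, slice_tmul,
      TensorProduct.lid_tmul]
    rw [TensorProduct.smul_tmul]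

/-- `(id ⊗ ε ⊗ id)` after the cofree coaction is the identity -/
theorem slice_eps_indComod_coact (w : V ⊗[k] A) :
    (slice V (eps k A)).rTensor A ((indComod k A V).coact w) = w := by
  induction w using TensorProduct.induction_on with
  | zero => simp
  | add x y hx hy => simp only [map_add, hx, hy]
  | tmul v a =>
    rw [indComod_coact_tmul, slice_eps_assoc_symm]
    have h := LinearMap.congr_fun (Coalgebra.rTensor_counit_comp_comul (R := k) (A := A)) a
    simp only [LinearMap.coe_comp, Function.comp_apply, TensorProduct.mk_apply] at h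
    rw [h, TensorProduct.lid_tmul, one_smul]

/-- `p ⊗ id` is a morphism of cofree comodules -/
theorem rTensor_rTensor_indComod_coact (p : X →ₗ[k] V) (z : X ⊗[k] A) :
    (p.rTensor A).rTensor A ((indComod k A X).coact z) =
      (indComod k A V).coact (p.rTensor A z) := by
  rw [indComod_coact, indComod_coact, ← assoc_symm_rTensor, ComodTens.lTensor_rTensor_comm]

/-- the coaction `V → V ⊗ A` is a morphism to the cofree comodule -/
theorem indComod_coact_coact (c : HopfRep.Comod k A V) (v : V) :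
    (indComod k A V).coact (c.coact v) = c.coact.rTensor A (c.coact v) := by
  have hc := LinearMap.congr_fun c.coassoc v
  simp only [LinearMap.coe_comp, Function.comp_apply, LinearEquiv.coe_coe] at hc
  rw [indComod_coact, ← hc, LinearEquiv.symm_apply_apply]

/-- `(φ ⊗ id) ∘ ρ_L = p ⊗ id` -/
theorem phiL_rTensor_coact (p : X →ₗ[k] V) (z : X ⊗[k] A) :
    (phiL p).rTensor A ((indComod k A X).coact z) = p.rTensor A z := by
  unfold phiL
  rw [LinearMap.rTensor_comp, LinearMap.comp_apply, rTensor_rTensor_indComod_coact,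
    slice_eps_indComod_coact]

/-- on `P₀`, `φ` commutes with the coactions -/
theorem coact_phiL_of_mem (c : HopfRep.Comod k A V) (p : X →ₗ[k] V) (z : X ⊗[k] A)
    (hz : z ∈ P0 c p) :
    c.coact (phiL p z) = (phiL p).rTensor A ((indComod k A X).coact z) := by
  rw [phiL_rTensor_coact, (mem_P0_iff c p z).1 hz]

theorem exists_mem_P0 (c : HopfRep.Comod k A V) (p : X →ₗ[k] V) (hp : Function.Surjective p)
    (v : V) : ∃ z ∈ P0 c p, phiL p z = v := by
  obtain ⟨z, hz⟩ := LinearMap.rTensor_surjective A hp (c.coact v)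
  exact ⟨z, mem_P0_of_eq c p z v hz⟩

variable [Module.Projective k A]

/-- `P₀` is a subcomodule of the cofree comodule -/
theorem isSubcomod_P0 (c : HopfRep.Comod k A V) (p : X →ₗ[k] V) :
    @HopfRep.IsSubcomod k A _ _ _ _ (X ⊗[k] A) _ _ (indComod k A X) (P0 c p) := by
  intro z hz
  apply mem_range_of_slice_mem
  intro g
  -- `v = φ z`, `p̃ z = c v`
  have hz' := (mem_P0_iff c p z).1 hz
  set v := phiL p z with hv
  refine (mem_P0_of_eq c p _ (slice V g (c.coact v)) ?_).1
  rw [← slice_rTensor, rTensor_rTensor_indComod_coact, ← hz', indComod_coact_coact,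
    slice_rTensor]

/-- the covering lemma: a finitely generated subcomodule of the cofree comodule `X ⊗ A`,
contained in `P₀`, mapping onto `V` -/
theorem exists_fg_subcomod (c : HopfRep.Comod k A V) [Module.Finite k V] (p : X →ₗ[k] V)
    (hp : Function.Surjective p) :
    ∃ G : Submodule k (X ⊗[k] A),
      @HopfRep.IsSubcomod k A _ _ _ _ (X ⊗[k] A) _ _ (indComod k A X) G ∧ G.FG ∧
      G ≤ P0 c p ∧ ∀ v : V, ∃ z ∈ G, phiL p z = v := by
  classical
  obtain ⟨t, ht⟩ := (Module.Finite.fg_top : (⊤ : Submodule k V).FG)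
  choose f hf using fun v : V => exists_mem_P0 c p hp v
  let M : Submodule k (X ⊗[k] A) := Submodule.span k (t.image f : Set (X ⊗[k] A))
  have hMfg : M.FG := ⟨t.image f, rfl⟩
  have hMP : M ≤ P0 c p := by
    rw [Submodule.span_le]
    intro z hz
    rw [Finset.coe_image] at hz
    obtain ⟨v, _, rfl⟩ := hz
    exact (hf v).1
  obtain ⟨G, hG, hMG, hmin, hfg⟩ :=
    @Groth.Agent.S3021.result k _ A _ _ _ _ (X ⊗[k] A) _ _ (indComod k A X) M
  refine ⟨G, hG, hfg hMfg, hmin _ (isSubcomod_P0 c p) hMP, ?_⟩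
  -- surjectivity
  have hle : (⊤ : Submodule k V) ≤ (G.map (phiL p)) := by
    rw [← ht, Submodule.span_le]
    intro v hv
    refine ⟨f v, hMG (Submodule.subset_span ?_), (hf v).2⟩
    rw [Finset.coe_image]
    exact ⟨v, hv, rfl⟩
  intro v
  obtain ⟨z, hz, hzv⟩ := hle (Submodule.mem_top : v ∈ ⊤)
  exact ⟨z, hz, hzv⟩

end Groth.Agent.Lib.Helper43.ComodCover
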