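import Groth.Agent.Lib.Helper43.ComodCover
import Groth.Agent.Lib.Helper43.BidualExt
import Groth.Agent.Lib.Helper66.RL2
import Groth.Prelude.Def_ComodSub

/-!
# Finitely generated comodules over a flat coalgebra over a regular ring of dimension `≤ 2`
are quotients of finitely generated projective comodules
-/

set_option autoImplicit false

universe u

open TensorProduct CategoryTheory

namespace Groth.Agent.Lib.Helper43.ComodFlat

open Groth.Agent.Lib.Helper43.ComodCover Groth.Agent.Lib.Helper43.BidualExt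
open Groth.Agent.Lib.Helper96 (indComod indComod_coact indComod_coact_tmul)

section Sub

variable {k : Type u} [CommRing k] {A : Type u} [AddCommGroup A] [Module k A] [Coalgebra k A]
  [Module.Flat k A]
variable {V : Type u} [AddCommGroup V] [Module k V]
variable {X : Type u} [AddCommGroup X] [Module k X]

/-- `P₀` is a subcomodule of the cofree comodule (flat case) -/
theorem isSubcomod_P0_of_flat (c : HopfRep.Comod k A V) (p : X →ₗ[k] V) :
    @HopfRep.IsSubcomod k A _ _ _ _ (X ⊗[k] A) _ _ (indComod k A X) (P0 c p) := by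
  intro z hz
  have hex : Function.Exact ((P0 c p).subtype.rTensor A) ((psi c p).rTensor A) :=
    Module.Flat.rTensor_exact A (LinearMap.exact_subtype_ker_map (psi c p))
  apply (hex _).mp
  have hz' := (mem_P0_iff c p z).1 hz
  unfold psi
  rw [LinearMap.rTensor_sub, LinearMap.sub_apply, LinearMap.rTensor_comp, LinearMap.comp_apply,
    phiL_rTensor_coact, rTensor_rTensor_indComod_coact, ← hz', indComod_coact_coact, sub_self]

/-- a subcomodule of a subcomodule is a subcomodule -/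
theorem isSubcomod_map_subtype (c : HopfRep.Comod k A V) (W : Submodule k V)
    (hW : @HopfRep.IsSubcomod k A _ _ _ _ V _ _ c W) (F' : Submodule k W)
    (hF' : @HopfRep.IsSubcomod k A _ _ _ _ W _ _ (ComodSub.Comod.restr c W hW) F') :
    @HopfRep.IsSubcomod k A _ _ _ _ V _ _ c (F'.map W.subtype) := by
  rintro _ ⟨w', hw', rfl⟩
  obtain ⟨y, hy⟩ := hF' w' hw'
  let e : F' →ₗ[k] (F'.map W.subtype) :=
    (W.subtype ∘ₗ F'.subtype).codRestrict _ (fun x => Submodule.mem_map_of_mem x.2)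
  have he : (F'.map W.subtype).subtype ∘ₗ e = W.subtype ∘ₗ F'.subtype := rfl
  refine ⟨e.rTensor A y, ?_⟩
  rw [← LinearMap.rTensor_comp_apply, he, LinearMap.rTensor_comp_apply, hy]
  exact ComodSub.restr_coact_coe c W hW w'

variable [IsNoetherianRing k]

/-- the covering lemma in the flat case -/
theorem exists_fg_subcomod_of_flat (c : HopfRep.Comod k A V) [Module.Finite k V] (p : X →ₗ[k] V)
    (hp : Function.Surjective p) :
    ∃ G : Submodule k (X ⊗[k] A),
      @HopfRep.IsSubcomod k A _ _ _ _ (X ⊗[k] A) _ _ (indComod k A X) G ∧ G.FG ∧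
      G ≤ P0 c p ∧ ∀ v : V, ∃ z ∈ G, phiL p z = v := by
  classical
  obtain ⟨t, ht⟩ := (Module.Finite.fg_top : (⊤ : Submodule k V).FG)
  choose f hf using fun v : V => exists_mem_P0 c p hp v
  have hP := isSubcomod_P0_of_flat c p
  let cP : HopfRep.Comod k A (P0 c p) := ComodSub.Comod.restr (indComod k A X) (P0 c p) hP
  let f' : V → P0 c p := fun v => ⟨f v, (hf v).1⟩
  let M : Submodule k (P0 c p) := Submodule.span k (t.image f' : Set (P0 c p))
  obtain ⟨F', hMF', hF'fg, hF'sub⟩ :=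
    Groth.Agent.Lib.Helper66.RL2.exists_fg_isSubcomod cP M ⟨t.image f', rfl⟩
  refine ⟨F'.map (P0 c p).subtype, isSubcomod_map_subtype _ _ hP F' hF'sub,
    hF'fg.map _, Submodule.map_subtype_le _ _, ?_⟩
  have hle : (⊤ : Submodule k V) ≤ ((F'.map (P0 c p).subtype).map (phiL p)) := by
    rw [← ht, Submodule.span_le]
    intro v hv
    refine ⟨f v, ⟨f' v, hMF' (Submodule.subset_span ?_), rfl⟩, (hf v).2⟩
    rw [Finset.coe_image]
    exact ⟨v, hv, rfl⟩
  intro v
  obtain ⟨z, hz, hzv⟩ := hle (Submodule.mem_top : v ∈ ⊤)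
  exact ⟨z, hz, hzv⟩

end Sub

section BidualComod

variable {k : Type u} [CommRing k] [IsNoetherianRing k]
  {A : Type u} [AddCommGroup A] [Module k A] [Coalgebra k A] [Module.Flat k A]
variable {G : Type u} [AddCommGroup G] [Module k G] [Module.Finite k G]

/-- the comodule structure on the bidual of a finitely generated comodule -/
theorem exists_bidual_comod (hgl : ∀ M : ModuleCat.{u} k, HasProjectiveDimensionLT M 3)
    (cG : HopfRep.Comod k A G) :
    ∃ cV : HopfRep.Comod k A (Bidual k G),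
      cV.coact ∘ₗ Module.Dual.eval k G = (Module.Dual.eval k G).rTensor A ∘ₗ cG.coact := by
  obtain ⟨h1, h2⟩ := bidual_finite_projective (G := G) hgl
  have : Module.Flat k (Bidual k G) := inferInstance
  obtain ⟨ρ, hρ⟩ := exists_ext (L := Bidual k G ⊗[k] A)
    ((Module.Dual.eval k G).rTensor A ∘ₗ cG.coact)
  refine ⟨{ coact := ρ, coassoc := ?_, counit_comp := ?_ }, hρ⟩
  · refine ext_eq (G := G) (L := Bidual k G ⊗[k] (A ⊗[k] A)) hgl _ _ ?_
    intro g
    simp only [LinearMap.comp_apply, LinearEquiv.coe_coe]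
    exact ComodTens.coassoc_apply_of_hom cG ρ (Module.Dual.eval k G) hρ g
  · refine ext_eq (G := G) (L := Bidual k G ⊗[k] k) hgl _ _ ?_
    intro g
    simp only [LinearMap.comp_apply, LinearMap.flip_apply, TensorProduct.mk_apply]
    exact ComodTens.counit_apply_of_hom cG ρ (Module.Dual.eval k G) hρ g

end BidualComod

section Main

/-- **Resolution property, flat case.** Over a Noetherian ring of global dimension `≤ 2`, every
finitely generated comodule over a flat coalgebra is a quotient of a finitely generated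
projective comodule. -/
theorem exists_projective_cover (R : Type u) [CommRing R] [IsNoetherianRing R]
    (hgl : ∀ M : ModuleCat.{u} R, HasProjectiveDimensionLT M 3)
    (C : Type u) [AddCommGroup C] [Module R C] [Coalgebra R C] [Module.Flat R C]
    (F : Type u) [AddCommGroup F] [Module R F] [HopfRep.Comod R C F] [Module.Finite R F] :
    ∃ (V : Type u) (_ : AddCommGroup V) (_ : Module R V) (_ : HopfRep.Comod R C V)
      (φ : V →ₗ[R] F), Module.Finite R V ∧ Module.Projective R V ∧ Function.Surjective φ ∧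
      HopfRep.Comod.coact (k := R) (A := C) ∘ₗ φ =
        φ.rTensor C ∘ₗ HopfRep.Comod.coact (k := R) (A := C) (V := V) := by
  classical
  let c : HopfRep.Comod R C F := inferInstance
  -- first cover
  obtain ⟨n, p, hp⟩ := Module.Finite.exists_fin' R F
  obtain ⟨G₁, hG₁, hG₁fg, hG₁P, hG₁surj⟩ := exists_fg_subcomod_of_flat c p hp
  let ρ₁ : HopfRep.Comod R C ((Fin n → R) ⊗[R] C) := indComod R C (Fin n → R)
  let c₁ : HopfRep.Comod R C G₁ := ComodSub.Comod.restr ρ₁ G₁ hG₁
  have : Module.Finite R G₁ := Module.Finite.iff_fg.2 hG₁fg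
  -- second cover
  obtain ⟨n', p', hp'⟩ := Module.Finite.exists_fin' R G₁
  obtain ⟨G₂, hG₂, hG₂fg, hG₂P, hG₂surj⟩ := exists_fg_subcomod_of_flat c₁ p' hp'
  let ρ₂ : HopfRep.Comod R C ((Fin n' → R) ⊗[R] C) := indComod R C (Fin n' → R)
  let c₂ : HopfRep.Comod R C G₂ := ComodSub.Comod.restr ρ₂ G₂ hG₂
  have : Module.Finite R G₂ := Module.Finite.iff_fg.2 hG₂fg
  -- the bidual of `G₂`
  obtain ⟨hVfin, hVproj⟩ := bidual_finite_projective (R := R) (G := G₂) hgl
  obtain ⟨cV, hcV⟩ := exists_bidual_comod hgl c₂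
  obtain ⟨ι', hι'⟩ := exists_ext (R := R) (G := G₂) (L := (Fin n' → R) ⊗[R] C) G₂.subtype
  have hι'ev : ∀ g : G₂, ι' (Module.Dual.eval R G₂ g) = (g : (Fin n' → R) ⊗[R] C) :=
    fun g => LinearMap.congr_fun hι' g
  have hcVev : ∀ g : G₂, cV.coact (Module.Dual.eval R G₂ g) =
      (Module.Dual.eval R G₂).rTensor C (c₂.coact g) := fun g => LinearMap.congr_fun hcV g
  -- `ι'` is a morphism of comodules
  have h1 : ρ₂.coact ∘ₗ ι' = ι'.rTensor C ∘ₗ cV.coact := by
    refine ext_eq (G := G₂) (L := ((Fin n' → R) ⊗[R] C) ⊗[R] C) hgl _ _ ?_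
    intro g
    rw [LinearMap.comp_apply, LinearMap.comp_apply, hι'ev, hcVev, ← LinearMap.rTensor_comp_apply,
      hι']
    exact (ComodSub.restr_coact_coe ρ₂ G₂ hG₂ g).symm
  -- `ι'` has values in `P₀`
  have hj : Function.Injective (G₁.subtype.rTensor C) := ComodSub.rTensor_subtype_injective G₁
  have h2 : ∀ ξ : Bidual R G₂, ι' ξ ∈ P0 c₁ p' := by
    have key : (G₁.subtype.rTensor C ∘ₗ psi c₁ p') ∘ₗ ι' = 0 := by
      refine ext_eq (G := G₂) (L := ((Fin n → R) ⊗[R] C) ⊗[R] C) hgl _ _ ?_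
      intro g
      rw [LinearMap.comp_apply, LinearMap.comp_apply, hι'ev, LinearMap.zero_apply]
      have : psi c₁ p' (g : (Fin n' → R) ⊗[R] C) = 0 := LinearMap.mem_ker.1 (hG₂P g.2)
      rw [this, map_zero]
    intro ξ
    have h0 : psi c₁ p' (ι' ξ) = 0 := by
      apply hj
      rw [map_zero]
      exact LinearMap.congr_fun key ξ
    exact LinearMap.mem_ker.2 h0
  let φ₁ : (Fin n → R) ⊗[R] C →ₗ[R] F := phiL p
  let φ₂ : (Fin n' → R) ⊗[R] C →ₗ[R] G₁ := phiL (k := R) (A := C) (V := G₁) p'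
  let Φ : Bidual R G₂ →ₗ[R] F := (φ₁ ∘ₗ G₁.subtype) ∘ₗ (φ₂ ∘ₗ ι')
  refine ⟨Bidual R G₂, inferInstance, inferInstance, cV, Φ, hVfin, hVproj, ?_, ?_⟩
  · intro f
    obtain ⟨z₁, hz₁, hz₁f⟩ := hG₁surj f
    obtain ⟨z₂, hz₂, hz₂f⟩ := hG₂surj ⟨z₁, hz₁⟩
    refine ⟨Module.Dual.eval R G₂ ⟨z₂, hz₂⟩, ?_⟩
    change phiL p (G₁.subtype (φ₂ (ι' (Module.Dual.eval R G₂ ⟨z₂, hz₂⟩)))) = f
    rw [hι'ev]
    change phiL p (G₁.subtype (phiL p' z₂)) = f
    rw [hz₂f]
    exact hz₁f
  · apply LinearMap.ext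
    intro ξ
    change c.coact (Φ ξ) = Φ.rTensor C (cV.coact ξ)
    have e1 : ι'.rTensor C (cV.coact ξ) = ρ₂.coact (ι' ξ) := (LinearMap.congr_fun h1 ξ).symm
    have e2 := coact_phiL_of_mem c₁ p' _ (h2 ξ)
    have e3 : G₁.subtype.rTensor C (c₁.coact (φ₂ (ι' ξ))) =
        ρ₁.coact ((φ₂ (ι' ξ) : G₁) : (Fin n → R) ⊗[R] C) :=
      ComodSub.restr_coact_coe ρ₁ G₁ hG₁ _
    have e4 := coact_phiL_of_mem c p _ (hG₁P (φ₂ (ι' ξ)).2)
    change c.coact (phiL p ((φ₂ (ι' ξ) : G₁) : (Fin n → R) ⊗[R] C)) = _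
    rw [e4]
    change _ = ((φ₁ ∘ₗ G₁.subtype) ∘ₗ (φ₂ ∘ₗ ι')).rTensor C (cV.coact ξ)
    rw [LinearMap.rTensor_comp, LinearMap.rTensor_comp, LinearMap.rTensor_comp,
      LinearMap.comp_apply, LinearMap.comp_apply, LinearMap.comp_apply, e1]
    change _ = φ₁.rTensor C (G₁.subtype.rTensor C
      ((phiL (k := R) (A := C) (V := G₁) p').rTensor C (ρ₂.coact (ι' ξ))))
    rw [← e2, e3]

end Main

end Groth.Agent.Lib.Helper43.ComodFlat
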