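import Groth.Agent.Lib.Helper43.GlDimKer
import Mathlib.LinearAlgebra.Dual.Lemmas

/-!
# The double-annihilator hull of a submodule of a projective module

For a submodule `G` of a module `P`, `hull G` is the set of elements killed by every linear
form that kills `G`. Over a Noetherian ring of global dimension `≤ 2`, the hull of a finitely
generated submodule of a projective module is finitely generated and projective.
-/

set_option autoImplicit false

universe u

open CategoryTheory

namespace Groth.Agent.Lib.Helper43.ComodHull

section Basic

variable {R : Type u} [CommRing R] {P : Type u} [AddCommGroup P] [Module R P]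
  {P₂ : Type u} [AddCommGroup P₂] [Module R P₂]

/-- the double annihilator of a submodule -/
def hull (G : Submodule R P) : Submodule R P where
  carrier := {x | ∀ l : P →ₗ[R] R, (∀ g ∈ G, l g = 0) → l x = 0}
  add_mem' := by
    intro a b ha hb l hl
    rw [map_add, ha l hl, hb l hl, add_zero]
  zero_mem' := by
    intro l _
    exact map_zero l
  smul_mem' := by
    intro c x hx l hl
    rw [map_smul, hx l hl, smul_zero]

theorem mem_hull {G : Submodule R P} {x : P} :
    x ∈ hull G ↔ ∀ l : P →ₗ[R] R, (∀ g ∈ G, l g = 0) → l x = 0 := Iff.rfl

theorem le_hull (G : Submodule R P) : G ≤ hull G := fun _ hx _ hl => hl _ hx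

/-- linear maps carrying `G` into `G₂` carry `hull G` into `hull G₂` -/
theorem map_mem_hull (T : P →ₗ[R] P₂) {G : Submodule R P} {G₂ : Submodule R P₂}
    (h : ∀ g ∈ G, T g ∈ G₂) {x : P} (hx : x ∈ hull G) : T x ∈ hull G₂ := by
  intro l hl
  exact hx (l ∘ₗ T) (fun g hg => hl _ (h g hg))

/-- two linear maps to a projective module agreeing on `G` agree on `hull G` -/
theorem eq_on_hull [Module.Projective R P₂] (T T' : P →ₗ[R] P₂) {G : Submodule R P}
    (h : ∀ g ∈ G, T g = T' g) {x : P} (hx : x ∈ hull G) : T x = T' x := by
  rw [← sub_eq_zero, ← LinearMap.sub_apply, ← Module.forall_dual_apply_eq_zero_iff R]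
  intro l
  refine hx (l ∘ₗ (T - T')) (fun g hg => ?_)
  rw [LinearMap.comp_apply, LinearMap.sub_apply, h g hg, sub_self, map_zero]

/-- the hull is contained in every kernel of a map to a projective module containing `G` -/
theorem hull_le_ker [Module.Projective R P₂] (f : P →ₗ[R] P₂) {G : Submodule R P}
    (h : G ≤ LinearMap.ker f) : hull G ≤ LinearMap.ker f := by
  intro x hx
  rw [LinearMap.mem_ker]
  have := eq_on_hull f 0 (G := G) (fun g hg => by simpa using h hg) hx
  simpa using this

end Basic

section Free

variable {R : Type u} [CommRing R] [IsNoetherianRing R]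

/-- the hull of a submodule of a finite free module is a kernel of a map to a finite free module -/
theorem hull_fg_projective_free (hgl : ∀ M : ModuleCat.{u} R, HasProjectiveDimensionLT M 3)
    (I : Type u) [Finite I] (N : Submodule R (I → R)) :
    (hull N).FG ∧ Module.Projective R (hull N) := by
  classical
  haveI := Fintype.ofFinite I
  refine ⟨IsNoetherian.noetherian _, ?_⟩
  -- the annihilator of `N` in the dual
  let Nperp : Submodule R (Module.Dual R (I → R)) :=
    { carrier := {l | ∀ g ∈ N, l g = 0}
      add_mem' := by
        intro a b ha hb g hg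
        rw [LinearMap.add_apply, ha g hg, hb g hg, add_zero]
      zero_mem' := by
        intro g _
        rfl
      smul_mem' := by
        intro c l hl g hg
        rw [LinearMap.smul_apply, hl g hg, smul_zero] }
  obtain ⟨T, hT⟩ : Nperp.FG := IsNoetherian.noetherian _
  let h : (I → R) →ₗ[R] (T → R) := LinearMap.pi (fun l => (l : Module.Dual R (I → R)))
  have hker : hull N = LinearMap.ker h := by
    ext x
    rw [LinearMap.mem_ker, mem_hull]
    constructor
    · intro hx
      funext l
      have hl : (l : Module.Dual R (I → R)) ∈ Nperp := by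
        rw [← hT]
        exact Submodule.subset_span l.2
      exact hx _ hl
    · intro hx l hl
      have hl' : l ∈ Submodule.span R (T : Set (Module.Dual R (I → R))) := by
        rw [hT]
        exact hl
      clear hl
      induction hl' using Submodule.span_induction with
      | mem l hlT => exact congr_fun hx ⟨l, hlT⟩
      | zero => rfl
      | add a b _ _ ha hb => rw [LinearMap.add_apply, ha, hb, add_zero]
      | smul c a _ ha => rw [LinearMap.smul_apply, ha, smul_zero]
  rw [hker]
  exact Groth.Agent.Lib.Helper43.GlDimKer.projective_ker hgl h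

end Free

section Proj

variable {R : Type u} [CommRing R] [IsNoetherianRing R]
  {P : Type u} [AddCommGroup P] [Module R P]

/-- Over a Noetherian ring of global dimension `≤ 2`, the hull of a finitely generated submodule
of a projective module is finitely generated and projective. -/
theorem hull_fg_projective (hgl : ∀ M : ModuleCat.{u} R, HasProjectiveDimensionLT M 3)
    [Module.Projective R P] (G : Submodule R P) (hG : G.FG) :
    (hull G).FG ∧ Module.Projective R (hull G) := by
  classical
  obtain ⟨t, rfl⟩ := hG
  obtain ⟨s, hs⟩ := Module.projective_def'.1 (inferInstance : Module.Projective R P)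
  -- the finite set of coordinates used by the generators
  let I₀ : Finset P := t.biUnion (fun g => (s g).support)
  let π : P →ₗ[R] (I₀ → R) := LinearMap.pi (fun i => Finsupp.lapply (i : P) ∘ₗ s)
  let ι : (I₀ → R) →ₗ[R] P := Fintype.linearCombination R (fun i : I₀ => (i : P))
  have hιπ : ∀ g ∈ Submodule.span R (t : Set P), ι (π g) = g := by
    intro g hg
    have : Set.EqOn (ι ∘ₗ π) (LinearMap.id : P →ₗ[R] P) (Submodule.span R (t : Set P)) := by
      apply LinearMap.eqOn_span
      intro g hg
      rw [LinearMap.comp_apply, LinearMap.id_apply]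
      have h1 : Finsupp.linearCombination R id (s g) = g := LinearMap.congr_fun hs g
      rw [Finsupp.linearCombination_apply, Finsupp.sum] at h1
      have hsub : (s g).support ⊆ I₀ := Finset.subset_biUnion_of_mem (fun g => (s g).support) hg
      have h2 : ∑ i ∈ (s g).support, (s g) i • (id i : P) = ∑ i ∈ I₀, (s g) i • (i : P) := by
        apply Finset.sum_subset hsub
        intro i _ hi
        rw [Finsupp.notMem_support_iff.mp hi, zero_smul]
      rw [h2] at h1
      conv_rhs => rw [← h1]
      rw [Fintype.linearCombination_apply]
      exact Finset.sum_coe_sort I₀ (fun i => (s g) i • (i : P))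
    exact this hg
  set G := Submodule.span R (t : Set P) with hGdef
  let N : Submodule R (I₀ → R) := G.map π
  have hπG : ∀ g ∈ G, π g ∈ N := fun g hg => Submodule.mem_map_of_mem hg
  have hιN : ∀ y ∈ N, ι y ∈ G := by
    rintro _ ⟨g, hg, rfl⟩
    rw [hιπ g hg]
    exact hg
  have hπιN : ∀ y ∈ N, π (ι y) = y := by
    rintro _ ⟨g, hg, rfl⟩
    rw [hιπ g hg]
  -- the two maps between the hulls
  let π' : hull G →ₗ[R] hull N :=
    (π.domRestrict (hull G)).codRestrict (hull N) (fun x => map_mem_hull π hπG x.2)
  let ι' : hull N →ₗ[R] hull G :=
    (ι.domRestrict (hull N)).codRestrict (hull G) (fun y => map_mem_hull ι hιN y.2)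
  have h1 : ∀ x : hull G, ι' (π' x) = x := by
    intro x
    apply Subtype.ext
    change ι (π (x : P)) = x
    exact eq_on_hull (ι ∘ₗ π) LinearMap.id (G := G) (fun g hg => hιπ g hg) x.2
  have h2 : ∀ y : hull N, π' (ι' y) = y := by
    intro y
    apply Subtype.ext
    change π (ι (y : I₀ → R)) = y
    exact eq_on_hull (π ∘ₗ ι) LinearMap.id (G := N) (fun g hg => hπιN g hg) y.2
  let e : hull G ≃ₗ[R] hull N := LinearEquiv.ofLinearMap π' ι' (LinearMap.ext h2) (LinearMap.ext h1)
  obtain ⟨hfg, hproj⟩ := hull_fg_projective_free hgl I₀ N
  constructor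
  · rw [← Module.Finite.iff_fg] at hfg ⊢
    exact Module.Finite.equiv e.symm
  · exact Module.Projective.of_equiv e.symm

end Proj

end Groth.Agent.Lib.Helper43.ComodHull
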