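import Mathlib
import Groth.Agent.Lib.Helper70.FinFlatSch

set_option autoImplicit false
universe u

open CategoryTheory CategoryTheory.Limits AlgebraicGeometry

namespace Groth.Agent.Lib.Helper43.ContrISO

/-- Step 1: eliminate `X`: if `t` is dominant, `p` finite and `(t ≫ p) ∣_ V` an isomorphism, then
`p ∣_ V` is an isomorphism (`Z` reduced). -/
lemma isIso_restrict_of_factor {X Z Y : Scheme.{u}} [IsReduced Z] (t : X ⟶ Z) [IsDominant t]
    (p : Z ⟶ Y) [IsFinite p] (V : Y.Opens) (hiso : IsIso ((t ≫ p) ∣_ V)) : IsIso (p ∣_ V) := by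
  have hcomp : (t ≫ p) ∣_ V = t ∣_ (p ⁻¹ᵁ V) ≫ p ∣_ V := morphismRestrict_comp t p V
  have hfin : IsFinite (p ∣_ V) := IsZariskiLocalAtTarget.restrict ‹_› V
  have hisoc : IsIso (t ∣_ (p ⁻¹ᵁ V) ≫ p ∣_ V) := by rw [← hcomp]; exact hiso
  have hci : IsClosedImmersion (t ∣_ (p ⁻¹ᵁ V)) :=
    IsClosedImmersion.of_comp (t ∣_ (p ⁻¹ᵁ V)) (p ∣_ V)
  have hdom : IsDominant (t ∣_ (p ⁻¹ᵁ V)) := IsZariskiLocalAtTarget.restrict ‹_› _
  have hsurj : Surjective (t ∣_ (p ⁻¹ᵁ V)) := by
    refine ⟨fun z => ?_⟩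
    have h1 : IsClosed (Set.range (t ∣_ (p ⁻¹ᵁ V))) :=
      (t ∣_ (p ⁻¹ᵁ V)).isClosedEmbedding.isClosed_range
    have h2 : Set.range (t ∣_ (p ⁻¹ᵁ V)) = Set.univ := by
      rw [← h1.closure_eq]; exact (t ∣_ (p ⁻¹ᵁ V)).denseRange.closure_eq
    exact Set.range_eq_univ.mp h2 z
  have : IsIso (t ∣_ (p ⁻¹ᵁ V)) := isIso_of_isClosedImmersion_of_surjective _
  exact IsIso.of_isIso_comp_left (t ∣_ (p ⁻¹ᵁ V)) (p ∣_ V)

/-- Step 2 (sections): a finite morphism of integral schemes with normal target which is an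
isomorphism over a nonempty open is bijective on sections over nonempty affine opens. -/
lemma app_bijective {Z Y : Scheme.{u}} [IsIntegral Z] [IsIntegral Y]
    (hnor : ∀ y : Y, IsIntegrallyClosed (Y.presheaf.stalk y)) (p : Z ⟶ Y) [IsFinite p]
    (V : Y.Opens) (hV : (V : Set Y).Nonempty) (hiso : IsIso (p ∣_ V))
    (U : Y.Opens) (hU : IsAffineOpen U) (hUne : (U : Set Y).Nonempty) :
    Function.Bijective (p.app U) := by
  -- the open `W = U ⊓ V`
  obtain ⟨y₀, hy₀U, hy₀V⟩ : ∃ y : Y, y ∈ U ∧ y ∈ V := by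
    obtain ⟨y, hy⟩ := (PreirreducibleSpace.isPreirreducible_univ (X := Y)) U V U.isOpen V.isOpen
      (by simpa using hUne) (by simpa using hV)
    exact ⟨y, hy.2.1, hy.2.2⟩
  have : Nonempty U := ⟨⟨y₀, hy₀U⟩⟩
  have : Nonempty (U ⊓ V : Y.Opens) := ⟨⟨y₀, hy₀U, hy₀V⟩⟩
  have hWU : U ⊓ V ≤ U := inf_le_left
  have hWV : U ⊓ V ≤ V := inf_le_right
  -- `p.app W` is bijective
  have key : ∀ V' : V.toScheme.Opens, IsIso (p.app (V.ι ''ᵁ V')) := by
    intro V'
    have h := morphismRestrict_app p V V'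
    have h1 : IsIso ((p ∣_ V).app V') := inferInstance
    rw [h] at h1
    have h2 : IsIso (Z.presheaf.map (eqToHom (image_morphismRestrict_preimage p V V')).op) :=
      inferInstance
    exact @IsIso.of_isIso_comp_right _ _ _ _ _ (p.app (V.ι ''ᵁ V')) _ h2 h1
  have hWiso : IsIso (p.app (U ⊓ V)) := by
    have e : V.ι ''ᵁ (V.ι ⁻¹ᵁ (U ⊓ V)) = U ⊓ V := by
      rw [Scheme.Hom.image_preimage_eq_opensRange_inf, Scheme.Opens.opensRange_ι]
      exact inf_eq_right.mpr hWV
    have := key (V.ι ⁻¹ᵁ (U ⊓ V))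
    rwa [e] at this
  have hW : Function.Bijective (p.app (U ⊓ V)) := ConcreteCategory.bijective_of_isIso _
  -- `p ⁻¹ᵁ W` is nonempty
  have : Nonempty (p ⁻¹ᵁ (U ⊓ V) : Z.Opens) := by
    have hs : Function.Surjective (p ∣_ V) :=
      (TopCat.homeoOfIso (asIso (p ∣_ V).base)).surjective
    obtain ⟨z, hz⟩ := hs ⟨y₀, hy₀V⟩
    have h2 := congrArg Subtype.val hz
    rw [morphismRestrict_base_coe] at h2
    refine ⟨⟨z.1, ?_⟩⟩
    show p z.1 ∈ U ⊓ V
    rw [h2]; exact ⟨hy₀U, hy₀V⟩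
  -- restriction maps
  set ρY : Γ(Y, U) ⟶ Γ(Y, U ⊓ V) := Y.presheaf.map (homOfLE hWU).op with hρY
  set ρZ : Γ(Z, p ⁻¹ᵁ U) ⟶ Γ(Z, p ⁻¹ᵁ (U ⊓ V)) :=
    Z.presheaf.map (homOfLE (p.preimage_mono hWU)).op with hρZ
  have hnat : ρY ≫ p.app (U ⊓ V) = p.app U ≫ ρZ := p.naturality (homOfLE hWU).op
  have hnat' : ∀ a, p.app (U ⊓ V) (ρY a) = ρZ (p.app U a) := fun a => by
    rw [← ConcreteCategory.comp_apply, hnat, ConcreteCategory.comp_apply]
  have hρYinj : Function.Injective ρY := map_injective_of_isIntegral Y (homOfLE hWU)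
  have hρZinj : Function.Injective ρZ :=
    map_injective_of_isIntegral Z (homOfLE (p.preimage_mono hWU))
  refine ⟨?_, ?_⟩
  · -- injectivity
    rw [injective_iff_map_eq_zero]
    intro a ha
    apply hρYinj
    apply hW.1
    rw [hnat', ha, map_zero, map_zero, map_zero]
  · -- surjectivity
    intro b
    obtain ⟨a', ha'⟩ := hW.2 (ρZ b)
    obtain ⟨P, hPm, hP⟩ := (p.finite_app U hU).to_isIntegral b
    have hcomp : (p.app (U ⊓ V)).hom.comp ρY.hom = ρZ.hom.comp (p.app U).hom := by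
      rw [← CommRingCat.hom_comp, ← CommRingCat.hom_comp, hnat]
    have h0 : Polynomial.eval₂ ρY.hom a' P = 0 := by
      apply hW.1
      rw [map_zero]
      have : (p.app (U ⊓ V)).hom (Polynomial.eval₂ ρY.hom a' P) = 0 := by
        rw [Polynomial.hom_eval₂, hcomp]
        have ha'' : (p.app (U ⊓ V)).hom a' = ρZ.hom b := ha'
        rw [ha'', ← Polynomial.hom_eval₂, hP, map_zero]
      exact this
    -- pass to the function field
    have hfr : IsFractionRing Γ(Y, U) Y.functionField :=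
      functionField_isFractionRing_of_isAffineOpen Y U hU
    have hic : IsIntegrallyClosed Γ(Y, U) :=
      Groth.Agent.Lib.Helper70.FinFlatSch.isIntegrallyClosed_of_isAffineOpen hnor hU
    have hgerm : (Y.germToFunctionField (U ⊓ V)).hom.comp ρY.hom =
        algebraMap Γ(Y, U) Y.functionField := by
      rw [← CommRingCat.hom_comp]
      show (Y.presheaf.map (homOfLE hWU).op ≫ Y.presheaf.germ (U ⊓ V) _ _).hom = _
      rw [Y.presheaf.germ_res]
      rfl
    have hint : IsIntegral Γ(Y, U) ((Y.germToFunctionField (U ⊓ V)).hom a') := by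
      refine ⟨P, hPm, ?_⟩
      rw [← hgerm, ← Polynomial.hom_eval₂, h0, map_zero]
    obtain ⟨a, ha⟩ := IsIntegrallyClosed.isIntegral_iff.mp hint
    refine ⟨a, ?_⟩
    apply hρZinj
    rw [← hnat']
    have haa' : ρY a = a' := by
      apply Y.germToFunctionField_injective (U ⊓ V)
      have : (Y.germToFunctionField (U ⊓ V)).hom (ρY.hom a) = algebraMap Γ(Y, U) Y.functionField a := by
        rw [← hgerm]; rfl
      exact this.trans ha
    rw [haa']
    exact ha'

set_option maxHeartbeats 400000 in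
lemma isIso_of_forall_affine {Z Y : Scheme.{u}} (p : Z ⟶ Y)
    (h : ∀ U : Y.affineOpens, IsIso (p ∣_ U.1)) : IsIso p :=
  (IsZariskiLocalAtTarget.iff_of_iSup_eq_top (P := MorphismProperty.isomorphisms Scheme)
    (fun U : Y.affineOpens => U.1) (iSup_affineOpens_eq_top Y)).mpr h

set_option maxHeartbeats 400000 in
lemma isIso_app_of_bijective {Z Y : Scheme.{u}} (p : Z ⟶ Y) (U : Y.Opens)
    (h : Function.Bijective (p.app U)) : IsIso (p.app U) :=
  (ConcreteCategory.isIso_iff_bijective (p.app U)).mpr h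

set_option maxHeartbeats 400000 in
lemma app_bijective_of_empty {Z Y : Scheme.{u}} (p : Z ⟶ Y) (U : Y.Opens)
    (hne : ¬ (U : Set Y).Nonempty) : Function.Bijective (p.app U) := by
  have hbot : U = ⊥ := by
    apply SetLike.coe_injective
    rw [Set.not_nonempty_iff_eq_empty.mp hne]
    rfl
  subst hbot
  have h1 : Subsingleton Γ(Y, (⊥ : Y.Opens)) := inferInstance
  have h2 : Subsingleton Γ(Z, p ⁻¹ᵁ (⊥ : Y.Opens)) :=
    inferInstanceAs (Subsingleton Γ(Z, (⊥ : Z.Opens)))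
  exact ⟨Function.injective_of_subsingleton _, fun b => ⟨0, Subsingleton.elim _ _⟩⟩

set_option maxHeartbeats 400000 in
/-- A finite morphism `p : Z ⟶ Y` of integral schemes with `Y` normal, through which a morphism
`X ⟶ Y` that is an isomorphism over a nonempty open factors dominantly, is an isomorphism. -/
theorem isIso_of_isFinite_of_factor {X Z Y : Scheme.{u}} [IsIntegral X] [IsIntegral Z]
    [IsIntegral Y] (hnor : ∀ y : Y, IsIntegrallyClosed (Y.presheaf.stalk y)) (t : X ⟶ Z)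
    [IsDominant t] (p : Z ⟶ Y) [IsFinite p] (V : Y.Opens) (hV : (V : Set Y).Nonempty)
    (hiso : IsIso ((t ≫ p) ∣_ V)) : IsIso p := by
  have hpV : IsIso (p ∣_ V) := isIso_restrict_of_factor t p V hiso
  refine isIso_of_forall_affine p (fun U => ?_)
  refine (isIso_morphismRestrict_iff_isIso_app p U.2).mpr (isIso_app_of_bijective p U.1 ?_)
  by_cases hne : ((U.1 : Y.Opens) : Set Y).Nonempty
  · exact app_bijective hnor p V hV hpV U.1 U.2 hne
  · exact app_bijective_of_empty p U.1 hne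

end Groth.Agent.Lib.Helper43.ContrISO
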