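import Mathlib.Tactic
import Mathlib.CategoryTheory.Triangulated.Yoneda
import Mathlib.CategoryTheory.Triangulated.HomologicalFunctor

/-!
# Element-level long exact sequence of `Hom(K, -⟦n⟧)` for a distinguished triangle (helper43)
-/

open CategoryTheory Limits Opposite Pretriangulated

namespace Groth.Agent.Lib.Helper43.CoyonedaLES

variable {C : Type*} [Category C] [Preadditive C] [HasShift C ℤ] [HasZeroObject C]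
  [∀ (n : ℤ), (shiftFunctor C n).Additive] [Pretriangulated C]

/-- Exactness of `Hom(K, X₁⟦n⟧) → Hom(K, X₂⟦n⟧) → Hom(K, X₃⟦n⟧)`. -/
lemma exact₂ (K : C) (T : Triangle C) (hT : T ∈ distTriang C) (n : ℤ)
    (x : K ⟶ T.obj₂⟦n⟧) (hx : x ≫ T.mor₂⟦n⟧' = 0) :
    ∃ y : K ⟶ T.obj₁⟦n⟧, y ≫ T.mor₁⟦n⟧' = x := by
  have h := (preadditiveCoyoneda.obj (op K)).homologySequence_exact₂ T hT n
  rw [ShortComplex.ab_exact_iff] at h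
  exact h x hx

/-- The connecting map `Hom(K, X₃⟦n₀⟧) → Hom(K, X₁⟦n₁⟧)`. -/
noncomputable def δ (K : C) (T : Triangle C) (n₀ n₁ : ℤ) (h : n₀ + 1 = n₁)
    (x : K ⟶ T.obj₃⟦n₀⟧) : K ⟶ T.obj₁⟦n₁⟧ :=
  x ≫ T.mor₃⟦n₀⟧' ≫ (shiftFunctorAdd' C 1 n₀ n₁ (by lia)).inv.app _

/-- Exactness of `Hom(K, X₂⟦n₀⟧) → Hom(K, X₃⟦n₀⟧) → Hom(K, X₁⟦n₁⟧)`. -/
lemma exact₃ (K : C) (T : Triangle C) (hT : T ∈ distTriang C) (n₀ n₁ : ℤ) (h : n₀ + 1 = n₁)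
    (x : K ⟶ T.obj₃⟦n₀⟧) (hx : δ K T n₀ n₁ h x = 0) :
    ∃ y : K ⟶ T.obj₂⟦n₀⟧, y ≫ T.mor₂⟦n₀⟧' = x := by
  have h' := (preadditiveCoyoneda.obj (op K)).homologySequence_exact₃ T hT n₀ n₁ h
  rw [ShortComplex.ab_exact_iff] at h'
  refine h' x ?_
  have := preadditiveCoyoneda_homologySequenceδ_apply T n₀ n₁ h (A := op K) x
  exact this.trans hx

omit [HasZeroObject C] [∀ (n : ℤ), (shiftFunctor C n).Additive] [Pretriangulated C] in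
/-- Naturality of the connecting map. -/
lemma δ_naturality (K : C) (T T' : Triangle C) (φ : T ⟶ T') (n₀ n₁ : ℤ) (h : n₀ + 1 = n₁)
    (x : K ⟶ T.obj₃⟦n₀⟧) :
    δ K T' n₀ n₁ h (x ≫ φ.hom₃⟦n₀⟧') = δ K T n₀ n₁ h x ≫ φ.hom₁⟦n₁⟧' := by
  unfold δ
  have h1 : φ.hom₃⟦n₀⟧' ≫ T'.mor₃⟦n₀⟧' = T.mor₃⟦n₀⟧' ≫ (φ.hom₁⟦(1 : ℤ)⟧')⟦n₀⟧' := by
    rw [← Functor.map_comp, ← Functor.map_comp, φ.comm₃]
  have h2 := (shiftFunctorAdd' C 1 n₀ n₁ (by lia)).inv.naturality φ.hom₁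
  simp only [Functor.comp_map] at h2
  rw [Category.assoc, reassoc_of% h1, Category.assoc, Category.assoc]
  congr 2

end Groth.Agent.Lib.Helper43.CoyonedaLES
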