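import Groth.Agent.Lib.Helper43.DblCovRing
import Mathlib.Algebra.Category.Ring.Constructions
import Mathlib.RingTheory.Flat.Rank
import Mathlib.RingTheory.Localization.Free
import Mathlib.RingTheory.Localization.BaseChange

/-!
# The involution of a free rank two algebra, in `CommRingCat`
-/

set_option autoImplicit false
universe u

open Module CategoryTheory CategoryTheory.Limits

namespace Groth.Agent.Lib.Helper43.DblCov

variable {A B : CommRingCat.{u}}

/-- `B` is free of rank two over `A` along `φ`. -/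
def Free2 (φ : A ⟶ B) : Prop :=
  letI := φ.hom.toAlgebra
  Nonempty (Basis (Fin 2) A B)

/-- The involution `x ↦ Tr(x) - x`. -/
noncomputable def sigCat (φ : A ⟶ B) (h : Free2 φ) : B ⟶ B :=
  letI := φ.hom.toAlgebra
  CommRingCat.ofHom (sigHom h)

theorem comp_sigCat (φ : A ⟶ B) (h : Free2 φ) : φ ≫ sigCat φ h = φ := by
  letI := φ.hom.toAlgebra
  ext a
  exact sig_algebraMap h.some a

theorem sigCat_sigCat (φ : A ⟶ B) (h : Free2 φ) : sigCat φ h ≫ sigCat φ h = 𝟙 B := by
  letI := φ.hom.toAlgebra
  ext x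
  exact sig_sig h.some x

theorem sigCat_fixed (φ : A ⟶ B) (h : Free2 φ) (h2 : IsUnit (2 : A)) (x : B)
    (hx : (sigCat φ h).hom x = x) : x ∈ Set.range φ.hom := by
  letI := φ.hom.toAlgebra
  exact (sig_eq_self_iff h.some h2 x).mp hx

theorem injective_of_free2 (φ : A ⟶ B) (h : Free2 φ) : Function.Injective φ.hom := by
  letI := φ.hom.toAlgebra
  exact algebraMap_injective_of_basis h.some

theorem sigCat_natural {A' B' : CommRingCat.{u}} {φ : A ⟶ B} {r : A ⟶ A'} {t : B ⟶ B'}
    {φ' : A' ⟶ B'} (sq : IsPushout φ r t φ') (h : Free2 φ) (h' : Free2 φ') :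
    sigCat φ h ≫ t = t ≫ sigCat φ' h' := by
  algebraize [φ.hom, r.hom, t.hom, φ'.hom, t.hom.comp φ.hom]
  have : IsScalarTower A A' B' := .of_algebraMap_eq' <| congr($(sq.1.1).hom)
  have : Algebra.IsPushout A B A' B' := CommRingCat.isPushout_iff_isPushout.mp sq
  have : Algebra.IsPushout A A' B B' := Algebra.IsPushout.symm inferInstance
  ext x
  exact (sig_of_isPushout (A' := A') (B' := B') h.some x).symm

end Groth.Agent.Lib.Helper43.DblCov
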