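import Groth.Agent.Lib.Helper43.DblCovLocal
import Mathlib.AlgebraicGeometry.Morphisms.FlatRank
import Mathlib.AlgebraicGeometry.Morphisms.Flat

set_option autoImplicit false
set_option linter.style.haveILetI false
set_option linter.unusedSectionVars false
universe u

open Module CategoryTheory CategoryTheory.Limits AlgebraicGeometry Opposite TopologicalSpace

namespace Groth.Agent.Lib.Helper43.DblCov

variable {X Y : Scheme.{u}} (f : X ⟶ Y)

theorem preimage_mono {U V : Y.Opens} (hUV : U ≤ V) : f ⁻¹ᵁ U ≤ f ⁻¹ᵁ V :=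
  ((Opens.map f.base).map (homOfLE hUV)).le

theorem isPushout_app {U V : Y.Opens} (hUV : U ≤ V) (hU : IsAffineOpen U) (hV : IsAffineOpen V)
    (hpV : IsAffineOpen (f ⁻¹ᵁ V)) :
    IsPushout (f.app V) (Y.presheaf.map (homOfLE hUV).op)
      (X.presheaf.map (homOfLE (preimage_mono f hUV)).op) (f.app U) := by
  have H : IsPullback (𝟙 X) f f (𝟙 Y) := IsPullback.of_horiz_isIso ⟨by simp⟩
  have hUST : U ≤ (𝟙 Y) ⁻¹ᵁ V := hUV
  have hUSX : f ⁻¹ᵁ V ≤ f ⁻¹ᵁ V := le_rfl
  have hUY : f ⁻¹ᵁ U = (𝟙 X) ⁻¹ᵁ (f ⁻¹ᵁ V) ⊓ f ⁻¹ᵁ U := by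
    simp only [Scheme.Hom.id_preimage]
    exact (inf_eq_right.mpr (preimage_mono f hUV)).symm
  have h1 := (isIso_pushoutSection_iff H hUST hUSX hUY).mp
    (isIso_pushoutSection_of_isAffineOpen H hUST hUSX hUY hV hU hpV)
  convert h1 using 1
  · simp [Scheme.Hom.appLE]
  · simp only [Scheme.Hom.appLE, Scheme.Hom.id_app]; rfl
  · simp only [Scheme.Hom.appLE, Scheme.Hom.id_app]; rfl
  · simp [Scheme.Hom.appLE]

variable [IsFinite f] [Flat f] [LocallyOfFinitePresentation f]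

theorem finite_app {V : Y.Opens} (hV : IsAffineOpen V) : (f.app V).hom.Finite :=
  Scheme.Hom.finite_app f V hV

theorem flat_app {V : Y.Opens} (hV : IsAffineOpen V) : (f.app V).hom.Flat := by
  have := Scheme.Hom.flat_appLE f hV (hV.preimage f) le_rfl
  rwa [Scheme.Hom.appLE_eq_app] at this

theorem fp_app {V : Y.Opens} (hV : IsAffineOpen V) : (f.app V).hom.FinitePresentation := by
  have := Scheme.Hom.finitePresentation_appLE f hV (hV.preimage f) le_rfl
  rwa [Scheme.Hom.appLE_eq_app] at this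

theorem finrank_app (hrk : ∀ y : Y, f.finrank y = 2) {V : Y.Opens} (hV : IsAffineOpen V)
    (p : PrimeSpectrum Γ(Y, V)) : (f.app V).hom.finrank p = 2 := by
  have hsq : IsPullback (hV.preimage f).fromSpec (Spec.map (f.app V)) f hV.fromSpec := by
    refine (IsOpenImmersion.isPullback (Spec.map (f.app V)) (hV.preimage f).fromSpec hV.fromSpec f
      ?_ ?_).flip
    · rw [← IsAffineOpen.SpecMap_appLE_fromSpec f hV (hV.preimage f) le_rfl,
        Scheme.Hom.appLE_eq_app]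
    · rw [IsAffineOpen.opensRange_fromSpec, IsAffineOpen.opensRange_fromSpec]
  have h1 := Scheme.Hom.finrank_of_isPullback _ _ _ _ hsq p
  rw [hrk, Scheme.Hom.finrank_SpecMap_eq_finrank (finite_app f hV) (flat_app f hV)] at h1
  exact h1

theorem exists_free2_basicOpen (hrk : ∀ y : Y, f.finrank y = 2) {V : Y.Opens} (hV : IsAffineOpen V)
    (y : Y) (hy : y ∈ V) : ∃ r : Γ(Y, V), y ∈ Y.basicOpen r ∧ Free2 (f.app (Y.basicOpen r)) := by
  obtain ⟨r, hr, H⟩ := exists_free2 (f.app V) (finite_app f hV) (flat_app f hV) (fp_app f hV)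
    (finrank_app f hrk hV) (hV.primeIdealOf ⟨y, hy⟩)
  refine ⟨r, ?_, H _ _ _ (isPushout_app f (Y.basicOpen_le r) (hV.basicOpen r) hV (hV.preimage f))
    (hV.isLocalization_basicOpen r)⟩
  have h1 : hV.primeIdealOf ⟨y, hy⟩ ∈ hV.fromSpec ⁻¹ᵁ Y.basicOpen r := by
    rw [hV.fromSpec_preimage_basicOpen]
    exact hr
  have h2 := hV.fromSpec_primeIdealOf ⟨y, hy⟩
  simp only at h2
  rw [← h2]
  exact h1

end Groth.Agent.Lib.Helper43.DblCov
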