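import Groth.Agent.Lib.Helper43.DblCovGeom
import Mathlib.AlgebraicGeometry.Cover.Directed

set_option autoImplicit false
set_option linter.style.haveILetI false
set_option linter.unusedSectionVars false
universe u

open Module CategoryTheory CategoryTheory.Limits AlgebraicGeometry Opposite TopologicalSpace

namespace Groth.Agent.Lib.Helper43.DblCov

variable {X Y : Scheme.{u}} (f : X ⟶ Y)

/-- Affine opens of `Y` over which `f` is free of rank two. -/
def Idx : Type u := {V : Y.Opens // IsAffineOpen V ∧ Free2 (f.app V)}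

instance : Preorder (Idx f) := Preorder.lift (fun V => V.1)

/-- The basis property of `Idx f`. -/
def BasisProp : Prop := ∀ (y : Y) (W : Y.Opens), y ∈ W → ∃ V : Idx f, y ∈ V.1 ∧ V.1 ≤ W

theorem basisProp [IsFinite f] [Flat f] [LocallyOfFinitePresentation f]
    (hrk : ∀ y : Y, f.finrank y = 2) : BasisProp f := by
  intro y W hy
  obtain ⟨V₀, hV₀, hyV₀, hV₀W⟩ := Opens.isBasis_iff_nbhd.mp Y.isBasis_affineOpens hy
  obtain ⟨r, hyr, hfree⟩ := exists_free2_basicOpen f hrk hV₀ y hyV₀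
  exact ⟨⟨Y.basicOpen r, IsAffineOpen.basicOpen hV₀ r, hfree⟩, hyr, (Y.basicOpen_le r).trans hV₀W⟩

variable [IsAffineHom f]

/-- The chart `Spec Γ(X, f⁻¹V) ⟶ X`. -/
noncomputable def pc (V : Idx f) : Spec Γ(X, f ⁻¹ᵁ V.1) ⟶ X := (V.2.1.preimage f).fromSpec

instance (V : Idx f) : IsOpenImmersion (pc f V) := by unfold pc; infer_instance

theorem range_pc (V : Idx f) : Set.range (pc f V) = ((f ⁻¹ᵁ V.1 : X.Opens) : Set X) :=
  IsAffineOpen.range_fromSpec _

theorem opensRange_pc (V : Idx f) : (pc f V).opensRange = f ⁻¹ᵁ V.1 :=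
  IsAffineOpen.opensRange_fromSpec _

/-- Transition maps between charts. -/
noncomputable def tr {U V : Idx f} (h : U ≤ V) :
    Spec Γ(X, f ⁻¹ᵁ U.1) ⟶ Spec Γ(X, f ⁻¹ᵁ V.1) :=
  Spec.map (X.presheaf.map (homOfLE (preimage_mono f h)).op)

@[reassoc]
theorem tr_pc {U V : Idx f} (h : U ≤ V) : tr f h ≫ pc f V = pc f U :=
  IsAffineOpen.map_fromSpec _ _ _

theorem tr_id (U : Idx f) : tr f (le_refl U) = 𝟙 _ := by
  rw [← cancel_mono (pc f U), tr_pc, Category.id_comp]

theorem tr_comp {U V W : Idx f} (h1 : U ≤ V) (h2 : V ≤ W) :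
    tr f (h1.trans h2) = tr f h1 ≫ tr f h2 := by
  rw [← cancel_mono (pc f W), tr_pc, Category.assoc, tr_pc, tr_pc]

instance {U V : Idx f} (h : U ≤ V) : IsOpenImmersion (tr f h) := by
  have : IsOpenImmersion (tr f h ≫ pc f V) := by rw [tr_pc]; infer_instance
  exact IsOpenImmersion.of_comp _ (pc f V)

theorem directed_aux (hB : BasisProp f) (U V : Idx f) (x : ↥(pullback (pc f U) (pc f V))) :
    ∃ (W : Idx f) (h1 : W ≤ U) (h2 : W ≤ V) (y : ↥(Spec Γ(X, f ⁻¹ᵁ W.1))),
      pullback.lift (tr f h1) (tr f h2) (by rw [tr_pc, tr_pc]) y = x := by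
  set z : X := (pullback.fst (pc f U) (pc f V) ≫ pc f U) x with hz
  have hzi : z ∈ f ⁻¹ᵁ U.1 := by
    have : z ∈ Set.range (pc f U) := ⟨_, rfl⟩
    rwa [range_pc] at this
  have hzj : z ∈ f ⁻¹ᵁ V.1 := by
    have : z ∈ Set.range (pc f V) := by
      rw [hz, pullback.condition]
      exact ⟨_, rfl⟩
    rwa [range_pc] at this
  obtain ⟨W, hzW, hW⟩ := hB (f z) (U.1 ⊓ V.1) ⟨hzi, hzj⟩
  have hzW' : z ∈ Set.range (pc f W) := by
    rw [range_pc]
    exact hzW
  obtain ⟨y, hy⟩ := hzW'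
  refine ⟨W, hW.trans inf_le_left, hW.trans inf_le_right, y, ?_⟩
  apply (pullback.fst (pc f U) (pc f V) ≫ pc f U).isOpenEmbedding.injective
  rw [← Scheme.Hom.comp_apply, pullback.lift_fst_assoc, tr_pc]
  exact hy

variable (hB : BasisProp f)

/-- The open cover of `X` by the affine schemes `Spec Γ(X, f⁻¹V)`. -/
noncomputable def cov : X.OpenCover where
  I₀ := Idx f
  X V := Spec Γ(X, f ⁻¹ᵁ V.1)
  f V := pc f V
  mem₀ := by
    rw [Scheme.presieve₀_mem_precoverage_iff]
    refine ⟨fun x => ?_, inferInstance⟩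
    obtain ⟨V, hV, -⟩ := hB (f x) ⊤ trivial
    refine ⟨V, ?_⟩
    rw [range_pc]
    exact hV

instance : Preorder (cov f hB).I₀ := inferInstanceAs (Preorder (Idx f))

noncomputable instance locDir : (cov f hB).LocallyDirected where
  trans {i j} hij := tr f (U := i) (V := j) (leOfHom hij)
  trans_id i := tr_id f i
  trans_comp {i j k} hij hjk := tr_comp f (U := i) (V := j) (W := k) (leOfHom hij) (leOfHom hjk)
  w {i j} hij := tr_pc f (U := i) (V := j) (leOfHom hij)
  directed {i j} x := by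
    obtain ⟨W, h1, h2, y, hy⟩ := directed_aux f hB i j x
    exact ⟨W, homOfLE h1, homOfLE h2, y, hy⟩
  property_trans {i j} hij := inferInstanceAs (IsOpenImmersion (tr f (U := i) (V := j) (leOfHom hij)))

theorem cov_trans {U V : Idx f} (h : U ≤ V) :
    (cov f hB).trans (i := U) (j := V) (homOfLE h) = tr f h := rfl

/-- The local involution on a chart. -/
noncomputable def sigV (V : Idx f) : Spec Γ(X, f ⁻¹ᵁ V.1) ⟶ Spec Γ(X, f ⁻¹ᵁ V.1) :=
  Spec.map (sigCat (f.app V.1) V.2.2)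

theorem sigV_sigV (V : Idx f) : sigV f V ≫ sigV f V = 𝟙 _ := by
  rw [sigV, ← Spec.map_comp, sigCat_sigCat, Spec.map_id]

theorem tr_sigV {U V : Idx f} (h : U ≤ V) : tr f h ≫ sigV f V = sigV f U ≫ tr f h := by
  unfold tr sigV
  rw [← Spec.map_comp, ← Spec.map_comp,
    sigCat_natural (isPushout_app f h U.2.1 V.2.1 (V.2.1.preimage f)) V.2.2 U.2.2]

theorem pc_f (V : Idx f) : pc f V ≫ f = Spec.map (f.app V.1) ≫ V.2.1.fromSpec := by
  unfold pc
  rw [← IsAffineOpen.SpecMap_appLE_fromSpec f V.2.1 (V.2.1.preimage f) le_rfl,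
    Scheme.Hom.appLE_eq_app]

theorem sigV_pc_f (V : Idx f) : sigV f V ≫ pc f V ≫ f = pc f V ≫ f := by
  rw [pc_f, sigV, ← Spec.map_comp_assoc, comp_sigCat]

theorem compat {i j : (cov f hB).I₀} (hij : i ⟶ j) :
    (cov f hB).trans hij ≫ (fun V : Idx f => sigV f V ≫ pc f V) j =
      (fun V : Idx f => sigV f V ≫ pc f V) i := by
  change tr f (U := i) (V := j) (leOfHom hij) ≫ sigV f j ≫ pc f j = sigV f i ≫ pc f i
  rw [← Category.assoc, tr_sigV, Category.assoc, tr_pc]

/-- The global involution. -/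
noncomputable def sigX : X ⟶ X :=
  (cov f hB).glueMorphismsOfLocallyDirected (fun V : Idx f => sigV f V ≫ pc f V)
    (fun {_ _} hij => compat f hB hij)

theorem pc_sigX (V : Idx f) : pc f V ≫ sigX f hB = sigV f V ≫ pc f V :=
  (cov f hB).map_glueMorphismsOfLocallyDirected (fun V : Idx f => sigV f V ≫ pc f V)
    (fun {_ _} hij => compat f hB hij) V

theorem sigX_sigX : sigX f hB ≫ sigX f hB = 𝟙 X := by
  refine (cov f hB).hom_ext _ _ fun V => ?_
  change pc f V ≫ sigX f hB ≫ sigX f hB = pc f V ≫ 𝟙 X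
  rw [← Category.assoc, pc_sigX, Category.assoc, pc_sigX, ← Category.assoc, sigV_sigV,
    Category.id_comp, Category.comp_id]

theorem sigX_f : sigX f hB ≫ f = f := by
  refine (cov f hB).hom_ext _ _ fun V => ?_
  change pc f V ≫ sigX f hB ≫ f = pc f V ≫ f
  rw [← Category.assoc, pc_sigX, Category.assoc, sigV_pc_f]

/-- The global involution as an automorphism. -/
noncomputable def sigAut : Aut X where
  hom := sigX f hB
  inv := sigX f hB
  hom_inv_id := sigX_sigX f hB
  inv_hom_id := sigX_sigX f hB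

theorem sigAut_mul : sigAut f hB * sigAut f hB = 1 := by
  apply Iso.ext
  exact sigX_sigX f hB

end Groth.Agent.Lib.Helper43.DblCov
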