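import Groth.Agent.Lib.Helper43.DblCovCat
import Mathlib.RingTheory.Spectrum.Prime.FreeLocus
import Mathlib.RingTheory.Finiteness.ModuleFinitePresentation

set_option autoImplicit false
set_option linter.style.haveILetI false
universe u

open Module CategoryTheory CategoryTheory.Limits

namespace Groth.Agent.Lib.Helper43.DblCov

attribute [local instance] RingHomInvPair.of_ringEquiv in
theorem free_of_isLocalizedModule {R M : Type*} [CommRing R] [AddCommGroup M] [Module R M]
    (S : Submonoid R) (Rₛ Mₛ : Type*) [CommRing Rₛ] [Algebra R Rₛ] [IsLocalization S Rₛ]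
    [AddCommGroup Mₛ] [Module R Mₛ] (f : M →ₗ[R] Mₛ) [IsLocalizedModule S f]
    [Module Rₛ Mₛ] [IsScalarTower R Rₛ Mₛ]
    [Module.Free (Localization S) (LocalizedModule S M)] : Module.Free Rₛ Mₛ := by
  set e := (IsLocalization.algEquiv S (Localization S) Rₛ).toRingEquiv
  refine Module.Free.of_equiv (σ := (e : Localization S →+* Rₛ)) (σ' := (e.symm : Rₛ →+* Localization S))
    (M := LocalizedModule S M) ?_
  refine { __ := IsLocalizedModule.iso S f, map_smul' := ?_ }
  intro r x
  obtain ⟨r, s, rfl⟩ := IsLocalization.exists_mk'_eq S r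
  apply ((Module.End.isUnit_iff _).mp (IsLocalizedModule.map_units f s)).1
  simp [e, ← map_smul, ← smul_assoc]

attribute [local instance] Module.free_of_flat_of_isLocalRing in
theorem exists_free2 {A B : CommRingCat.{u}} (φ : A ⟶ B) (hfin : φ.hom.Finite) (hflat : φ.hom.Flat)
    (hfp : φ.hom.FinitePresentation) (hrk : ∀ p, φ.hom.finrank p = 2) (p : PrimeSpectrum A) :
    ∃ r : A, r ∉ p.asIdeal ∧ ∀ {A' B' : CommRingCat.{u}} (ρ : A ⟶ A') (t : B ⟶ B') (φ' : A' ⟶ B'),
      IsPushout φ ρ t φ' → (letI := ρ.hom.toAlgebra; IsLocalization.Away r A') → Free2 φ' := by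
  algebraize [φ.hom]
  have hMfp : Module.FinitePresentation A B := Module.FinitePresentation.of_finite_of_finitePresentation A B
  obtain ⟨r, hr, hfree, -⟩ := Module.FinitePresentation.exists_free_localizedModule_powers
    p.asIdeal.primeCompl (LocalizedModule.mkLinearMap p.asIdeal.primeCompl B)
    (Localization.AtPrime p.asIdeal)
  refine ⟨r, hr, ?_⟩
  intro A' B' ρ t φ' sq hloc
  algebraize [ρ.hom, t.hom, φ'.hom, t.hom.comp φ.hom]
  have : IsScalarTower A A' B' := .of_algebraMap_eq' <| congr($(sq.1.1).hom)
  have hpo : Algebra.IsPushout A B A' B' := CommRingCat.isPushout_iff_isPushout.mp sq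
  have hpo' : Algebra.IsPushout A A' B B' := Algebra.IsPushout.symm inferInstance
  have ibc : IsBaseChange A' (IsScalarTower.toAlgHom A B B').toLinearMap := hpo'.out
  haveI : IsLocalization (Submonoid.powers r) A' := hloc
  haveI : IsLocalizedModule (Submonoid.powers r) (IsScalarTower.toAlgHom A B B').toLinearMap :=
    (isLocalizedModule_iff_isBaseChange (Submonoid.powers r) A' _).mpr ibc
  haveI hF : Module.Free A' B' :=
    free_of_isLocalizedModule (Submonoid.powers r) A' B' (IsScalarTower.toAlgHom A B B').toLinearMap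
  have hnt : Nontrivial A' := by
    by_contra hcon
    rw [not_nontrivial_iff_subsingleton, IsLocalization.subsingleton_iff (M := Submonoid.powers r)] at hcon
    obtain ⟨n, hn⟩ := hcon
    exact hr (p.isPrime.mem_of_pow_mem n (by simp only at hn; rw [hn]; exact zero_mem _))
  obtain ⟨q⟩ : Nonempty (PrimeSpectrum A') := inferInstance
  have h1 : Module.rankAtStalk (R := A') B' q = 2 := by
    rw [Algebra.rankAtStalk_eq_of_isPushout A B A' B' q]
    have := hrk (PrimeSpectrum.comap (algebraMap A A') q)
    rwa [RingHom.finrank] at this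
  have h2 : Module.finrank A' B' = 2 := by
    rw [Module.rankAtStalk_eq_finrank_of_free] at h1
    exact h1
  haveI : Module.Finite A' B' := Module.finite_of_finrank_pos (by omega)
  exact ⟨Module.finBasisOfFinrankEq A' B' h2⟩

end Groth.Agent.Lib.Helper43.DblCov
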