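import Groth.Agent.Lib.Helper43.DblCovGlue
import Groth.Agent.Lib.Helper81.IsQuotChart
import Mathlib.Data.ZMod.QuotientGroup

set_option autoImplicit false
set_option linter.style.haveILetI false
set_option linter.unusedSectionVars false
universe u

open Module CategoryTheory CategoryTheory.Limits AlgebraicGeometry Opposite TopologicalSpace
open Groth.Agent.Lib.Helper81

namespace Groth.Agent.Lib.Helper43.DblCov

theorem isQuot_Spec {A B : CommRingCat.{u}} (φ : A ⟶ B) (s : B ⟶ B) {G : Type u} [Group G] [Finite G]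
    (ρ : G →* Aut (Spec B)) (hinv : ∀ g, (ρ g).hom ≫ Spec.map φ = Spec.map φ)
    (g₀ : G) (hg₀ : (ρ g₀).hom = Spec.map s)
    (hinj : Function.Injective φ.hom) (hfix : ∀ x, s.hom x = x → x ∈ Set.range φ.hom) :
    SGA1.IsQuot ρ (Spec.map φ) := by
  have hnat := Scheme.ΓSpecIso_naturality φ
  have hbijA := ConcreteCategory.bijective_of_isIso (Scheme.ΓSpecIso A).hom
  have hbijB := ConcreteCategory.bijective_of_isIso (Scheme.ΓSpecIso B).hom
  have hnat' : ∀ t, (Scheme.ΓSpecIso B).hom ((Spec.map φ).appTop t) =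
      φ.hom ((Scheme.ΓSpecIso A).hom t) := fun t => congrArg (fun ψ => ψ.hom t) hnat
  refine Quot.isQuot_of_top ρ _ hinv ?_ ?_
  · intro t t' htt'
    apply hbijA.injective
    apply hinj
    rw [← hnat', ← hnat']
    exact congrArg _ htt'
  · intro x hx
    have hfix' : s.hom ((Scheme.ΓSpecIso B).hom x) = (Scheme.ΓSpecIso B).hom x := by
      have h1 := hx g₀
      unfold Quot.sec at h1
      have h2 : (ρ g₀).hom.appLE _ _ (SGA1.preimage_le_of_inv ρ (Spec.map φ) hinv g₀ ⊤) =
          (ρ g₀).hom.appTop := by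
        simp [Scheme.Hom.appLE]
      rw [h2, hg₀] at h1
      have h3 := congrArg (fun ψ => ψ.hom x) (Scheme.ΓSpecIso_naturality s)
      simp only [CommRingCat.hom_comp, RingHom.coe_comp, Function.comp_apply] at h3
      exact h3.symm.trans (congrArg (fun y => (Scheme.ΓSpecIso B).hom.hom y) h1)
    obtain ⟨b, hb⟩ := hfix _ hfix'
    obtain ⟨t, rfl⟩ := hbijA.surjective b
    refine ⟨t, ?_⟩
    apply hbijB.injective
    exact (hnat' t).trans hb

variable {X Y : Scheme.{u}} (f : X ⟶ Y) [IsAffineHom f] (hB : BasisProp f)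

/-- The automorphisms of `X` over `Y`. -/
def stab : Subgroup (Aut X) where
  carrier := {τ | τ.hom ≫ f = f}
  mul_mem' {a b} ha hb := by
    change (b.hom ≫ a.hom) ≫ f = f
    rw [Category.assoc, show a.hom ≫ f = f from ha, show b.hom ≫ f = f from hb]
  one_mem' := by
    change 𝟙 X ≫ f = f
    exact Category.id_comp f
  inv_mem' {a} ha := by
    change a.inv ≫ f = f
    rw [Iso.inv_comp_eq]
    exact (show a.hom ≫ f = f from ha).symm

theorem zpowers_inv (g : Subgroup.zpowers (sigAut f hB)) :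
    ((Subgroup.zpowers (sigAut f hB)).subtype g).hom ≫ f = f := by
  have hle : Subgroup.zpowers (sigAut f hB) ≤ stab f :=
    (Subgroup.zpowers_le).mpr (sigX_f f hB)
  exact hle g.2

theorem finite_zpowers : Finite (Subgroup.zpowers (sigAut f hB)) := by
  have h : IsOfFinOrder (sigAut f hB) :=
    isOfFinOrder_iff_pow_eq_one.mpr ⟨2, by norm_num, by rw [pow_two]; exact sigAut_mul f hB⟩
  exact Set.finite_coe_iff.mpr h.finite_zpowers

theorem isQuot (h2 : IsUnit (2 : Γ(Y, ⊤))) :
    SGA1.IsQuot (Subgroup.zpowers (sigAut f hB)).subtype f := by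
  haveI := finite_zpowers f hB
  set ρ := (Subgroup.zpowers (sigAut f hB)).subtype with hρ
  have hinv : ∀ g, (ρ g).hom ≫ f = f := zpowers_inv f hB
  have hstab : ∀ (V : Idx f) g, Set.range (pc f V ≫ (ρ g).hom).base ⊆ Set.range (pc f V).base := by
    rintro V g _ ⟨y, rfl⟩
    rw [range_pc]
    change f ((pc f V ≫ (ρ g).hom) y) ∈ V.1
    rw [← Scheme.Hom.comp_apply, Category.assoc, hinv g]
    have : (pc f V) y ∈ Set.range (pc f V) := ⟨y, rfl⟩
    rw [range_pc] at this
    exact this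
  let ρ' : ∀ V : Idx f, Subgroup.zpowers (sigAut f hB) →* Aut (Spec Γ(X, f ⁻¹ᵁ V.1)) :=
    fun V => Quot.liftAut ρ (pc f V) (hstab V)
  have hρ' : ∀ V g, ((ρ' V) g).hom ≫ pc f V = pc f V ≫ (ρ g).hom :=
    fun V g => Quot.liftAut_hom_fac ρ (pc f V) (hstab V) g
  refine Quot.isQuot_of_charts ρ f hinv (fun V : Idx f => Spec Γ(X, f ⁻¹ᵁ V.1))
    (fun V : Idx f => Spec Γ(Y, V.1)) (pc f) (fun V => V.2.1.fromSpec)
    (fun V => Spec.map (f.app V.1)) (pc_f f) ?_ ρ' hρ' ?_ ?_
  · intro V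
    rw [opensRange_pc, IsAffineOpen.opensRange_fromSpec]
  · intro V
    have hinv' : ∀ g, ((ρ' V) g).hom ≫ Spec.map (f.app V.1) = Spec.map (f.app V.1) := by
      intro g
      rw [← cancel_mono V.2.1.fromSpec, Category.assoc, ← pc_f, ← Category.assoc, hρ',
        Category.assoc, hinv g]
    refine isQuot_Spec (f.app V.1) (sigCat (f.app V.1) V.2.2) (ρ' V) hinv'
      ⟨sigAut f hB, Subgroup.mem_zpowers _⟩ ?_ (injective_of_free2 _ V.2.2) ?_
    · rw [← cancel_mono (pc f V), hρ']
      exact pc_sigX f hB V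
    · intro x hx
      refine sigCat_fixed (f.app V.1) V.2.2 ?_ x hx
      have := h2.map (Y.presheaf.map (homOfLE (le_top : V.1 ≤ ⊤)).op).hom
      rwa [map_ofNat] at this
  · intro y
    obtain ⟨V, hV, -⟩ := hB y ⊤ trivial
    exact ⟨V, by rw [IsAffineOpen.opensRange_fromSpec]; exact hV⟩

end Groth.Agent.Lib.Helper43.DblCov
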