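import Mathlib.RingTheory.Trace.Basic
import Mathlib.RingTheory.TensorProduct.IsBaseChangeFree
import Mathlib.RingTheory.IsTensorProduct
import Mathlib.LinearAlgebra.Matrix.Trace

/-!
# The canonical involution of a free algebra of rank two

For an `A`-algebra `B` that is free of rank two as a module, `x ↦ Tr(x) - x` is an
`A`-algebra involution of `B` whose fixed ring is `A` when `2` is invertible.
-/

set_option autoImplicit false

open Module

namespace Groth.Agent.Lib.Helper43.DblCov

section Mat

variable {A : Type*} [CommRing A]

/-- Polarised Cayley–Hamilton for `2 × 2` matrices. -/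
theorem mat_polar (M N : Matrix (Fin 2) (Fin 2) A) :
    M * N + N * M - M.trace • N - N.trace • M + (M.trace * N.trace - (M * N).trace) • (1 : Matrix (Fin 2) (Fin 2) A) = 0 := by
  ext i j
  fin_cases i <;> fin_cases j <;>
    simp [Matrix.mul_apply, Fin.sum_univ_two, Matrix.trace, Matrix.one_apply] <;> ring

end Mat

section Ring

variable {A B : Type*} [CommRing A] [CommRing B] [Algebra A B]

variable (A) in
/-- `x ↦ Tr(x) - x`. -/
noncomputable def sig (x : B) : B := algebraMap A B (Algebra.trace A B x) - x

theorem sig_add (x y : B) : sig A (x + y) = sig A x + sig A y := by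
  simp only [sig, map_add]; ring

theorem sig_zero : sig A (0 : B) = 0 := by simp [sig]

theorem polar (b : Basis (Fin 2) A B) (x y : B) :
    x * y + y * x - algebraMap A B (Algebra.trace A B x) * y - algebraMap A B (Algebra.trace A B y) * x
      + algebraMap A B (Algebra.trace A B x * Algebra.trace A B y - Algebra.trace A B (x * y)) = 0 := by
  apply Algebra.leftMulMatrix_injective b
  have h := mat_polar (Algebra.leftMulMatrix b x) (Algebra.leftMulMatrix b y)
  simp only [map_add, map_sub, map_mul, map_zero, AlgHom.commutes, Algebra.trace_eq_matrix_trace b]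
  rw [← h]
  simp only [Algebra.algebraMap_eq_smul_one, smul_mul_assoc, one_mul, sub_smul, mul_smul]

theorem sig_mul (b : Basis (Fin 2) A B) (x y : B) : sig A (x * y) = sig A x * sig A y := by
  have h := polar b x y
  simp only [sig]
  have e : x * y + y * x - algebraMap A B (Algebra.trace A B x) * y - algebraMap A B (Algebra.trace A B y) * x
      + algebraMap A B (Algebra.trace A B x * Algebra.trace A B y - Algebra.trace A B (x * y)) =
      (algebraMap A B (Algebra.trace A B x) - x) * (algebraMap A B (Algebra.trace A B y) - y) -
      (algebraMap A B (Algebra.trace A B (x * y)) - x * y) := by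
    simp only [map_sub, map_mul]; ring
  rw [e, sub_eq_zero] at h
  exact h.symm

theorem trace_algebraMap_two (b : Basis (Fin 2) A B) (a : A) :
    Algebra.trace A B (algebraMap A B a) = 2 * a := by
  rw [Algebra.trace_algebraMap_of_basis b]
  simp

theorem sig_algebraMap (b : Basis (Fin 2) A B) (a : A) : sig A (algebraMap A B a) = algebraMap A B a := by
  simp only [sig, trace_algebraMap_two b, map_mul, map_ofNat]; ring

theorem sig_one (b : Basis (Fin 2) A B) : sig A (1 : B) = 1 := by
  have := sig_algebraMap b 1
  simpa using this

theorem sig_sig (b : Basis (Fin 2) A B) (x : B) : sig A (sig A x) = x := by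
  simp only [sig, map_sub, trace_algebraMap_two b, map_mul, map_ofNat]; ring

theorem sig_eq_self_iff (b : Basis (Fin 2) A B) (h2 : IsUnit (2 : A)) (x : B) :
    sig A x = x ↔ x ∈ Set.range (algebraMap A B) := by
  constructor
  · intro h
    obtain ⟨u, hu⟩ := h2
    refine ⟨(↑u⁻¹ : A) * Algebra.trace A B x, ?_⟩
    have h1 : algebraMap A B (Algebra.trace A B x) = 2 * x := by
      simp only [sig] at h
      rw [two_mul]; rw [sub_eq_iff_eq_add] at h; exact h
    rw [map_mul, h1, ← mul_assoc, ← map_ofNat (algebraMap A B) 2, ← map_mul, ← hu, Units.inv_mul,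
      map_one, one_mul]
  · rintro ⟨a, rfl⟩
    exact sig_algebraMap b a

theorem algebraMap_injective_of_basis (b : Basis (Fin 2) A B) : Function.Injective (algebraMap A B) := by
  rw [injective_iff_map_eq_zero]
  intro a ha
  have h1 : a • b 0 = 0 := by rw [Algebra.smul_def, ha, zero_mul]
  have h2 := congrArg (fun v => b.repr v 0) h1
  simpa using h2

/-- The involution as a ring homomorphism. -/
noncomputable def sigHom (h : Nonempty (Basis (Fin 2) A B)) : B →+* B where
  toFun := sig A
  map_one' := sig_one h.some
  map_mul' := sig_mul h.some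
  map_zero' := sig_zero
  map_add' := sig_add

@[simp] theorem sigHom_apply (h : Nonempty (Basis (Fin 2) A B)) (x : B) : sigHom h x = sig A x := rfl

end Ring

section BaseChange

variable {A B A' B' : Type*} [CommRing A] [CommRing B] [CommRing A'] [CommRing B']
  [Algebra A B] [Algebra A A'] [Algebra A' B'] [Algebra B B'] [Algebra A B']
  [IsScalarTower A A' B'] [IsScalarTower A B B']

/-- The trace of a free algebra commutes with base change. -/
theorem trace_of_isPushout [Algebra.IsPushout A A' B B'] {ι : Type*} [Fintype ι] [DecidableEq ι]
    (b : Basis ι A B) (x : B) :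
    Algebra.trace A' B' (algebraMap B B' x) = algebraMap A A' (Algebra.trace A B x) := by
  have ibc : IsBaseChange A' (IsScalarTower.toAlgHom A B B').toLinearMap :=
    Algebra.IsPushout.out
  let b' := ibc.basis b
  have hb' : ∀ i, b' i = algebraMap B B' (b i) := fun i => ibc.basis_apply b i
  have hrepr : ∀ v i, b'.repr (algebraMap B B' v) i = algebraMap A A' (b.repr v i) :=
    fun v i => ibc.basis_repr_comp_apply b v i
  rw [Algebra.trace_eq_matrix_trace b', Algebra.trace_eq_matrix_trace b]
  simp only [Matrix.trace, Matrix.diag_apply, map_sum, Algebra.leftMulMatrix_eq_repr_mul]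
  refine Finset.sum_congr rfl fun i _ => ?_
  rw [hb', ← map_mul, hrepr]

theorem sig_of_isPushout [Algebra.IsPushout A A' B B'] {ι : Type*} [Fintype ι] [DecidableEq ι]
    (b : Basis ι A B) (x : B) :
    sig A' (algebraMap B B' x) = algebraMap B B' (sig A x) := by
  simp only [sig, trace_of_isPushout b, map_sub]
  rw [← IsScalarTower.algebraMap_apply, ← IsScalarTower.algebraMap_apply]

end BaseChange

end Groth.Agent.Lib.Helper43.DblCov
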