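import Mathlib
import Groth.Prelude.Def_CAlg

set_option autoImplicit false
universe u

namespace Groth.Agent.Lib.Helper43.DepthZero

open IsLocalRing RingTheory.Sequence

/-- a local ring whose maximal ideal is an associated prime has depth zero -/
theorem depth_eq_zero_of_isAssociatedPrime (R : Type u) [CommRing R] [IsLocalRing R]
    (h : IsAssociatedPrime (maximalIdeal R) R) : LocCoh.depth R R = 0 := by
  classical
  obtain ⟨hprime, x, hx⟩ := h
  have hx0 : x ≠ 0 := by
    rintro rfl
    have : (⊥ : Submodule R R).colon {(0 : R)} = ⊤ := by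
      rw [eq_top_iff]
      intro r _
      rw [Submodule.mem_colon_singleton]
      simp
    rw [this, Ideal.radical_top] at hx
    exact (maximalIdeal.isMaximal R).ne_top hx
  have hzd : ∀ r ∈ maximalIdeal R, ¬ IsSMulRegular R r := by
    intro r hr hreg
    rw [hx] at hr
    obtain ⟨n, hn⟩ := hr
    rw [Submodule.mem_colon_singleton, Submodule.mem_bot] at hn
    have hreg' : IsSMulRegular R (r ^ n) := hreg.pow n
    exact hx0 (hreg' (hn.trans (smul_zero _).symm))
  unfold LocCoh.depth LocCoh.idealDepth
  have hne : maximalIdeal R • (⊤ : Submodule R R) ≠ ⊤ := by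
    rw [smul_eq_mul, Ideal.mul_top]
    exact (maximalIdeal.isMaximal R).ne_top
  rw [if_neg hne]
  apply le_antisymm _ zero_le
  apply iSup_le
  intro rs
  apply iSup_le
  rintro ⟨hreg, hmem⟩
  cases rs with
  | nil => simp
  | cons r rs' =>
    exfalso
    rw [isWeaklyRegular_cons_iff] at hreg
    exact hzd r (hmem r (List.mem_cons_self)) hreg.1

end Groth.Agent.Lib.Helper43.DepthZero
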