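import Mathlib
import Groth.Agent.Lib.Helper82.EffCartierStalk
import Groth.Agent.Lib.Helper82.EffCartier
import Groth.Agent.Lib.Helper64.StalkIdeal

set_option autoImplicit false
set_option linter.style.haveILetI false
universe u

open CategoryTheory CategoryTheory.Limits AlgebraicGeometry

namespace Groth.Agent.Lib.Helper43.EffCartierDescent

/-- a finitely generated ideal of a local ring which becomes principal, generated by a
nonzerodivisor, after a flat local extension is itself principal generated by a nonzerodivisor -/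
theorem principal_nzd_descent {R R' : Type u} [CommRing R] [CommRing R'] [IsLocalRing R]
    [IsLocalRing R'] (φ : R →+* R') [IsLocalHom φ] (hφ : φ.Flat) (J : Ideal R) (hJ : J.FG)
    (s : R') (hs : s ∈ nonZeroDivisors R') (hJs : J.map φ = Ideal.span {s}) :
    ∃ t ∈ nonZeroDivisors R, J = Ideal.span {t} := by
  classical
  letI := φ.toAlgebra
  haveI : Module.Flat R R' := hφ
  haveI : IsLocalHom (algebraMap R R') := inferInstanceAs (IsLocalHom φ)
  haveI : Module.FaithfullyFlat R R' := Module.FaithfullyFlat.of_flat_of_isLocalHom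
  have hinj : Function.Injective φ := FaithfulSMul.algebraMap_injective R R'
  obtain ⟨n, a, ha⟩ := Submodule.fg_iff_exists_fin_generating_family.mp hJ
  -- a_i = b_i s
  have hmem : ∀ i, φ (a i) ∈ Ideal.span {s} := by
    intro i
    rw [← hJs]
    exact Ideal.mem_map_of_mem _ (by rw [← ha]; exact Ideal.subset_span ⟨i, rfl⟩)
  choose b hb using fun i => Ideal.mem_span_singleton'.mp (hmem i)
  -- s = Σ c_i φ(a_i)
  have hsmem : s ∈ Ideal.span (Set.range (φ ∘ a)) := by
    have h1 : s ∈ J.map φ := by rw [hJs]; exact Ideal.subset_span rfl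
    rwa [← ha, Ideal.map_span, ← Set.range_comp] at h1
  obtain ⟨c, hc⟩ := (Ideal.mem_span_range_iff_exists_fun).mp hsmem
  have hone : (∑ i, c i * b i) * s = 1 * s := by
    rw [Finset.sum_mul, one_mul]
    conv_rhs => rw [← hc]
    apply Finset.sum_congr rfl
    intro i _
    rw [Function.comp_apply, ← hb i]
    ring
  have hone' : ∑ i, c i * b i = 1 := by
    have := (mem_nonZeroDivisors_iff_right.mp hs) ((∑ i, c i * b i) - 1)
      (by rw [sub_mul, hone, sub_self])
    exact sub_eq_zero.mp this
  -- some `b i` is a unit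
  obtain ⟨i, hi⟩ : ∃ i, IsUnit (b i) := by
    by_contra hcon
    simp only [not_exists] at hcon
    have h1 : ∑ i, c i * b i ∈ IsLocalRing.maximalIdeal R' := by
      apply Ideal.sum_mem
      intro i _
      exact Ideal.mul_mem_left _ _ ((IsLocalRing.mem_maximalIdeal _).mpr (hcon i))
    rw [hone'] at h1
    exact (IsLocalRing.maximalIdeal.isMaximal R').ne_top ((Ideal.eq_top_iff_one _).mpr h1)
  refine ⟨a i, ?_, ?_⟩
  · rw [mem_nonZeroDivisors_iff_right]
    intro y hy
    apply hinj
    rw [map_zero]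
    have h2 : φ y * φ (a i) = 0 := by rw [← map_mul, hy, map_zero]
    rw [← hb i] at h2
    have h3 : (φ y * b i) * s = 0 := by rw [mul_assoc]; exact h2
    have h4 := (mem_nonZeroDivisors_iff_right.mp hs) _ h3
    have h5 := congrArg (fun w : R' => w * ((hi.unit⁻¹ : R'ˣ) : R')) h4
    simpa [mul_assoc] using h5
  · -- `J B = a_i B`, descend
    have hmap : J.map (algebraMap R R') = (Ideal.span {a i}).map (algebraMap R R') := by
      change J.map φ = (Ideal.span {a i}).map φ
      rw [hJs, Ideal.map_span, Set.image_singleton, ← hb i]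
      apply le_antisymm
      · rw [Ideal.span_singleton_le_iff_mem]
        refine Ideal.mem_span_singleton'.mpr ⟨((hi.unit⁻¹ : R'ˣ) : R'), ?_⟩
        rw [← mul_assoc]
        simp
      · rw [Ideal.span_singleton_le_iff_mem]
        exact Ideal.mem_span_singleton'.mpr ⟨b i, rfl⟩
    rw [← Ideal.comap_map_eq_self_of_faithfullyFlat (B := R') J, hmap,
      Ideal.comap_map_eq_self_of_faithfullyFlat]

/-- effective Cartier ideals descend along flat surjective morphisms to a locally Noetherian
scheme -/
theorem isEffCartierIdeal_of_comap {X X' : Scheme.{u}} [IsLocallyNoetherian X]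
    (g : X' ⟶ X) [Flat g] [Surjective g] (𝓘 : X.IdealSheafData)
    (h : BlowUp.IsEffCartierIdeal (𝓘.comap g)) : BlowUp.IsEffCartierIdeal 𝓘 := by
  apply Groth.Agent.Lib.Helper82.isEffCartierIdeal_of_stalk_principal
  intro x _ U hxU
  obtain ⟨x', rfl⟩ := g.surjective x
  obtain ⟨_, ⟨U', hU', rfl⟩, hx'U', hU'le⟩ :=
    X'.isBasis_affineOpens.exists_subset_of_mem_open
      (show x' ∈ (g ⁻¹ᵁ U.1 : Set X') from hxU) (g ⁻¹ᵁ U.1).isOpen
  obtain ⟨s, hs, hsI⟩ :=
    Groth.Agent.Lib.Helper64.StalkIdeal.exists_stalkIdeal_eq_span_of_isEffCartier h x'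
  rw [Groth.Agent.Lib.Helper64.StalkIdeal.stalkIdeal_eq (𝓘.comap g) ⟨U', hU'⟩ x' hx'U',
    Groth.Agent.Lib.Helper82.ideal_comap_of_le g 𝓘 U' hU' U.1 U.2 hU'le, Ideal.map_map] at hsI
  have hcomp : (X'.presheaf.germ U' x' hx'U').hom.comp (g.appLE U.1 U' hU'le).hom =
      (g.stalkMap x').hom.comp (X.presheaf.germ U.1 (g x') hxU).hom := by
    ext r
    simp only [Scheme.Hom.germ_stalkMap_apply, Scheme.Hom.appLE, homOfLE_leOfHom,
      CommRingCat.hom_comp, RingHom.coe_comp, Function.comp_apply,
      X'.presheaf.germ_res_apply]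
  rw [hcomp, ← Ideal.map_map] at hsI
  haveI : IsNoetherianRing Γ(X, U.1) := IsLocallyNoetherian.component_noetherian U
  have hfg : ((𝓘.ideal U).map (X.presheaf.germ U.1 (g x') hxU).hom).FG :=
    Ideal.FG.map (IsNoetherian.noetherian _) _
  exact principal_nzd_descent (g.stalkMap x').hom (Flat.stalkMap g x') _ hfg s hs hsI

end Groth.Agent.Lib.Helper43.EffCartierDescent
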