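import Mathlib

set_option autoImplicit false
universe u

open IsLocalRing TensorProduct

namespace Groth.Agent.Lib.Helper43.EtInv

section Fixed

variable (D : Type u) {S : Type u} [CommRing D] [CommRing S] [Algebra D S]
  (J : Type u) [Group J] [MulSemiringAction J S] [SMulCommClass J D S]

theorem isUnit_fixed {s : FixedPoints.subalgebra D S J} (h : IsUnit (s : S)) : IsUnit s := by
  obtain ⟨u, hu⟩ := h
  have hinv : ∀ j : J, j • (↑u⁻¹ : S) = ↑u⁻¹ := by
    intro j
    have h1 : (j • (↑u⁻¹ : S)) * (u : S) = 1 := by
      have : j • ((↑u⁻¹ : S) * (u : S)) = 1 := by rw [Units.inv_mul, smul_one]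
      rw [smul_mul', hu, s.2 j] at this
      rw [hu]; exact this
    calc j • (↑u⁻¹ : S) = j • (↑u⁻¹ : S) * ((u : S) * (↑u⁻¹ : S)) := by rw [Units.mul_inv, mul_one]
      _ = (j • (↑u⁻¹ : S) * (u : S)) * (↑u⁻¹ : S) := by ring
      _ = ↑u⁻¹ := by rw [h1, one_mul]
  refine IsUnit.of_mul_eq_one (⟨↑u⁻¹, hinv⟩ : FixedPoints.subalgebra D S J) ?_
  apply Subtype.ext
  change (s : S) * ↑u⁻¹ = 1
  rw [← hu, Units.mul_inv]

instance isLocalHom_fixed : IsLocalHom (algebraMap (FixedPoints.subalgebra D S J) S) where
  map_nonunit s hs := isUnit_fixed D J hs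

theorem isLocalRing_fixed [IsLocalRing S] : IsLocalRing (FixedPoints.subalgebra D S J) := by
  haveI : Nontrivial (FixedPoints.subalgebra D S J) := inferInstance
  refine IsLocalRing.of_nonunits_add ?_
  intro a b ha hb
  have ha' : (a : S) ∈ nonunits S := fun h => ha (isUnit_fixed D J h)
  have hb' : (b : S) ∈ nonunits S := fun h => hb (isUnit_fixed D J h)
  intro hab
  have : IsUnit ((a + b : FixedPoints.subalgebra D S J) : S) := hab.map (algebraMap _ S)
  exact IsLocalRing.nonunits_add ha' hb' this

end Fixed

section LocalHomTensor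

variable {R R' M : Type u} [CommRing R] [CommRing R'] [Algebra R R'] [IsLocalRing R]
  [IsLocalRing R'] [IsLocalHom (algebraMap R R')] [AddCommGroup M] [Module R M] [Module.Finite R M]

theorem subsingleton_of_tensor_localHom (h : Subsingleton (R' ⊗[R] M)) : Subsingleton M := by
  rw [← IsLocalRing.subsingleton_tensorProduct (R := R)]
  by_contra hV
  rw [not_subsingleton_iff_nontrivial] at hV
  -- a surjective functional on the residue vector space
  let V := ResidueField R ⊗[R] M
  let bV := Module.Free.chooseBasis (ResidueField R) V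
  haveI : Nonempty (Module.Free.ChooseBasisIndex (ResidueField R) V) := by
    by_contra hne
    rw [not_nonempty_iff] at hne
    have : Subsingleton V := by
      refine ⟨fun x y => ?_⟩
      apply bV.repr.injective
      ext i
      exact (hne.false i).elim
    exact not_subsingleton V this
  let i₀ := Classical.arbitrary (Module.Free.ChooseBasisIndex (ResidueField R) V)
  let f : M →ₗ[R] ResidueField R :=
    ((bV.coord i₀).restrictScalars R).comp (TensorProduct.mk R (ResidueField R) M 1)
  have hf : Function.Surjective f := by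
    intro c
    obtain ⟨m, hm⟩ := TensorProduct.mk_surjective R M (ResidueField R)
      Ideal.Quotient.mk_surjective (c • bV i₀)
    refine ⟨m, ?_⟩
    change bV.coord i₀ (TensorProduct.mk R (ResidueField R) M 1 m) = c
    rw [hm]
    simp
  have hsurj : Function.Surjective (f.lTensor R') := LinearMap.lTensor_surjective R' hf
  -- `R' ⊗ k` maps to the residue field of `R'`
  let g : R' ⊗[R] ResidueField R →ₐ[R] ResidueField R' :=
    Algebra.TensorProduct.productMap (IsScalarTower.toAlgHom R R' (ResidueField R'))
      (IsScalarTower.toAlgHom R (ResidueField R) (ResidueField R'))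
  haveI : Nontrivial (R' ⊗[R] ResidueField R) := g.toRingHom.domain_nontrivial
  obtain ⟨z, hz⟩ := hsurj (1 : R' ⊗[R] ResidueField R)
  have : (1 : R' ⊗[R] ResidueField R) = 0 := by
    rw [← hz, Subsingleton.elim z 0, map_zero]
  exact one_ne_zero this

end LocalHomTensor

end Groth.Agent.Lib.Helper43.EtInv
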