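import Mathlib

set_option autoImplicit false
set_option linter.style.haveILetI false
universe u

open TensorProduct IsLocalRing Algebra

namespace Groth.Agent.Lib.Helper43.EtInv

set_option maxHeartbeats 1600000 in
set_option backward.isDefEq.respectTransparency false in
/-- A local version of "flat + unramified + finitely presented implies etale". -/
theorem isEtaleAt_of_flat_of_unramified {R S : Type u} [CommRing R] [CommRing S] [Algebra R S]
    [Algebra.FinitePresentation R S] (q : Ideal S) [q.IsPrime]
    [Module.Flat R (Localization.AtPrime q)]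
    [Algebra.FormallyUnramified R (Localization.AtPrime q)] : Algebra.IsEtaleAt R q := by
  let p : Ideal R := q.under R
  haveI : q.LiesOver p := ⟨rfl⟩
  let Rp := Localization.AtPrime p
  let Sp := Localization (algebraMapSubmonoid S p.primeCompl)
  let Sq := Localization.AtPrime q
  let := Localization.AtPrime.algebraOfLiesOver p q
  let f : Sp →ₐ[S] Sq := IsLocalization.liftAlgHom (M := algebraMapSubmonoid S p.primeCompl)
        (f := Algebra.ofId _ _) (by
      rintro ⟨_, x, hx, rfl⟩
      simpa using! IsLocalization.map_units (M := q.primeCompl) Sq ⟨algebraMap _ _ x,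
        by simp_all [q.over_def p]⟩)
  algebraize [f.toRingHom]
  have : IsScalarTower R Sp Sq := .to₁₃₄ _ S _ _
  have : IsScalarTower Rp Sp Sq := .of_algebraMap_eq' <| by
    apply IsLocalization.ringHom_ext p.primeCompl
    simp only [RingHom.comp_assoc, ← IsScalarTower.algebraMap_eq]
  have : IsLocalization (algebraMapSubmonoid Sp q.primeCompl) Sq :=
    .isLocalization_of_submonoid_le _ _ (algebraMapSubmonoid S p.primeCompl) _
    (by rintro _ ⟨x, hx, rfl⟩; simp_all [q.over_def p])
  have : FinitePresentation Rp Sp := by
    have : Algebra.IsPushout R Rp S Sp :=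
      .symm <| Algebra.isPushout_of_isLocalization p.primeCompl _ _ _
    exact .equiv (Algebra.IsPushout.equiv R Rp S Sp)
  have : Module.Flat Rp Sq :=
    (Module.flat_iff_of_isLocalization Rp p.primeCompl Sq).mpr inferInstance
  have : FormallyUnramified Rp Sq := .of_restrictScalars R Rp Sq
  have : EssFiniteType Sp Sq := .of_isLocalization Sq (algebraMapSubmonoid Sp q.primeCompl)
  have : EssFiniteType Rp Sq := .comp Rp Sp Sq
  have : FormallySmooth (ResidueField Rp) (ResidueField Rp ⊗[Rp] Sq) := by
    have : FormallyEtale (ResidueField Rp) (ResidueField Rp ⊗[Rp] Sq) :=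
      FormallyEtale.of_formallyUnramified_of_field _ _
    infer_instance
  have := FormallySmooth.of_formallySmooth_residueField_tensor
    (R := Rp) (S := Sq) (P := Sp) (algebraMapSubmonoid _ q.primeCompl)
  have : FormallySmooth R Sq := .comp R Rp Sq
  exact FormallyEtale.iff_formallyUnramified_and_formallySmooth.mpr ⟨inferInstance, this⟩

end Groth.Agent.Lib.Helper43.EtInv
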