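import Mathlib
import Groth.Agent.Lib.Helper81.InvPushout

set_option autoImplicit false
set_option linter.style.haveILetI false
universe u

open TensorProduct

namespace Groth.Agent.Lib.Helper43.EtInv

open Groth.Agent.Lib.Helper81

section TensorAction

variable (D D' A : Type u) [CommRing D] [CommRing D'] [CommRing A] [Algebra D D'] [Algebra D A]
  (G : Type u) [Group G] [MulSemiringAction G A] [SMulCommClass G D A]

/-- The action on a base change, as a group homomorphism. -/
noncomputable def tensorActHom : G →* ((D' ⊗[D] A) ≃ₐ[D'] (D' ⊗[D] A)) where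
  toFun g := Algebra.TensorProduct.congr AlgEquiv.refl (MulSemiringAction.toAlgEquiv D A g)
  map_one' := by
    apply AlgEquiv.coe_algHom_injective
    apply Algebra.TensorProduct.ext'
    intro a b
    simp
  map_mul' g h := by
    apply AlgEquiv.coe_algHom_injective
    apply Algebra.TensorProduct.ext'
    intro a b
    simp [mul_smul]

/-- The action on a base change. -/
@[instance_reducible]
noncomputable def tensorAction : MulSemiringAction G (D' ⊗[D] A) :=
  MulSemiringAction.compHom _ (tensorActHom D D' A G)

theorem tensorAction_tmul (g : G) (d' : D') (a : A) :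
    letI := tensorAction D D' A G
    g • (d' ⊗ₜ[D] a) = d' ⊗ₜ[D] (g • a) := by
  letI := tensorAction D D' A G
  change tensorActHom D D' A G g (d' ⊗ₜ[D] a) = _
  simp [tensorActHom]

theorem tensorAction_smulCommClass :
    letI := tensorAction D D' A G
    SMulCommClass G D' (D' ⊗[D] A) := by
  letI := tensorAction D D' A G
  refine ⟨fun g d z => ?_⟩
  change tensorActHom D D' A G g (d • z) = d • tensorActHom D D' A G g z
  rw [map_smul]

theorem tensorAction_eq_lTensor (g : G) (z : D' ⊗[D] A) :
    letI := tensorAction D D' A G
    g • z = (MulSemiringAction.toAlgHom D A g).toLinearMap.lTensor D' z := by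
  letI := tensorAction D D' A G
  induction z using TensorProduct.induction_on with
  | zero => simp
  | tmul d a => rw [tensorAction_tmul]; rfl
  | add z₁ z₂ h₁ h₂ => rw [smul_add, h₁, h₂, map_add]

end TensorAction

section Invariants

variable (D D' B : Type u) [CommRing D] [CommRing D'] [CommRing B] [Algebra D D'] [Algebra D B]
  (G : Type u) [Group G] [Finite G] [MulSemiringAction G B] [SMulCommClass G D B]
  [Module.Flat D D']

theorem isInvariant_tensor [Algebra.IsInvariant D B G] :
    letI := tensorAction D D' B G
    Algebra.IsInvariant D' (D' ⊗[D] B) G := by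
  letI := tensorAction D D' B G
  refine ⟨fun z hz => ?_⟩
  have h1 := InvBaseChange.mem_range_lTensor_of_fixed D' (Algebra.linearMap D B)
    (fun g : G => (MulSemiringAction.toAlgHom D B g).toLinearMap)
    (fun c hc => by
      obtain ⟨d, hd⟩ := Algebra.IsInvariant.isInvariant (A := D) (G := G) c hc
      exact ⟨d, hd⟩)
    (fun d g => by
      change g • algebraMap D B d = algebraMap D B d
      exact smul_algebraMap g d)
    z (fun g => by rw [← tensorAction_eq_lTensor]; exact hz g)
  obtain ⟨v, hv⟩ := h1
  refine ⟨TensorProduct.rid D D' v, ?_⟩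
  rw [← hv, InvBaseChange.lTensor_algebraLinearMap_eq]
  rfl

theorem faithfulSMul_tensor [FaithfulSMul D B] : FaithfulSMul D' (D' ⊗[D] B) := by
  rw [faithfulSMul_iff_algebraMap_injective]
  have h3 := Module.Flat.lTensor_preserves_injective_linearMap (M := D')
    (Algebra.linearMap D B) (FaithfulSMul.algebraMap_injective D B)
  intro a b hab
  apply (TensorProduct.rid D D').symm.injective
  apply h3
  rw [InvBaseChange.lTensor_algebraLinearMap_eq, InvBaseChange.lTensor_algebraLinearMap_eq,
    LinearEquiv.apply_symm_apply, LinearEquiv.apply_symm_apply]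
  exact hab

end Invariants

end Groth.Agent.Lib.Helper43.EtInv
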