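import Mathlib
import Groth.Agent.Lib.Helper43.EtInvTensor

set_option autoImplicit false
set_option linter.style.haveILetI false
universe u

open TensorProduct

namespace Groth.Agent.Lib.Helper43.EtInv

section Inertia

variable (D D' A : Type u) [CommRing D] [CommRing D'] [CommRing A] [Algebra D D'] [Algebra D A]
  (G : Type u) [Group G] [MulSemiringAction G A] [SMulCommClass G D A]

theorem inertia_tensor (x' : Ideal (D' ⊗[D] A)) :
    letI := tensorAction D D' A G
    x'.inertia G =
      (x'.comap (Algebra.TensorProduct.includeRight : A →ₐ[D] D' ⊗[D] A).toRingHom).inertia G := by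
  letI := tensorAction D D' A G
  ext g
  constructor
  · intro hg a
    have := hg ((1 : D') ⊗ₜ[D] a)
    rw [tensorAction_tmul, ← TensorProduct.tmul_sub] at this
    exact this
  · intro hg z
    induction z using TensorProduct.induction_on with
    | zero => simp
    | tmul d a =>
      rw [tensorAction_tmul, ← TensorProduct.tmul_sub]
      have h1 : d ⊗ₜ[D] (g • a - a) = (d ⊗ₜ[D] (1 : A)) * ((1 : D') ⊗ₜ[D] (g • a - a)) := by
        rw [Algebra.TensorProduct.tmul_mul_tmul, mul_one, one_mul]
      rw [h1]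
      exact Ideal.mul_mem_left _ _ (hg a)
    | add z₁ z₂ h₁ h₂ =>
      have : g • (z₁ + z₂) - (z₁ + z₂) = (g • z₁ - z₁) + (g • z₂ - z₂) := by
        rw [smul_add]; ring
      rw [this]
      exact Ideal.add_mem _ h₁ h₂

end Inertia

section BaseAlgebra

variable (D D' A B : Type u) [CommRing D] [CommRing D'] [CommRing A] [CommRing B] [Algebra D D']
  [Algebra D A] [Algebra D B] [Algebra B A] [IsScalarTower D B A]

/-- The algebra structure of `D' ⊗ A` over `D' ⊗ B`. -/
@[instance_reducible]
noncomputable def tensorAlgebra : Algebra (D' ⊗[D] B) (D' ⊗[D] A) :=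
  (Algebra.TensorProduct.map (AlgHom.id D' D') (IsScalarTower.toAlgHom D B A)).toRingHom.toAlgebra

theorem tensorAlgebra_tmul (d : D') (b : B) :
    letI := tensorAlgebra D D' A B
    algebraMap (D' ⊗[D] B) (D' ⊗[D] A) (d ⊗ₜ b) = d ⊗ₜ algebraMap B A b := by
  letI := tensorAlgebra D D' A B
  change Algebra.TensorProduct.map (AlgHom.id D' D') (IsScalarTower.toAlgHom D B A) (d ⊗ₜ b) = _
  simp

theorem tensorAlgebra_isScalarTower :
    letI := tensorAlgebra D D' A B
    IsScalarTower D' (D' ⊗[D] B) (D' ⊗[D] A) := by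
  letI := tensorAlgebra D D' A B
  refine IsScalarTower.of_algebraMap_eq (fun d => ?_)
  change _ = Algebra.TensorProduct.map (AlgHom.id D' D') (IsScalarTower.toAlgHom D B A) _
  simp [Algebra.TensorProduct.algebraMap_apply]

variable {G : Type u} [Group G] [MulSemiringAction G A] [MulSemiringAction G B]
  [SMulCommClass G D A] [SMulCommClass G D B]
  (hGeq : ∀ (g : G) (b : B), algebraMap B A (g • b) = g • algebraMap B A b)

include hGeq in
theorem tensor_equivariant (g : G) (z : D' ⊗[D] B) :
    letI := tensorAlgebra D D' A B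
    letI := tensorAction D D' A G
    letI := tensorAction D D' B G
    algebraMap (D' ⊗[D] B) (D' ⊗[D] A) (g • z) = g • algebraMap (D' ⊗[D] B) (D' ⊗[D] A) z := by
  letI := tensorAlgebra D D' A B
  letI := tensorAction D D' A G
  letI := tensorAction D D' B G
  induction z using TensorProduct.induction_on with
  | zero => simp
  | tmul d b =>
    rw [tensorAction_tmul, tensorAlgebra_tmul, tensorAlgebra_tmul, tensorAction_tmul, hGeq]
  | add z₁ z₂ h₁ h₂ => rw [smul_add, map_add, map_add, smul_add, h₁, h₂]

end BaseAlgebra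

end Groth.Agent.Lib.Helper43.EtInv

namespace Groth.Agent.Lib.Helper43.EtInv

section EtaleAt

variable (D D' A B : Type u) [CommRing D] [CommRing D'] [CommRing A] [CommRing B] [Algebra D D']
  [Algebra D A] [Algebra D B] [Algebra B A] [IsScalarTower D B A]

/-- base change along the right factor is formally etale -/
theorem formallyEtale_rightAlgebra [Algebra.FormallyEtale D D'] :
    letI : Algebra A (D' ⊗[D] A) := Algebra.TensorProduct.rightAlgebra
    Algebra.FormallyEtale A (D' ⊗[D] A) := by
  letI : Algebra A (D' ⊗[D] A) := Algebra.TensorProduct.rightAlgebra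
  let e : A ⊗[D] D' ≃ₐ[A] D' ⊗[D] A :=
    AlgEquiv.ofRingEquiv (f := (Algebra.TensorProduct.comm D A D').toRingEquiv) (by
      intro a
      simp [RingHom.algebraMap_toAlgebra])
  exact Algebra.FormallyEtale.of_equiv e

theorem flat_rightAlgebra [Module.Flat D D'] :
    letI : Algebra A (D' ⊗[D] A) := Algebra.TensorProduct.rightAlgebra
    Module.Flat A (D' ⊗[D] A) := by
  letI : Algebra A (D' ⊗[D] A) := Algebra.TensorProduct.rightAlgebra
  let e : A ⊗[D] D' ≃ₐ[A] D' ⊗[D] A :=
    AlgEquiv.ofRingEquiv (f := (Algebra.TensorProduct.comm D A D').toRingEquiv) (by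
      intro a
      simp [RingHom.algebraMap_toAlgebra])
  exact Module.Flat.of_linearEquiv e.toLinearEquiv.symm

set_option maxHeartbeats 1600000 in
theorem isEtaleAt_tensor [Algebra.FormallyEtale D D'] (x' : Ideal (D' ⊗[D] A)) [x'.IsPrime]
    (hx : Algebra.IsEtaleAt B
      (x'.comap (Algebra.TensorProduct.includeRight : A →ₐ[D] D' ⊗[D] A).toRingHom)) :
    letI := tensorAlgebra D D' A B
    Algebra.IsEtaleAt (D' ⊗[D] B) x' := by
  letI := tensorAlgebra D D' A B
  haveI := tensorAlgebra_isScalarTower D D' A B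
  letI algAA' : Algebra A (D' ⊗[D] A) := Algebra.TensorProduct.rightAlgebra
  letI algBB' : Algebra B (D' ⊗[D] B) := Algebra.TensorProduct.rightAlgebra
  haveI : Algebra.FormallyEtale A (D' ⊗[D] A) := formallyEtale_rightAlgebra D D' A
  haveI : Algebra.FormallyEtale B (D' ⊗[D] B) := formallyEtale_rightAlgebra D D' B
  set x : Ideal A := x'.comap (algebraMap A (D' ⊗[D] A)) with hxdef
  haveI : x'.LiesOver x := ⟨rfl⟩
  haveI hx' : Algebra.FormallyEtale B (Localization.AtPrime x) := hx
  letI := Localization.AtPrime.algebraOfLiesOver x x'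
  haveI : Algebra.FormallyEtale A (Localization.AtPrime x') :=
    Algebra.FormallyEtale.comp A (D' ⊗[D] A) _
  haveI : Algebra.FormallyEtale (Localization.AtPrime x) (Localization.AtPrime x') :=
    .localization_base x.primeCompl
  letI algBA' : Algebra B (D' ⊗[D] A) :=
    ((algebraMap A (D' ⊗[D] A)).comp (algebraMap B A)).toAlgebra
  haveI : IsScalarTower B A (D' ⊗[D] A) := .of_algebraMap_eq' rfl
  haveI : IsScalarTower B (D' ⊗[D] B) (D' ⊗[D] A) := .of_algebraMap_eq (fun b => by
    change (1 : D') ⊗ₜ[D] algebraMap B A b = algebraMap (D' ⊗[D] B) (D' ⊗[D] A) ((1 : D') ⊗ₜ[D] b)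
    rw [tensorAlgebra_tmul])
  haveI : Algebra.FormallyEtale B (Localization.AtPrime x') :=
    Algebra.FormallyEtale.comp B (Localization.AtPrime x) (Localization.AtPrime x')
  haveI : IsScalarTower B (D' ⊗[D] B) (Localization.AtPrime x') := .of_algebraMap_eq (fun b => by
    rw [IsScalarTower.algebraMap_apply B (D' ⊗[D] A) (Localization.AtPrime x'),
      IsScalarTower.algebraMap_apply (D' ⊗[D] B) (D' ⊗[D] A) (Localization.AtPrime x'),
      ← IsScalarTower.algebraMap_apply B (D' ⊗[D] B) (D' ⊗[D] A)])
  exact Algebra.FormallyEtale.of_restrictScalars (R := B) (A := D' ⊗[D] B)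
    (B := Localization.AtPrime x')

end EtaleAt

end Groth.Agent.Lib.Helper43.EtInv
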