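import Mathlib
import Groth.Agent.Lib.Helper43.EtInvRed
import Groth.Agent.Lib.Helper43.EtInvLFE
import Groth.Agent.Lib.Helper81.EtaleInvFlat

set_option autoImplicit false
set_option linter.style.haveILetI false
universe u

open TensorProduct

namespace Groth.Agent.Lib.Helper43.EtInv

open Groth.Agent.Lib.Helper81

attribute [local instance] tensorAction tensorAction_smulCommClass

section Descent

variable (D D' A : Type u) [CommRing D] [CommRing D'] [CommRing A] [Algebra D D'] [Algebra D A]
  (G : Type u) [Group G] [Finite G] [MulSemiringAction G A] [SMulCommClass G D A]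

/-- The map from invariants to invariants of the base change. -/
noncomputable def psi :
    FixedPoints.subalgebra D A G →+* FixedPoints.subalgebra D' (D' ⊗[D] A) G :=
  { toFun := fun c => ⟨(1 : D') ⊗ₜ[D] (c : A), fun g => by rw [tensorAction_tmul, c.2 g]⟩
    map_one' := Subtype.ext rfl
    map_mul' := fun a b => Subtype.ext (by simp)
    map_zero' := Subtype.ext (by simp)
    map_add' := fun a b => Subtype.ext (by simp [TensorProduct.tmul_add]) }

theorem psi_coe (c : FixedPoints.subalgebra D A G) :
    ((psi D D' A G c : FixedPoints.subalgebra D' (D' ⊗[D] A) G) : D' ⊗[D] A) =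
      (1 : D') ⊗ₜ[D] (c : A) := rfl

variable [Module.Flat D D']

set_option maxHeartbeats 1600000 in
/-- The invariants of the base change are the base change of the invariants. -/
theorem exists_algEquiv_fixed :
    letI : Algebra (FixedPoints.subalgebra D A G) (FixedPoints.subalgebra D' (D' ⊗[D] A) G) :=
      (psi D D' A G).toAlgebra
    Nonempty ((FixedPoints.subalgebra D A G) ⊗[D] D' ≃ₐ[FixedPoints.subalgebra D A G]
      (FixedPoints.subalgebra D' (D' ⊗[D] A) G)) := by
  letI : Algebra (FixedPoints.subalgebra D A G) (FixedPoints.subalgebra D' (D' ⊗[D] A) G) :=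
    (psi D D' A G).toAlgebra
  haveI t1 : IsScalarTower D D' (FixedPoints.subalgebra D' (D' ⊗[D] A) G) :=
    IsScalarTower.of_algebraMap_eq (fun d => Subtype.ext (by
      change algebraMap D (D' ⊗[D] A) d = algebraMap D' (D' ⊗[D] A) (algebraMap D D' d)
      rw [← IsScalarTower.algebraMap_apply]))
  haveI t2 : IsScalarTower D (FixedPoints.subalgebra D A G)
      (FixedPoints.subalgebra D' (D' ⊗[D] A) G) :=
    IsScalarTower.of_algebraMap_eq (fun d => Subtype.ext (by
      change algebraMap D (D' ⊗[D] A) d = (1 : D') ⊗ₜ[D] algebraMap D A d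
      rw [Algebra.TensorProduct.algebraMap_apply, Algebra.algebraMap_eq_smul_one,
        Algebra.algebraMap_eq_smul_one (A := A), TensorProduct.smul_tmul]))
  let Φ₀ : (FixedPoints.subalgebra D A G) ⊗[D] D' →ₐ[FixedPoints.subalgebra D A G]
      (FixedPoints.subalgebra D' (D' ⊗[D] A) G) :=
    Algebra.TensorProduct.lift (Algebra.ofId _ _)
      (IsScalarTower.toAlgHom D D' (FixedPoints.subalgebra D' (D' ⊗[D] A) G))
      (fun _ _ => Commute.all _ _)
  have key : ∀ w, ((Φ₀ w : FixedPoints.subalgebra D' (D' ⊗[D] A) G) : D' ⊗[D] A) =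
      ((FixedPoints.subalgebra D A G).val.toLinearMap.lTensor D')
        (TensorProduct.comm D (FixedPoints.subalgebra D A G) D' w) := by
    intro w
    induction w using TensorProduct.induction_on with
    | zero => simp
    | tmul c d =>
      simp only [Φ₀, Algebra.TensorProduct.lift_tmul, TensorProduct.comm_tmul,
        LinearMap.lTensor_tmul]
      change ((1 : D') ⊗ₜ[D] (c : A)) * (algebraMap D' (D' ⊗[D] A) d) = d ⊗ₜ[D] (c : A)
      rw [Algebra.TensorProduct.algebraMap_apply, Algebra.TensorProduct.tmul_mul_tmul]
      simp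
    | add w₁ w₂ h₁ h₂ =>
      rw [map_add, map_add, map_add, ← h₁, ← h₂]
      rfl
  have hinj : Function.Injective Φ₀ := by
    intro w₁ w₂ h
    have h1 := congrArg Subtype.val h
    rw [key, key] at h1
    have h2 := Module.Flat.lTensor_preserves_injective_linearMap (M := D')
      (FixedPoints.subalgebra D A G).val.toLinearMap Subtype.val_injective h1
    exact (TensorProduct.comm D (FixedPoints.subalgebra D A G) D').injective h2
  have hsurj : Function.Surjective Φ₀ := by
    intro z
    have h1 := InvBaseChange.mem_range_lTensor_of_fixed D'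
      (FixedPoints.subalgebra D A G).val.toLinearMap
      (fun g : G => (MulSemiringAction.toAlgHom D A g).toLinearMap)
      (fun c hc => ⟨⟨c, hc⟩, rfl⟩)
      (fun c g => c.2 g)
      (z : D' ⊗[D] A) (fun g => by rw [← tensorAction_eq_lTensor]; exact z.2 g)
    obtain ⟨v, hv⟩ := h1
    refine ⟨(TensorProduct.comm D (FixedPoints.subalgebra D A G) D').symm v, ?_⟩
    apply Subtype.ext
    rw [key, LinearEquiv.apply_symm_apply]
    exact hv
  exact ⟨AlgEquiv.ofBijective Φ₀ ⟨hinj, hsurj⟩⟩

end Descent

section Descent2

variable (D D' A : Type u) [CommRing D] [CommRing D'] [CommRing A] [Algebra D D'] [Algebra D A]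
  (G : Type u) [Group G] [Finite G] [MulSemiringAction G A] [SMulCommClass G D A]
  [Module.Flat D D'] [Algebra.FormallyEtale D D']
  [Algebra.FinitePresentation D (FixedPoints.subalgebra D A G)]
  (x' : Ideal (D' ⊗[D] A)) [x'.IsPrime]

set_option maxHeartbeats 3200000 in
theorem isEtaleAt_descent
    [hE : Algebra.FormallyEtale D' (Localization.AtPrime
      (x'.comap (algebraMap (FixedPoints.subalgebra D' (D' ⊗[D] A) G) (D' ⊗[D] A))))]
    [hF : Module.Flat D' (Localization.AtPrime
      (x'.comap (algebraMap (FixedPoints.subalgebra D' (D' ⊗[D] A) G) (D' ⊗[D] A))))] :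
    Algebra.IsEtaleAt D
      ((x'.comap (Algebra.TensorProduct.includeRight : A →ₐ[D] D' ⊗[D] A).toRingHom).comap
        (algebraMap (FixedPoints.subalgebra D A G) A)) ∧
    Module.Flat D (Localization.AtPrime
      ((x'.comap (Algebra.TensorProduct.includeRight : A →ₐ[D] D' ⊗[D] A).toRingHom).comap
        (algebraMap (FixedPoints.subalgebra D A G) A))) := by
  letI algCC' : Algebra (FixedPoints.subalgebra D A G)
      (FixedPoints.subalgebra D' (D' ⊗[D] A) G) := (psi D D' A G).toAlgebra
  haveI t1 : IsScalarTower D D' (FixedPoints.subalgebra D' (D' ⊗[D] A) G) :=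
    IsScalarTower.of_algebraMap_eq (fun d => Subtype.ext (by
      change algebraMap D (D' ⊗[D] A) d = algebraMap D' (D' ⊗[D] A) (algebraMap D D' d)
      rw [← IsScalarTower.algebraMap_apply]))
  haveI t2 : IsScalarTower D (FixedPoints.subalgebra D A G)
      (FixedPoints.subalgebra D' (D' ⊗[D] A) G) :=
    IsScalarTower.of_algebraMap_eq (fun d => Subtype.ext (by
      change algebraMap D (D' ⊗[D] A) d = (1 : D') ⊗ₜ[D] algebraMap D A d
      rw [Algebra.TensorProduct.algebraMap_apply, Algebra.algebraMap_eq_smul_one,
        Algebra.algebraMap_eq_smul_one (A := A), TensorProduct.smul_tmul]))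
  obtain ⟨Φ⟩ := exists_algEquiv_fixed D D' A G
  haveI : Module.Flat (FixedPoints.subalgebra D A G)
      (FixedPoints.subalgebra D' (D' ⊗[D] A) G) := Module.Flat.of_linearEquiv Φ.toLinearEquiv.symm
  haveI : Algebra.FormallyEtale (FixedPoints.subalgebra D A G)
      (FixedPoints.subalgebra D' (D' ⊗[D] A) G) := Algebra.FormallyEtale.of_equiv Φ
  set p' : Ideal (FixedPoints.subalgebra D' (D' ⊗[D] A) G) :=
    x'.comap (algebraMap (FixedPoints.subalgebra D' (D' ⊗[D] A) G) (D' ⊗[D] A)) with hp'
  set p : Ideal (FixedPoints.subalgebra D A G) :=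
    (x'.comap (Algebra.TensorProduct.includeRight : A →ₐ[D] D' ⊗[D] A).toRingHom).comap
      (algebraMap (FixedPoints.subalgebra D A G) A) with hp
  haveI : p'.LiesOver p := ⟨rfl⟩
  letI := Localization.AtPrime.algebraOfLiesOver p p'
  haveI : Module.Flat (Localization.AtPrime p) (Localization.AtPrime p') := inferInstance
  haveI : IsLocalHom (algebraMap (Localization.AtPrime p) (Localization.AtPrime p')) :=
    Localization.isLocalHom_localRingHom p p' (algebraMap _ _) Ideal.LiesOver.over
  haveI : Module.FaithfullyFlat (Localization.AtPrime p) (Localization.AtPrime p') :=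
    @Module.FaithfullyFlat.of_flat_of_isLocalHom (Localization.AtPrime p)
      (Localization.AtPrime p') _ _ _ _ _ _ _
  haveI : Algebra.FormallyEtale (FixedPoints.subalgebra D A G) (Localization.AtPrime p') :=
    Algebra.FormallyEtale.comp _ (FixedPoints.subalgebra D' (D' ⊗[D] A) G) _
  haveI : Algebra.FormallyEtale (Localization.AtPrime p) (Localization.AtPrime p') :=
    .localization_base p.primeCompl
  haveI t3 : IsScalarTower D D' (Localization.AtPrime p') := IsScalarTower.of_algebraMap_eq
    (fun d => by
      rw [IsScalarTower.algebraMap_apply D (FixedPoints.subalgebra D' (D' ⊗[D] A) G)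
        (Localization.AtPrime p'),
        IsScalarTower.algebraMap_apply D' (FixedPoints.subalgebra D' (D' ⊗[D] A) G)
        (Localization.AtPrime p'),
        IsScalarTower.algebraMap_apply D D' (FixedPoints.subalgebra D' (D' ⊗[D] A) G)])
  haveI : Algebra.FormallyEtale D (Localization.AtPrime p') :=
    Algebra.FormallyEtale.comp D D' _
  haveI : Module.Flat D (Localization.AtPrime p') := Module.Flat.trans D D' _
  haveI : Module.Flat D (Localization.AtPrime p) :=
    EtaleInv.flat_of_tower D (Localization.AtPrime p) (Localization.AtPrime p')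
  haveI : Algebra.FormallyUnramified D (Localization.AtPrime p) := by
    constructor
    have e := KaehlerDifferential.tensorKaehlerEquivOfFormallyEtale D (Localization.AtPrime p)
      (Localization.AtPrime p')
    haveI : Subsingleton (Ω[Localization.AtPrime p'⁄D]) := inferInstance
    haveI : Subsingleton ((Localization.AtPrime p') ⊗[Localization.AtPrime p]
        Ω[Localization.AtPrime p⁄D]) := e.subsingleton
    exact Module.FaithfullyFlat.lTensor_reflects_triviality (Localization.AtPrime p)
      (Localization.AtPrime p') _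
  exact ⟨isEtaleAt_of_flat_of_unramified p, inferInstance⟩

end Descent2

end Groth.Agent.Lib.Helper43.EtInv
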