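import Mathlib
import Groth.Agent.Lib.Helper43.EtInvBasic

set_option autoImplicit false
universe u

open IsLocalRing TensorProduct Polynomial

namespace Groth.Agent.Lib.Helper43.EtInv

section Span

variable {S T : Type u} [CommRing S] [CommRing T] [Algebra S T]
  [IsLocalRing S] [IsLocalRing T] [IsLocalHom (algebraMap S T)]
  [Module.Finite S T] [Algebra.FormallyUnramified S T]
  (J : Type u) [Group J] [Finite J] [MulSemiringAction J T]
  (htriv : ∀ (j : J) (t : T), j • t - t ∈ maximalIdeal T)

/-- The image of the fixed ring in the residue field. -/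
noncomputable def resFixed : Subring (ResidueField T) :=
  (FixedPoints.subring T J).map (residue T)

include htriv in
theorem residue_mem_adjoin (a : T) :
    residue T a ∈ IntermediateField.adjoin (ResidueField S) (resFixed (T := T) J : Set (ResidueField T)) := by
  classical
  cases nonempty_fintype J
  set F := IntermediateField.adjoin (ResidueField S) (resFixed (T := T) J : Set (ResidueField T))
    with hF
  set x := residue T a with hx
  have hsub : (resFixed (T := T) J : Set (ResidueField T)) ⊆ F := IntermediateField.subset_adjoin _ _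
  -- the characteristic polynomial of `a` under `J`
  let P : T[X] := MulSemiringAction.charpoly J a
  have hPmap : P.map (residue T) = (X - C x) ^ Fintype.card J := by
    change (∏ j : J, (X - C (j • a))).map (residue T) = _
    rw [Polynomial.map_prod]
    have : ∀ j : J, (X - C (j • a)).map (residue T) = X - C x := by
      intro j
      rw [Polynomial.map_sub, Polynomial.map_X, Polynomial.map_C]
      congr 2
      rw [hx, ← sub_eq_zero, ← map_sub, residue_eq_zero_iff]
      exact htriv j a
    simp only [this, Finset.prod_const, Finset.card_univ]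
  have hlift : P.map (residue T) ∈ Polynomial.lifts (algebraMap F (ResidueField T)) := by
    rw [Polynomial.lifts_iff_coeff_lifts]
    intro n
    rw [Polynomial.coeff_map]
    have hmem : residue T (P.coeff n) ∈ (resFixed (T := T) J : Set (ResidueField T)) := by
      refine ⟨P.coeff n, ?_, rfl⟩
      intro j
      exact MulSemiringAction.smul_coeff_charpoly a n j
    exact ⟨⟨_, hsub hmem⟩, rfl⟩
  obtain ⟨p, hp⟩ := (Polynomial.mem_lifts _).mp hlift
  have hcard : Fintype.card J ≠ 0 := Fintype.card_ne_zero
  have hroot : Polynomial.aeval x p = 0 := by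
    rw [Polynomial.aeval_def, Polynomial.eval₂_eq_eval_map, hp, hPmap]
    simp [hcard]
  have hp0 : p ≠ 0 := by
    rintro rfl
    rw [Polynomial.map_zero] at hp
    have := hPmap.symm.trans hp.symm
    exact pow_ne_zero _ (Polynomial.X_sub_C_ne_zero x) this
  have hint : IsIntegral F x := Algebra.IsIntegral.isIntegral x
  have hdvd : minpoly F x ∣ p := minpoly.dvd F x hroot
  have hdvd' : (minpoly F x).map (algebraMap F (ResidueField T)) ∣ (X - C x) ^ Fintype.card J := by
    rw [← hPmap, ← hp]
    exact Polynomial.map_dvd _ hdvd
  haveI : Algebra.IsSeparable F (ResidueField T) :=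
    Algebra.isSeparable_tower_top_of_isSeparable (ResidueField S) F (ResidueField T)
  have hsep : (minpoly F x).Separable := Algebra.IsSeparable.isSeparable F x
  have hsq : Squarefree ((minpoly F x).map (algebraMap F (ResidueField T))) :=
    (hsep.map).squarefree
  have hdvd1 : (minpoly F x).map (algebraMap F (ResidueField T)) ∣ (X - C x) :=
    hsq.isRadical _ _ hdvd'
  have hdeg : (minpoly F x).natDegree ≤ 1 := by
    have h1 := Polynomial.natDegree_le_of_dvd hdvd1 (Polynomial.X_sub_C_ne_zero x)
    rw [Polynomial.natDegree_map, Polynomial.natDegree_X_sub_C] at h1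
    exact h1
  have hdeg1 : (minpoly F x).degree = 1 := by
    have hpos : 0 < (minpoly F x).natDegree := minpoly.natDegree_pos hint
    have : (minpoly F x).natDegree = 1 := le_antisymm hdeg hpos
    rw [Polynomial.degree_eq_natDegree (minpoly.ne_zero hint), this]
    rfl
  obtain ⟨y, hy⟩ := minpoly.mem_range_of_degree_eq_one F x hdeg1
  rw [← hy]
  exact y.2

include htriv in
theorem exists_mem_span_residue_eq (t : T) :
    ∃ n ∈ Submodule.span S {t : T | ∀ j : J, j • t = t}, residue T n = residue T t := by
  have h1 := residue_mem_adjoin (S := S) J htriv t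
  have halg : ∀ x ∈ (resFixed (T := T) J : Set (ResidueField T)), IsAlgebraic (ResidueField S) x :=
    fun x _ => Algebra.IsAlgebraic.isAlgebraic x
  have h2 : residue T t ∈ Algebra.adjoin (ResidueField S)
      (resFixed (T := T) J : Set (ResidueField T)) := by
    rw [← IntermediateField.adjoin_toSubalgebra_of_isAlgebraic halg]
    exact h1
  rw [← Subalgebra.mem_toSubmodule, Algebra.adjoin_eq_span] at h2
  have hcl : (Submonoid.closure (resFixed (T := T) J : Set (ResidueField T)) :
      Set (ResidueField T)) = (resFixed (T := T) J : Set (ResidueField T)) := by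
    have := Submonoid.closure_eq (resFixed (T := T) J).toSubmonoid
    exact congrArg (fun M : Submonoid (ResidueField T) => (M : Set (ResidueField T))) this
  rw [hcl] at h2
  generalize residue T t = z at h2
  induction h2 using Submodule.span_induction with
  | mem x hx =>
    obtain ⟨a, ha, rfl⟩ := hx
    exact ⟨a, Submodule.subset_span (fun j => ha j), rfl⟩
  | zero => exact ⟨0, Submodule.zero_mem _, by simp⟩
  | add x y _ _ hx hy =>
    obtain ⟨n, hn, hnx⟩ := hx
    obtain ⟨m, hm, hmy⟩ := hy
    exact ⟨n + m, Submodule.add_mem _ hn hm, by rw [map_add, hnx, hmy]⟩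
  | smul c x _ hx =>
    obtain ⟨n, hn, hnx⟩ := hx
    obtain ⟨c, rfl⟩ := residue_surjective (R := S) c
    refine ⟨c • n, Submodule.smul_mem _ c hn, ?_⟩
    rw [Algebra.smul_def, map_mul, hnx, Algebra.smul_def]
    rfl

include htriv in
theorem span_fixed_eq_top :
    Submodule.span S {t : T | ∀ j : J, j • t = t} = ⊤ := by
  rw [eq_top_iff]
  refine Submodule.le_of_le_smul_of_le_jacobson_bot (I := maximalIdeal S)
    (Module.Finite.fg_top) ?_ ?_
  · rw [IsLocalRing.jacobson_eq_maximalIdeal ⊥ bot_ne_top]
  · intro t _
    obtain ⟨n, hn, hnt⟩ := exists_mem_span_residue_eq (S := S) J htriv t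
    have hmem : t - n ∈ maximalIdeal T := by
      rw [← residue_eq_zero_iff, map_sub, hnt, sub_self]
    rw [← Algebra.FormallyUnramified.map_maximalIdeal (R := S) (S := T)] at hmem
    have hmem' : t - n ∈ (maximalIdeal S • ⊤ : Submodule S T) := by
      rw [Ideal.smul_top_eq_map]
      exact hmem
    have : t = n + (t - n) := by ring
    rw [this]
    exact Submodule.add_mem_sup hn hmem'

end Span

end Groth.Agent.Lib.Helper43.EtInv
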