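import Mathlib
import Groth.Agent.Lib.Helper43.EtInvSpan

set_option autoImplicit false
set_option linter.style.haveILetI false
universe u

open IsLocalRing TensorProduct

namespace Groth.Agent.Lib.Helper43.EtInv

section Main

variable (D : Type u) {S T : Type u} [CommRing D] [CommRing S] [CommRing T] [Algebra D S]
  [Algebra D T] [Algebra S T] [IsScalarTower D S T]
  (J : Type u) [Group J] [MulSemiringAction J S] [MulSemiringAction J T]
  [SMulCommClass J D S] [SMulCommClass J D T]
  (heq : ∀ (j : J) (s : S), algebraMap S T (j • s) = j • algebraMap S T s)

/-- The map on fixed subalgebras induced by an equivariant algebra map. -/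
def fixedHom : FixedPoints.subalgebra D S J →ₐ[D] FixedPoints.subalgebra D T J :=
  ((IsScalarTower.toAlgHom D S T).comp (FixedPoints.subalgebra D S J).val).codRestrict _
    (fun s j => by
      change j • algebraMap S T (s : S) = algebraMap S T (s : S)
      rw [← heq, s.2 j])

/-- The algebra structure on fixed subalgebras. -/
abbrev fixedAlgebra : Algebra (FixedPoints.subalgebra D S J) (FixedPoints.subalgebra D T J) :=
  (fixedHom D J heq).toRingHom.toAlgebra

theorem fixedAlgebra_coe (s : FixedPoints.subalgebra D S J) :
    letI := fixedAlgebra D J heq
    ((algebraMap (FixedPoints.subalgebra D S J) (FixedPoints.subalgebra D T J) s :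
      FixedPoints.subalgebra D T J) : T) = algebraMap S T (s : S) := rfl

include heq in
theorem smul_smul_equivariant (j : J) (s : S) (t : T) : j • (s • t) = (j • s) • (j • t) := by
  rw [Algebra.smul_def, Algebra.smul_def, smul_mul', heq]

variable [Finite J]

set_option maxHeartbeats 1600000 in
theorem etale_fixed [IsLocalRing S] [IsLocalRing T] [IsLocalHom (algebraMap S T)]
    [IsNoetherianRing S] [Module.Finite S T] [Algebra.FormallyEtale S T]
    (htriv : ∀ (j : J) (t : T), j • t - t ∈ maximalIdeal T) :
    letI := fixedAlgebra D J heq
    Algebra.Etale (FixedPoints.subalgebra D S J) (FixedPoints.subalgebra D T J) := by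
  classical
  letI := fixedAlgebra D J heq
  haveI : IsScalarTower (FixedPoints.subalgebra D S J) (FixedPoints.subalgebra D T J) T :=
    IsScalarTower.of_algebraMap_eq (fun s => rfl)
  haveI : Algebra.FinitePresentation S T :=
    Algebra.FinitePresentation.of_finiteType.mp inferInstance
  haveI : Algebra.Etale S T := ⟨inferInstance, inferInstance⟩
  haveI : Module.Flat S T := inferInstance
  haveI : Module.FinitePresentation S T := Module.finitePresentation_of_finite S T
  obtain ⟨κ, a, b, hb⟩ := Module.exists_basis_of_span_of_flat (R := S) (M := T)
    (fun t : {t : T | ∀ j : J, j • t = t} => (t : T))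
    (by rw [Subtype.range_coe]; exact span_fixed_eq_top J htriv)
  haveI : Finite κ := Module.Finite.finite_basis b
  cases nonempty_fintype κ
  have hbfix : ∀ (i : κ) (j : J), j • b i = b i := fun i j => by rw [hb]; exact (a i).2 j
  -- coefficients of fixed elements are fixed
  have hrepr : ∀ (t : T) (j : J), (∀ i, b.repr (j • t) i = j • b.repr t i) := by
    intro t j
    have h1 : j • t = ∑ i, (j • b.repr t i) • b i := by
      conv_lhs => rw [← b.sum_repr t]
      rw [Finset.smul_sum]
      refine Finset.sum_congr rfl (fun i _ => ?_)
      rw [smul_smul_equivariant J heq, hbfix]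
    intro i
    rw [h1, b.repr_sum_self]
  let v : κ → FixedPoints.subalgebra D T J := fun i => ⟨b i, fun j => hbfix i j⟩
  have hli : LinearIndependent (FixedPoints.subalgebra D S J) v := by
    have h1 : LinearIndependent (FixedPoints.subalgebra D S J) (fun i => (b i : T)) := by
      refine b.linearIndependent.restrict_scalars ?_
      intro x y hxy
      apply Subtype.ext
      simpa [Algebra.smul_def] using hxy
    exact LinearIndependent.of_comp
      (IsScalarTower.toAlgHom (FixedPoints.subalgebra D S J) (FixedPoints.subalgebra D T J)
        T).toLinearMap h1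
  have hsp : ⊤ ≤ Submodule.span (FixedPoints.subalgebra D S J) (Set.range v) := by
    intro t _
    have hfix : ∀ i (j : J), j • b.repr (t : T) i = b.repr (t : T) i := by
      intro i j
      rw [← hrepr, t.2 j]
    have ht : t = ∑ i, (⟨b.repr (t : T) i, hfix i⟩ : FixedPoints.subalgebra D S J) • v i := by
      apply Subtype.ext
      conv_lhs => rw [← b.sum_repr (t : T)]
      rw [AddSubmonoidClass.coe_finset_sum]
      refine Finset.sum_congr rfl (fun i _ => ?_)
      rw [Algebra.smul_def, Algebra.smul_def]
      rfl
    rw [ht]
    exact Submodule.sum_mem _ (fun i _ => Submodule.smul_mem _ _ (Submodule.subset_span ⟨i, rfl⟩))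
  let b' : Module.Basis κ (FixedPoints.subalgebra D S J) (FixedPoints.subalgebra D T J) :=
    Module.Basis.mk hli hsp
  haveI : Module.Finite (FixedPoints.subalgebra D S J) (FixedPoints.subalgebra D T J) :=
    Module.Finite.of_basis b'
  haveI : Module.Free (FixedPoints.subalgebra D S J) (FixedPoints.subalgebra D T J) :=
    Module.Free.of_basis b'
  haveI : Module.Flat (FixedPoints.subalgebra D S J) (FixedPoints.subalgebra D T J) :=
    inferInstance
  haveI : Module.FinitePresentation (FixedPoints.subalgebra D S J)
      (FixedPoints.subalgebra D T J) := Module.finitePresentation_of_projective _ _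
  haveI : Algebra.FinitePresentation (FixedPoints.subalgebra D S J)
      (FixedPoints.subalgebra D T J) := Algebra.FinitePresentation.of_finitePresentation _ _
  -- the pushout property
  haveI hpo : Algebra.IsPushout (FixedPoints.subalgebra D S J) S (FixedPoints.subalgebra D T J)
      T := by
    constructor
    have h1 := IsBaseChange.of_basis (FixedPoints.subalgebra D S J) b
    have h2 := IsBaseChange.comp_equiv b'.repr _ h1
    have h3 : (IsScalarTower.toAlgHom (FixedPoints.subalgebra D S J)
        (FixedPoints.subalgebra D T J) T).toLinearMap =
        (Finsupp.linearCombination (FixedPoints.subalgebra D S J) b).comp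
          b'.repr.toLinearMap := by
      refine b'.ext (fun i => ?_)
      simp only [LinearMap.comp_apply, LinearEquiv.coe_coe, Module.Basis.repr_self,
        Finsupp.linearCombination_single, one_smul]
      change ((b' i : FixedPoints.subalgebra D T J) : T) = b i
      rw [Module.Basis.mk_apply]
    rw [h3]
    exact h2
  -- vanishing of differentials
  haveI : IsLocalRing (FixedPoints.subalgebra D T J) := isLocalRing_fixed D J
  haveI : Algebra.FormallyUnramified (FixedPoints.subalgebra D S J)
      (FixedPoints.subalgebra D T J) := by
    constructor
    have e := KaehlerDifferential.tensorKaehlerEquiv (FixedPoints.subalgebra D S J) S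
      (FixedPoints.subalgebra D T J) T
    haveI : Subsingleton (Ω[T⁄S]) := inferInstance
    haveI : Subsingleton (T ⊗[FixedPoints.subalgebra D T J]
        Ω[FixedPoints.subalgebra D T J⁄FixedPoints.subalgebra D S J]) := e.subsingleton
    exact subsingleton_of_tensor_localHom (R := FixedPoints.subalgebra D T J) (R' := T)
      inferInstance
  exact Algebra.Etale.of_formallyUnramified_of_flat

end Main

end Groth.Agent.Lib.Helper43.EtInv
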