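import Mathlib
import Groth.Agent.Lib.Helper43.EtInvBasic
import Groth.Agent.Lib.Helper81.GaloisAlg2

set_option autoImplicit false
set_option linter.style.haveILetI false
universe u

open IsLocalRing TensorProduct Polynomial

namespace Groth.Agent.Lib.Helper43.EtInv

open Groth.Agent.Lib.Helper81

section Inertia

variable (D : Type u) {S : Type u} [CommRing D] [CommRing S] [Algebra D S] [IsLocalRing S]
  {G : Type u} [Group G] [Finite G] [MulSemiringAction G S] [SMulCommClass G D S]
  (I : Subgroup G) [I.Normal]
  (hI : ∀ g : G, g ∈ I ↔ ∀ s : S, g • s - s ∈ maximalIdeal S)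

include hI in
/-- The coefficient trick: an element outside the inertia group moves some `I`-invariant element
modulo the maximal ideal. -/
theorem exists_fixed_moved (g : G) (hg : g ∉ I) :
    ∃ b : S, (∀ σ : I, σ • b = b) ∧ g • b - b ∉ maximalIdeal S := by
  classical
  cases nonempty_fintype G
  by_contra hcon
  push_neg at hcon
  obtain ⟨a, ha⟩ : ∃ a : S, g • a - a ∉ maximalIdeal S := by
    by_contra h
    push_neg at h
    exact hg ((hI g).mpr h)
  let P : S[X] := MulSemiringAction.charpoly I a
  have hcoeff : ∀ n, residue S (g • P.coeff n) = residue S (P.coeff n) := by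
    intro n
    rw [← sub_eq_zero, ← map_sub, residue_eq_zero_iff]
    exact hcon (P.coeff n) (fun σ => MulSemiringAction.smul_coeff_charpoly a n σ)
  have hcard : Fintype.card I ≠ 0 := Fintype.card_ne_zero
  have h1 : P.map (residue S) = (X - C (residue S a)) ^ Fintype.card I := by
    change (∏ σ : I, (X - C (σ • a))).map (residue S) = _
    rw [Polynomial.map_prod]
    have : ∀ σ : I, (X - C (σ • a)).map (residue S) = X - C (residue S a) := by
      intro σ
      rw [Polynomial.map_sub, Polynomial.map_X, Polynomial.map_C]
      congr 2
      rw [← sub_eq_zero, ← map_sub, residue_eq_zero_iff]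
      exact (hI σ).mp σ.2 a
    simp only [this, Finset.prod_const, Finset.card_univ]
  have h2 : (P.map (MulSemiringAction.toRingHom G S g)).map (residue S) =
      (X - C (residue S (g • a))) ^ Fintype.card I := by
    change ((∏ σ : I, (X - C (σ • a))).map (MulSemiringAction.toRingHom G S g)).map
      (residue S) = _
    rw [Polynomial.map_prod, Polynomial.map_prod]
    have : ∀ σ : I, ((X - C (σ • a)).map (MulSemiringAction.toRingHom G S g)).map (residue S) =
        X - C (residue S (g • a)) := by
      intro σ
      simp only [Polynomial.map_sub, Polynomial.map_X, Polynomial.map_C]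
      congr 2
      change residue S (g • ((σ : G) • a)) = residue S (g • a)
      rw [← sub_eq_zero, ← map_sub, residue_eq_zero_iff]
      have hconj : g * (σ : G) * g⁻¹ ∈ I := Subgroup.Normal.conj_mem inferInstance _ σ.2 g
      have := (hI _).mp hconj (g • a)
      rwa [mul_smul, mul_smul, inv_smul_smul] at this
    simp only [this, Finset.prod_const, Finset.card_univ]
  have h3 : (P.map (MulSemiringAction.toRingHom G S g)).map (residue S) = P.map (residue S) := by
    ext n
    simp only [Polynomial.coeff_map]
    exact hcoeff n
  rw [h1, h2] at h3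
  have h4 := congrArg (Polynomial.eval (residue S a)) h3
  simp only [Polynomial.eval_pow, Polynomial.eval_sub, Polynomial.eval_X, Polynomial.eval_C,
    sub_self] at h4
  rw [zero_pow hcard] at h4
  have h5 := pow_eq_zero_iff hcard |>.mp h4
  apply ha
  rw [← residue_eq_zero_iff, map_sub]
  rw [sub_eq_zero] at h5 ⊢
  exact h5.symm

variable [Algebra.IsInvariant D S G] [FaithfulSMul D S]

include hI in
theorem free_quotient : Galois.Free (FixedPoints.subalgebra D S I) (G ⧸ I) := by
  intro γ hγ
  induction γ using QuotientGroup.induction_on with
  | H g =>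
    have hg : g ∉ I := fun h => hγ ((QuotientGroup.eq_one_iff g).mpr h)
    obtain ⟨b, hb, hgb⟩ := exists_fixed_moved I hI g hg
    let b' : FixedPoints.subalgebra D S I := ⟨b, hb⟩
    have hunit : IsUnit ((QuotientGroup.mk g : G ⧸ I) • b' - b') := by
      apply isUnit_fixed D I
      change IsUnit (g • b - b)
      by_contra h
      exact hgb ((IsLocalRing.mem_maximalIdeal _).mpr h)
    exact Ideal.eq_top_of_isUnit_mem _ (Ideal.subset_span ⟨b', rfl⟩) hunit

include hI in
theorem etale_fixed_inertia : Algebra.Etale D (FixedPoints.subalgebra D S I) := by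
  classical
  cases nonempty_fintype (G ⧸ I)
  haveI : FaithfulSMul D (FixedPoints.subalgebra D S I) := by
    rw [faithfulSMul_iff_algebraMap_injective]
    intro x y hxy
    apply FaithfulSMul.algebraMap_injective D S
    exact congrArg Subtype.val hxy
  have hfree := free_quotient D I hI
  obtain ⟨hproj, hfin⟩ := Galois.projective_finite D hfree
  haveI := Galois.formallyUnramified D hfree
  haveI : Module.Flat D (FixedPoints.subalgebra D S I) := inferInstance
  haveI : Module.FinitePresentation D (FixedPoints.subalgebra D S I) :=
    Module.finitePresentation_of_projective _ _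
  haveI : Algebra.FinitePresentation D (FixedPoints.subalgebra D S I) :=
    Algebra.FinitePresentation.of_finitePresentation _ _
  exact Algebra.Etale.of_formallyUnramified_of_flat

end Inertia

end Groth.Agent.Lib.Helper43.EtInv
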