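import Mathlib
import Groth.Agent.Lib.Helper43.EtInvFixed
import Groth.Agent.Lib.Helper43.EtInvInertia
import Groth.Agent.Lib.Helper81.EtaleInv

set_option autoImplicit false
set_option linter.style.haveILetI false
universe u

open IsLocalRing TensorProduct

namespace Groth.Agent.Lib.Helper43.EtInv

open Groth.Agent.Lib.Helper81

section Normal

variable {S : Type u} [CommRing S] [IsLocalRing S] {G : Type u} [Group G] [MulSemiringAction G S]

theorem smul_mem_maximalIdeal (g : G) {s : S} (hs : s ∈ maximalIdeal S) :
    g • s ∈ maximalIdeal S := by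
  rw [IsLocalRing.mem_maximalIdeal, mem_nonunits_iff] at hs ⊢
  intro h
  apply hs
  have := h.map (MulSemiringAction.toRingHom G S g⁻¹)
  simpa using this

instance inertia_maximalIdeal_normal : ((maximalIdeal S).inertia G).Normal where
  conj_mem σ hσ g := by
    intro s
    have h1 := hσ (g⁻¹ • s)
    have h2 := smul_mem_maximalIdeal g h1
    rw [smul_sub, smul_inv_smul] at h2
    rw [mul_smul, mul_smul]
    exact h2

end Normal

section Local

variable (D S T : Type u) [CommRing D] [CommRing S] [CommRing T] [Algebra D S] [Algebra D T]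
  [Algebra S T] [IsScalarTower D S T] [IsNoetherianRing D] [IsLocalRing S] [IsLocalRing T]
  [IsLocalHom (algebraMap S T)] [Module.Finite D S] [Module.Finite D T]
  [Algebra.FormallyEtale S T]
  {G H : Type u} [Group G] [Finite G] [Group H] [Finite H] [MulSemiringAction G S]
  [SMulCommClass G D S] [MulSemiringAction H T] [SMulCommClass H D T]
  [Algebra.IsInvariant D S G] [FaithfulSMul D S]
  (ι : H →* G) (heq : ∀ (h : H) (s : S), algebraMap S T (ι h • s) = h • algebraMap S T s)
  (hin : ∀ g : G, (∀ s : S, g • s - s ∈ maximalIdeal S) →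
    ∃ h : H, ι h = g ∧ ∀ t : T, h • t - t ∈ maximalIdeal T)

include heq hin in
set_option maxHeartbeats 1600000 in
theorem etale_fixed_local : Algebra.Etale D (FixedPoints.subalgebra D T H) := by
  classical
  haveI : IsNoetherianRing S := Algebra.FiniteType.isNoetherianRing D S
  haveI : Module.Finite S T := Module.Finite.of_restrictScalars_finite D S T
  let IS : Subgroup G := (maximalIdeal S).inertia G
  let J : Subgroup H := (maximalIdeal T).inertia H
  have hIS : ∀ g : G, g ∈ IS ↔ ∀ s : S, g • s - s ∈ maximalIdeal S := fun g => Iff.rfl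
  have hJ : ∀ h : H, h ∈ J ↔ ∀ t : T, h • t - t ∈ maximalIdeal T := fun h => Iff.rfl
  -- the action of `J` on `S`
  letI actJS : MulSemiringAction J S := MulSemiringAction.compHom S (ι.comp J.subtype)
  have hsmul : ∀ (j : J) (s : S), j • s = ι (j : H) • s := fun _ _ => rfl
  haveI : SMulCommClass J D S := ⟨fun j d s => by
    rw [hsmul, hsmul, smul_comm]⟩
  have heq' : ∀ (j : J) (s : S), algebraMap S T (j • s) = j • algebraMap S T s := by
    intro j s
    rw [hsmul, heq]
    rfl
  have htriv : ∀ (j : J) (t : T), j • t - t ∈ maximalIdeal T := fun j t => j.2 t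
  -- step (B2)
  letI algST := fixedAlgebra D J heq'
  haveI e2 : Algebra.Etale (FixedPoints.subalgebra D S J) (FixedPoints.subalgebra D T J) :=
    etale_fixed D J heq' htriv
  -- step (B1)
  have e1 : Algebra.Etale D (FixedPoints.subalgebra D S IS) := etale_fixed_inertia D IS hIS
  have hsub : FixedPoints.subalgebra D S IS = FixedPoints.subalgebra D S J := by
    ext s
    constructor
    · intro hs j
      have hj : ι (j : H) ∈ IS := by
        intro s'
        have h1 := j.2 (algebraMap S T s')
        have h2 : algebraMap S T (ι (j : H) • s' - s') ∈ maximalIdeal T := by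
          rw [map_sub, heq]
          exact h1
        exact (IsLocalRing.mem_maximalIdeal _).mpr
          (fun hu => (IsLocalRing.mem_maximalIdeal _).mp h2 (hu.map (algebraMap S T)))
      exact hs ⟨_, hj⟩
    · intro hs g
      obtain ⟨h, hh, ht⟩ := hin g.1 g.2
      have := hs ⟨h, ht⟩
      rw [hsmul] at this
      change (g : G) • s = s
      rw [← hh]
      exact this
  haveI e1' : Algebra.Etale D (FixedPoints.subalgebra D S J) := hsub ▸ e1
  haveI : IsScalarTower D (FixedPoints.subalgebra D S J) (FixedPoints.subalgebra D T J) :=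
    IsScalarTower.of_algebraMap_eq (fun d => ((fixedHom D J heq').commutes d).symm)
  haveI e3 : Algebra.Etale D (FixedPoints.subalgebra D T J) :=
    Algebra.Etale.comp D (FixedPoints.subalgebra D S J) (FixedPoints.subalgebra D T J)
  -- step (B3)
  have hle : FixedPoints.subalgebra D T H ≤ FixedPoints.subalgebra D T J :=
    fun t ht j => ht (j : H)
  letI algHJ : Algebra (FixedPoints.subalgebra D T H) (FixedPoints.subalgebra D T J) :=
    (Subalgebra.inclusion hle).toRingHom.toAlgebra
  haveI : IsScalarTower D (FixedPoints.subalgebra D T H) (FixedPoints.subalgebra D T J) :=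
    IsScalarTower.of_algebraMap_eq (fun d => rfl)
  haveI : SMulCommClass (H ⧸ J) (FixedPoints.subalgebra D T H) (FixedPoints.subalgebra D T J) :=
    ⟨fun γ b c => by
      induction γ using QuotientGroup.induction_on with
      | H h =>
        apply Subtype.ext
        change h • ((b : T) * (c : T)) = (b : T) * (h • (c : T))
        rw [smul_mul', b.2 h]⟩
  haveI : Algebra.IsInvariant (FixedPoints.subalgebra D T H) (FixedPoints.subalgebra D T J)
      (H ⧸ J) := ⟨fun x hx => by
    refine ⟨⟨x.1, fun h => ?_⟩, rfl⟩
    exact congrArg Subtype.val (hx (QuotientGroup.mk h))⟩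
  haveI : FaithfulSMul (FixedPoints.subalgebra D T H) (FixedPoints.subalgebra D T J) := by
    rw [faithfulSMul_iff_algebraMap_injective]
    intro x y hxy
    apply Subtype.ext
    exact congrArg (fun z : FixedPoints.subalgebra D T J => (z : T)) hxy
  exact EtaleInv.etale_of_isInvariant D (FixedPoints.subalgebra D T H)
    (FixedPoints.subalgebra D T J) (H ⧸ J)

end Local

end Groth.Agent.Lib.Helper43.EtInv
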