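import Mathlib

set_option autoImplicit false
set_option linter.style.haveILetI false
universe u

open TensorProduct

namespace Groth.Agent.Lib.Helper43.EtInv

section LIdem

variable {Q Qb : Type u} [CommRing Q] [CommRing Qb] {G : Type u} [Group G] [Finite G]
  [MulSemiringAction G Q] (H : Subgroup G) [MulSemiringAction H Qb]
  (π : Q →+* Qb) (hπs : Function.Surjective π)
  (e : Q) (he : IsIdempotentElem e)
  (hker : ∀ q, π q = 0 ↔ e * q = 0)
  (hπeq : ∀ (h : H) (q : Q), π ((h : G) • q) = h • π q)
  (hH : ∀ h ∈ H, h • e = e) (hnH : ∀ g, g ∉ H → e * g • e = 0)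

include he hker in
theorem pi_e_eq_one : π e = 1 := by
  have h1 : π (1 - e) = 0 := by
    rw [hker]
    have := he.eq
    ring_nf
    rw [sq, this]; ring
  rw [map_sub, map_one, sub_eq_zero] at h1
  exact h1.symm

theorem out_smul_of_fixed (a : Q) (ha : ∀ h ∈ H, h • a = a) (g : G) (q : G ⧸ H) :
    (g • q).out • a = (g * q.out) • a := by
  have h1 : g • q = QuotientGroup.mk (g * q.out) := by
    conv_lhs => rw [← QuotientGroup.out_eq' q]
    rfl
  obtain ⟨t, ht⟩ := QuotientGroup.mk_out_eq_mul H (g * q.out)
  rw [h1, ht, mul_smul (g * q.out) (t : G), ha t t.2]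

include hπs he hker hπeq hH hnH in
theorem exists_invariant_lift (z : Qb) (hz : ∀ h : H, h • z = z) :
    ∃ c : Q, (∀ g : G, g • c = c) ∧ π c = z := by
  classical
  cases nonempty_fintype G
  have hπe := pi_e_eq_one π e he hker
  obtain ⟨a₀, ha₀⟩ := hπs z
  set a := e * a₀ with ha
  have hπa : π a = z := by rw [ha, map_mul, hπe, one_mul, ha₀]
  have hea : e * a = a := by rw [ha, ← mul_assoc, he.eq]
  have haH : ∀ h ∈ H, h • a = a := by
    intro h hh
    have h1 : π (h • a - a) = 0 := by
      rw [map_sub, hπeq ⟨h, hh⟩ a, hπa, hz, sub_self]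
    rw [hker] at h1
    have h2 : e * (h • a) = h • a := by
      rw [ha, smul_mul', hH h hh, ← mul_assoc, he.eq]
    rw [mul_sub, h2, hea, sub_eq_zero] at h1
    exact h1
  refine ⟨∑ q : G ⧸ H, q.out • a, ?_, ?_⟩
  · intro g
    rw [Finset.smul_sum]
    have : ∀ q : G ⧸ H, g • q.out • a = (g • q).out • a := by
      intro q
      rw [out_smul_of_fixed H a haH, mul_smul]
    simp_rw [this]
    exact Equiv.sum_comp (MulAction.toPerm g) (fun q : G ⧸ H => q.out • a)
  · have hec : e * ∑ q : G ⧸ H, q.out • a = a := by
      rw [Finset.mul_sum, Finset.sum_eq_single (QuotientGroup.mk 1 : G ⧸ H)]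
      · have hmem : ((QuotientGroup.mk 1 : G ⧸ H)).out ∈ H := by
          have := QuotientGroup.out_eq' (QuotientGroup.mk 1 : G ⧸ H)
          rw [QuotientGroup.eq] at this
          simpa using this
        rw [haH _ hmem, hea]
      · intro q _ hq
        have hnot : q.out ∉ H := by
          intro hmem
          apply hq
          rw [← QuotientGroup.out_eq' q, QuotientGroup.eq, mul_one]
          exact H.inv_mem hmem
        have : q.out • a = (q.out • e) * (q.out • a) := by
          conv_lhs => rw [← hea, smul_mul']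
        rw [this, ← mul_assoc, hnH _ hnot, zero_mul]
      · intro h; exact absurd (Finset.mem_univ _) h
    have : π (∑ q : G ⧸ H, q.out • a) = π (e * ∑ q : G ⧸ H, q.out • a) := by
      rw [map_mul, hπe, one_mul]
    rw [this, hec, hπa]

include he hker in
theorem exists_invariant_annihilator (c : Q) (hc : ∀ g : G, g • c = c) (h0 : π c = 0) :
    ∃ ε : Q, (∀ g : G, g • ε = ε) ∧ π ε = 1 ∧ ε * c = 0 := by
  classical
  cases nonempty_fintype G
  have hec : e * c = 0 := (hker c).mp h0
  refine ⟨1 - ∏ g : G, (1 - g • e), ?_, ?_, ?_⟩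
  · intro g'
    rw [smul_sub, smul_one, Finset.smul_prod']
    congr 1
    have : ∀ g : G, g' • (1 - g • e) = 1 - (g' * g) • e := by
      intro g
      rw [smul_sub, smul_one, mul_smul]
    simp_rw [this]
    exact Fintype.prod_equiv (Equiv.mulLeft g') _ _ (fun g => rfl)
  · rw [map_sub, map_one, map_prod]
    rw [Finset.prod_eq_zero (Finset.mem_univ (1 : G))]
    · simp
    · rw [one_smul, map_sub, map_one, pi_e_eq_one π e he hker, sub_self]
  · have key : ∀ s : Finset G, (∏ g ∈ s, (1 - g • e)) * c = c := by
      intro s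
      induction s using Finset.induction_on with
      | empty => simp
      | insert g s hg ih =>
        rw [Finset.prod_insert hg, mul_assoc, ih, sub_mul, one_mul]
        have : g • e * c = 0 := by
          have h1 : g • (e * c) = g • e * c := by rw [smul_mul', hc]
          rw [← h1, hec, smul_zero]
        rw [this, sub_zero]
    rw [sub_mul, one_mul, key, sub_self]

end LIdem

section DirectFactor

variable {B : Type u} [CommRing B] (y : Ideal B) [y.IsPrime]

theorem isEpi_localization (M : Submonoid B) : Algebra.IsEpi B (Localization M) := by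
  rw [Algebra.isEpi_iff_forall_one_tmul_eq]
  intro a
  obtain ⟨b, s, rfl⟩ := IsLocalization.exists_mk'_eq M a
  set i : Localization M := IsLocalization.mk' (Localization M) (1 : B) s with hi
  have h1 : (s : B) • i = 1 := by
    rw [Algebra.smul_def, hi, IsLocalization.mk'_spec'_mk]
    simp
  have h2 : (s : B) • IsLocalization.mk' (Localization M) b s = algebraMap B _ b := by
    rw [Algebra.smul_def, IsLocalization.mk'_spec'_mk]
  have h3 : b • i = IsLocalization.mk' (Localization M) b s := by
    rw [Algebra.smul_def, hi, ← IsLocalization.mk'_eq_mul_mk'_one]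
  calc (1 : Localization M) ⊗ₜ[B] IsLocalization.mk' (Localization M) b s
      = ((s : B) • i) ⊗ₜ[B] IsLocalization.mk' (Localization M) b s := by rw [h1]
    _ = i ⊗ₜ[B] ((s : B) • IsLocalization.mk' (Localization M) b s) := by
        rw [TensorProduct.smul_tmul]
    _ = i ⊗ₜ[B] (b • (1 : Localization M)) := by
        rw [h2, Algebra.algebraMap_eq_smul_one]
    _ = (b • i) ⊗ₜ[B] 1 := by rw [TensorProduct.smul_tmul]
    _ = IsLocalization.mk' (Localization M) b s ⊗ₜ[B] 1 := by rw [h3]

theorem exists_idempotent_of_finite_localization [IsNoetherianRing B]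
    [Module.Finite B (Localization.AtPrime y)] :
    ∃ e : B, IsIdempotentElem e ∧
      Function.Surjective (algebraMap B (Localization.AtPrime y)) ∧
      ∀ b, algebraMap B (Localization.AtPrime y) b = 0 ↔ e * b = 0 := by
  classical
  haveI := isEpi_localization y.primeCompl
  have hsurj : Function.Surjective (algebraMap B (Localization.AtPrime y)) :=
    (Algebra.isEpi_iff_surjective_algebraMap_of_finite).mp inferInstance
  set J : Ideal B := RingHom.ker (algebraMap B (Localization.AtPrime y)) with hJ
  obtain ⟨t, ht⟩ : J.FG := IsNoetherian.noetherian J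
  have hex : ∀ b ∈ J, ∃ s : y.primeCompl, (s : B) * b = 0 := by
    intro b hb
    rw [hJ, RingHom.mem_ker] at hb
    exact (IsLocalization.map_eq_zero_iff y.primeCompl _ b).mp hb
  choose! sf hsf using hex
  set s : y.primeCompl := ∏ b ∈ t, sf b with hs
  have hsJ : ∀ j ∈ J, (s : B) * j = 0 := by
    intro j hj
    rw [← ht] at hj
    induction hj using Submodule.span_induction with
    | mem b hb =>
      have hbJ : b ∈ J := by rw [← ht]; exact Ideal.subset_span hb
      have hdvd : (sf b : B) ∣ (s : B) := by
        rw [hs, Submonoid.coe_finsetProd]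
        exact Finset.dvd_prod_of_mem (fun b => (sf b : B)) hb
      obtain ⟨r, hr⟩ := hdvd
      rw [hr, mul_comm (sf b : B) r, mul_assoc, hsf b hbJ, mul_zero]
    | zero => simp
    | add a b _ _ ha hb => rw [mul_add, ha, hb, add_zero]
    | smul r a _ ha => rw [smul_eq_mul, mul_left_comm, ha, mul_zero]
  obtain ⟨b', hb'⟩ := hsurj (IsLocalization.mk' (Localization.AtPrime y) (1 : B) s)
  set e := b' * (s : B) with he
  have hπe : algebraMap B (Localization.AtPrime y) e = 1 := by
    rw [he, map_mul, hb', IsLocalization.mk'_spec_mk, map_one]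
  have heJ : ∀ j ∈ J, e * j = 0 := by
    intro j hj
    rw [he, mul_assoc, hsJ j hj, mul_zero]
  have h1J : e - 1 ∈ J := by
    rw [hJ, RingHom.mem_ker, map_sub, hπe, map_one, sub_self]
  refine ⟨e, ?_, hsurj, ?_⟩
  · have := heJ _ h1J
    rw [mul_sub, mul_one, sub_eq_zero] at this
    exact this
  · intro b
    constructor
    · intro hb
      exact heJ b (by rw [hJ, RingHom.mem_ker]; exact hb)
    · intro hb
      have := congrArg (algebraMap B (Localization.AtPrime y)) hb
      rw [map_mul, hπe, one_mul, map_zero] at this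
      exact this

end DirectFactor

end Groth.Agent.Lib.Helper43.EtInv
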