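import Mathlib

set_option autoImplicit false
set_option linter.style.haveILetI false
universe u

open scoped Pointwise

namespace Groth.Agent.Lib.Helper43.EtInv

section LocAct

variable {R : Type u} [CommRing R] {G : Type u} [Group G] [MulSemiringAction G R]
  (M : Submonoid R) (hM : ∀ (g : G), ∀ r ∈ M, g • r ∈ M)

noncomputable def locMapM (g : G) : Localization M →+* Localization M :=
  IsLocalization.map (Localization M) (MulSemiringAction.toRingHom G R g)
    (show M ≤ M.comap (MulSemiringAction.toRingHom G R g) from fun r hr => hM g r hr)

theorem locMapM_algebraMap (g : G) (r : R) :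
    locMapM M hM g (algebraMap R (Localization M) r) = algebraMap R (Localization M) (g • r) :=
  IsLocalization.map_eq _ r

theorem locMapM_one : locMapM M hM 1 = RingHom.id _ := by
  apply IsLocalization.ringHom_ext M
  ext r
  simp only [RingHom.coe_comp, Function.comp_apply, RingHom.id_apply]
  rw [locMapM_algebraMap, one_smul]

theorem locMapM_mul (g h : G) :
    locMapM M hM (g * h) = (locMapM M hM g).comp (locMapM M hM h) := by
  apply IsLocalization.ringHom_ext M
  ext r
  simp only [RingHom.coe_comp, Function.comp_apply]
  rw [locMapM_algebraMap, locMapM_algebraMap, locMapM_algebraMap, mul_smul]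

/-- The action on a localization at an invariant submonoid. -/
@[instance_reducible]
noncomputable def locStabAction : MulSemiringAction G (Localization M) where
  smul g x := locMapM M hM g x
  one_smul x := by
    change locMapM M hM 1 x = x
    rw [locMapM_one]; rfl
  mul_smul g h x := by
    change locMapM M hM (g * h) x = locMapM M hM g (locMapM M hM h x)
    rw [locMapM_mul]; rfl
  smul_zero g := map_zero (locMapM M hM g)
  smul_add g := map_add (locMapM M hM g)
  smul_one g := map_one (locMapM M hM g)
  smul_mul g := map_mul (locMapM M hM g)

theorem locStab_smul_algebraMap (g : G) (r : R) :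
    letI := locStabAction M hM
    g • (algebraMap R (Localization M) r) = algebraMap R (Localization M) (g • r) :=
  locMapM_algebraMap M hM g r

end LocAct

section AtPrime

variable {R : Type u} [CommRing R] {G : Type u} [Group G] [MulSemiringAction G R]
  (x : Ideal R) [x.IsPrime]

theorem stab_primeCompl (h : MulAction.stabilizer G x) (r : R) (hr : r ∈ x.primeCompl) :
    h • r ∈ x.primeCompl := by
  intro hmem
  apply hr
  have h1 : (h : G) • x = x := h.2
  have h2 : (h : G) • r ∈ (h : G) • x := by rw [h1]; exact hmem
  exact (Ideal.smul_mem_pointwise_smul_iff).mp h2

/-- The action of the stabilizer on the localization at a prime. -/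
@[instance_reducible]
noncomputable def atPrimeAction :
    MulSemiringAction (MulAction.stabilizer G x) (Localization.AtPrime x) :=
  locStabAction x.primeCompl (stab_primeCompl x)

theorem atPrime_smul_algebraMap (h : MulAction.stabilizer G x) (r : R) :
    letI := atPrimeAction (G := G) x
    h • (algebraMap R (Localization.AtPrime x) r) =
      algebraMap R (Localization.AtPrime x) ((h : G) • r) :=
  locMapM_algebraMap x.primeCompl (stab_primeCompl x) h r

end AtPrime

end Groth.Agent.Lib.Helper43.EtInv
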