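import Mathlib
import Groth.Agent.Lib.Helper43.EtInvLocAct
import Groth.Agent.Lib.Helper43.EtInvIdem

set_option autoImplicit false
set_option linter.style.haveILetI false
universe u

open scoped Pointwise
open IsLocalRing

namespace Groth.Agent.Lib.Helper43.EtInv

section IdemLocal

variable {Q : Type u} [CommRing Q] (x : Ideal Q) [x.IsPrime]

theorem algebraMap_idem_of_notMem {u : Q} (hu : IsIdempotentElem u) (hux : u ∉ x) :
    algebraMap Q (Localization.AtPrime x) u = 1 := by
  have hunit : IsUnit (algebraMap Q (Localization.AtPrime x) u) :=
    IsLocalization.map_units (Localization.AtPrime x) (⟨u, hux⟩ : x.primeCompl)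
  have h1 : algebraMap Q (Localization.AtPrime x) u * algebraMap Q (Localization.AtPrime x) u =
      algebraMap Q (Localization.AtPrime x) u := by rw [← map_mul, hu.eq]
  have := hunit.mul_left_cancel (a := algebraMap Q (Localization.AtPrime x) u) (c := 1)
    (by rw [h1, mul_one])
  exact this

theorem algebraMap_idem_of_mem {u : Q} (hu : IsIdempotentElem u) (hux : u ∈ x) :
    algebraMap Q (Localization.AtPrime x) u = 0 := by
  have h1 : (1 - u) ∉ x := by
    intro h
    have : (1 : Q) ∈ x := by
      have := x.add_mem h hux
      rwa [sub_add_cancel] at this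
    exact (Ideal.ne_top_iff_one x).mp (Ideal.IsPrime.ne_top inferInstance) this
  have h2 := algebraMap_idem_of_notMem x hu.one_sub h1
  rw [map_sub, map_one, sub_eq_self] at h2
  exact h2

variable {G : Type u} [Group G] [MulSemiringAction G Q]

theorem idem_stab (e : Q) (he : IsIdempotentElem e) (hex : e ∉ x)
    (hker : ∀ q, algebraMap Q (Localization.AtPrime x) q = 0 ↔ e * q = 0)
    (hoth : ∀ g : G, g • x ≠ x → e ∈ g • x) :
    (∀ h ∈ MulAction.stabilizer G x, h • e = e) ∧
      (∀ g, g ∉ MulAction.stabilizer G x → e * g • e = 0) := by
  have hidem : ∀ g : G, IsIdempotentElem (g • e) := fun g => by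
    change g • e * g • e = g • e
    rw [← smul_mul', he.eq]
  have key : ∀ h ∈ MulAction.stabilizer G x, e = e * h • e := by
    intro h hh
    have h1 : h • x = x := hh
    have hnot : h • e ∉ x := by
      intro hmem
      apply hex
      rw [← h1] at hmem
      exact (Ideal.smul_mem_pointwise_smul_iff).mp hmem
    have h2 := algebraMap_idem_of_notMem x (hidem h) hnot
    have h3 : algebraMap Q (Localization.AtPrime x) (1 - h • e) = 0 := by
      rw [map_sub, map_one, h2, sub_self]
    rw [hker, mul_sub, mul_one, sub_eq_zero] at h3
    exact h3
  constructor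
  · intro h hh
    have h1 := key h hh
    have h2 := key h⁻¹ (inv_mem hh)
    have h3 : h • e = h • e * e := by
      have := congrArg (fun q => h • q) h2
      simp only [smul_mul', smul_inv_smul] at this
      exact this
    rw [h3, mul_comm]
    exact h1.symm
  · intro g hg
    have hne : g⁻¹ • x ≠ x := by
      intro h
      apply hg
      change g • x = x
      conv_lhs => rw [← h, smul_inv_smul]
    have h1 := hoth g⁻¹ hne
    rw [Ideal.mem_inv_pointwise_smul_iff] at h1
    have h2 := algebraMap_idem_of_mem x (hidem g) h1
    rw [hker] at h2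
    exact h2

end IdemLocal

section Away

variable {D A : Type u} [CommRing D] [CommRing A] [Algebra D A] [IsLocalRing D]
  (x : Ideal A) [x.IsPrime]
  (e : A) (he : IsIdempotentElem e) (hex : e ∉ x) [Module.Finite D (Localization.Away e)]
  (huniq : ∀ x₂ : Ideal A, x₂.IsPrime → x₂.comap (algebraMap D A) = maximalIdeal D →
    e ∉ x₂ → x₂ = x)

include hex huniq in
theorem isLocalization_atPrime_away : IsLocalization.AtPrime (Localization.Away e) x := by
  refine IsLocalization.of_le (M := Submonoid.powers e) (S := Localization.Away e)
    x.primeCompl ?_ ?_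
  · rintro _ ⟨n, rfl⟩
    exact fun h => hex (Ideal.IsPrime.mem_of_pow_mem inferInstance n h)
  · intro r hr
    by_contra hnu
    obtain ⟨n, hn, hrn⟩ := exists_max_ideal_of_mem_nonunits hnu
    haveI : Algebra.IsIntegral D (Localization.Away e) := inferInstance
    haveI : (n.comap (algebraMap D (Localization.Away e))).IsMaximal :=
      Ideal.isMaximal_comap_of_isIntegral_of_isMaximal n
    have h1 : n.comap (algebraMap D (Localization.Away e)) = maximalIdeal D :=
      IsLocalRing.eq_maximalIdeal inferInstance
    have h2 : (n.comap (algebraMap A (Localization.Away e))).comap (algebraMap D A) =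
        maximalIdeal D := by
      rw [Ideal.comap_comap, ← IsScalarTower.algebraMap_eq]
      exact h1
    have h3 : e ∉ n.comap (algebraMap A (Localization.Away e)) := by
      intro h
      have hu : IsUnit (algebraMap A (Localization.Away e) e) :=
        IsLocalization.Away.algebraMap_isUnit e
      exact hn.ne_top (Ideal.eq_top_of_isUnit_mem _ h hu)
    have h4 := huniq _ (Ideal.comap_isPrime _ n) h2 h3
    apply hr
    rw [← h4]
    exact hrn

include he in
theorem away_idem_algebraMap : algebraMap A (Localization.Away e) e = 1 := by
  have hu : IsUnit (algebraMap A (Localization.Away e) e) :=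
    IsLocalization.Away.algebraMap_isUnit e
  have h1 : algebraMap A (Localization.Away e) e * algebraMap A (Localization.Away e) e =
      algebraMap A (Localization.Away e) e := by rw [← map_mul, he.eq]
  exact hu.mul_left_cancel (by rw [h1, mul_one])

include he in
theorem away_idem_surjective : Function.Surjective (algebraMap A (Localization.Away e)) := by
  intro z
  obtain ⟨a, s, rfl⟩ := IsLocalization.exists_mk'_eq (Submonoid.powers e) z
  refine ⟨a, ?_⟩
  obtain ⟨n, hn⟩ := s.2
  have h1 : algebraMap A (Localization.Away e) (s : A) = 1 := by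
    rw [← hn, map_pow, away_idem_algebraMap e he, one_pow]
  rw [IsLocalization.eq_mk'_iff_mul_eq, h1, mul_one]

include he in
theorem away_idem_ker (a : A) : algebraMap A (Localization.Away e) a = 0 ↔ e * a = 0 := by
  constructor
  · intro h
    obtain ⟨m, hm⟩ := (IsLocalization.map_eq_zero_iff (Submonoid.powers e) _ a).mp h
    obtain ⟨n, hn⟩ := m.2
    have hn' : e ^ n = (m : A) := hn
    rcases n with _ | n
    · rw [pow_zero] at hn'
      rw [← hn', one_mul] at hm
      rw [hm, mul_zero]
    · rw [he.pow_succ_eq] at hn'
      rw [hn']; exact hm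
  · intro h
    have := congrArg (algebraMap A (Localization.Away e)) h
    rw [map_mul, away_idem_algebraMap e he, one_mul, map_zero] at this
    exact this

include he hex huniq in
theorem atPrime_facts :
    Module.Finite D (Localization.AtPrime x) ∧
      Function.Surjective (algebraMap A (Localization.AtPrime x)) ∧
      ∀ a, algebraMap A (Localization.AtPrime x) a = 0 ↔ e * a = 0 := by
  haveI := isLocalization_atPrime_away x e hex huniq
  let φ : Localization.Away e ≃ₐ[A] Localization.AtPrime x :=
    IsLocalization.algEquiv x.primeCompl _ _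
  refine ⟨?_, ?_, ?_⟩
  · exact Module.Finite.equiv (φ.restrictScalars D).toLinearEquiv
  · intro z
    obtain ⟨a, ha⟩ := away_idem_surjective e he (φ.symm z)
    refine ⟨a, ?_⟩
    have := congrArg φ ha
    rw [φ.commutes, φ.apply_symm_apply] at this
    exact this
  · intro a
    rw [← away_idem_ker e he a, ← φ.commutes a]
    exact φ.map_eq_zero_iff

end Away

end Groth.Agent.Lib.Helper43.EtInv
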