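import Mathlib
import Groth.Agent.Lib.Helper43.EtInvSplit
import Groth.Agent.Lib.Helper43.EtInvLocal

set_option autoImplicit false
set_option linter.style.haveILetI false
universe u

open scoped Pointwise
open IsLocalRing

namespace Groth.Agent.Lib.Helper43.EtInv

section Aux

variable {D A : Type u} [CommRing D] [CommRing A] [Algebra D A]
  {G : Type u} [Group G] [MulSemiringAction G A] [SMulCommClass G D A]

theorem comap_smul_ideal (g : G) (I : Ideal A) :
    (g • I).comap (algebraMap D A) = I.comap (algebraMap D A) := by
  ext d
  simp only [Ideal.mem_comap]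
  rw [Ideal.mem_pointwise_smul_iff_inv_smul_mem, smul_algebraMap]

end Aux

section ThmLoc

variable {D A B : Type u} [CommRing D] [CommRing A] [CommRing B] [Algebra D A] [Algebra D B]
  [Algebra B A] [IsScalarTower D B A] [IsNoetherianRing D] [IsLocalRing D] [Module.Finite D B]
  {G : Type u} [Group G] [Finite G] [MulSemiringAction G A] [MulSemiringAction G B]
  [SMulCommClass G D A] [SMulCommClass G D B]
  (hGeq : ∀ (g : G) (b : B), algebraMap B A (g • b) = g • algebraMap B A b)
  [Algebra.IsInvariant D B G] [FaithfulSMul D B]
  (x : Ideal A) [x.IsPrime] (hxD : x.comap (algebraMap D A) = maximalIdeal D)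
  [hx : Algebra.IsEtaleAt B x]
  (hin : x.inertia G = (x.comap (algebraMap B A)).inertia G)
  (e : A) (he : IsIdempotentElem e) (hex : e ∉ x) [Module.Finite D (Localization.Away e)]
  (huniq : ∀ x₂ : Ideal A, x₂.IsPrime → x₂.comap (algebraMap D A) = maximalIdeal D →
    e ∉ x₂ → x₂ = x)

include hGeq in
theorem stab_le_stab_comap :
    MulAction.stabilizer G x ≤ MulAction.stabilizer G (x.comap (algebraMap B A)) := by
  intro h hh
  have h1 : h • x = x := hh
  change h • (x.comap (algebraMap B A)) = x.comap (algebraMap B A)
  ext b
  rw [Ideal.mem_pointwise_smul_iff_inv_smul_mem, Ideal.mem_comap, Ideal.mem_comap, hGeq,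
    ← Ideal.mem_pointwise_smul_iff_inv_smul_mem, h1]

set_option maxHeartbeats 3200000 in
include hGeq hxD hin he hex huniq in
theorem isEtaleAt_of_split :
    Algebra.IsEtaleAt D (x.comap (algebraMap (FixedPoints.subalgebra D A G) A)) ∧
      Module.Flat D (Localization.AtPrime
        (x.comap (algebraMap (FixedPoints.subalgebra D A G) A))) := by
  classical
  set y : Ideal B := x.comap (algebraMap B A) with hy
  haveI : y.IsPrime := Ideal.comap_isPrime _ _
  haveI : x.LiesOver y := ⟨rfl⟩
  obtain ⟨hTfin, hTsurj, hTker⟩ := atPrime_facts (D := D) x e he hex huniq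
  haveI := hTfin
  letI algST := Localization.AtPrime.algebraOfLiesOver y x
  haveI : Algebra.FormallyEtale (Localization.AtPrime y) (Localization.AtPrime x) :=
    .localization_base y.primeCompl
  haveI : IsNoetherianRing B := Algebra.FiniteType.isNoetherianRing D B
  haveI : IsNoetherianRing (Localization.AtPrime y) :=
    IsLocalization.isNoetherianRing y.primeCompl _ inferInstance
  haveI : Module.Finite (Localization.AtPrime y) (Localization.AtPrime x) :=
    Module.Finite.of_restrictScalars_finite D _ _
  haveI : Algebra.FinitePresentation (Localization.AtPrime y) (Localization.AtPrime x) :=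
    Algebra.FinitePresentation.of_finiteType.mp inferInstance
  haveI : Algebra.Etale (Localization.AtPrime y) (Localization.AtPrime x) :=
    ⟨inferInstance, inferInstance⟩
  haveI : Module.Flat (Localization.AtPrime y) (Localization.AtPrime x) := inferInstance
  haveI hloc : IsLocalHom (algebraMap (Localization.AtPrime y) (Localization.AtPrime x)) :=
    Localization.isLocalHom_localRingHom y x (algebraMap B A) Ideal.LiesOver.over
  haveI : Module.FaithfullyFlat (Localization.AtPrime y) (Localization.AtPrime x) :=
    Module.FaithfullyFlat.of_flat_of_isLocalHom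
  have hSTinj : Function.Injective
      (algebraMap (Localization.AtPrime y) (Localization.AtPrime x)) :=
    FaithfulSMul.algebraMap_injective _ _
  haveI hSfin : Module.Finite D (Localization.AtPrime y) :=
    Module.Finite.of_injective
      (IsScalarTower.toAlgHom D (Localization.AtPrime y) (Localization.AtPrime x)).toLinearMap
      hSTinj
  haveI : Module.Finite B (Localization.AtPrime y) :=
    Module.Finite.of_restrictScalars_finite D _ _
  obtain ⟨eB, heB, hSsurj, hSker⟩ := exists_idempotent_of_finite_localization y
  have hπeB : algebraMap B (Localization.AtPrime y) eB = 1 :=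
    pi_e_eq_one (algebraMap B (Localization.AtPrime y)) eB heB hSker
  have heBy : eB ∉ y := by
    intro h
    have h1 := (IsLocalization.AtPrime.to_map_mem_maximal_iff (Localization.AtPrime y) y eB).mpr h
    rw [hπeB] at h1
    exact (Ideal.ne_top_iff_one _).mp (IsLocalRing.maximalIdeal.isMaximal _).ne_top h1
  have hyD : y.comap (algebraMap D B) = maximalIdeal D := by
    rw [hy, Ideal.comap_comap, ← IsScalarTower.algebraMap_eq]
    exact hxD
  haveI : Algebra.IsIntegral D B := inferInstance
  haveI hymax : y.IsMaximal := by
    apply Ideal.isMaximal_of_isIntegral_of_isMaximal_comap (R := D) y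
    rw [hyD]; infer_instance
  -- the other maximal ideals contain the idempotents
  have hothB : ∀ g : G, g • y ≠ y → eB ∈ g • y := by
    intro g hg
    by_contra hnot
    apply hg
    haveI : (g • y).IsPrime := Ideal.IsPrime.smul g
    have hnD : (g • y).comap (algebraMap D B) = maximalIdeal D := by
      rw [comap_smul_ideal, hyD]
    haveI hnmax : (g • y).IsMaximal := by
      apply Ideal.isMaximal_of_isIntegral_of_isMaximal_comap (R := D) (g • y)
      rw [hnD]; infer_instance
    have hle : g • y ≤ y := by
      intro b hb
      by_contra hby
      have hu : IsUnit (algebraMap B (Localization.AtPrime y) b) :=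
        IsLocalization.map_units _ (⟨b, hby⟩ : y.primeCompl)
      obtain ⟨b'', hb''⟩ := hSsurj (↑hu.unit⁻¹)
      have h0 : algebraMap B (Localization.AtPrime y) (b * b'' - 1) = 0 := by
        rw [map_sub, map_mul, hb'', map_one, IsUnit.mul_val_inv, sub_self]
      rw [hSker] at h0
      have h1 : eB * (b * b'' - 1) ∈ g • y := by rw [h0]; exact Ideal.zero_mem _
      have h2 := (Ideal.IsPrime.mem_or_mem inferInstance h1).resolve_left hnot
      have h3 : (1 : B) ∈ g • y := by
        have := (g • y).sub_mem (Ideal.mul_mem_right b'' _ hb) h2
        simpa using this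
      exact (Ideal.ne_top_iff_one _).mp hnmax.ne_top h3
    exact hnmax.eq_of_le hymax.ne_top hle
  have hothA : ∀ g : G, g • x ≠ x → e ∈ g • x := by
    intro g hg
    by_contra hnot
    apply hg
    exact huniq (g • x) (Ideal.IsPrime.smul g) (by rw [comap_smul_ideal, hxD]) hnot
  obtain ⟨hA1, hA2⟩ := idem_stab x e he hex hTker hothA
  obtain ⟨hB1, hB2⟩ := idem_stab y eB heB heBy hSker hothB
  -- actions
  letI actT := atPrimeAction (G := G) x
  letI actS := atPrimeAction (G := G) y
  have hactT : ∀ (h : MulAction.stabilizer G x) (a : A),
      h • algebraMap A (Localization.AtPrime x) a =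
        algebraMap A (Localization.AtPrime x) ((h : G) • a) :=
    fun h a => atPrime_smul_algebraMap x h a
  have hactS : ∀ (h : MulAction.stabilizer G y) (b : B),
      h • algebraMap B (Localization.AtPrime y) b =
        algebraMap B (Localization.AtPrime y) ((h : G) • b) :=
    fun h b => atPrime_smul_algebraMap y h b
  haveI : SMulCommClass (MulAction.stabilizer G x) D (Localization.AtPrime x) := ⟨fun h d t => by
    rw [Algebra.smul_def, Algebra.smul_def, smul_mul',
      IsScalarTower.algebraMap_apply D A (Localization.AtPrime x), hactT, smul_algebraMap]⟩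
  haveI : SMulCommClass (MulAction.stabilizer G y) D (Localization.AtPrime y) := ⟨fun h d t => by
    rw [Algebra.smul_def, Algebra.smul_def, smul_mul',
      IsScalarTower.algebraMap_apply D B (Localization.AtPrime y), hactS, smul_algebraMap]⟩
  -- invariants of `S`
  haveI : Algebra.IsInvariant D (Localization.AtPrime y) (MulAction.stabilizer G y) := ⟨by
    intro z hz
    obtain ⟨c, hc, hcz⟩ := exists_invariant_lift (MulAction.stabilizer G y)
      (algebraMap B (Localization.AtPrime y)) hSsurj eB heB hSker
      (fun h q => (hactS h q).symm) hB1 hB2 z hz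
    obtain ⟨d, hd⟩ := Algebra.IsInvariant.isInvariant (A := D) (G := G) c hc
    refine ⟨d, ?_⟩
    rw [IsScalarTower.algebraMap_apply D B (Localization.AtPrime y), hd, hcz]⟩
  haveI : FaithfulSMul D (Localization.AtPrime y) := by
    rw [faithfulSMul_iff_algebraMap_injective, injective_iff_map_eq_zero]
    intro d hd
    rw [IsScalarTower.algebraMap_apply D B (Localization.AtPrime y)] at hd
    obtain ⟨ε, hε, hπε, hεd⟩ := exists_invariant_annihilator (G := G)
      (algebraMap B (Localization.AtPrime y)) eB heB hSker (algebraMap D B d)
      (fun g => smul_algebraMap g d) hd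
    obtain ⟨d₀, hd₀⟩ := Algebra.IsInvariant.isInvariant (A := D) (G := G) ε hε
    have hunit : IsUnit d₀ := by
      by_contra hnu
      have h1 : d₀ ∈ maximalIdeal D := (IsLocalRing.mem_maximalIdeal _).mpr hnu
      rw [← hyD, Ideal.mem_comap, hd₀] at h1
      have h2 := (IsLocalization.AtPrime.to_map_mem_maximal_iff (Localization.AtPrime y) y
        ε).mpr h1
      rw [hπε] at h2
      exact (Ideal.ne_top_iff_one _).mp (IsLocalRing.maximalIdeal.isMaximal _).ne_top h2
    have h3 : algebraMap D B (d₀ * d) = 0 := by rw [map_mul, hd₀, hεd]
    have h4 := (map_eq_zero_iff _ (FaithfulSMul.algebraMap_injective D B)).mp h3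
    exact (hunit.mul_right_eq_zero).mp h4
  -- apply the local theorem
  have hle := stab_le_stab_comap (B := B) hGeq x
  have hetale : Algebra.Etale D (FixedPoints.subalgebra D (Localization.AtPrime x)
      (MulAction.stabilizer G x)) := by
    refine etale_fixed_local D (Localization.AtPrime y) (Localization.AtPrime x)
      (G := MulAction.stabilizer G y) (H := MulAction.stabilizer G x)
      (Subgroup.inclusion hle) ?_ ?_
    · intro h s
      have : (algebraMap (Localization.AtPrime y) (Localization.AtPrime x)).comp
          (MulSemiringAction.toRingHom (MulAction.stabilizer G y) (Localization.AtPrime y)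
            (Subgroup.inclusion hle h)) =
          (MulSemiringAction.toRingHom (MulAction.stabilizer G x) (Localization.AtPrime x) h).comp
            (algebraMap (Localization.AtPrime y) (Localization.AtPrime x)) := by
        apply IsLocalization.ringHom_ext y.primeCompl
        ext b
        simp only [RingHom.coe_comp, Function.comp_apply, MulSemiringAction.toRingHom_apply]
        rw [hactS, ← IsScalarTower.algebraMap_apply B (Localization.AtPrime y)
          (Localization.AtPrime x), ← IsScalarTower.algebraMap_apply B (Localization.AtPrime y)
          (Localization.AtPrime x), IsScalarTower.algebraMap_apply B A (Localization.AtPrime x),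
          IsScalarTower.algebraMap_apply B A (Localization.AtPrime x), hactT]
        congr 1
        exact hGeq _ b
      exact congrArg (fun φ => φ s) this
    · intro g hg
      have hgy : (g : G) ∈ y.inertia G := by
        intro b
        have h1 := hg (algebraMap B (Localization.AtPrime y) b)
        rw [hactS, ← map_sub,
          IsLocalization.AtPrime.to_map_mem_maximal_iff (Localization.AtPrime y) y] at h1
        exact h1
      have hgy' : (g : G) ∈ x.inertia G := by rw [hin]; exact hgy
      have hgx : (g : G) ∈ MulAction.stabilizer G x := Ideal.inertia_le_stabilizer x hgy'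
      refine ⟨⟨(g : G), hgx⟩, Subtype.ext rfl, ?_⟩
      intro t
      obtain ⟨a, rfl⟩ := hTsurj t
      rw [hactT, ← map_sub,
        IsLocalization.AtPrime.to_map_mem_maximal_iff (Localization.AtPrime x) x]
      exact hgy' a
  -- identify the fixed ring with the local ring of the invariants
  let C := FixedPoints.subalgebra D A G
  let TH := FixedPoints.subalgebra D (Localization.AtPrime x) (MulAction.stabilizer G x)
  let φ : C →ₐ[D] TH :=
    ((IsScalarTower.toAlgHom D A (Localization.AtPrime x)).comp C.val).codRestrict _
      (fun c h => by
        change h • algebraMap A (Localization.AtPrime x) (c : A) =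
          algebraMap A (Localization.AtPrime x) (c : A)
        rw [hactT, c.2 (h : G)])
  letI algCT : Algebra C TH := φ.toRingHom.toAlgebra
  have hφ : ∀ c : C, ((algebraMap C TH c : TH) : Localization.AtPrime x) =
      algebraMap A (Localization.AtPrime x) (c : A) := fun c => rfl
  haveI : IsScalarTower D C TH := IsScalarTower.of_algebraMap_eq (fun d => (φ.commutes d).symm)
  set p : Ideal C := x.comap (algebraMap C A) with hp
  haveI : p.IsPrime := Ideal.comap_isPrime _ _
  haveI : IsLocalization.AtPrime TH p :=
    { map_units := by
        intro c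
        apply isUnit_fixed D (MulAction.stabilizer G x)
        rw [hφ]
        exact IsLocalization.map_units (Localization.AtPrime x)
          (⟨((c : C) : A), c.2⟩ : x.primeCompl)
      surj := by
        intro z
        obtain ⟨c, hc, hcz⟩ := exists_invariant_lift (MulAction.stabilizer G x)
          (algebraMap A (Localization.AtPrime x)) hTsurj e he hTker
          (fun h q => (hactT h q).symm) hA1 hA2 (z : Localization.AtPrime x) z.2
        refine ⟨(⟨c, hc⟩, 1), ?_⟩
        apply Subtype.ext
        simp only [OneMemClass.coe_one, map_one, mul_one]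
        rw [hφ]
        exact hcz.symm
      exists_of_eq := by
        intro c₁ c₂ h
        have h0 : algebraMap A (Localization.AtPrime x) ((c₁ - c₂ : C) : A) = 0 := by
          have := congrArg Subtype.val h
          rw [hφ, hφ] at this
          rw [Subalgebra.coe_sub, map_sub, this, sub_self]
        obtain ⟨ε, hε, hπε, hεc⟩ := exists_invariant_annihilator (G := G)
          (algebraMap A (Localization.AtPrime x)) e he hTker ((c₁ - c₂ : C) : A)
          (fun g => (c₁ - c₂).2 g) h0
        have hεp : (⟨ε, hε⟩ : C) ∈ p.primeCompl := by
          intro hmem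
          have h2 := (IsLocalization.AtPrime.to_map_mem_maximal_iff (Localization.AtPrime x) x
            ε).mpr hmem
          rw [hπε] at h2
          exact (Ideal.ne_top_iff_one _).mp (IsLocalRing.maximalIdeal.isMaximal _).ne_top h2
        refine ⟨⟨⟨ε, hε⟩, hεp⟩, ?_⟩
        apply Subtype.ext
        have : ε * ((c₁ : A) - (c₂ : A)) = 0 := by
          rw [← Subalgebra.coe_sub]; exact hεc
        rw [mul_sub, sub_eq_zero] at this
        exact this }
  let ψ : Localization.AtPrime p ≃ₐ[C] TH := IsLocalization.algEquiv p.primeCompl _ _
  haveI : Algebra.FormallyEtale D TH := hetale.formallyEtale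
  haveI : Module.Flat D TH := inferInstance
  exact ⟨Algebra.FormallyEtale.of_equiv (ψ.restrictScalars D).symm,
    Module.Flat.of_linearEquiv (ψ.restrictScalars D).toLinearEquiv⟩

end ThmLoc

end Groth.Agent.Lib.Helper43.EtInv
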