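import Mathlib
import Groth.Agent.Lib.Helper43.EtInvThmLoc
import Groth.Agent.Lib.Helper43.EtInvDescent

set_option autoImplicit false
set_option linter.style.haveILetI false
universe u

open TensorProduct IsLocalRing

namespace Groth.Agent.Lib.Helper43.EtInv

attribute [local instance] tensorAction tensorAction_smulCommClass tensorAlgebra
  tensorAlgebra_isScalarTower

section Fin

variable (D A : Type u) [CommRing D] [CommRing A] [Algebra D A] [IsNoetherianRing D]
  [Algebra.FiniteType D A] (G : Type u) [Group G] [Finite G] [MulSemiringAction G A]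
  [SMulCommClass G D A]

instance isInvariant_fixed : Algebra.IsInvariant (FixedPoints.subalgebra D A G) A G :=
  ⟨fun a ha => ⟨⟨a, ha⟩, rfl⟩⟩

theorem finiteType_fixed : Algebra.FiniteType D (FixedPoints.subalgebra D A G) := by
  haveI : Algebra.IsIntegral (FixedPoints.subalgebra D A G) A :=
    Algebra.IsInvariant.isIntegral _ A G
  haveI : Algebra.FiniteType (FixedPoints.subalgebra D A G) A :=
    Algebra.FiniteType.of_restrictScalars_finiteType D _ A
  haveI : Module.Finite (FixedPoints.subalgebra D A G) A := Algebra.IsIntegral.finite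
  exact ⟨fg_of_fg_of_fg D (FixedPoints.subalgebra D A G) A Algebra.FiniteType.out
    Module.Finite.fg_top Subtype.val_injective⟩

theorem finitePresentation_fixed :
    Algebra.FinitePresentation D (FixedPoints.subalgebra D A G) := by
  haveI := finiteType_fixed D A G
  exact Algebra.FinitePresentation.of_finiteType.mp inferInstance

end Fin

section Congr

variable {D C : Type u} [CommRing D] [CommRing C] [Algebra D C]

theorem concl_congr {I J : Ideal C} [I.IsPrime] [J.IsPrime] (h : I = J)
    (hI : Algebra.IsEtaleAt D I ∧ Module.Flat D (Localization.AtPrime I)) :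
    Algebra.IsEtaleAt D J ∧ Module.Flat D (Localization.AtPrime J) := by
  subst h
  exact hI

theorem isEtaleAt_congr {I J : Ideal C} [I.IsPrime] [J.IsPrime] (h : I = J)
    (hI : Algebra.IsEtaleAt D I) : Algebra.IsEtaleAt D J := by
  subst h
  exact hI

end Congr

section InertiaEq

variable (D D' A B : Type u) [CommRing D] [CommRing D'] [CommRing A] [CommRing B] [Algebra D D']
  [Algebra D A] [Algebra D B] [Algebra B A] [IsScalarTower D B A]
  {G : Type u} [Group G] [MulSemiringAction G A] [MulSemiringAction G B]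
  [SMulCommClass G D A] [SMulCommClass G D B]

theorem inertia_eq_tensor (x' : Ideal (D' ⊗[D] A))
    (hin : (x'.comap (Algebra.TensorProduct.includeRight : A →ₐ[D] D' ⊗[D] A).toRingHom).inertia G =
      ((x'.comap (Algebra.TensorProduct.includeRight : A →ₐ[D] D' ⊗[D] A).toRingHom).comap
        (algebraMap B A)).inertia G) :
    x'.inertia G = (x'.comap (algebraMap (D' ⊗[D] B) (D' ⊗[D] A))).inertia G := by
  rw [inertia_tensor D D' A G x', inertia_tensor D D' B G, hin]
  have : Ideal.comap (algebraMap B A)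
      (Ideal.comap (Algebra.TensorProduct.includeRight : A →ₐ[D] D' ⊗[D] A).toRingHom x') =
      Ideal.comap (Algebra.TensorProduct.includeRight : B →ₐ[D] D' ⊗[D] B).toRingHom
        (Ideal.comap (algebraMap (D' ⊗[D] B) (D' ⊗[D] A)) x') := by
    ext b
    simp only [Ideal.mem_comap]
    change (1 : D') ⊗ₜ[D] algebraMap B A b ∈ x' ↔
      algebraMap (D' ⊗[D] B) (D' ⊗[D] A) ((1 : D') ⊗ₜ[D] b) ∈ x'
    rw [tensorAlgebra_tmul]
  rw [this]

end InertiaEq

section Split

variable {D A B : Type u} [CommRing D] [CommRing A] [CommRing B] [Algebra D A] [Algebra D B]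
  [Algebra B A] [IsScalarTower D B A] [IsNoetherianRing D] [Module.Finite D B]
  [Algebra.FiniteType D A]
  {G : Type u} [Group G] [Finite G] [MulSemiringAction G A] [MulSemiringAction G B]
  [SMulCommClass G D A] [SMulCommClass G D B]
  (hGeq : ∀ (g : G) (b : B), algebraMap B A (g • b) = g • algebraMap B A b)
  [Algebra.IsInvariant D B G] [FaithfulSMul D B]
  (x : Ideal A) [x.IsPrime] [hx : Algebra.IsEtaleAt B x]
  (hin : x.inertia G = (x.comap (algebraMap B A)).inertia G)
  (e : A) (he : IsIdempotentElem e) (hex : e ∉ x) [Module.Finite D (Localization.Away e)]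
  (huniq : ∀ x₂ : Ideal A, x₂.IsPrime →
    x₂.comap (algebraMap D A) = x.comap (algebraMap D A) → e ∉ x₂ → x₂ = x)

set_option maxHeartbeats 3200000 in
include hGeq hin he hex huniq in
theorem concl_of_split :
    Algebra.IsEtaleAt D (x.comap (algebraMap (FixedPoints.subalgebra D A G) A)) ∧
      Module.Flat D (Localization.AtPrime
        (x.comap (algebraMap (FixedPoints.subalgebra D A G) A))) := by
  classical
  set P : Ideal D := x.comap (algebraMap D A) with hP
  haveI : P.IsPrime := Ideal.comap_isPrime _ _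
  haveI : x.LiesOver P := ⟨rfl⟩
  let D₂ := Localization.AtPrime P
  let m₂ := IsLocalRing.maximalIdeal D₂
  haveI : m₂.LiesOver P := ⟨(Localization.AtPrime.under_maximalIdeal (I := P)).symm⟩
  have H : Function.Bijective
      (Ideal.ResidueField.mapₐ P m₂ (Algebra.ofId D D₂) (m₂.over_def P)) :=
    (RingHom.surjectiveOnStalks_of_isLocalization P.primeCompl D₂).residueFieldMap_bijective P m₂ _
  let Q : P.primesOver A := ⟨x, inferInstance, inferInstance⟩
  set x₂ : Ideal (D₂ ⊗[D] A) := ((Ideal.fiberIsoOfBijectiveResidueField H).symm Q).1 with hx₂def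
  haveI hx₂prime : x₂.IsPrime := ((Ideal.fiberIsoOfBijectiveResidueField H).symm Q).2.1
  haveI hx₂over : x₂.LiesOver m₂ := ((Ideal.fiberIsoOfBijectiveResidueField H).symm Q).2.2
  have hx₂x : x₂.comap (Algebra.TensorProduct.includeRight : A →ₐ[D] D₂ ⊗[D] A).toRingHom = x :=
    Ideal.comap_fiberIsoOfBijectiveResidueField_symm H Q
  haveI : IsNoetherianRing D₂ := IsLocalization.isNoetherianRing P.primeCompl D₂ inferInstance
  haveI : Algebra.FormallyEtale D D₂ := Algebra.FormallyEtale.of_isLocalization P.primeCompl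
  haveI : Module.Flat D D₂ := inferInstance
  haveI := isInvariant_tensor D D₂ B G
  haveI := faithfulSMul_tensor D D₂ B
  have hGeq₂ := tensor_equivariant D D₂ A B hGeq
  haveI hx₂et : Algebra.IsEtaleAt (D₂ ⊗[D] B) x₂ :=
    isEtaleAt_tensor D D₂ A B x₂ (isEtaleAt_congr hx₂x.symm hx)
  have hin₂ : x₂.inertia G = (x₂.comap (algebraMap (D₂ ⊗[D] B) (D₂ ⊗[D] A))).inertia G := by
    apply inertia_eq_tensor D D₂ A B x₂
    rw [hx₂x]
    exact hin
  let e₂ : D₂ ⊗[D] A := (1 : D₂) ⊗ₜ[D] e
  have he₂ : IsIdempotentElem e₂ := by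
    change e₂ * e₂ = e₂
    simp only [e₂, Algebra.TensorProduct.tmul_mul_tmul, mul_one, he.eq]
  have hex₂ : e₂ ∉ x₂ := by
    intro h
    apply hex
    rw [← hx₂x]
    exact h
  haveI : Module.Finite D₂ (Localization.Away e₂) :=
    Module.Finite.equiv
      (IsLocalization.Away.tensorProductEquivTMulRight D D₂ e (Localization.Away e)).toLinearEquiv
  have hxD₂ : x₂.comap (algebraMap D₂ (D₂ ⊗[D] A)) = IsLocalRing.maximalIdeal D₂ :=
    (x₂.over_def m₂).symm
  have huniq₂ : ∀ x₃ : Ideal (D₂ ⊗[D] A), x₃.IsPrime →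
      x₃.comap (algebraMap D₂ (D₂ ⊗[D] A)) = IsLocalRing.maximalIdeal D₂ → e₂ ∉ x₃ → x₃ = x₂ := by
    intro x₃ hx₃ hx₃D hx₃e
    haveI := hx₃
    haveI : x₃.LiesOver m₂ := ⟨hx₃D.symm⟩
    have h1 : (x₃.comap (Algebra.TensorProduct.includeRight :
        A →ₐ[D] D₂ ⊗[D] A).toRingHom).comap (algebraMap D A) = P := by
      rw [Ideal.comap_comap]
      have : (Algebra.TensorProduct.includeRight : A →ₐ[D] D₂ ⊗[D] A).toRingHom.comp
          (algebraMap D A) = (algebraMap D₂ (D₂ ⊗[D] A)).comp (algebraMap D D₂) := by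
        ext d
        simp only [RingHom.coe_comp, Function.comp_apply, AlgHom.toRingHom_eq_coe,
          RingHom.coe_coe, AlgHom.commutes, Algebra.TensorProduct.algebraMap_apply]
        rw [← IsScalarTower.algebraMap_apply]
      rw [this, ← Ideal.comap_comap, hx₃D]
      exact Localization.AtPrime.under_maximalIdeal (I := P)
    have h2 := huniq _ (Ideal.comap_isPrime _ x₃) h1 hx₃e
    apply Ideal.eq_of_comap_eq_comap_of_bijective_residueFieldMap H x₃ x₂
    rw [h2]
    exact hx₂x.symm
  have hloc := isEtaleAt_of_split (D := D₂) (A := D₂ ⊗[D] A) (B := D₂ ⊗[D] B) hGeq₂ x₂ hxD₂ hin₂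
    e₂ he₂ hex₂ huniq₂
  haveI := finitePresentation_fixed D A G
  haveI := hloc.1
  haveI := hloc.2
  exact concl_congr (by rw [hx₂x]) (isEtaleAt_descent D D₂ A G x₂)

end Split

section Main

variable {D A B : Type u} [CommRing D] [CommRing A] [CommRing B] [Algebra D A] [Algebra D B]
  [Algebra B A] [IsScalarTower D B A] [IsNoetherianRing D] [Module.Finite D B]
  [Algebra.FiniteType D A]
  {G : Type u} [Group G] [Finite G] [MulSemiringAction G A] [MulSemiringAction G B]
  [SMulCommClass G D A] [SMulCommClass G D B]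
  (hGeq : ∀ (g : G) (b : B), algebraMap B A (g • b) = g • algebraMap B A b)
  [Algebra.IsInvariant D B G] [FaithfulSMul D B]
  (x : Ideal A) [x.IsPrime] [hx : Algebra.IsEtaleAt B x]
  (hin : x.inertia G = (x.comap (algebraMap B A)).inertia G)

set_option maxHeartbeats 3200000 in
include hGeq hin in
theorem concl_main :
    Algebra.IsEtaleAt D (x.comap (algebraMap (FixedPoints.subalgebra D A G) A)) ∧
      Module.Flat D (Localization.AtPrime
        (x.comap (algebraMap (FixedPoints.subalgebra D A G) A))) := by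
  classical
  set q : Ideal D := x.comap (algebraMap D A) with hq
  haveI : q.IsPrime := Ideal.comap_isPrime _ _
  haveI : x.LiesOver q := ⟨rfl⟩
  haveI : Algebra.FiniteType B A := Algebra.FiniteType.of_restrictScalars_finiteType D B A
  haveI : Algebra.FormallyUnramified B (Localization.AtPrime x) := inferInstance
  haveI : Algebra.QuasiFinite B (Localization.AtPrime x) := inferInstance
  haveI : Algebra.QuasiFiniteAt D x := Algebra.QuasiFinite.trans D B (Localization.AtPrime x)
  obtain ⟨R', _, _, _, P, _, _, e, he, P', _, _, hP'q, heP', hbij, hfin, huniq⟩ :=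
    Algebra.exists_etale_isIdempotentElem_forall_liesOver_eq q x
  haveI : IsNoetherianRing R' := Algebra.FiniteType.isNoetherianRing D R'
  haveI : Module.Flat D R' := inferInstance
  haveI : Algebra.FormallyEtale D R' := inferInstance
  haveI := isInvariant_tensor D R' B G
  haveI := faithfulSMul_tensor D R' B
  have hGeq₁ := tensor_equivariant D R' A B hGeq
  haveI hP'et : Algebra.IsEtaleAt (R' ⊗[D] B) P' :=
    isEtaleAt_tensor D R' A B P' (isEtaleAt_congr hP'q.symm hx)
  have hin₁ : P'.inertia G = (P'.comap (algebraMap (R' ⊗[D] B) (R' ⊗[D] A))).inertia G := by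
    apply inertia_eq_tensor D R' A B P'
    rw [hP'q]
    exact hin
  haveI := hfin
  have huniq₁ : ∀ x₂ : Ideal (R' ⊗[D] A), x₂.IsPrime →
      x₂.comap (algebraMap R' (R' ⊗[D] A)) = P'.comap (algebraMap R' (R' ⊗[D] A)) →
      e ∉ x₂ → x₂ = P' := by
    intro x₂ hx₂ hx₂P hx₂e
    have hover : x₂.LiesOver P := ⟨by
      rw [P'.over_def P]
      exact hx₂P.symm⟩
    exact huniq x₂ hx₂ hover hx₂e
  have h1 := concl_of_split (D := R') (A := R' ⊗[D] A) (B := R' ⊗[D] B) hGeq₁ P' hin₁ e he heP'
    huniq₁
  haveI := finitePresentation_fixed D A G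
  haveI := h1.1
  haveI := h1.2
  exact concl_congr (by rw [hP'q]) (isEtaleAt_descent D R' A G P')

end Main

end Groth.Agent.Lib.Helper43.EtInv
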