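import Mathlib
import Groth.Agent.Lib.Helper43.EtInvMain

set_option autoImplicit false
set_option linter.style.haveILetI false
universe u

open TensorProduct IsLocalRing

namespace Groth.Agent.Lib.Helper43.EtInv

section Transport

variable {D C₁ C₀ : Type u} [CommRing D] [CommRing C₁] [CommRing C₀] [Algebra D C₁] [Algebra D C₀]

theorem isEtaleAt_of_algEquiv (ρ : C₁ ≃ₐ[D] C₀) (p₀ : Ideal C₀) [p₀.IsPrime] (p₁ : Ideal C₁)
    [p₁.IsPrime] (h : p₁ = p₀.comap ρ.toRingEquiv.toRingHom) (h1 : Algebra.IsEtaleAt D p₁) :
    Algebra.IsEtaleAt D p₀ := by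
  letI algC₀ : Algebra C₀ (Localization.AtPrime p₁) :=
    ((algebraMap C₁ (Localization.AtPrime p₁)).comp ρ.toRingEquiv.symm.toRingHom).toAlgebra
  haveI hloc : IsLocalization (p₁.primeCompl.map ρ.toRingEquiv) (Localization.AtPrime p₁) :=
    IsLocalization.isLocalization_of_base_ringEquiv p₁.primeCompl (Localization.AtPrime p₁)
      ρ.toRingEquiv
  have hM : p₁.primeCompl.map ρ.toRingEquiv = p₀.primeCompl := by
    ext c
    constructor
    · rintro ⟨c₁, hc₁, rfl⟩
      intro hmem
      apply hc₁
      rw [h]
      exact hmem
    · intro hc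
      refine ⟨ρ.symm c, ?_, by simp⟩
      intro hmem
      apply hc
      rw [h] at hmem
      have : ρ (ρ.symm c) ∈ p₀ := hmem
      rwa [ρ.apply_symm_apply] at this
  rw [hM] at hloc
  haveI : IsLocalization.AtPrime (Localization.AtPrime p₁) p₀ := hloc
  haveI : IsScalarTower D C₀ (Localization.AtPrime p₁) := IsScalarTower.of_algebraMap_eq (fun d => by
    change _ = algebraMap C₁ (Localization.AtPrime p₁) (ρ.symm (algebraMap D C₀ d))
    rw [ρ.symm.commutes, ← IsScalarTower.algebraMap_apply])
  let ψ : Localization.AtPrime p₁ ≃ₐ[C₀] Localization.AtPrime p₀ :=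
    IsLocalization.algEquiv p₀.primeCompl _ _
  haveI : Algebra.FormallyEtale D (Localization.AtPrime p₁) := h1
  exact Algebra.FormallyEtale.of_equiv (ψ.restrictScalars D)

end Transport

section Wrap

variable (R : Type u) [CommRing R] [IsNoetherianRing R] (A B : Type u) [CommRing A] [CommRing B]
  [Algebra R A] [Algebra R B] [Algebra.FiniteType R A] [Algebra.FiniteType R B]
  (G : Type u) [Group G] [Finite G] [MulSemiringAction G A] [MulSemiringAction G B]
  [SMulCommClass G R A] [SMulCommClass G R B] [Algebra B A] [IsScalarTower R B A]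
  (hGeq : ∀ (g : G) (b : B), algebraMap B A (g • b) = g • algebraMap B A b)
  [Algebra (FixedPoints.subalgebra R B G) (FixedPoints.subalgebra R A G)]
  [IsScalarTower (FixedPoints.subalgebra R B G) (FixedPoints.subalgebra R A G) A]

include hGeq in
theorem smulCommClass_fixed : SMulCommClass G (FixedPoints.subalgebra R B G) A :=
  ⟨fun g d a => by
    rw [Algebra.smul_def, Algebra.smul_def, smul_mul']
    congr 1
    change g • algebraMap B A (d : B) = algebraMap B A (d : B)
    rw [← hGeq, d.2 g]⟩

theorem noetherian_fixed : IsNoetherianRing (FixedPoints.subalgebra R B G) := by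
  haveI := finiteType_fixed R B G
  exact Algebra.FiniteType.isNoetherianRing R _

theorem finite_over_fixed : Module.Finite (FixedPoints.subalgebra R B G) B := by
  haveI : Algebra.IsIntegral (FixedPoints.subalgebra R B G) B :=
    Algebra.IsInvariant.isIntegral _ B G
  haveI : Algebra.FiniteType (FixedPoints.subalgebra R B G) B :=
    Algebra.FiniteType.of_restrictScalars_finiteType R _ B
  exact Algebra.IsIntegral.finite

theorem algebraMap_fixed_coe (d : FixedPoints.subalgebra R B G) :
    ((algebraMap (FixedPoints.subalgebra R B G) (FixedPoints.subalgebra R A G) d :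
      FixedPoints.subalgebra R A G) : A) = algebraMap B A (d : B) := by
  have := IsScalarTower.algebraMap_apply (FixedPoints.subalgebra R B G)
    (FixedPoints.subalgebra R A G) A d
  exact this.symm

set_option maxHeartbeats 1600000 in
include hGeq in
theorem isEtaleAt_fixedPoints (x : Ideal A) [x.IsPrime] (hx : Algebra.IsEtaleAt B x)
    (hin : x.inertia G = (x.comap (algebraMap B A)).inertia G) :
    Algebra.IsEtaleAt (FixedPoints.subalgebra R B G)
      (x.comap (algebraMap (FixedPoints.subalgebra R A G) A)) := by
  haveI := noetherian_fixed R B G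
  haveI := finite_over_fixed R B G
  haveI : Algebra.FiniteType (FixedPoints.subalgebra R B G) A :=
    Algebra.FiniteType.of_restrictScalars_finiteType R _ A
  haveI := smulCommClass_fixed R A B G hGeq
  haveI : FaithfulSMul (FixedPoints.subalgebra R B G) B := by
    rw [faithfulSMul_iff_algebraMap_injective]
    exact Subtype.val_injective
  haveI := hx
  have h1 := (concl_main (D := FixedPoints.subalgebra R B G) (A := A) (B := B) hGeq x hin).1
  -- transport along the identification of the two fixed subalgebras
  let ρ : FixedPoints.subalgebra (FixedPoints.subalgebra R B G) A G ≃ₐ[FixedPoints.subalgebra R B G]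
      FixedPoints.subalgebra R A G :=
    { toFun := fun c => ⟨c.1, c.2⟩
      invFun := fun c => ⟨c.1, c.2⟩
      left_inv := fun c => rfl
      right_inv := fun c => rfl
      map_mul' := fun a b => rfl
      map_add' := fun a b => rfl
      commutes' := fun d => Subtype.ext (by
        rw [algebraMap_fixed_coe]
        rfl) }
  exact isEtaleAt_of_algEquiv ρ _ _ rfl h1

end Wrap

end Groth.Agent.Lib.Helper43.EtInv
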