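import Mathlib
import Groth.Agent.Lib.Helper43.EtInvWrap

set_option autoImplicit false
set_option linter.style.haveILetI false
universe u

namespace Groth.Agent.Lib.Helper43.EtInv

section OpenMax

variable {C : Type u} [CommRing C]

theorem eq_univ_of_isOpen_of_maximal (U : Set (PrimeSpectrum C)) (hU : IsOpen U)
    (hmax : ∀ p : PrimeSpectrum C, p.asIdeal.IsMaximal → p ∈ U) : U = Set.univ := by
  by_contra hne
  obtain ⟨J, hJ⟩ := (PrimeSpectrum.isClosed_iff_zeroLocus_ideal Uᶜ).mp hU.isClosed_compl
  have hnonempty : (Uᶜ).Nonempty := by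
    rw [Set.nonempty_compl]
    exact hne
  obtain ⟨𝔭, h𝔭⟩ := hnonempty
  rw [hJ, PrimeSpectrum.mem_zeroLocus] at h𝔭
  have hJtop : J ≠ ⊤ := by
    intro htop
    rw [htop] at h𝔭
    exact 𝔭.isPrime.ne_top (top_le_iff.mp h𝔭)
  obtain ⟨m, hm, hJm⟩ := Ideal.exists_le_maximal J hJtop
  have h1 : (⟨m, hm.isPrime⟩ : PrimeSpectrum C) ∈ Uᶜ := by
    rw [hJ, PrimeSpectrum.mem_zeroLocus]
    exact hJm
  exact h1 (hmax ⟨m, hm.isPrime⟩ hm)

end OpenMax

section Global

variable (R : Type u) [CommRing R] [IsNoetherianRing R] (A B : Type u) [CommRing A] [CommRing B]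
  [Algebra R A] [Algebra R B] [Algebra.FiniteType R A] [Algebra.FiniteType R B]
  (G : Type u) [Group G] [Finite G] [MulSemiringAction G A] [MulSemiringAction G B]
  [SMulCommClass G R A] [SMulCommClass G R B] [Algebra B A] [IsScalarTower R B A]
  (hGeq : ∀ (g : G) (b : B), algebraMap B A (g • b) = g • algebraMap B A b)
  [Algebra (FixedPoints.subalgebra R B G) (FixedPoints.subalgebra R A G)]
  [IsScalarTower (FixedPoints.subalgebra R B G) (FixedPoints.subalgebra R A G) A]

set_option maxHeartbeats 1600000 in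
include hGeq in
theorem etale_fixedPoints
    (h : ∀ (x : Ideal A) (_ : x.IsMaximal),
      Algebra.IsEtaleAt B x ∧ x.inertia G = (x.comap (algebraMap B A)).inertia G) :
    Algebra.Etale (FixedPoints.subalgebra R B G) (FixedPoints.subalgebra R A G) := by
  haveI := noetherian_fixed R B G
  haveI : IsScalarTower R (FixedPoints.subalgebra R B G) (FixedPoints.subalgebra R A G) :=
    IsScalarTower.of_algebraMap_eq (fun r => Subtype.ext (by
      rw [algebraMap_fixed_coe]
      change algebraMap R A r = algebraMap B A (algebraMap R B r)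
      rw [← IsScalarTower.algebraMap_apply]))
  haveI := finiteType_fixed R A G
  haveI : Algebra.FiniteType (FixedPoints.subalgebra R B G) (FixedPoints.subalgebra R A G) :=
    Algebra.FiniteType.of_restrictScalars_finiteType R _ _
  haveI : Algebra.FinitePresentation (FixedPoints.subalgebra R B G)
      (FixedPoints.subalgebra R A G) := Algebra.FinitePresentation.of_finiteType.mp inferInstance
  rw [← Algebra.etaleLocus_eq_univ_iff_etale]
  apply eq_univ_of_isOpen_of_maximal _ Algebra.isOpen_etaleLocus
  intro p hp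
  haveI : Algebra.IsIntegral (FixedPoints.subalgebra R A G) A :=
    Algebra.IsInvariant.isIntegral _ A G
  haveI := hp
  obtain ⟨x, hxmax, hxp⟩ := Ideal.exists_ideal_over_maximal_of_isIntegral (S := A) p.asIdeal (by
    have : RingHom.ker (algebraMap (FixedPoints.subalgebra R A G) A) = ⊥ :=
      (RingHom.injective_iff_ker_eq_bot _).mp Subtype.val_injective
    rw [this]
    exact bot_le)
  haveI := hxmax
  obtain ⟨hx, hin⟩ := h x hxmax
  have h1 := isEtaleAt_fixedPoints R A B G hGeq x hx hin
  rw [Algebra.mem_etaleLocus_iff]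
  exact isEtaleAt_congr hxp h1

end Global

end Groth.Agent.Lib.Helper43.EtInv
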