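import Groth.Prelude.Def_DRing2
import Mathlib.Tactic
import Mathlib.Algebra.Homology.DerivedCategory.KProjective
import Mathlib.Algebra.Homology.DerivedCategory.Linear
import Mathlib.Algebra.Homology.Single
import Mathlib.Algebra.Category.ModuleCat.Projective

/-!
# Morphisms in `D(A)` from a K-projective complex to a shifted module (helper43)

For a cochain complex `E` of `A`-modules and `p : ℤ`, we describe morphisms
`Q.obj E ⟶ (M[0])⟦p⟧` in `D(A)` through "cocycles" `ψ : E.X (-p) ⟶ M` with `d ≫ ψ = 0`: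

* `Z E p X : Submodule A (E.X (-p) ⟶ X)` the cocycles,
* `Φ E p X : Z E p X →ₗ[A] (Q.obj E ⟶ ((singleFunctor 0).obj X)⟦p⟧)`,
* `Φ_surjective` when `E` is K-projective,
* `Φ_naturality` in `X`.
-/

universe u

open CategoryTheory DerivedCategory

namespace Groth.Agent.Lib.Helper43.ExtProj

attribute [local instance] HasDerivedCategory.standard

variable {A : Type u} [CommRing A]

/-- A linear map sends `I • ⊤` into `I • ⊤`. -/
lemma map_mem_smul_top {V W : Type*} [AddCommGroup V] [Module A V] [AddCommGroup W] [Module A W]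
    (g : V →ₗ[A] W) (I : Ideal A) {x : V} (hx : x ∈ I • (⊤ : Submodule A V)) :
    g x ∈ I • (⊤ : Submodule A W) := by
  have h := Submodule.mem_map_of_mem (f := g) hx
  rw [Submodule.map_smul''] at h
  exact Submodule.smul_mono le_rfl le_top h

/-- The isomorphism `(X[0])⟦p⟧ ≅ X[-p]`, natural in `X`. -/
noncomputable def shiftSingleIso (p : ℤ) :
    DerivedCategory.singleFunctor (ModuleCat.{u} A) 0 ⋙ shiftFunctor _ p ≅
      DerivedCategory.singleFunctor (ModuleCat.{u} A) (-p) :=
  (DerivedCategory.singleFunctors (ModuleCat.{u} A)).shiftIso p (-p) 0 (by simp)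

variable (E : CochainComplex (ModuleCat.{u} A) ℤ) (p : ℤ)

/-- Cocycles: maps `E^{-p} → X` killing the image of the differential. -/
def Z (X : ModuleCat.{u} A) : Submodule A (E.X (-p) ⟶ X) where
  carrier := {ψ | ∀ i, (ComplexShape.up ℤ).Rel i (-p) → E.d i (-p) ≫ ψ = 0}
  add_mem' := by
    intro a b ha hb i hi
    rw [Preadditive.comp_add, ha i hi, hb i hi, add_zero]
  zero_mem' := by
    intro i _
    simp
  smul_mem' := by
    intro c x hx i hi
    rw [Linear.comp_smul, hx i hi, smul_zero]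

lemma mem_Z {X : ModuleCat.{u} A} (ψ : E.X (-p) ⟶ X) :
    ψ ∈ Z E p X ↔ ∀ i, (ComplexShape.up ℤ).Rel i (-p) → E.d i (-p) ≫ ψ = 0 := Iff.rfl

/-- The chain map associated with a cocycle. -/
noncomputable def toSingle {X : ModuleCat.{u} A} (ψ : Z E p X) :
    E ⟶ (HomologicalComplex.single (ModuleCat.{u} A) (ComplexShape.up ℤ) (-p)).obj X :=
  HomologicalComplex.mkHomToSingle ψ.1 ψ.2

lemma toSingle_add {X : ModuleCat.{u} A} (ψ ψ' : Z E p X) :
    toSingle E p (ψ + ψ') = toSingle E p ψ + toSingle E p ψ' := by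
  apply HomologicalComplex.to_single_hom_ext
  simp [toSingle, HomologicalComplex.mkHomToSingle_f]

lemma toSingle_smul {X : ModuleCat.{u} A} (a : A) (ψ : Z E p X) :
    toSingle E p (a • ψ) = a • toSingle E p ψ := by
  apply HomologicalComplex.to_single_hom_ext
  simp [toSingle, HomologicalComplex.mkHomToSingle_f]

/-- The image in the derived category of the chain map associated with a cocycle. -/
noncomputable def toSingleD {X : ModuleCat.{u} A} (ψ : Z E p X) :
    Q.obj E ⟶ (DerivedCategory.singleFunctor (ModuleCat.{u} A) (-p)).obj X :=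
  Q.map (toSingle E p ψ)

lemma toSingleD_add {X : ModuleCat.{u} A} (ψ ψ' : Z E p X) :
    toSingleD E p (ψ + ψ') = toSingleD E p ψ + toSingleD E p ψ' := by
  unfold toSingleD
  rw [toSingle_add]
  exact Functor.map_add _

lemma toSingleD_smul {X : ModuleCat.{u} A} (a : A) (ψ : Z E p X) :
    toSingleD E p (a • ψ) = a • toSingleD E p ψ := by
  unfold toSingleD
  rw [toSingle_smul]
  exact Functor.map_smul _ _ _

lemma toSingleD_naturality {X Y : ModuleCat.{u} A} (u : X ⟶ Y) (ψ : Z E p X)
    (hψu : ψ.1 ≫ u ∈ Z E p Y) :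
    toSingleD E p ψ ≫ (DerivedCategory.singleFunctor (ModuleCat.{u} A) (-p)).map u =
      toSingleD E p ⟨ψ.1 ≫ u, hψu⟩ := by
  change Q.map (toSingle E p ψ) ≫
    Q.map ((HomologicalComplex.single (ModuleCat.{u} A) (ComplexShape.up ℤ) (-p)).map u) =
      Q.map (toSingle E p ⟨ψ.1 ≫ u, hψu⟩)
  rw [← Functor.map_comp]
  congr 1
  apply HomologicalComplex.to_single_hom_ext
  simp [toSingle, HomologicalComplex.mkHomToSingle_f, HomologicalComplex.single_map_f_self]

/-- The map from cocycles to morphisms in the derived category. -/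
noncomputable def Φ (X : ModuleCat.{u} A) :
    Z E p X →ₗ[A] (Q.obj E ⟶ ((DerivedCategory.singleFunctor (ModuleCat.{u} A) 0).obj X)⟦p⟧) where
  toFun ψ := toSingleD E p ψ ≫ (shiftSingleIso p).inv.app X
  map_add' ψ ψ' := by
    rw [toSingleD_add, Preadditive.add_comp]
  map_smul' a ψ := by
    rw [toSingleD_smul, Linear.smul_comp]
    rfl

lemma Φ_apply (X : ModuleCat.{u} A) (ψ : Z E p X) :
    Φ E p X ψ = toSingleD E p ψ ≫ (shiftSingleIso p).inv.app X := rfl

/-- Every chain map to a single complex comes from a cocycle. -/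
lemma exists_toSingle_eq {X : ModuleCat.{u} A}
    (g : E ⟶ (HomologicalComplex.single (ModuleCat.{u} A) (ComplexShape.up ℤ) (-p)).obj X) :
    ∃ ψ : Z E p X, toSingle E p ψ = g := by
  refine ⟨⟨g.f (-p) ≫ (HomologicalComplex.singleObjXSelf (ComplexShape.up ℤ) (-p) X).hom, ?_⟩, ?_⟩
  · intro i hi
    rw [← Category.assoc, ← g.comm i (-p)]
    simp
  · apply HomologicalComplex.to_single_hom_ext
    simp [toSingle, HomologicalComplex.mkHomToSingle_f]

/-- Surjectivity of `Φ` for a K-projective source. -/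
lemma Φ_surjective [E.IsKProjective] (X : ModuleCat.{u} A) : Function.Surjective (Φ E p X) := by
  intro e
  -- move to a morphism `Q.obj E ⟶ Q.obj (single (-p) X)`
  let e' : Q.obj E ⟶ Q.obj
      ((HomologicalComplex.single (ModuleCat.{u} A) (ComplexShape.up ℤ) (-p)).obj X) :=
    e ≫ (shiftSingleIso p).hom.app X
  obtain ⟨g', hg'⟩ := (CochainComplex.IsKProjective.Qh_map_bijective E
    ((HomotopyCategory.quotient _ _).obj
      ((HomologicalComplex.single (ModuleCat.{u} A) (ComplexShape.up ℤ) (-p)).obj X))).2 e'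
  obtain ⟨g, rfl⟩ := (HomotopyCategory.quotient _ _).map_surjective g'
  obtain ⟨ψ, hψ⟩ := exists_toSingle_eq E p g
  refine ⟨ψ, ?_⟩
  have h1 : toSingleD E p ψ = e ≫ (shiftSingleIso p).hom.app X := by
    unfold toSingleD
    rw [hψ]
    exact hg'
  rw [Φ_apply, h1, Category.assoc, Iso.hom_inv_id_app]
  exact Category.comp_id e

/-- Naturality of `Φ` in the target module. -/
lemma Φ_naturality {X Y : ModuleCat.{u} A} (u : X ⟶ Y) (ψ : Z E p X)
    (hψu : ψ.1 ≫ u ∈ Z E p Y) :
    Φ E p X ψ ≫ ((DerivedCategory.singleFunctor (ModuleCat.{u} A) 0).map u)⟦p⟧' =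
      Φ E p Y ⟨ψ.1 ≫ u, hψu⟩ := by
  rw [Φ_apply, Φ_apply, Category.assoc, ← toSingleD_naturality E p u ψ hψu, Category.assoc]
  congr 1
  exact ((shiftSingleIso (A := A) p).inv.naturality u).symm

lemma comp_mem_Z {X Y : ModuleCat.{u} A} (u : X ⟶ Y) (ψ : Z E p X) : ψ.1 ≫ u ∈ Z E p Y := by
  intro i hi
  rw [← Category.assoc, ψ.2 i hi, Limits.zero_comp]

end Groth.Agent.Lib.Helper43.ExtProj
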