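import Mathlib
import Groth.Agent.S13602
import Groth.Agent.S14671
import Groth.Agent.Lib.Helper81.IsQuotAffine

/-!
# Fibre powers of affine charts and tensor powers (helper43)

* `Phi`, `Phi_tprod`, `Phi_single`, `Phi_reindex` : the canonical algebra map `⨂[A]^n B → C` from
  `n` algebra maps `B → C`, and its equivariance
* `Chart f n` : affine opens `V ⊆ S`, `U ⊆ f⁻¹V` and the open `W = U ×_V ⋯ ×_V U` of the fibre
  power; `Chart.Φ_bijective` : `Γ(fibPow f n, W) ≅ ⨂[Γ(S,V)]^n Γ(X,U)`, `Chart.act_Φ` : compatible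
  with permutations of the factors (`PiTensorProduct.reindex`)
* `flat_appLE` : on a chart of a symmetric power `(Y, q, g)`, `Γ(Y, W')` is the module of
  symmetric tensors, hence flat over `Γ(S, V)` when `f` is flat (uses `S14671`)
* `exists_chart` : charts of symmetric powers for all `n ≥ 0`
* `flat_symProd` : `Sym^n(X/S) → S` is flat for flat (AF) `f`
-/

set_option autoImplicit false
set_option linter.style.haveILetI false
universe u

open CategoryTheory CategoryTheory.Limits AlgebraicGeometry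
open scoped TensorProduct

namespace Groth.Agent.Lib.Helper43.FibPowTensor

section Alg

variable {A B C : Type u} [CommRing A] [CommRing B] [CommRing C] [Algebra A B] [Algebra A C]
  {n : ℕ} (p : Fin n → B →ₐ[A] C)

/-- the canonical map from the tensor power to an algebra receiving `n` maps -/
noncomputable def Phi : (⨂[A] _ : Fin n, B) →ₐ[A] C :=
  PiTensorProduct.liftAlgHom
    ((MultilinearMap.mkPiAlgebra A (Fin n) C).compLinearMap (fun i => (p i).toLinearMap))
    (by simp) (by intro x y; simp [Finset.prod_mul_distrib])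

lemma Phi_tprod (b : Fin n → B) : Phi p (PiTensorProduct.tprod A b) = ∏ i, p i (b i) := by
  simp [Phi]

lemma Phi_single (i : Fin n) (b : B) : Phi p (PiTensorProduct.singleAlgHom i b) = p i b := by
  classical
  rw [PiTensorProduct.singleAlgHom_apply, Phi_tprod]
  rw [Finset.prod_eq_single i]
  · simp
  · intro j _ hj
    simp [hj]
  · intro h
    exact absurd (Finset.mem_univ i) h

lemma Phi_reindex (s : C →ₐ[A] C) (σ : Equiv.Perm (Fin n))
    (hs : ∀ i b, s (p i b) = p (σ.symm i) b) (x : ⨂[A] _ : Fin n, B) :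
    s (Phi p x) = Phi p (PiTensorProduct.reindex A (fun _ : Fin n => B) σ.symm x) := by
  have : s.toLinearMap ∘ₗ (Phi p).toLinearMap = (Phi p).toLinearMap ∘ₗ
      (PiTensorProduct.reindex A (fun _ : Fin n => B) σ.symm).toLinearMap := by
    apply PiTensorProduct.ext
    apply MultilinearMap.ext
    intro b
    simp only [LinearMap.compMultilinearMap_apply, LinearMap.coe_comp, Function.comp_apply,
      AlgHom.toLinearMap_apply, LinearEquiv.coe_coe, PiTensorProduct.reindex_tprod, Phi_tprod,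
      map_prod, hs, Equiv.symm_symm]
    rw [← Equiv.prod_comp σ (fun i => p (σ.symm i) (b i))]
    simp
  exact LinearMap.congr_fun this x

end Alg

section Sch

theorem appLE_congr_hom {X Y : Scheme.{u}} {f f' : X ⟶ Y} (h : f = f') (U : Y.Opens)
    (V : X.Opens) (e : V ≤ f ⁻¹ᵁ U) : f.appLE U V e = f'.appLE U V (h ▸ e) := by
  subst h; rfl

lemma appLE_SpecMap_fromSpec {X : Scheme.{u}} {U : X.Opens} (hU : IsAffineOpen U)
    {P : CommRingCat.{u}} (c : Γ(X, U) ⟶ P) (e : ⊤ ≤ (Spec.map c ≫ hU.fromSpec) ⁻¹ᵁ U) :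
    (Spec.map c ≫ hU.fromSpec).appLE U ⊤ e ≫ (Scheme.ΓSpecIso P).hom = c := by
  apply Spec.map_injective
  rw [← cancel_mono hU.fromSpec, Spec.map_comp, Category.assoc,
    IsAffineOpen.SpecMap_appLE_fromSpec _ hU (isAffineOpen_top _) e, IsAffineOpen.fromSpec_top,
    Scheme.isoSpec_Spec_inv, ← Category.assoc, ← Spec.map_comp, Iso.inv_hom_id, Spec.map_id,
    Category.id_comp]

variable {X S : Scheme.{u}} (f : X ⟶ S) (n : ℕ)

/-- an affine chart of the fibre power: the fibre power of an affine open over an affine open -/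
structure Chart where
  V : S.Opens
  U : X.Opens
  W : (SymProd.fibPow f n).Opens
  hV : IsAffineOpen V
  hU : IsAffineOpen U
  hle : U ≤ f ⁻¹ᵁ V
  hW : ∀ y, y ∈ W ↔ (WidePullback.base (fun _ : Fin n => f)).base y ∈ V ∧
    ∀ i, (WidePullback.π (fun _ : Fin n => f) i).base y ∈ U

variable {f n} (c : Chart f n)

namespace Chart

lemma hWaff : IsAffineOpen c.W :=
  Groth.Agent.S13602.isAffineOpen_fibPow f n c.V c.hV c.U c.hU c.hle c.W c.hW

lemma hWb : c.W ≤ (WidePullback.base (fun _ : Fin n => f)) ⁻¹ᵁ c.V := fun _ hy => ((c.hW _).1 hy).1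

lemma hWπ (i : Fin n) : c.W ≤ (WidePullback.π (fun _ : Fin n => f) i) ⁻¹ᵁ c.U :=
  fun _ hy => ((c.hW _).1 hy).2 i

/-- the structure map `Γ(S, V) → Γ(fibPow, W)` -/
noncomputable def β : Γ(S, c.V) ⟶ Γ(SymProd.fibPow f n, c.W) :=
  (WidePullback.base (fun _ : Fin n => f)).appLE c.V c.W c.hWb

/-- the projections `Γ(X, U) → Γ(fibPow, W)` -/
noncomputable def pr (i : Fin n) : Γ(X, c.U) ⟶ Γ(SymProd.fibPow f n, c.W) :=
  (WidePullback.π (fun _ : Fin n => f) i).appLE c.U c.W (c.hWπ i)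

/-- the map `Γ(S, V) → Γ(X, U)` -/
noncomputable def φ : Γ(S, c.V) ⟶ Γ(X, c.U) := f.appLE c.V c.U c.hle

lemma φ_pr (i : Fin n) : c.φ ≫ c.pr i = c.β := by
  unfold φ pr β
  rw [Scheme.Hom.appLE_comp_appLE]
  exact appLE_congr_hom (WidePullback.π_arrow _ i) _ _ _


/-- the `Γ(S, V)`-algebra structure on `Γ(X, U)` -/
noncomputable abbrev algAB : Algebra Γ(S, c.V) Γ(X, c.U) := c.φ.hom.toAlgebra

/-- the `Γ(S, V)`-algebra structure on `Γ(fibPow, W)` -/
noncomputable abbrev algAC : Algebra Γ(S, c.V) Γ(SymProd.fibPow f n, c.W) := c.β.hom.toAlgebra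

/-- the projections as algebra maps -/
noncomputable def prAlg (i : Fin n) :
    letI := c.algAB; letI := c.algAC
    Γ(X, c.U) →ₐ[Γ(S, c.V)] Γ(SymProd.fibPow f n, c.W) :=
  letI := c.algAB; letI := c.algAC
  { toRingHom := (c.pr i).hom
    commutes' := fun a => by
      change (c.pr i).hom (c.φ.hom a) = c.β.hom a
      rw [← c.φ_pr i]; rfl }

/-- the tensor power ring -/
abbrev TP : Type u :=
  letI := c.algAB
  ⨂[Γ(S, c.V)] _ : Fin n, Γ(X, c.U)

noncomputable instance : CommRing c.TP :=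
  letI := c.algAB
  inferInstanceAs (CommRing (⨂[Γ(S, c.V)] _ : Fin n, Γ(X, c.U)))

noncomputable instance : Algebra Γ(S, c.V) c.TP :=
  letI := c.algAB
  inferInstanceAs (Algebra Γ(S, c.V) (⨂[Γ(S, c.V)] _ : Fin n, Γ(X, c.U)))

/-- the comparison map -/
noncomputable def Φ :
    letI := c.algAC
    c.TP →ₐ[Γ(S, c.V)] Γ(SymProd.fibPow f n, c.W) :=
  letI := c.algAB; letI := c.algAC
  Phi c.prAlg

/-- the coordinate inclusions -/
noncomputable def single (i : Fin n) : Γ(X, c.U) →+* c.TP :=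
  letI := c.algAB
  (PiTensorProduct.singleAlgHom (R := Γ(S, c.V)) (A := fun _ : Fin n => Γ(X, c.U)) i).toRingHom

lemma single_φ (i : Fin n) (a : Γ(S, c.V)) :
    c.single i (c.φ.hom a) = algebraMap Γ(S, c.V) c.TP a := by
  letI := c.algAB
  exact (PiTensorProduct.singleAlgHom (R := Γ(S, c.V)) (A := fun _ : Fin n => Γ(X, c.U)) i).commutes a

lemma Φ_single (i : Fin n) (b : Γ(X, c.U)) : c.Φ (c.single i b) = (c.pr i).hom b := by
  letI := c.algAB; letI := c.algAC
  exact Phi_single c.prAlg i b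

/-- the morphism from the spectrum of the tensor power to the fibre power -/
noncomputable def t : Spec (CommRingCat.of c.TP) ⟶ SymProd.fibPow f n :=
  WidePullback.lift
    (Spec.map (CommRingCat.ofHom (algebraMap Γ(S, c.V) c.TP)) ≫ c.hV.fromSpec)
    (fun i => Spec.map (CommRingCat.ofHom (c.single i)) ≫ c.hU.fromSpec)
    (by
      intro i
      rw [Category.assoc, ← IsAffineOpen.SpecMap_appLE_fromSpec f c.hV c.hU c.hle,
        ← Category.assoc, ← Spec.map_comp]
      congr 2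
      ext a
      exact c.single_φ i a)

lemma t_π (i : Fin n) : c.t ≫ WidePullback.π (fun _ : Fin n => f) i =
    Spec.map (CommRingCat.ofHom (c.single i)) ≫ c.hU.fromSpec :=
  WidePullback.lift_π _ _ _ _ i

lemma t_base : c.t ≫ WidePullback.base (fun _ : Fin n => f) =
    Spec.map (CommRingCat.ofHom (algebraMap Γ(S, c.V) c.TP)) ≫ c.hV.fromSpec :=
  WidePullback.lift_base _ _ _ _

lemma t_mem (z : Spec (CommRingCat.of c.TP)) : c.t z ∈ c.W := by
  rw [c.hW]
  constructor
  · rw [← Scheme.Hom.comp_apply, c.t_base, Scheme.Hom.comp_apply]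
    have := Set.mem_range_self (f := c.hV.fromSpec)
      ((Spec.map (CommRingCat.ofHom (algebraMap Γ(S, c.V) c.TP))) z)
    rwa [c.hV.range_fromSpec] at this
  · intro i
    rw [← Scheme.Hom.comp_apply, c.t_π, Scheme.Hom.comp_apply]
    have := Set.mem_range_self (f := c.hU.fromSpec)
      ((Spec.map (CommRingCat.ofHom (c.single i))) z)
    rwa [c.hU.range_fromSpec] at this

lemma t_le : (⊤ : (Spec (CommRingCat.of c.TP)).Opens) ≤ c.t ⁻¹ᵁ c.W := fun z _ => c.t_mem z

/-- the inverse comparison map -/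
noncomputable def Ψ : Γ(SymProd.fibPow f n, c.W) ⟶ CommRingCat.of c.TP :=
  c.t.appLE c.W ⊤ c.t_le ≫ (Scheme.ΓSpecIso _).hom

lemma pr_Ψ (i : Fin n) : c.pr i ≫ c.Ψ = CommRingCat.ofHom (c.single i) := by
  unfold pr Ψ
  rw [← Category.assoc, Scheme.Hom.appLE_comp_appLE, appLE_congr_hom (c.t_π i)]
  exact appLE_SpecMap_fromSpec c.hU _ _

lemma β_Ψ : c.β ≫ c.Ψ = CommRingCat.ofHom (algebraMap Γ(S, c.V) c.TP) := by
  unfold β Ψ
  rw [← Category.assoc, Scheme.Hom.appLE_comp_appLE, appLE_congr_hom c.t_base]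
  exact appLE_SpecMap_fromSpec c.hV _ _

/-- the comparison map as a ring hom -/
noncomputable def ΦR : c.TP →+* Γ(SymProd.fibPow f n, c.W) :=
  letI := c.algAC
  c.Φ.toRingHom

lemma ΦR_apply (x : c.TP) : c.ΦR x = c.Φ x := rfl

lemma single_Φ (i : Fin n) :
    CommRingCat.ofHom (c.single i) ≫ CommRingCat.ofHom c.ΦR = c.pr i := by
  ext b
  exact c.Φ_single i b

lemma algebraMap_Φ :
    CommRingCat.ofHom (algebraMap Γ(S, c.V) c.TP) ≫ CommRingCat.ofHom c.ΦR = c.β := by
  ext a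
  letI := c.algAC
  exact c.Φ.commutes a

lemma SpecΦ_t : Spec.map (CommRingCat.ofHom c.ΦR) ≫ c.t = c.hWaff.fromSpec := by
  apply WidePullback.hom_ext
  · intro i
    rw [Category.assoc, c.t_π, ← Category.assoc, ← Spec.map_comp, c.single_Φ]
    exact IsAffineOpen.SpecMap_appLE_fromSpec _ c.hU c.hWaff (c.hWπ i)
  · rw [Category.assoc, c.t_base, ← Category.assoc, ← Spec.map_comp, c.algebraMap_Φ]
    exact IsAffineOpen.SpecMap_appLE_fromSpec _ c.hV c.hWaff c.hWb

lemma SpecΨ : Spec.map c.Ψ ≫ c.hWaff.fromSpec = c.t := by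
  unfold Ψ
  rw [Spec.map_comp, Category.assoc,
    IsAffineOpen.SpecMap_appLE_fromSpec _ c.hWaff (isAffineOpen_top _) c.t_le,
    IsAffineOpen.fromSpec_top, Scheme.isoSpec_Spec_inv, ← Category.assoc, ← Spec.map_comp,
    Iso.inv_hom_id, Spec.map_id, Category.id_comp]

lemma Ψ_Φ : c.Ψ ≫ CommRingCat.ofHom c.ΦR = 𝟙 _ := by
  apply Spec.map_injective
  rw [← cancel_mono c.hWaff.fromSpec, Spec.map_comp, Category.assoc, c.SpecΨ, c.SpecΦ_t,
    Spec.map_id]
  exact (Category.id_comp _).symm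

lemma Φ_Ψ_apply (x : c.TP) : c.Ψ.hom (c.Φ x) = x := by
  letI := c.algAB; letI := c.algAC
  let ΨA : Γ(SymProd.fibPow f n, c.W) →ₐ[Γ(S, c.V)] c.TP :=
    { toRingHom := c.Ψ.hom
      commutes' := fun a => by
        have := congrArg (fun φ => φ.hom a) c.β_Ψ
        exact this }
  have h : ΨA.comp c.Φ = AlgHom.id _ _ := by
    apply PiTensorProduct.algHom_ext
    intro i
    ext b
    change c.Ψ.hom (c.Φ (c.single i b)) = c.single i b
    rw [c.Φ_single]
    have := congrArg (fun φ => φ.hom b) (c.pr_Ψ i)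
    exact this
  exact DFunLike.congr_fun h x

lemma Φ_bijective : Function.Bijective c.Φ := by
  refine ⟨Function.LeftInverse.injective c.Φ_Ψ_apply, fun y => ⟨c.Ψ.hom y, ?_⟩⟩
  have := congrArg (fun φ => φ.hom y) c.Ψ_Φ
  exact this

lemma stable (σ : Equiv.Perm (Fin n)) : c.W ≤ (SymProd.permHom f n σ) ⁻¹ᵁ c.W := by
  intro z hz
  change (SymProd.permHom f n σ).base z ∈ c.W
  rw [c.hW] at hz ⊢
  refine ⟨?_, fun i => ?_⟩
  · rw [← Scheme.Hom.comp_apply, SymProd.permHom_base]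
    exact hz.1
  · rw [← Scheme.Hom.comp_apply, SymProd.permHom_π]
    exact hz.2 _

/-- the action of a permutation on sections over `W` -/
noncomputable def act (σ : Equiv.Perm (Fin n)) :
    Γ(SymProd.fibPow f n, c.W) ⟶ Γ(SymProd.fibPow f n, c.W) :=
  (SymProd.permHom f n σ).appLE c.W c.W (c.stable σ)

lemma β_act (σ : Equiv.Perm (Fin n)) : c.β ≫ c.act σ = c.β := by
  unfold β act
  rw [Scheme.Hom.appLE_comp_appLE]
  exact appLE_congr_hom (SymProd.permHom_base f n σ) _ _ _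

lemma pr_act (σ : Equiv.Perm (Fin n)) (i : Fin n) : c.pr i ≫ c.act σ = c.pr (σ.symm i) := by
  unfold pr act
  rw [Scheme.Hom.appLE_comp_appLE]
  exact appLE_congr_hom (SymProd.permHom_π f n σ i) _ _ _

lemma act_Φ (σ : Equiv.Perm (Fin n)) (x : c.TP) :
    (c.act σ).hom (c.Φ x) = c.Φ (letI := c.algAB
      PiTensorProduct.reindex Γ(S, c.V) (fun _ : Fin n => Γ(X, c.U)) σ.symm x) := by
  letI := c.algAB; letI := c.algAC
  let sA : Γ(SymProd.fibPow f n, c.W) →ₐ[Γ(S, c.V)] Γ(SymProd.fibPow f n, c.W) :=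
    { toRingHom := (c.act σ).hom
      commutes' := fun a => by
        have := congrArg (fun φ => φ.hom a) (c.β_act σ)
        exact this }
  exact Phi_reindex c.prAlg sA σ (fun i b => by
    have := congrArg (fun φ => φ.hom b) (c.pr_act σ i)
    exact this) x

end Chart

/-- **Flatness of the symmetric power on a chart.** -/
theorem flat_appLE {X S Y : Scheme.{u}} (f : X ⟶ S) [Flat f] (n : ℕ)
    (q : SymProd.fibPow f n ⟶ Y) (g : Y ⟶ S) (hq : SymProd.IsSymProd f n q g)
    (V : S.Opens) (hV : IsAffineOpen V) (U : X.Opens) (hU : IsAffineOpen U) (hle : U ≤ f ⁻¹ᵁ V)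
    (W' : Y.Opens)
    (hW : ∀ z, z ∈ q ⁻¹ᵁ W' ↔ (WidePullback.base (fun _ : Fin n => f)).base z ∈ V ∧
      ∀ i, (WidePullback.π (fun _ : Fin n => f) i).base z ∈ U)
    (e : W' ≤ g ⁻¹ᵁ V) : (g.appLE V W' e).hom.Flat := by
  classical
  let c : Chart f n := ⟨V, U, q ⁻¹ᵁ W', hV, hU, hle, hW⟩
  have hQ := hq.isQuot
  letI algAB : Algebra Γ(S, V) Γ(X, U) := c.algAB
  letI algAC : Algebra Γ(S, V) Γ(SymProd.fibPow f n, q ⁻¹ᵁ W') := c.algAC
  letI algAD : Algebra Γ(S, V) Γ(Y, W') := (g.appLE V W' e).hom.toAlgebra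
  haveI : Module.Flat Γ(S, V) Γ(X, U) :=
    HasRingHomProperty.appLE (P := @Flat) f inferInstance ⟨V, hV⟩ ⟨U, hU⟩ hle
  have hqβ : g.appLE V W' e ≫ q.app W' = c.β := by
    rw [Scheme.Hom.app_eq_appLE, Scheme.Hom.appLE_comp_appLE]
    exact appLE_congr_hom hq.over _ _ _
  let qA : Γ(Y, W') →ₐ[Γ(S, V)] Γ(SymProd.fibPow f n, q ⁻¹ᵁ W') :=
    { toRingHom := (q.app W').hom
      commutes' := fun a => by
        have := congrArg (fun φ => φ.hom a) hqβ
        exact this }
  let ΨA : Γ(SymProd.fibPow f n, q ⁻¹ᵁ W') →ₐ[Γ(S, V)] c.TP :=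
    { toRingHom := c.Ψ.hom
      commutes' := fun a => by
        have := congrArg (fun φ => φ.hom a) c.β_Ψ
        exact this }
  let L : Γ(Y, W') →ₗ[Γ(S, V)] c.TP := (ΨA.comp qA).toLinearMap
  have hΦΨ : ∀ y : Γ(SymProd.fibPow f n, q ⁻¹ᵁ W'), c.Φ (c.Ψ.hom y) = y := fun y => by
    have := congrArg (fun φ => φ.hom y) c.Ψ_Φ
    exact this
  have hLinj : Function.Injective L := by
    intro d d' hdd
    apply hQ.injective W'
    have h1 : c.Ψ.hom ((q.app W').hom d) = c.Ψ.hom ((q.app W').hom d') := hdd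
    have h2 := congrArg c.Φ h1
    rwa [hΦΨ, hΦΨ] at h2
  have hrange_iff : ∀ y : Γ(SymProd.fibPow f n, q ⁻¹ᵁ W'),
      y ∈ Set.range (q.app W').hom ↔ ∀ σ : Equiv.Perm (Fin n), (c.act σ).hom y = y := by
    intro y
    rw [hQ.range_iff W' y]
    constructor
    · intro h σ
      exact h ⟨σ⟩
    · intro h σ
      exact h σ.down
  have hrange : LinearMap.range L = ⨅ σ : Equiv.Perm (Fin n), LinearMap.eqLocus
      (PiTensorProduct.reindex Γ(S, V) (fun _ : Fin n => Γ(X, U)) σ).toLinearMap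
      LinearMap.id := by
    ext x
    simp only [LinearMap.mem_range, Submodule.mem_iInf, LinearMap.mem_eqLocus,
      LinearEquiv.coe_coe, LinearMap.id_coe, id_eq]
    constructor
    · rintro ⟨d, rfl⟩ σ
      have h1 : (c.act σ.symm).hom ((q.app W').hom d) = (q.app W').hom d :=
        (hrange_iff _).1 ⟨d, rfl⟩ σ.symm
      have h2 := c.act_Φ σ.symm (L d)
      have h3 : c.Φ (L d) = (q.app W').hom d := hΦΨ _
      rw [h3, h1, ← h3, Equiv.symm_symm] at h2
      exact (c.Φ_bijective.1 h2).symm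
    · intro hx
      have h1 : c.Φ x ∈ Set.range (q.app W').hom := by
        rw [hrange_iff]
        intro σ
        rw [c.act_Φ σ x, hx σ.symm]
      obtain ⟨d, hd⟩ := h1
      refine ⟨d, ?_⟩
      change c.Ψ.hom ((q.app W').hom d) = x
      rw [hd]
      exact c.Φ_Ψ_apply x
  haveI := Groth.Agent.S14671.result Γ(S, V) Γ(X, U) n
  exact Module.Flat.of_linearEquiv
    ((LinearEquiv.ofInjective L hLinj).trans (LinearEquiv.ofEq _ _ hrange))

/-- affine charts of a symmetric power (all `n ≥ 0`) -/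
theorem exists_chart {X S Y : Scheme.{u}} (f : X ⟶ S) (hAF : SymProd.IsAF f) (n : ℕ)
    (q : SymProd.fibPow f n ⟶ Y) (g : Y ⟶ S) (hq : SymProd.IsSymProd f n q g) (y : Y) :
    ∃ (V : S.Opens) (U : X.Opens) (W' : Y.Opens), IsAffineOpen V ∧ IsAffineOpen U ∧
      U ≤ f ⁻¹ᵁ V ∧ y ∈ W' ∧ IsAffineOpen W' ∧ W' ≤ g ⁻¹ᵁ V ∧
      ∀ z, z ∈ q ⁻¹ᵁ W' ↔ (WidePullback.base (fun _ : Fin n => f)).base z ∈ V ∧
        ∀ i, (WidePullback.π (fun _ : Fin n => f) i).base z ∈ U := by
  classical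
  have hQ := hq.isQuot
  obtain ⟨x, rfl⟩ := Groth.Agent.Lib.Helper81.Quot.surjective hQ y
  have hπb : ∀ i, Limits.WidePullback.π (fun _ : Fin n => f) i ≫ f =
      Limits.WidePullback.base (fun _ : Fin n => f) := fun i => Limits.WidePullback.π_arrow _ i
  let s := (Limits.WidePullback.base (fun _ : Fin n => f)).base x
  let T : Finset X :=
    Finset.univ.image (fun i => (Limits.WidePullback.π (fun _ : Fin n => f) i).base x)
  obtain ⟨U, hU, hTU⟩ := hAF s T (by
    intro y hy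
    obtain ⟨i, -, rfl⟩ := Finset.mem_image.mp hy
    rw [← Scheme.Hom.comp_apply, hπb])
  obtain ⟨V, hV, hsV, -⟩ := exists_isAffineOpen_mem_and_subset (X := S) (x := s) (U := ⊤) trivial
  have hxU : ∀ i, (Limits.WidePullback.π (fun _ : Fin n => f) i).base x ∈ U := fun i =>
    hTU _ (Finset.mem_image.mpr ⟨i, Finset.mem_univ _, rfl⟩)
  let T' : Finset U := Finset.univ.image
    (fun i => (⟨(Limits.WidePullback.π (fun _ : Fin n => f) i).base x, hxU i⟩ : U))
  obtain ⟨h, hh1, hh2⟩ := Groth.Agent.S13602.exists_basicOpen_finset hU (f ⁻¹ᵁ V) T' (by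
    intro y hy
    obtain ⟨i, -, rfl⟩ := Finset.mem_image.mp hy
    change f.base ((Limits.WidePullback.π (fun _ : Fin n => f) i).base x) ∈ V
    rw [← Scheme.Hom.comp_apply, hπb]
    exact hsV)
  have hxU' : ∀ i, (Limits.WidePullback.π (fun _ : Fin n => f) i).base x ∈ X.basicOpen h :=
    fun i => hh2 _ (Finset.mem_image.mpr ⟨i, Finset.mem_univ _, rfl⟩)
  let W : (SymProd.fibPow f n).Opens :=
    (Limits.WidePullback.base (fun _ : Fin n => f)) ⁻¹ᵁ V ⊓
      ⨅ i : Fin n, (Limits.WidePullback.π (fun _ : Fin n => f) i) ⁻¹ᵁ (X.basicOpen h)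
  have hW : ∀ y, y ∈ W ↔ (Limits.WidePullback.base (fun _ : Fin n => f)).base y ∈ V ∧
      ∀ i, (Limits.WidePullback.π (fun _ : Fin n => f) i).base y ∈ X.basicOpen h := by
    intro y
    change y ∈ ((Limits.WidePullback.base (fun _ : Fin n => f)) ⁻¹ᵁ V : Set _) ∩
      ((⨅ i : Fin n, (Limits.WidePullback.π (fun _ : Fin n => f) i) ⁻¹ᵁ (X.basicOpen h) :
        (SymProd.fibPow f n).Opens) : Set _) ↔ _
    rw [TopologicalSpace.Opens.coe_iInf, Set.mem_inter_iff, Set.mem_iInter]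
    rfl
  have hWaff : IsAffineOpen W :=
    Groth.Agent.S13602.isAffineOpen_fibPow f n V hV (X.basicOpen h) (hU.basicOpen h) hh1 W hW
  have hstab : ∀ σ : Equiv.Perm (Fin n), ∀ y, y ∈ W → (SymProd.permHom f n σ).base y ∈ W := by
    intro σ y hy
    rw [hW] at hy ⊢
    refine ⟨?_, fun i => ?_⟩
    · rw [← Scheme.Hom.comp_apply, SymProd.permHom_base]
      exact hy.1
    · rw [← Scheme.Hom.comp_apply, SymProd.permHom_π]
      exact hy.2 _
  have hsat : q.base ⁻¹' (q.base '' (W : Set ↥(SymProd.fibPow f n))) = (W : Set _) := by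
    apply Set.Subset.antisymm
    · rintro x' ⟨w, hw, hwx⟩
      obtain ⟨γ, hγ⟩ := Groth.Agent.Lib.Helper81.Quot.exists_eq_of_base_eq hQ w x' hwx
      rw [SymProd.permActU_hom] at hγ
      rw [← hγ]
      exact hstab _ _ hw
    · exact Set.subset_preimage_image _ _
  have hopen : IsOpen (q.base '' (W : Set ↥(SymProd.fibPow f n))) := by
    rw [← (Groth.Agent.Lib.Helper81.Quot.isQuotientMap hQ).isOpen_preimage, hsat]
    exact W.2
  let W' : Y.Opens := ⟨q.base '' (W : Set _), hopen⟩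
  have hpre : q ⁻¹ᵁ W' = W := by
    ext x'
    change x' ∈ q.base ⁻¹' (q.base '' (W : Set _)) ↔ x' ∈ (W : Set _)
    rw [hsat]
  refine ⟨V, X.basicOpen h, W', hV, hU.basicOpen h, hh1, ?_, ?_, ?_, ?_⟩
  · exact ⟨x, (hW x).2 ⟨hsV, hxU'⟩, rfl⟩
  · apply Groth.Agent.Lib.Helper81.Quot.isAffineOpen_of_preimage hQ W'
    rw [hpre]
    exact hWaff
  · rintro _ ⟨w, hw, rfl⟩
    change g.base (q.base w) ∈ V
    rw [← Scheme.Hom.comp_apply, hq.over]
    exact ((hW w).1 hw).1
  · intro z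
    rw [hpre]
    exact hW z

/-- **Flatness of symmetric powers of flat (AF) morphisms.** -/
theorem flat_symProd {X S Y : Scheme.{u}} (f : X ⟶ S) [Flat f] (hAF : SymProd.IsAF f) (n : ℕ)
    (q : SymProd.fibPow f n ⟶ Y) (g : Y ⟶ S) (hq : SymProd.IsSymProd f n q g) : Flat g := by
  rw [HasRingHomProperty.iff_exists_appLE (P := @Flat)
    (RingHom.Flat.stableUnderComposition.stableUnderCompositionWithLocalizationAway
      RingHom.Flat.holdsForLocalizationAway).left]
  intro y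
  obtain ⟨V, U, W', hV, hU, hle, hyW', hW', e, hW⟩ := exists_chart f hAF n q g hq y
  exact ⟨⟨V, hV⟩, ⟨W', hW'⟩, hyW', e, flat_appLE f n q g hq V hV U hU hle W' hW e⟩

end Sch

end Groth.Agent.Lib.Helper43.FibPowTensor
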