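import Mathlib
import Groth.Agent.Lib.Helper54.CPFFp
import Groth.Agent.Lib.Helper76.DefoDiff

/-!
# Fibrewise nonzerodivisors (helper43)

Ring-level form of "a locally principal subscheme of a flat, finitely presented `S`-scheme whose
fibres are effective Cartier divisors is a relative effective Cartier divisor" (EGA IV 11.3.8).

* `flat_aeval_of_nzd`, `flat_polynomial_atPrime`: flatness over `R[X]` from the fibre
  (via helper54's critère de platitude par fibres `cpf_fp_fiber`).
* `nzd_and_flat_quot_of_flat_polynomial`: flat over `R[X]` ⇒ `X` regular and quotient flat over `R`.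
* `local_Q`, `nzd_and_flat_of_local`, `forall_of_isLocalization`, `nzd_and_flat_of_fibres`.
-/

set_option autoImplicit false
set_option linter.style.haveILetI false
set_option linter.unusedSectionVars false
universe u

open TensorProduct Algebra Algebra.TensorProduct Polynomial

namespace Groth.Agent.Lib.Helper43.FibreNZD

/-- a local algebra over a field in which `τ` is a nonzerodivisor of the maximal ideal is flat over
the polynomial ring via `X ↦ τ` -/
theorem flat_aeval_of_nzd {κ L : Type u} [Field κ] [CommRing L] [IsLocalRing L] [Algebra κ L]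
    (τ : L) (hτm : τ ∈ IsLocalRing.maximalIdeal L) (hτ : τ ∈ nonZeroDivisors L) :
    (Polynomial.aeval (R := κ) τ).toRingHom.Flat := by
  letI := (Polynomial.aeval (R := κ) τ).toRingHom.toAlgebra
  change Module.Flat κ[X] L
  rw [Module.Flat.flat_iff_torsion_eq_bot_of_isBezout]
  have key : ∀ n : ℕ, ∀ π : κ[X], π ≠ 0 → π.natDegree = n → ∀ l : L,
      Polynomial.aeval τ π * l = 0 → l = 0 := by
    intro n
    induction n using Nat.strong_induction_on with
    | _ n ih =>
      intro π hπ hn l hl
      by_cases h0 : π.coeff 0 = 0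
      · obtain ⟨π', rfl⟩ := Polynomial.X_dvd_iff.mpr h0
        have hπ' : π' ≠ 0 := by
          rintro rfl
          exact hπ (mul_zero _)
        have hdeg : π'.natDegree < n := by
          rw [← hn, Polynomial.natDegree_X_mul hπ']
          exact Nat.lt_succ_self _
        rw [map_mul, Polynomial.aeval_X, mul_assoc] at hl
        have h1 : Polynomial.aeval τ π' * l = 0 := by
          have := (mem_nonZeroDivisors_iff.mp hτ).1 _ hl
          exact this
        exact ih _ hdeg π' hπ' rfl l h1
      · have hu : IsUnit (Polynomial.aeval τ π) := by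
          have hdecomp : Polynomial.aeval τ π =
              Polynomial.aeval τ π.divX * τ + algebraMap κ L (π.coeff 0) := by
            conv_lhs => rw [← Polynomial.divX_mul_X_add π]
            rw [map_add, map_mul, Polynomial.aeval_X, Polynomial.aeval_C]
          by_contra hnu
          have h1 : Polynomial.aeval τ π ∈ IsLocalRing.maximalIdeal L :=
            (IsLocalRing.mem_maximalIdeal _).mpr hnu
          have h2 : Polynomial.aeval τ π.divX * τ ∈ IsLocalRing.maximalIdeal L :=
            Ideal.mul_mem_left _ _ hτm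
          have h3 : algebraMap κ L (π.coeff 0) ∈ IsLocalRing.maximalIdeal L := by
            have := (IsLocalRing.maximalIdeal L).sub_mem h1 h2
            rwa [hdecomp, add_sub_cancel_left] at this
          exact (IsLocalRing.mem_maximalIdeal _).mp h3 ((IsUnit.mk0 _ h0).map (algebraMap κ L))
        exact (hu.mul_right_eq_zero).mp hl
  rw [Submodule.eq_bot_iff]
  intro l hl
  rw [Submodule.mem_torsion_iff] at hl
  obtain ⟨a, ha⟩ := hl
  have ha0 : (a : κ[X]) ≠ 0 := nonZeroDivisors.coe_ne_zero a
  refine key _ a ha0 rfl l ?_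
  have : (a : κ[X]) • l = Polynomial.aeval τ (a : κ[X]) * l := by
    rw [Algebra.smul_def]
    rfl
  rw [← this]
  exact ha


theorem bijective_C_quot (R : Type u) [CommRing R] :
    Function.Bijective ((Ideal.Quotient.mk (Ideal.span {(X : R[X])})).comp (C : R →+* R[X])) := by
  constructor
  · rw [injective_iff_map_eq_zero]
    intro r hr
    rw [RingHom.comp_apply, Ideal.Quotient.eq_zero_iff_mem, Ideal.mem_span_singleton,
      Polynomial.X_dvd_iff, Polynomial.coeff_C_zero] at hr
    exact hr
  · intro y
    obtain ⟨π, rfl⟩ := Ideal.Quotient.mk_surjective y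
    refine ⟨π.coeff 0, ?_⟩
    rw [RingHom.comp_apply, Ideal.Quotient.eq, Ideal.mem_span_singleton, Polynomial.X_dvd_iff]
    simp

/-- if `B'` is flat over `R[X]` then the image of `X` is a nonzerodivisor and the quotient by it is
flat over `R`. -/
theorem nzd_and_flat_quot_of_flat_polynomial {R B' : Type u} [CommRing R] [CommRing B']
    (f : R[X] →+* B') (hf : f.Flat) :
    f X ∈ nonZeroDivisors B' ∧
      ((Ideal.Quotient.mk (Ideal.span {f X})).comp (f.comp (C : R →+* R[X]))).Flat := by
  constructor
  · letI := f.toAlgebra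
    haveI : Module.Flat R[X] B' := hf
    have hreg : IsSMulRegular R[X] (X : R[X]) := (Polynomial.monic_X.isRegular).left
    have h1 : IsSMulRegular B' (algebraMap R[X] B' X) := IsSMulRegular.of_flat hreg
    rw [mem_nonZeroDivisors_iff_right]
    intro y hy
    apply h1
    change f X • y = f X • 0
    rw [smul_eq_mul, smul_eq_mul, mul_zero, mul_comm]
    exact hy
  · have h1 := Groth.Agent.Lib.Helper76.DefoDiff.flat_quotientMap f hf (Ideal.span {(X : R[X])})
    have h2 : ((Ideal.quotientMap ((Ideal.span {(X : R[X])}).map f) f Ideal.le_comap_map).comp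
        ((Ideal.Quotient.mk (Ideal.span {(X : R[X])})).comp (C : R →+* R[X]))).Flat :=
      RingHom.Flat.comp (RingHom.Flat.of_bijective (bijective_C_quot R)) h1
    have key : ∀ (J : Ideal B') (hJ : (Ideal.span {(X : R[X])}).map f = J),
        ((Ideal.Quotient.mk J).comp (f.comp (C : R →+* R[X]))).Flat := by
      intro J hJ
      subst hJ
      convert h2 using 1
      refine RingHom.ext fun r => ?_
      rfl
    exact key _ (by rw [Ideal.map_span, Set.image_singleton])


section G

variable {R B₀ : Type u} [CommRing R] [CommRing B₀] [Algebra R B₀]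

theorem flat_quot_of_localized (I : Ideal B₀)
    (h : ∀ (P : Ideal B₀) [P.IsMaximal], Module.Flat R
      (Localization.AtPrime P ⧸ I.map (algebraMap B₀ (Localization.AtPrime P)))) :
    Module.Flat R (B₀ ⧸ I) := by
  refine Module.flat_of_isLocalized_maximal B₀ (B₀ ⧸ I)
    (fun P _ => Localization.AtPrime P ⧸ I.localized' (Localization.AtPrime P) P.primeCompl
      (Algebra.linearMap B₀ (Localization.AtPrime P)))
    (fun P _ => Submodule.toLocalizedQuotient' (Localization.AtPrime P) P.primeCompl
      (Algebra.linearMap B₀ (Localization.AtPrime P)) I) ?_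
  intro P _
  have key : ∀ J : Ideal (Localization.AtPrime P),
      J = I.map (algebraMap B₀ (Localization.AtPrime P)) →
      Module.Flat R (Localization.AtPrime P ⧸ J) := by
    intro J hJ
    subst hJ
    exact h P
  exact key _ (Ideal.localized'_eq_map _ _ I)

theorem nzd_and_flat_of_local (t : B₀)
    (h : ∀ (Q : Ideal B₀) [Q.IsMaximal], t ∈ Q →
      algebraMap B₀ (Localization.AtPrime Q) t ∈ nonZeroDivisors (Localization.AtPrime Q) ∧
      Module.Flat R (Localization.AtPrime Q ⧸
        Ideal.span {algebraMap B₀ (Localization.AtPrime Q) t})) :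
    t ∈ nonZeroDivisors B₀ ∧ Module.Flat R (B₀ ⧸ Ideal.span {t}) := by
  constructor
  · rw [mem_nonZeroDivisors_iff_right]
    intro y hy
    apply eq_zero_of_localization
    intro J hJ
    by_cases htJ : t ∈ J
    · have h1 := (h J htJ).1
      rw [mem_nonZeroDivisors_iff_right] at h1
      apply h1
      rw [← map_mul, hy, map_zero]
    · have hu : IsUnit (algebraMap B₀ (Localization.AtPrime J) t) :=
        IsLocalization.map_units (Localization.AtPrime J) (⟨t, htJ⟩ : J.primeCompl)
      have h2 : algebraMap B₀ (Localization.AtPrime J) y *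
          algebraMap B₀ (Localization.AtPrime J) t = 0 := by
        rw [← map_mul, hy, map_zero]
      exact (hu.mul_left_eq_zero).mp h2
  · apply flat_quot_of_localized
    intro P _
    rw [Ideal.map_span, Set.image_singleton]
    by_cases htP : t ∈ P
    · exact (h P htP).2
    · have hu : IsUnit (algebraMap B₀ (Localization.AtPrime P) t) :=
        IsLocalization.map_units (Localization.AtPrime P) (⟨t, htP⟩ : P.primeCompl)
      have htop : Ideal.span {algebraMap B₀ (Localization.AtPrime P) t} = ⊤ :=
        Ideal.span_singleton_eq_top.mpr hu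
      haveI : Subsingleton (Localization.AtPrime P ⧸
          Ideal.span {algebraMap B₀ (Localization.AtPrime P) t}) :=
        Ideal.Quotient.subsingleton_iff.mpr htop
      infer_instance

end G


section TR

variable {B₀ : Type u} [CommRing B₀]

theorem forall_of_isLocalization (Q : Ideal B₀) [Q.IsPrime] (B : Type u) [CommRing B]
    [Algebra B₀ B] [IsLocalization.AtPrime B Q] (I : Ideal B₀) (t : B₀)
    (h : ∀ y : B, algebraMap B₀ B t * y ∈ I.map (algebraMap B₀ B) → y ∈ I.map (algebraMap B₀ B)) :
    ∀ y : Localization.AtPrime Q,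
      algebraMap B₀ _ t * y ∈ I.map (algebraMap B₀ (Localization.AtPrime Q)) →
      y ∈ I.map (algebraMap B₀ (Localization.AtPrime Q)) := by
  let e : B ≃ₐ[B₀] Localization.AtPrime Q := IsLocalization.algEquiv Q.primeCompl B _
  have hmap : ∀ z : Localization.AtPrime Q,
      z ∈ I.map (algebraMap B₀ (Localization.AtPrime Q)) ↔ e.symm z ∈ I.map (algebraMap B₀ B) := by
    intro z
    have h1 : I.map (algebraMap B₀ (Localization.AtPrime Q)) =
        (I.map (algebraMap B₀ B)).map (e.toRingEquiv : B →+* Localization.AtPrime Q) := by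
      rw [Ideal.map_map]
      congr 1
      refine RingHom.ext fun b => ?_
      exact (e.commutes b).symm
    rw [h1, Ideal.map_comap_of_equiv, Ideal.mem_comap]
    rfl
  intro y hy
  rw [hmap] at hy ⊢
  apply h
  rw [map_mul, AlgEquiv.commutes] at hy
  exact hy

end TR


attribute [local instance] Algebra.TensorProduct.rightAlgebra

open Groth.Agent.Lib.Helper54.CPF

section K

variable {R B₀ : Type u} [CommRing R] [CommRing B₀] [Algebra R B₀]
  [Algebra.FinitePresentation R B₀] (p : Ideal R) [p.IsPrime]

/-- **Key lemma**: `B₀` finitely presented over `R`, `q` a prime of the fibre `κ(p) ⊗ B₀` with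
`Q = q ∩ B₀`, `(B₀)_Q` flat over `R`, and `t ∈ B₀` whose image in the local ring of the fibre at
`q` is a nonzerodivisor of the maximal ideal. Then `(B₀)_Q` is flat over `R[T]` via `T ↦ t`. -/
theorem flat_polynomial_atPrime (q : Ideal (p.Fiber B₀)) [q.IsPrime] (t : B₀)
    (ha : Module.Flat R (Localization.AtPrime (q.comap (includeRight : B₀ →ₐ[R] p.Fiber B₀))))
    (htq : (1 : p.ResidueField) ⊗ₜ[R] t ∈ q)
    (hnzd : algebraMap (p.Fiber B₀) (Localization.AtPrime q) ((1 : p.ResidueField) ⊗ₜ[R] t) ∈
      nonZeroDivisors (Localization.AtPrime q)) :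
    letI := (Polynomial.aeval (R := R) t).toRingHom.toAlgebra
    Module.Flat R[X] (Localization.AtPrime (q.comap (includeRight : B₀ →ₐ[R] p.Fiber B₀))) := by
  letI alg : Algebra R[X] B₀ := (Polynomial.aeval (R := R) t).toRingHom.toAlgebra
  haveI : IsScalarTower R R[X] B₀ := IsScalarTower.of_algebraMap_eq fun r => by
    change algebraMap R B₀ r = Polynomial.aeval t (Polynomial.C r)
    rw [Polynomial.aeval_C]
  refine cpf_fp_fiber (R := R) (A := R[X]) (B := B₀) p q ha ?_
  letI := fibAlgebra (A := R[X]) (B := B₀) p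
  set τ : Localization.AtPrime q :=
    algebraMap (p.Fiber B₀) (Localization.AtPrime q) ((1 : p.ResidueField) ⊗ₜ[R] t) with hτ
  have hτm : τ ∈ IsLocalRing.maximalIdeal (Localization.AtPrime q) := by
    rw [hτ, IsLocalization.AtPrime.to_map_mem_maximal_iff (Localization.AtPrime q) q]
    exact htq
  have h1 := flat_aeval_of_nzd (κ := p.ResidueField) τ hτm hnzd
  -- the comparison with `κ[X]`
  let e : p.ResidueField[X] ≃ₐ[R] p.Fiber R[X] := polyEquivTensor R p.ResidueField
  have hψ : (algebraMap (p.Fiber R[X]) (Localization.AtPrime q)).comp (e : p.ResidueField[X] →+* p.Fiber R[X]) =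
      (Polynomial.aeval (R := p.ResidueField) τ).toRingHom := by
    apply Polynomial.ringHom_ext
    · intro c
      simp only [RingHom.coe_comp, Function.comp_apply, AlgHom.toRingHom_eq_coe, RingHom.coe_coe,
        Polynomial.aeval_C]
      change algebraMap (p.Fiber R[X]) (Localization.AtPrime q) (polyEquivTensor R p.ResidueField (Polynomial.C c)) = _
      rw [polyEquivTensor_apply, Polynomial.eval₂_C,
        IsScalarTower.algebraMap_apply (p.Fiber R[X]) (p.Fiber B₀) (Localization.AtPrime q),
        IsScalarTower.algebraMap_apply p.ResidueField (p.Fiber B₀) (Localization.AtPrime q)]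
      congr 1
      change fibMap (A := R[X]) (B := B₀) p (c ⊗ₜ 1) = _
      rw [fibMap, Algebra.TensorProduct.map_tmul, map_one, Algebra.TensorProduct.algebraMap_apply]
      rfl
    · simp only [RingHom.coe_comp, Function.comp_apply, AlgHom.toRingHom_eq_coe, RingHom.coe_coe,
        Polynomial.aeval_X]
      change algebraMap (p.Fiber R[X]) (Localization.AtPrime q) (polyEquivTensor R p.ResidueField Polynomial.X) = _
      rw [polyEquivTensor_apply, Polynomial.eval₂_X, hτ]
      change algebraMap (p.Fiber B₀) (Localization.AtPrime q) (fibMap (A := R[X]) (B := B₀) p (1 ⊗ₜ Polynomial.X)) = _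
      congr 1
      change (1 : p.ResidueField) ⊗ₜ[R] (Polynomial.aeval t Polynomial.X) = _
      rw [Polynomial.aeval_X]
  have h2 : (algebraMap (p.Fiber R[X]) (Localization.AtPrime q)) =
      ((algebraMap (p.Fiber R[X]) (Localization.AtPrime q)).comp (e : p.ResidueField[X] →+* p.Fiber R[X])).comp
        (e.symm : p.Fiber R[X] →+* p.ResidueField[X]) := by
    refine RingHom.ext fun x => ?_
    simp only [RingHom.comp_apply, RingHom.coe_coe, AlgEquiv.apply_symm_apply]
  have h3 : @RingHom.Flat (p.Fiber R[X]) (Localization.AtPrime q) _ _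
      (algebraMap (p.Fiber R[X]) (Localization.AtPrime q)) := by
    rw [h2, hψ]
    exact RingHom.Flat.comp (RingHom.Flat.of_bijective e.symm.bijective) h1
  exact RingHom.flat_algebraMap_iff.mp h3

theorem nzd_fibre_of_forall (q : Ideal (p.Fiber B₀)) [q.IsPrime] (t : B₀)
    (hnzd : ∀ y : Localization.AtPrime (q.comap (includeRight : B₀ →ₐ[R] p.Fiber B₀)),
      algebraMap B₀ _ t * y ∈ (p.map (algebraMap R B₀)).map
        (algebraMap B₀ (Localization.AtPrime (q.comap (includeRight : B₀ →ₐ[R] p.Fiber B₀)))) →
      y ∈ (p.map (algebraMap R B₀)).map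
        (algebraMap B₀ (Localization.AtPrime (q.comap (includeRight : B₀ →ₐ[R] p.Fiber B₀))))) :
    algebraMap (p.Fiber B₀) (Localization.AtPrime q) ((1 : p.ResidueField) ⊗ₜ[R] t) ∈
      nonZeroDivisors (Localization.AtPrime q) := by
  let β := bridge (S := B₀) p q
  have h1 : algebraMap (p.Fiber B₀) (Localization.AtPrime q) ((1 : p.ResidueField) ⊗ₜ[R] t) =
      algebraMap B₀ (Localization.AtPrime q) t := by
    rw [IsScalarTower.algebraMap_apply B₀ (p.Fiber B₀) (Localization.AtPrime q)]
    rfl
  rw [h1, mem_nonZeroDivisors_iff_right]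
  intro z hz
  have h2 : β z * β (algebraMap B₀ (Localization.AtPrime q) t) = 0 := by
    rw [← map_mul, hz, map_zero]
  rw [AlgEquiv.commutes] at h2
  obtain ⟨y, hy⟩ := Ideal.Quotient.mk_surjective (β z)
  have h3 : algebraMap B₀ _ t * y ∈ (p.map (algebraMap R B₀)).map
        (algebraMap B₀ (Localization.AtPrime (q.comap (includeRight : B₀ →ₐ[R] p.Fiber B₀)))) := by
    rw [← Ideal.Quotient.eq_zero_iff_mem, map_mul, hy, mul_comm]
    exact h2
  have h4 := hnzd y h3
  rw [← Ideal.Quotient.eq_zero_iff_mem, hy] at h4
  exact (map_eq_zero_iff β β.injective).mp h4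


/-- local statement in terms of a prime of the fibre ring -/
theorem local_pq (q : Ideal (p.Fiber B₀)) [q.IsPrime] (t : B₀)
    (ha : Module.Flat R (Localization.AtPrime (q.comap (includeRight : B₀ →ₐ[R] p.Fiber B₀))))
    (htq : t ∈ q.comap (includeRight : B₀ →ₐ[R] p.Fiber B₀))
    (hnzd : ∀ y : Localization.AtPrime (q.comap (includeRight : B₀ →ₐ[R] p.Fiber B₀)),
      algebraMap B₀ _ t * y ∈ (p.map (algebraMap R B₀)).map
        (algebraMap B₀ (Localization.AtPrime (q.comap (includeRight : B₀ →ₐ[R] p.Fiber B₀)))) →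
      y ∈ (p.map (algebraMap R B₀)).map
        (algebraMap B₀ (Localization.AtPrime (q.comap (includeRight : B₀ →ₐ[R] p.Fiber B₀))))) :
    algebraMap B₀ (Localization.AtPrime (q.comap (includeRight : B₀ →ₐ[R] p.Fiber B₀))) t ∈
        nonZeroDivisors (Localization.AtPrime (q.comap (includeRight : B₀ →ₐ[R] p.Fiber B₀))) ∧
      Module.Flat R (Localization.AtPrime (q.comap (includeRight : B₀ →ₐ[R] p.Fiber B₀)) ⧸
        Ideal.span {algebraMap B₀
          (Localization.AtPrime (q.comap (includeRight : B₀ →ₐ[R] p.Fiber B₀))) t}) := by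
  have h1 := nzd_fibre_of_forall p q t hnzd
  have h2 := flat_polynomial_atPrime p q t ha htq h1
  set L := Localization.AtPrime (q.comap (includeRight : B₀ →ₐ[R] p.Fiber B₀)) with hL
  let f : R[X] →+* L := (algebraMap B₀ L).comp (Polynomial.aeval (R := R) t).toRingHom
  have hf : f.Flat := by
    letI := (Polynomial.aeval (R := R) t).toRingHom.toAlgebra
    have := RingHom.flat_algebraMap_iff.mpr h2
    convert this using 1
    exact (IsScalarTower.algebraMap_eq R[X] B₀ _)
  obtain ⟨h3, h4⟩ := nzd_and_flat_quot_of_flat_polynomial f hf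
  have hfX : f X = algebraMap B₀ L t := by
    change algebraMap B₀ L (Polynomial.aeval t X) = _
    rw [Polynomial.aeval_X]
  rw [hfX] at h3 h4
  refine ⟨h3, ?_⟩
  have h5 : (Ideal.Quotient.mk (Ideal.span {algebraMap B₀ L t})).comp (f.comp (C : R →+* R[X])) =
      algebraMap R (L ⧸ Ideal.span {algebraMap B₀ L t}) := by
    refine RingHom.ext fun r => ?_
    change Ideal.Quotient.mk _ (algebraMap B₀ L (Polynomial.aeval t (C r))) = _
    rw [Polynomial.aeval_C, ← IsScalarTower.algebraMap_apply R B₀ L]
    rfl
  rw [h5] at h4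
  exact RingHom.flat_algebraMap_iff.mp h4

end K

section Q

variable {R B₀ : Type u} [CommRing R] [CommRing B₀] [Algebra R B₀]
  [Algebra.FinitePresentation R B₀] [Module.Flat R B₀]

/-- local statement at a prime `Q` of `B₀` -/
theorem local_Q (Q : Ideal B₀) [Q.IsPrime] (t : B₀) (htQ : t ∈ Q)
    (hnzd : ∀ y : Localization.AtPrime Q,
      algebraMap B₀ _ t * y ∈ ((Q.comap (algebraMap R B₀)).map (algebraMap R B₀)).map
        (algebraMap B₀ (Localization.AtPrime Q)) →
      y ∈ ((Q.comap (algebraMap R B₀)).map (algebraMap R B₀)).map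
        (algebraMap B₀ (Localization.AtPrime Q))) :
    algebraMap B₀ (Localization.AtPrime Q) t ∈ nonZeroDivisors (Localization.AtPrime Q) ∧
      Module.Flat R (Localization.AtPrime Q ⧸
        Ideal.span {algebraMap B₀ (Localization.AtPrime Q) t}) := by
  set p : Ideal R := Q.comap (algebraMap R B₀) with hp
  haveI hlo : Q.LiesOver p := ⟨rfl⟩
  let q := PrimeSpectrum.primesOverOrderIsoFiber R B₀ p ⟨Q, ⟨inferInstance, inferInstance⟩⟩
  have hq : q.asIdeal.comap (includeRight : B₀ →ₐ[R] p.Fiber B₀) = Q := by
    have := (PrimeSpectrum.primesOverOrderIsoFiber R B₀ p).symm_apply_apply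
      ⟨Q, ⟨inferInstance, inferInstance⟩⟩
    exact congrArg Subtype.val this
  have key : ∀ (Q' : Ideal B₀) (hQ' : Q'.IsPrime)
      (_ : q.asIdeal.comap (includeRight : B₀ →ₐ[R] p.Fiber B₀) = Q') (_ : t ∈ Q'),
      (∀ y : Localization.AtPrime Q',
        algebraMap B₀ _ t * y ∈ (p.map (algebraMap R B₀)).map
          (algebraMap B₀ (Localization.AtPrime Q')) →
        y ∈ (p.map (algebraMap R B₀)).map (algebraMap B₀ (Localization.AtPrime Q'))) →
      algebraMap B₀ (Localization.AtPrime Q') t ∈ nonZeroDivisors (Localization.AtPrime Q') ∧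
        Module.Flat R (Localization.AtPrime Q' ⧸
          Ideal.span {algebraMap B₀ (Localization.AtPrime Q') t}) := by
    intro Q' hQ' h ht hy
    subst h
    exact local_pq p q.asIdeal t inferInstance ht hy
  exact key Q inferInstance hq htQ hnzd

end Q


section Main

variable {R B₀ : Type u} [CommRing R] [CommRing B₀] [Algebra R B₀]
  [Algebra.FinitePresentation R B₀] [Module.Flat R B₀]

/-- **Fibrewise nonzerodivisor criterion**: `B₀` flat and finitely presented over `R`, `t ∈ B₀`
such that at every prime `Q ∋ t` of `B₀`, multiplication by `t` is injective on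
`(B₀)_Q / p (B₀)_Q`, `p = Q ∩ R`. Then `t` is a nonzerodivisor of `B₀` and `B₀ / t B₀` is flat
over `R`. -/
theorem nzd_and_flat_of_fibres (t : B₀)
    (h : ∀ (Q : Ideal B₀) [Q.IsPrime], t ∈ Q → ∀ y : Localization.AtPrime Q,
      algebraMap B₀ _ t * y ∈ ((Q.comap (algebraMap R B₀)).map (algebraMap R B₀)).map
        (algebraMap B₀ (Localization.AtPrime Q)) →
      y ∈ ((Q.comap (algebraMap R B₀)).map (algebraMap R B₀)).map
        (algebraMap B₀ (Localization.AtPrime Q))) :
    t ∈ nonZeroDivisors B₀ ∧ Module.Flat R (B₀ ⧸ Ideal.span {t}) := by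
  apply nzd_and_flat_of_local
  intro Q hQ htQ
  haveI : Q.IsPrime := hQ.isPrime
  exact local_Q Q t htQ (h Q htQ)

end Main

end Groth.Agent.Lib.Helper43.FibreNZD
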