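import Mathlib
import Groth.Agent.Lib.Helper43.FibreNZD
import Groth.Agent.Lib.Helper67.FiberStalk
import Groth.Agent.Lib.Helper64.StalkIdeal
import Groth.Agent.Lib.Helper82.EffCartier
import Groth.Agent.Lib.Helper82.EffCartierStalk
import Groth.Agent.Lib.Helper22.RelCartier
import Groth.Prelude.Def_CurvBase

/-!
# Relative effective Cartier divisors from the fibres (helper43)

`relEffCartier_of_locPrincipal_of_fibres` (EGA IV 11.3.8): for `φ : X ⟶ S` flat and locally of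
finite presentation, a locally principal ideal sheaf whose restriction to every fibre is effective
Cartier is effective Cartier with closed subscheme flat over `S`.
-/

set_option autoImplicit false
set_option linter.style.haveILetI false
set_option linter.unusedVariables false
universe u

open CategoryTheory CategoryTheory.Limits AlgebraicGeometry

namespace Groth.Agent.Lib.Helper43.FibreCartier

open Groth.Agent.Lib.Helper67.FiberStalk Groth.Agent.Lib.Helper64.StalkIdeal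
open Groth.Agent.Lib.Helper43.FibreNZD

theorem nzd_of_span_eq {A : Type*} [CommRing A] (a s : A) (hs : s ∈ nonZeroDivisors A)
    (h : Ideal.span {s} = Ideal.span {a}) : a ∈ nonZeroDivisors A := by
  have h1 : s ∈ Ideal.span {a} := by rw [← h]; exact Ideal.mem_span_singleton_self s
  obtain ⟨c, hc⟩ := Ideal.mem_span_singleton'.mp h1
  rw [mem_nonZeroDivisors_iff_right]
  intro y hy
  apply (mem_nonZeroDivisors_iff_right.mp hs) y
  rw [← hc, mul_comm c a, ← mul_assoc, hy, zero_mul]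

/-- on the fibre through `x`, multiplication by a local generator of `𝓘` is injective modulo
`m_{φ x} O_{X,x}` if the restriction of `𝓘` to the fibre is effective Cartier -/
theorem fibre_nzd_stalk {X S : Scheme.{u}} (φ : X ⟶ S) (𝓘 : X.IdealSheafData) (x : X)
    (hfib : BlowUp.IsEffCartierIdeal (𝓘.comap (φ.fiberι (φ x)))) (U : X.affineOpens)
    (hxU : x ∈ U.1) (t : Γ(X, U.1)) (hI : 𝓘.ideal U = Ideal.span {t}) (y : X.presheaf.stalk x)
    (hy : (X.presheaf.germ U.1 x hxU).hom t * y ∈ fibIdeal φ x) : y ∈ fibIdeal φ x := by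
  set ξ := φ.asFiber x with hξdef
  have hξ : φ.fiberι (φ x) ξ = x := φ.fiberι_asFiber x
  obtain ⟨s, hs, hsI⟩ := exists_stalkIdeal_eq_span_of_isEffCartier hfib ξ
  have hξU : ξ ∈ ((φ.fiberι (φ x)) ⁻¹ᵁ U.1 : Set (φ.fiber (φ x))) := by
    change φ.fiberι (φ x) ξ ∈ U.1
    rw [hξ]
    exact hxU
  obtain ⟨_, ⟨U', hU', rfl⟩, hξU', hU'le⟩ :=
    (φ.fiber (φ x)).isBasis_affineOpens.exists_subset_of_mem_open hξU
      ((φ.fiberι (φ x)) ⁻¹ᵁ U.1).isOpen
  have hιξU : φ.fiberι (φ x) ξ ∈ U.1 := hU'le hξU'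
  rw [stalkIdeal_eq (𝓘.comap (φ.fiberι (φ x))) ⟨U', hU'⟩ ξ hξU',
    Groth.Agent.Lib.Helper82.ideal_comap_of_le (φ.fiberι (φ x)) 𝓘 U' hU' U.1 U.2 hU'le,
    Ideal.map_map] at hsI
  have hcomp : ((φ.fiber (φ x)).presheaf.germ U' ξ hξU').hom.comp
      ((φ.fiberι (φ x)).appLE U.1 U' hU'le).hom =
      ((φ.fiberι (φ x)).stalkMap ξ).hom.comp
        (X.presheaf.germ U.1 (φ.fiberι (φ x) ξ) hιξU).hom := by
    ext r
    simp only [Scheme.Hom.germ_stalkMap_apply, Scheme.Hom.appLE, homOfLE_leOfHom,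
      CommRingCat.hom_comp, RingHom.coe_comp, Function.comp_apply,
      (φ.fiber (φ x)).presheaf.germ_res_apply]
  have hσ : ((φ.fiberι (φ x)).stalkMap ξ).hom.comp
        (X.presheaf.germ U.1 (φ.fiberι (φ x) ξ) hιξU).hom =
      (σ φ x ξ hξ).hom.comp (X.presheaf.germ U.1 x hxU).hom := by
    have h1 : X.presheaf.germ U.1 x hxU ≫ (X.presheaf.stalkCongr (.of_eq hξ.symm)).hom =
        X.presheaf.germ U.1 (φ.fiberι (φ x) ξ) hιξU :=
      X.presheaf.germ_stalkSpecializes hxU (Inseparable.of_eq hξ.symm).ge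
    rw [σ, ← CommRingCat.hom_comp, ← CommRingCat.hom_comp, ← h1, Category.assoc]
  rw [hcomp, hσ, hI, Ideal.map_span, Set.image_singleton] at hsI
  have hτ := nzd_of_span_eq _ s hs hsI.symm
  rw [← ker_σ φ x ξ hξ, RingHom.mem_ker] at hy ⊢
  rw [map_mul] at hy
  rw [mem_nonZeroDivisors_iff] at hτ
  exact hτ.1 _ hy

theorem fibIdeal_eq {X S : Scheme.{u}} (φ : X ⟶ S) {U : X.Opens} (hU : IsAffineOpen U)
    {V : S.Opens} (hV : IsAffineOpen V) (e : U ≤ φ ⁻¹ᵁ V) (x : X) (hx : x ∈ U) :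
    fibIdeal φ x = ((((hU.primeIdealOf ⟨x, hx⟩).asIdeal.comap (φ.appLE V U e).hom).map
      (φ.appLE V U e).hom).map (X.presheaf.germ U x hx).hom) := by
  have h1 := IsAffineOpen.comap_primeIdealOf_appLE V hV U hU e hx
  have h2 : ((hU.primeIdealOf ⟨x, hx⟩).asIdeal.comap (φ.appLE V U e).hom) =
      (hV.primeIdealOf ⟨φ x, e hx⟩).asIdeal := congrArg PrimeSpectrum.asIdeal h1
  rw [h2]
  letI := S.presheaf.algebra_section_stalk ⟨φ x, e hx⟩
  haveI := hV.isLocalization_stalk ⟨φ x, e hx⟩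
  have h3 := IsLocalization.AtPrime.map_eq_maximalIdeal
    (hV.primeIdealOf ⟨φ x, e hx⟩).asIdeal (S.presheaf.stalk (φ x))
  rw [fibIdeal, ← h3, Ideal.map_map, Ideal.map_map]
  congr 1
  change (φ.stalkMap x).hom.comp (S.presheaf.germ V (φ x) (e hx)).hom = _
  rw [← CommRingCat.hom_comp, ← CommRingCat.hom_comp]
  congr 1
  rw [Scheme.Hom.germ_stalkMap, Scheme.Hom.appLE, Category.assoc, X.presheaf.germ_res]

/-- the chart statement: on an affine chart where `𝓘` is principal, the generator is a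
nonzerodivisor and the quotient is flat over the base. -/
theorem chart {X S : Scheme.{u}} (φ : X ⟶ S) [Flat φ] [LocallyOfFinitePresentation φ]
    (𝓘 : X.IdealSheafData)
    (hfib : ∀ s : S, BlowUp.IsEffCartierIdeal (𝓘.comap (φ.fiberι s)))
    (U : X.affineOpens) (V : S.affineOpens) (e : U.1 ≤ φ ⁻¹ᵁ V.1) (t : Γ(X, U.1))
    (hI : 𝓘.ideal U = Ideal.span {t}) :
    t ∈ nonZeroDivisors Γ(X, U.1) ∧
      ((Ideal.Quotient.mk (𝓘.ideal U)).comp (φ.appLE V.1 U.1 e).hom).Flat := by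
  letI alg : Algebra Γ(S, V.1) Γ(X, U.1) := (φ.appLE V.1 U.1 e).hom.toAlgebra
  haveI hfp : Algebra.FinitePresentation Γ(S, V.1) Γ(X, U.1) :=
    HasRingHomProperty.appLE (P := @LocallyOfFinitePresentation) φ inferInstance V U e
  haveI hflat : Module.Flat Γ(S, V.1) Γ(X, U.1) := Flat.flat_appLE φ V.2 U.2 e
  have main := nzd_and_flat_of_fibres (R := Γ(S, V.1)) (B₀ := Γ(X, U.1)) t ?_
  · refine ⟨main.1, ?_⟩
    rw [hI]
    exact RingHom.flat_algebraMap_iff.mpr main.2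
  · intro Q hQ htQ
    set x : X := U.2.fromSpec (⟨Q, hQ⟩ : PrimeSpectrum Γ(X, U.1)) with hx
    have hxU : x ∈ U.1 := by
      have : x ∈ Set.range U.2.fromSpec := ⟨_, rfl⟩
      rwa [U.2.range_fromSpec] at this
    have hprime : U.2.primeIdealOf ⟨x, hxU⟩ = (⟨Q, hQ⟩ : PrimeSpectrum Γ(X, U.1)) := by
      apply U.2.fromSpec.isOpenEmbedding.injective
      exact U.2.fromSpec_primeIdealOf ⟨x, hxU⟩
    letI := X.presheaf.algebra_section_stalk ⟨x, hxU⟩
    haveI hloc : IsLocalization.AtPrime (X.presheaf.stalk x) Q :=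
      U.2.isLocalization_stalk' (⟨Q, hQ⟩ : PrimeSpectrum Γ(X, U.1)) hxU
    refine forall_of_isLocalization Q (X.presheaf.stalk x) _ t ?_
    intro y hy
    have hfe := fibIdeal_eq φ U.2 V.2 e x hxU
    rw [hprime] at hfe
    change y ∈ Ideal.map (X.presheaf.germ U.1 x hxU).hom _
    change (X.presheaf.germ U.1 x hxU).hom t * y ∈ Ideal.map (X.presheaf.germ U.1 x hxU).hom _ at hy
    change fibIdeal φ x = Ideal.map (X.presheaf.germ U.1 x hxU).hom
      (Ideal.map (algebraMap Γ(S, V.1) Γ(X, U.1)) (Ideal.comap (algebraMap Γ(S, V.1) Γ(X, U.1)) Q)) at hfe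
    rw [← hfe] at hy ⊢
    exact fibre_nzd_stalk φ 𝓘 x (hfib (φ x)) U hxU t hI y hy

/-- principal charts adapted to a morphism -/
theorem exists_principal_chart {X S : Scheme.{u}} (φ : X ⟶ S) (𝓘 : X.IdealSheafData)
    (hZ : Curv2.IsLocPrincipal 𝓘) (x : X) (hx : x ∈ 𝓘.support) :
    ∃ (U : X.affineOpens) (V : S.affineOpens) (_ : x ∈ U.1) (e : U.1 ≤ φ ⁻¹ᵁ V.1)
      (t : Γ(X, U.1)), 𝓘.ideal U = Ideal.span {t} := by
  obtain ⟨U₀, hxU₀, f₀, hf₀⟩ := hZ x hx
  obtain ⟨V, hxV⟩ := exists_affine_nhd (φ x)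
  obtain ⟨g, hgle, hxg⟩ := U₀.2.exists_basicOpen_le (V := φ ⁻¹ᵁ V.1) ⟨x, hxV⟩ hxU₀
  refine ⟨X.affineBasicOpen g, V, hxg, hgle,
    (X.presheaf.map (homOfLE (X.basicOpen_le g)).op).hom f₀, ?_⟩
  rw [← 𝓘.map_ideal_basicOpen, hf₀, Ideal.map_span, Set.image_singleton]
  rfl

/-- **EGA IV 11.3.8 (b)⇒(a)**: a locally principal ideal on a flat, locally finitely presented
`S`-scheme whose restriction to every fibre is effective Cartier is a relative effective Cartier
divisor. -/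
theorem relEffCartier_of_locPrincipal_of_fibres {X S : Scheme.{u}} (φ : X ⟶ S) [Flat φ]
    [LocallyOfFinitePresentation φ] (𝓘 : X.IdealSheafData) (hZ : Curv2.IsLocPrincipal 𝓘)
    (hfib : ∀ s : S, BlowUp.IsEffCartierIdeal (𝓘.comap (φ.fiberι s))) :
    BlowUp.IsEffCartierIdeal 𝓘 ∧ Flat (𝓘.subschemeι ≫ φ) := by
  constructor
  · intro x
    by_cases hx : x ∈ 𝓘.support
    · obtain ⟨U, V, hxU, e, t, hI⟩ := exists_principal_chart φ 𝓘 hZ x hx
      exact ⟨U, hxU, t, (chart φ 𝓘 hfib U V e t hI).1, hI⟩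
    · have hopen : IsOpen ((𝓘.support : Set X)ᶜ) := 𝓘.support.isClosed.isOpen_compl
      obtain ⟨_, ⟨N, hN, rfl⟩, hxN, hNsub⟩ :=
        X.isBasis_affineOpens.exists_subset_of_mem_open (show x ∈ (𝓘.support : Set X)ᶜ from hx)
          hopen
      have htop := Groth.Agent.Lib.Helper82.ideal_eq_top_of_le_compl_support 𝓘 ⟨N, hN⟩
        (fun y hy hys => hNsub hy hys)
      refine ⟨(⟨N, hN⟩ : X.affineOpens), hxN, 1, one_mem _, ?_⟩
      rw [htop, Ideal.span_singleton_one]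
  · apply Groth.Agent.Lib.Helper22.RelCartier.flat_of_flat_quotient
    intro x hx
    obtain ⟨U, V, hxU, e, t, hI⟩ := exists_principal_chart φ 𝓘 hZ x hx
    exact ⟨U, V, hxU, e, (chart φ 𝓘 hfib U V e t hI).2⟩

end Groth.Agent.Lib.Helper43.FibreCartier
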