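import Mathlib
import Groth.Agent.Lib.Helper43.FibreCartier
import Groth.Agent.Lib.Helper43.KRIdeal

/-!
# Local principality from the fibres (helper43)

* `map_inf_le_mul_of_flat_quot`: `B₀/I` flat over `R` ⇒ `𝔞 B₀ ∩ I = 𝔞 I`.
* `exists_principal_near`: Nakayama argument, `I` principal near a prime `Q` if its image in the
  fibre ring at `Q` is principal.
* `isLocPrincipal_of_fibres`: for `φ : X ⟶ S` flat l.f.p. and `𝓘` with `V(𝓘)` flat l.f.p. over `S`,
  `𝓘` is locally principal as soon as its restriction to each fibre is effective Cartier.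
* `isEffCartier_of_fibres` (= S8847, EGA IV 11.3.8 (c)⇒(a)).
-/

set_option autoImplicit false
set_option linter.style.haveILetI false
set_option linter.unusedVariables false
universe u

open CategoryTheory CategoryTheory.Limits AlgebraicGeometry

namespace Groth.Agent.Lib.Helper43.FibrePrincipal

open Groth.Agent.Lib.Helper67.FiberStalk Groth.Agent.Lib.Helper64.StalkIdeal
open Groth.Agent.Lib.Helper22.RelCartier

section P3

variable {R B₀ : Type u} [CommRing R] [CommRing B₀] [Algebra R B₀]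

/-- if `B₀ / I` is flat over `R` then `𝔞 B₀ ∩ I = 𝔞 I` for every ideal `𝔞` of `R` -/
theorem map_inf_le_mul_of_flat_quot (I : Ideal B₀) [Module.Flat R (B₀ ⧸ I)] (𝔞 : Ideal R) :
    (𝔞.map (algebraMap R B₀)) ⊓ I ≤ (𝔞.map (algebraMap R B₀)) * I := by
  classical
  rintro k ⟨hk1, hk2⟩
  have hk1' : k ∈ Submodule.span B₀ ((algebraMap R B₀) '' (𝔞 : Set R)) := hk1
  obtain ⟨n, b, g, hsum⟩ := Submodule.mem_span_set'.mp hk1'
  choose a ha hga using fun i => (g i).2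
  have hrel : ∑ i, a i • (Ideal.Quotient.mk I (b i)) = 0 := by
    have : Ideal.Quotient.mk I k = 0 := Ideal.Quotient.eq_zero_iff_mem.mpr hk2
    rw [← this, ← hsum, map_sum]
    apply Finset.sum_congr rfl
    intro i _
    rw [← hga i, smul_eq_mul, map_mul, Algebra.smul_def, mul_comm]
    rfl
  obtain ⟨m, c, y, hy, hc⟩ := Module.Flat.isTrivialRelation_of_sum_smul_eq_zero (R := R)
    (M := B₀ ⧸ I) (f := a) (x := fun i => Ideal.Quotient.mk I (b i)) hrel
  choose y' hy' using fun j => Ideal.Quotient.mk_surjective (y j)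
  replace hy : ∀ i, Ideal.Quotient.mk I (b i) = ∑ j, c i j • y j := hy
  have hd : ∀ i, b i - ∑ j, algebraMap R B₀ (c i j) * y' j ∈ I := by
    intro i
    rw [← Ideal.Quotient.eq, hy i, map_sum]
    apply Finset.sum_congr rfl
    intro j _
    rw [map_mul, hy' j, Algebra.smul_def]
    rfl
  have hk : k = ∑ i, algebraMap R B₀ (a i) * (b i - ∑ j, algebraMap R B₀ (c i j) * y' j) := by
    have h2 : ∑ i, algebraMap R B₀ (a i) * ∑ j, algebraMap R B₀ (c i j) * y' j = 0 := by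
      simp_rw [Finset.mul_sum]
      rw [Finset.sum_comm]
      apply Finset.sum_eq_zero
      intro j _
      have : ∑ i, algebraMap R B₀ (a i) * (algebraMap R B₀ (c i j) * y' j) =
          algebraMap R B₀ (∑ i, a i * c i j) * y' j := by
        rw [map_sum, Finset.sum_mul]
        apply Finset.sum_congr rfl
        intro i _
        rw [map_mul, mul_assoc]
      rw [this, hc j, map_zero, zero_mul]
    simp_rw [mul_sub]
    rw [Finset.sum_sub_distrib, h2, sub_zero, ← hsum]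
    apply Finset.sum_congr rfl
    intro i _
    rw [← hga i, smul_eq_mul, mul_comm]
  rw [hk]
  apply Ideal.sum_mem
  intro i _
  exact Ideal.mul_mem_mul (Ideal.mem_map_of_mem _ (ha i)) (hd i)


/-- localized version -/
theorem local_inf_le (I : Ideal B₀) [Module.Flat R (B₀ ⧸ I)] (𝔞 : Ideal R) (Q : Ideal B₀)
    [Q.IsPrime] (B : Type u) [CommRing B] [Algebra B₀ B] [IsLocalization.AtPrime B Q] :
    ((𝔞.map (algebraMap R B₀)).map (algebraMap B₀ B)) ⊓ I.map (algebraMap B₀ B) ≤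
      ((𝔞.map (algebraMap R B₀)).map (algebraMap B₀ B)) * I.map (algebraMap B₀ B) := by
  rintro k ⟨hk1, hk2⟩
  rw [SetLike.mem_coe, IsLocalization.mem_map_algebraMap_iff Q.primeCompl B] at hk1 hk2
  obtain ⟨⟨⟨k', hk'⟩, ⟨s', hs'⟩⟩, h1⟩ := hk1
  obtain ⟨⟨⟨i, hi⟩, ⟨s, hs⟩⟩, h2⟩ := hk2
  simp only at h1 h2
  have h3 : algebraMap B₀ B (i * s') = algebraMap B₀ B (k' * s) := by
    rw [map_mul, map_mul, ← h1, ← h2]
    ring
  rw [IsLocalization.eq_iff_exists Q.primeCompl B] at h3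
  obtain ⟨⟨u, hu⟩, hu2⟩ := h3
  simp only at hu2
  have hw1 : u * (i * s') ∈ I := Ideal.mul_mem_left _ _ (Ideal.mul_mem_right _ _ hi)
  have hw2 : u * (i * s') ∈ 𝔞.map (algebraMap R B₀) := by
    rw [hu2]
    exact Ideal.mul_mem_left _ _ (Ideal.mul_mem_right _ _ hk')
  have hw := map_inf_le_mul_of_flat_quot I 𝔞 ⟨hw2, hw1⟩
  have hw' : algebraMap B₀ B (u * (i * s')) ∈
      ((𝔞.map (algebraMap R B₀)).map (algebraMap B₀ B)) * I.map (algebraMap B₀ B) := by
    rw [← Ideal.map_mul]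
    exact Ideal.mem_map_of_mem _ hw
  have hunit : IsUnit (algebraMap B₀ B (u * s * s')) :=
    IsLocalization.map_units B (⟨u * s * s', Q.primeCompl.mul_mem (Q.primeCompl.mul_mem hu hs) hs'⟩ :
      Q.primeCompl)
  have hk : k * algebraMap B₀ B (u * s * s') = algebraMap B₀ B (u * (i * s')) := by
    rw [map_mul, map_mul, map_mul, map_mul, ← h2]
    ring
  have : k = algebraMap B₀ B (u * (i * s')) * ((hunit.unit⁻¹ : Bˣ) : B) := by
    rw [← hk, mul_assoc]
    have : algebraMap B₀ B (u * s * s') * ((hunit.unit⁻¹ : Bˣ) : B) = 1 := hunit.mul_val_inv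
    rw [this, mul_one]
  rw [this]
  exact Ideal.mul_mem_right _ _ hw'

end P3

section P

variable {R B₀ : Type u} [CommRing R] [CommRing B₀] [Algebra R B₀]

open Groth.Agent.Lib.Helper64.StalkIdeal in
/-- **local principality from the fibre**: if `B₀/I` is `R`-flat, `I` is finitely generated and
the image of `I` in the fibre ring at `Q` is generated by one element, then `I` is principal
near `Q`. -/
theorem exists_principal_near (I : Ideal B₀) (hI : I.FG) [Module.Flat R (B₀ ⧸ I)] (Q : Ideal B₀)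
    [Q.IsPrime] (B : Type u) [CommRing B] [Algebra B₀ B] [IsLocalization.AtPrime B Q]
    (hfib : ∃ τ ∈ I.map (algebraMap B₀ B), I.map (algebraMap B₀ B) ≤ Ideal.span {τ} ⊔
      (((Q.comap (algebraMap R B₀)).map (algebraMap R B₀)).map (algebraMap B₀ B))) :
    ∃ a ∈ I, ∃ g : B₀, g ∉ Q ∧ ∀ i ∈ I, g * i ∈ Ideal.span {a} := by
  haveI : IsLocalRing B := IsLocalization.AtPrime.isLocalRing B Q
  obtain ⟨τ, hτJ, hle⟩ := hfib
  set J := I.map (algebraMap B₀ B) with hJ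
  set K := ((Q.comap (algebraMap R B₀)).map (algebraMap R B₀)).map (algebraMap B₀ B) with hK
  have hKm : K ≤ IsLocalRing.maximalIdeal B := by
    rw [← IsLocalization.AtPrime.map_eq_maximalIdeal Q B, hK]
    exact Ideal.map_mono Ideal.map_comap_le
  have hinf : K ⊓ J ≤ K * J := local_inf_le I (Q.comap (algebraMap R B₀)) Q B
  have hJle : J ≤ Ideal.span {τ} ⊔ IsLocalRing.maximalIdeal B • J := by
    intro j hj
    obtain ⟨y, hy, k, hk, hyk⟩ := Submodule.mem_sup.mp (hle hj)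
    have hkJ : k ∈ J := by
      have : k = j - y := by rw [← hyk]; ring
      rw [this]
      exact J.sub_mem hj ((Ideal.span_singleton_le_iff_mem J |>.mpr hτJ) hy)
    have hkKJ : k ∈ K * J := hinf ⟨hk, hkJ⟩
    rw [← hyk]
    refine Submodule.add_mem_sup hy ?_
    rw [smul_eq_mul]
    exact Ideal.mul_mono_left hKm hkKJ
  have hJτ : J ≤ Ideal.span {τ} := by
    refine Submodule.le_of_le_smul_of_le_jacobson_bot (hI.map _) ?_ hJle
    rw [IsLocalRing.jacobson_eq_maximalIdeal ⊥ bot_ne_top]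
  -- write τ = a / s
  have hτJ' := hτJ
  rw [hJ, IsLocalization.mem_map_algebraMap_iff Q.primeCompl B] at hτJ'
  obtain ⟨⟨⟨a, haI⟩, ⟨s, hs⟩⟩, h1⟩ := hτJ'
  simp only at h1
  have hsu : IsUnit (algebraMap B₀ B s) := IsLocalization.map_units B (⟨s, hs⟩ : Q.primeCompl)
  have hspan : Ideal.span {τ} = (Ideal.span {a}).map (algebraMap B₀ B) := by
    rw [Ideal.map_span, Set.image_singleton, ← h1]
    exact (Ideal.span_singleton_mul_right_unit hsu τ).symm
  refine ⟨a, haI, ?_⟩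
  obtain ⟨g, hg, hgI⟩ := exists_notMem_smul_le Q B I (Ideal.span {a}) hI (by rw [← hspan]; exact hJτ)
  exact ⟨g, hg, hgI⟩

end P

/-- the image of the stalk of `𝓘` in the local ring of the fibre is principal -/
theorem fibre_principal_stalk {X S : Scheme.{u}} (φ : X ⟶ S) (𝓘 : X.IdealSheafData) (x : X)
    (hfib : BlowUp.IsEffCartierIdeal (𝓘.comap (φ.fiberι (φ x)))) (U : X.affineOpens)
    (hxU : x ∈ U.1) :
    ∃ τ ∈ (𝓘.ideal U).map (X.presheaf.germ U.1 x hxU).hom,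
      (𝓘.ideal U).map (X.presheaf.germ U.1 x hxU).hom ≤ Ideal.span {τ} ⊔ fibIdeal φ x := by
  set ξ := φ.asFiber x with hξdef
  have hξ : φ.fiberι (φ x) ξ = x := φ.fiberι_asFiber x
  obtain ⟨s, hs, hsI⟩ := exists_stalkIdeal_eq_span_of_isEffCartier hfib ξ
  have hξU : ξ ∈ ((φ.fiberι (φ x)) ⁻¹ᵁ U.1 : Set (φ.fiber (φ x))) := by
    change φ.fiberι (φ x) ξ ∈ U.1
    rw [hξ]
    exact hxU
  obtain ⟨_, ⟨U', hU', rfl⟩, hξU', hU'le⟩ :=
    (φ.fiber (φ x)).isBasis_affineOpens.exists_subset_of_mem_open hξU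
      ((φ.fiberι (φ x)) ⁻¹ᵁ U.1).isOpen
  have hιξU : φ.fiberι (φ x) ξ ∈ U.1 := hU'le hξU'
  rw [stalkIdeal_eq (𝓘.comap (φ.fiberι (φ x))) ⟨U', hU'⟩ ξ hξU',
    Groth.Agent.Lib.Helper82.ideal_comap_of_le (φ.fiberι (φ x)) 𝓘 U' hU' U.1 U.2 hU'le,
    Ideal.map_map] at hsI
  have hcomp : ((φ.fiber (φ x)).presheaf.germ U' ξ hξU').hom.comp
      ((φ.fiberι (φ x)).appLE U.1 U' hU'le).hom =
      ((φ.fiberι (φ x)).stalkMap ξ).hom.comp
        (X.presheaf.germ U.1 (φ.fiberι (φ x) ξ) hιξU).hom := by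
    ext r
    simp only [Scheme.Hom.germ_stalkMap_apply, Scheme.Hom.appLE, homOfLE_leOfHom,
      CommRingCat.hom_comp, RingHom.coe_comp, Function.comp_apply,
      (φ.fiber (φ x)).presheaf.germ_res_apply]
  have hσ : ((φ.fiberι (φ x)).stalkMap ξ).hom.comp
        (X.presheaf.germ U.1 (φ.fiberι (φ x) ξ) hιξU).hom =
      (σ φ x ξ hξ).hom.comp (X.presheaf.germ U.1 x hxU).hom := by
    have h1 : X.presheaf.germ U.1 x hxU ≫ (X.presheaf.stalkCongr (.of_eq hξ.symm)).hom =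
        X.presheaf.germ U.1 (φ.fiberι (φ x) ξ) hιξU :=
      X.presheaf.germ_stalkSpecializes hxU (Inseparable.of_eq hξ.symm).ge
    rw [σ, ← CommRingCat.hom_comp, ← CommRingCat.hom_comp, ← h1, Category.assoc]
  rw [hcomp, hσ, ← Ideal.map_map] at hsI
  set J := (𝓘.ideal U).map (X.presheaf.germ U.1 x hxU).hom with hJ
  have hsurj := σ_surjective φ x ξ hξ
  have hsmem : s ∈ J.map (σ φ x ξ hξ).hom := by
    change s ∈ Ideal.map (σ φ x ξ hξ).hom (Ideal.map (X.presheaf.germ U.1 x hxU).hom (𝓘.ideal ⟨U.1, U.2⟩))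
    rw [hsI]
    exact Ideal.mem_span_singleton_self s
  obtain ⟨τ, hτJ, hτs⟩ := (Ideal.mem_map_iff_of_surjective _ hsurj).mp hsmem
  refine ⟨τ, hτJ, ?_⟩
  intro j hj
  have h1 : (σ φ x ξ hξ).hom j ∈ Ideal.span {s} := by
    rw [← hsI]
    exact Ideal.mem_map_of_mem _ hj
  obtain ⟨c, hc⟩ := Ideal.mem_span_singleton'.mp h1
  obtain ⟨b, rfl⟩ := hsurj c
  have h2 : j - b * τ ∈ fibIdeal φ x := by
    rw [← ker_σ φ x ξ hξ, RingHom.mem_ker, map_sub, map_mul, hτs, hc, sub_self]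
  have : j = b * τ + (j - b * τ) := by ring
  rw [this]
  exact Submodule.add_mem_sup (Ideal.mem_span_singleton'.mpr ⟨b, rfl⟩) h2

theorem finitePresentation_quotient {X S : Scheme.{u}} (f : X ⟶ S) (𝓘 : X.IdealSheafData)
    [LocallyOfFinitePresentation (𝓘.subschemeι ≫ f)] (U : X.affineOpens) (V : S.affineOpens)
    (e : U.1 ≤ f ⁻¹ᵁ V.1) :
    ((Ideal.Quotient.mk (𝓘.ideal U)).comp (f.appLE V.1 U.1 e).hom).FinitePresentation := by
  have e' : 𝓘.subschemeι ⁻¹ᵁ U.1 ≤ (𝓘.subschemeι ≫ f) ⁻¹ᵁ V.1 := fun d hd => e hd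
  have h1 : ((𝓘.subschemeι ≫ f).appLE V.1 (𝓘.subschemeι ⁻¹ᵁ U.1) e').hom.FinitePresentation :=
    HasRingHomProperty.appLE (P := @LocallyOfFinitePresentation) (𝓘.subschemeι ≫ f) inferInstance
      V ⟨𝓘.subschemeι ⁻¹ᵁ U.1, isAffineOpen_preimage_subschemeι 𝓘 U⟩ e'
  rw [appLE_subscheme f 𝓘 U V.1 e e', ← Category.assoc, CommRingCat.hom_comp,
    RingHom.finitePresentation_respectsIso.cancel_right_isIso] at h1
  exact h1

/-- an ideal sheaf with flat, locally finitely presented closed subscheme whose restrictions to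
the fibres are effective Cartier is locally principal -/
theorem isLocPrincipal_of_fibres {X S : Scheme.{u}} (φ : X ⟶ S) [Flat φ]
    [LocallyOfFinitePresentation φ] (𝓘 : X.IdealSheafData) [Flat (𝓘.subschemeι ≫ φ)]
    [LocallyOfFinitePresentation (𝓘.subschemeι ≫ φ)]
    (hfib : ∀ s : S, BlowUp.IsEffCartierIdeal (𝓘.comap (φ.fiberι s))) :
    Curv2.IsLocPrincipal 𝓘 := by
  intro x hx
  obtain ⟨V, hxV⟩ := exists_affine_nhd (φ x)
  obtain ⟨_, ⟨U, hU, rfl⟩, hxU, hUle⟩ := X.isBasis_affineOpens.exists_subset_of_mem_open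
    (show x ∈ ((φ ⁻¹ᵁ V.1 : X.Opens) : Set X) from hxV) (φ ⁻¹ᵁ V.1).isOpen
  have e : U ≤ φ ⁻¹ᵁ V.1 := hUle
  letI alg : Algebra Γ(S, V.1) Γ(X, U) := (φ.appLE V.1 U e).hom.toAlgebra
  haveI hflatq : Module.Flat Γ(S, V.1) (Γ(X, U) ⧸ 𝓘.ideal ⟨U, hU⟩) :=
    RingHom.flat_algebraMap_iff.mp (flat_quotient_of_flat φ 𝓘 ⟨U, hU⟩ V.1 V.2 e)
  haveI hfp : Algebra.FinitePresentation Γ(S, V.1) Γ(X, U) :=
    HasRingHomProperty.appLE (P := @LocallyOfFinitePresentation) φ inferInstance V ⟨U, hU⟩ e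
  haveI hfpq : Algebra.FinitePresentation Γ(S, V.1) (Γ(X, U) ⧸ 𝓘.ideal ⟨U, hU⟩) :=
    finitePresentation_quotient φ 𝓘 ⟨U, hU⟩ V e
  have hIfg : (𝓘.ideal ⟨U, hU⟩).FG := by
    have := Algebra.FinitePresentation.ker_fG_of_surjective
      (Ideal.Quotient.mkₐ Γ(S, V.1) (𝓘.ideal ⟨U, hU⟩)) (Ideal.Quotient.mkₐ_surjective _ _)
    convert this using 1
    exact (Ideal.Quotient.mkₐ_ker Γ(S, V.1) (𝓘.ideal ⟨U, hU⟩)).symm
  letI := X.presheaf.algebra_section_stalk ⟨x, hxU⟩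
  haveI hloc : IsLocalization.AtPrime (X.presheaf.stalk x) (hU.primeIdealOf ⟨x, hxU⟩).asIdeal :=
    hU.isLocalization_stalk ⟨x, hxU⟩
  obtain ⟨τ, hτ, hτle⟩ := fibre_principal_stalk φ 𝓘 x (hfib (φ x)) ⟨U, hU⟩ hxU
  rw [Groth.Agent.Lib.Helper43.FibreCartier.fibIdeal_eq φ hU V.2 e x hxU] at hτle
  obtain ⟨a, haI, g, hgQ, hgI⟩ := exists_principal_near (R := Γ(S, V.1)) (𝓘.ideal ⟨U, hU⟩) hIfg
    (hU.primeIdealOf ⟨x, hxU⟩).asIdeal (X.presheaf.stalk x) ⟨τ, hτ, hτle⟩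
  have hxg : x ∈ X.basicOpen g := by
    by_contra hcon
    exact hgQ ((Groth.Agent.Lib.Helper82.mem_primeIdealOf_iff_not_mem_basicOpen hU x hxU g).2 hcon)
  haveI := hU.isLocalization_basicOpen g
  have hu : IsUnit (algebraMap Γ(X, U) Γ(X, X.basicOpen g) g) :=
    IsLocalization.Away.algebraMap_isUnit g
  refine ⟨X.affineBasicOpen g, hxg, algebraMap Γ(X, U) Γ(X, X.basicOpen g) a, ?_⟩
  rw [← 𝓘.map_ideal_basicOpen ⟨U, hU⟩ g]
  change (𝓘.ideal ⟨U, hU⟩).map (algebraMap Γ(X, U) Γ(X, X.basicOpen g)) = _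
  apply le_antisymm
  · refine (Groth.Agent.Lib.Helper43.KRIdeal.map_le_of_gen (g := g) (J := Ideal.span {a})
      (fun i hi => ⟨1, by rw [pow_one]; exact hgI i hi⟩) _ hu).trans ?_
    rw [Ideal.map_span, Set.image_singleton]
    exact le_rfl
  · exact (Ideal.span_singleton_le_iff_mem _).mpr (Ideal.mem_map_of_mem _ haI)

/-- **EGA IV 11.3.8 (c)⇒(a)** -/
theorem isEffCartier_of_fibres {X S : Scheme.{u}} (φ : X ⟶ S) [Flat φ]
    [LocallyOfFinitePresentation φ] (𝓘 : X.IdealSheafData) [Flat (𝓘.subschemeι ≫ φ)]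
    [LocallyOfFinitePresentation (𝓘.subschemeι ≫ φ)]
    (hfib : ∀ s : S, BlowUp.IsEffCartierIdeal (𝓘.comap (φ.fiberι s))) :
    BlowUp.IsEffCartierIdeal 𝓘 :=
  (Groth.Agent.Lib.Helper43.FibreCartier.relEffCartier_of_locPrincipal_of_fibres φ 𝓘
    (isLocPrincipal_of_fibres φ 𝓘 hfib) hfib).1

end Groth.Agent.Lib.Helper43.FibrePrincipal
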