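import Groth.Agent.Lib.Helper43.TwistHomog
import Groth.Agent.Lib.Helper75.GLnChar
import Groth.Agent.Lib.Helper31.Gl1

/-!
# Homogeneous representations of `GL_r` are summands of twisted tensor powers (helper43)

In characteristic zero, a finite-dimensional comodule over the coordinate ring of `GL_r` which is
homogeneous of degree `h` under the scalar torus is a direct summand of
`(std^{⊗a})^{⊕b} ⊗ det^{-c}`.
-/

set_option autoImplicit false

open TensorProduct CoordGrp
open scoped LaurentPolynomial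

universe u

namespace Groth.Agent.Lib.Helper43.GLnHomog

open Groth.Agent.Lib.Helper96 Groth.Agent.Lib.Helper96.TensGen
open Groth.Agent.Lib.Helper43.TwistHomog Groth.Agent.Lib.Helper43.CfSummand
open Groth.Agent.Lib.Helper75.GLnChar

variable {k : Type u} [Field k] (r : ℕ)

/-- the standard representation of `GL_r` -/
noncomputable abbrev P : HopfRep.Comod k (GLn r k) (Fin r → k) :=
  GLin.comodAlong (CoordGrp.Mat.toGLn r k) (ComodTens.stdVec r k)

theorem P_coact_single (j : Fin r) :
    (P (k := k) r).coact (Pi.single j 1) =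
      ∑ i : Fin r, (Pi.single i (1 : k) : Fin r → k) ⊗ₜ[k] (GLn.X i j : GLn r k) := by
  show TensorProduct.map LinearMap.id (Mat.toGLn r k : Mat r k →ₗ[k] GLn r k)
      ((ComodTens.stdVec r k).coact (Pi.single j 1)) = _
  rw [ComodTens.stdVec_coact_single, map_sum]
  apply Finset.sum_congr rfl
  intro i _
  simp only [TensorProduct.map_tmul, LinearMap.id_apply]
  congr 1
  show Mat.toGLn r k (Mat.X i j) = _
  rw [Mat.toGLn_X]

theorem X_mem_cf_P (i j : Fin r) : (GLn.X i j : GLn r k) ∈ cf (P (k := k) r) := by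
  classical
  have h : (GLn.X i j : GLn r k) =
      cfMap (P (k := k) r) (LinearMap.proj i : (Fin r → k) →ₗ[k] k) (Pi.single j 1) := by
    rw [cfMap_apply, P_coact_single, map_sum]
    simp only [lslM_tmul, LinearMap.proj_apply, Pi.single_apply]
    rw [Finset.sum_eq_single i]
    · simp
    · intro l _ hl
      simp [Ne.symm hl]
    · intro h
      exact absurd (Finset.mem_univ _) h
  rw [h]
  exact cfMap_mem_cf _ _ _

/-- the standard representation has degree one under the scalar torus -/
theorem homog_P : Homog (GLn.diag r k (fun _ => 1)) (P (k := k) r) (LaurentPolynomial.T 1) := by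
  classical
  intro v
  have hlin : LinearMap.lTensor (Fin r → k) (GLn.diag r k (fun _ => 1)).toLinearMap ∘ₗ
      (P (k := k) r).coact = (TensorProduct.mk k (Fin r → k) k[T;T⁻¹]).flip (LaurentPolynomial.T 1) := by
    apply (Pi.basisFun k (Fin r)).ext
    intro j
    rw [Pi.basisFun_apply]
    simp only [LinearMap.comp_apply, LinearMap.flip_apply, TensorProduct.mk_apply]
    rw [P_coact_single, map_sum, Finset.sum_eq_single j]
    · rw [LinearMap.lTensor_tmul]
      congr 1
      show GLn.diag r k (fun _ => 1) (GLn.X j j) = _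
      rw [GLn.diag_X, if_pos rfl]
    · intro i _ hi
      rw [LinearMap.lTensor_tmul]
      have : (GLn.diag r k (fun _ => 1)).toLinearMap (GLn.X i j) = 0 := by
        show GLn.diag r k (fun _ => 1) (GLn.X i j) = _
        rw [GLn.diag_X, if_neg hi]
      rw [this, TensorProduct.tmul_zero]
    · intro h
      exact absurd (Finset.mem_univ _) h
  have := LinearMap.congr_fun hlin v
  simpa only [LinearMap.comp_apply, LinearMap.flip_apply, TensorProduct.mk_apply] using this

/-- polynomials in the matrix entries are sums of coefficients of tensor powers -/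
theorem ι_mem_iSup (p : MvPolynomial (Fin r × Fin r) k) :
    (ι p : GLn r k) ∈ ⨆ a : ℕ, cf (ComodTens.Comod.tpow (P (k := k) r) a) := by
  induction p using MvPolynomial.induction_on with
  | C c =>
    have h1 : (ι (MvPolynomial.C c) : GLn r k) = c • (1 : GLn r k) := by
      rw [← MvPolynomial.algebraMap_eq, AlgHom.commutes, Algebra.algebraMap_eq_smul_one]
    rw [h1]
    exact Submodule.smul_mem _ _
      (Submodule.mem_iSup_of_mem 0 (one_mem_cf_tpow_zero (P (k := k) r)))
  | add p q hp hq =>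
    rw [map_add]
    exact Submodule.add_mem _ hp hq
  | mul_X p x hp =>
    rw [map_mul]
    have hx : (ι (MvPolynomial.X x : MvPolynomial (Fin r × Fin r) k) : GLn r k) =
        GLn.X x.1 x.2 := by
      simp [ι]
    rw [hx]
    refine Submodule.iSup_induction (fun a : ℕ => cf (ComodTens.Comod.tpow (P (k := k) r) a))
      (motive := fun z => z * (GLn.X x.1 x.2 : GLn r k) ∈
        ⨆ a : ℕ, cf (ComodTens.Comod.tpow (P (k := k) r) a)) hp ?_ ?_ ?_
    · intro a z hz
      exact Submodule.mem_iSup_of_mem (a + 1)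
        (mul_mem_cf_tpow_succ (P (k := k) r) a hz (X_mem_cf_P r x.1 x.2))
    · rw [zero_mul]
      exact Submodule.zero_mem _
    · intro y z hy hz
      rw [add_mul]
      exact Submodule.add_mem _ hy hz

/-- multiplication by a high power of the determinant clears denominators -/
theorem exists_clear_one (z : GLn r k) :
    ∃ c0 : ℕ, ∀ c : ℕ, c0 ≤ c → ∃ p : MvPolynomial (Fin r × Fin r) k,
      (ι p : GLn r k) = z * GLn.det ^ c := by
  obtain ⟨a, s, rfl⟩ := exists_normal_form z
  refine ⟨s, fun c hc => ⟨a * dP ^ (c - s), ?_⟩⟩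
  obtain ⟨d, rfl⟩ := Nat.exists_eq_add_of_le hc
  rw [Nat.add_sub_cancel_left, map_mul, map_pow, ι_dP, pow_add]
  have h1 := det_pow_mul_Dinv_pow (n := r) (k := k) s
  linear_combination (-(ι a : GLn r k) * GLn.det ^ d) * h1

theorem exists_clear (F : Submodule k (GLn r k)) (hF : F.FG) :
    ∃ c0 : ℕ, ∀ c : ℕ, c0 ≤ c → ∀ z ∈ F, ∃ p : MvPolynomial (Fin r × Fin r) k,
      (ι p : GLn r k) = z * GLn.det ^ c := by
  classical
  obtain ⟨S, rfl⟩ := hF
  choose c0 hc0 using fun z : GLn r k => exists_clear_one r z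
  refine ⟨S.sup c0, fun c hc => ?_⟩
  have hle : Submodule.span k (S : Set (GLn r k)) ≤
      (LinearMap.range (ι : MvPolynomial (Fin r × Fin r) k →ₐ[k] GLn r k).toLinearMap).comap
        (LinearMap.mulRight k (GLn.det ^ c)) := by
    rw [Submodule.span_le]
    intro z hz
    obtain ⟨p, hp⟩ := hc0 z c (le_trans (Finset.le_sup (f := c0) hz) hc)
    exact ⟨p, hp⟩
  intro z hz
  obtain ⟨p, hp⟩ := hle hz
  exact ⟨p, hp⟩

theorem isGroupLikeElem_det : IsGroupLikeElem k (GLn.det : GLn r k) :=
  ⟨GLn.counit_det, GLn.comul_det⟩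

theorem isGroupLikeElem_Dinv : IsGroupLikeElem k (GLn.Dinv : GLn r k) :=
  ⟨GLn.counit_Dinv, GLn.comul_Dinv⟩

/-- **Main theorem.** -/
theorem main [CharZero k] (hr : 0 < r) (V : Type u) [AddCommGroup V] [Module k V]
    [Module.Finite k V] (ρ : HopfRep.Comod k (GLn r k) V) (h : ℤ)
    (hh : Homog (GLn.diag r k (fun _ => 1)) ρ (LaurentPolynomial.T h)) :
    ∃ (a b c : ℕ), 0 < c ∧
      ∃ (i : V →ₗ[k] (Fin b → TensorPower k a (Fin r → k)))
        (p : (Fin b → TensorPower k a (Fin r → k)) →ₗ[k] V),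
        p ∘ₗ i = LinearMap.id ∧
        IsHom ρ (ComodTens.Comod.twist
            (ComodTens.Comod.pi fun _ : Fin b => ComodTens.Comod.tpow (P (k := k) r) a)
            (GLn.Dinv ^ c) (IsGroupLikeElem.pow (isGroupLikeElem_Dinv r))) i ∧
        IsHom (ComodTens.Comod.twist
            (ComodTens.Comod.pi fun _ : Fin b => ComodTens.Comod.tpow (P (k := k) r) a)
            (GLn.Dinv ^ c) (IsGroupLikeElem.pow (isGroupLikeElem_Dinv r))) ρ p := by
  classical
  set π := GLn.diag r k (fun _ => 1) with hπ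
  have hfg : (cf ρ).FG := (Module.Finite.iff_fg).mp (finite_cf ρ)
  obtain ⟨c0, hc0⟩ := exists_clear r (cf ρ) hfg
  set c : ℕ := max c0 (max 1 h.natAbs) with hc
  have hc1 : 0 < c := lt_of_lt_of_le Nat.one_pos (le_trans (le_max_left _ _) (le_max_right _ _))
  have hch : h.natAbs ≤ c := le_trans (le_max_right _ _) (le_max_right _ _)
  have hcc0 : c0 ≤ c := le_max_left _ _
  -- the degree
  have hNnonneg : 0 ≤ h + (c : ℤ) * (r : ℤ) := by
    have h1 : -(h.natAbs : ℤ) ≤ h := by omega
    have h2 : (c : ℤ) ≤ (c : ℤ) * (r : ℤ) := by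
      have : (1 : ℤ) ≤ (r : ℤ) := by exact_mod_cast hr
      nlinarith [Int.natCast_nonneg c]
    have h3 : (h.natAbs : ℤ) ≤ (c : ℤ) := by exact_mod_cast hch
    linarith
  obtain ⟨N, hN⟩ := Int.eq_ofNat_of_zero_le hNnonneg
  -- the twisted comodule
  have hg : IsGroupLikeElem k ((GLn.det : GLn r k) ^ c) := IsGroupLikeElem.pow (isGroupLikeElem_det r)
  set cW := ComodTens.Comod.twist ρ (GLn.det ^ c) hg with hcW
  have hπdet : π ((GLn.det : GLn r k) ^ c) = LaurentPolynomial.T ((c : ℤ) * (r : ℤ)) := by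
    rw [map_pow]
    have : π (GLn.det : GLn r k) = LaurentPolynomial.T (r : ℤ) := by
      rw [hπ, GLn.diag_det]
      simp
    rw [this, LaurentPolynomial.T_pow]
  have hWhom : Homog π cW (LaurentPolynomial.T (N : ℤ)) := by
    have := homog_twist π ρ _ hh (GLn.det ^ c) hg
    rwa [hπdet, ← LaurentPolynomial.T_add, hN] at this
  -- degrees of the tensor powers
  have hD : ∀ a : ℕ, ∀ y ∈ cf (ComodTens.Comod.tpow (P (k := k) r) a),
      π.toLinearMap.lTensor (GLn r k) (CoalgebraStruct.comul (R := k) y) =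
        y ⊗ₜ[k] LaurentPolynomial.T (a : ℤ) := by
    intro a y hy
    have h1 := homog_tpow π (P (k := k) r) _ (homog_P r) a
    rw [LaurentPolynomial.T_pow, mul_one] at h1
    exact gam_cf π _ _ h1 hy
  -- the coefficient space
  have hcf : cf cW ≤ cf (ComodTens.Comod.tpow (P (k := k) r) N) := by
    rw [cf_le]
    intro φ v
    have hmem : cfMap cW φ v ∈ cf cW := cfMap_mem_cf cW φ v
    have hgam := gam_cf π cW _ hWhom hmem
    refine mem_of_mem_iSup_of_gam π.toLinearMap
      (fun a => cf (ComodTens.Comod.tpow (P (k := k) r) a)) hD N ?_ hgam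
    rw [hcW, cfMap_twist]
    obtain ⟨p, hp⟩ := hc0 c hcc0 _ (cfMap_mem_cf ρ φ v)
    rw [← hp]
    exact ι_mem_iSup r p
  -- semisimplicity
  have hLR := Groth.Agent.Lib.Helper31.Gl.isLinearlyReductive_GLn (k := k) r
  have hSS : ∀ b : ℕ, IsSS (ComodTens.Comod.pi fun _ : Fin b =>
      ComodTens.Comod.tpow (P (k := k) r) N) := by
    intro b
    exact @hLR (Fin b → TensorPower k N (Fin r → k)) _ _
      (ComodTens.Comod.pi fun _ : Fin b => ComodTens.Comod.tpow (P (k := k) r) N) inferInstance
  obtain ⟨b, i, p, hpi, hi, hp⟩ :=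
    exists_summand (ComodTens.Comod.tpow (P (k := k) r) N) cW hSS hcf
  have hgg : (GLn.det : GLn r k) ^ c * GLn.Dinv ^ c = 1 := det_pow_mul_Dinv_pow c
  refine ⟨N, b, c, hc1, i, p, hpi, ?_, ?_⟩
  · exact isHom_untwist_right ρ _ _ _ hg _ hgg i hi
  · exact isHom_untwist_left ρ _ _ _ hg _ hgg p hp

end Groth.Agent.Lib.Helper43.GLnHomog
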