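import Groth.Agent.Lib.Helper43.RegGlDim

/-!
# Kernels of maps of projective modules over rings of global dimension `≤ 2`
-/

set_option autoImplicit false

universe u

open CategoryTheory CategoryTheory.Limits

namespace Groth.Agent.Lib.Helper43.GlDimKer

/-- A regular ring of Krull dimension `≤ 2` has global dimension `≤ 2`. -/
theorem glDim_le_two (R : Type u) [CommRing R] [IsRegularRing R] (hdim : ringKrullDim R ≤ 2)
    (M : ModuleCat.{u} R) : HasProjectiveDimensionLT M 3 := by
  have hreg : ∀ p : PrimeSpectrum R, IsRegularLocalRing (Localization.AtPrime p.asIdeal) :=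
    fun p => IsRegularRing.isRegularLocalRing_localization p.asIdeal
  rcases hbot : ringKrullDim R with _ | e
  · -- `R` is the zero ring, every module is zero
    have : Subsingleton R := by
      by_contra hne
      rw [not_subsingleton_iff_nontrivial] at hne
      have h0 := ringKrullDim_nonneg_of_nontrivial (R := R)
      rw [hbot] at h0
      exact absurd h0 (by decide)
    have : Subsingleton M := Module.subsingleton R M
    have hz : IsZero M := ModuleCat.isZero_of_subsingleton M
    have : Projective M := hz.projective
    have h1 : HasProjectiveDimensionLT M 1 := inferInstance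
    exact hasProjectiveDimensionLT_of_ge _ 1 3 (by omega)
  · change ringKrullDim R = (e : WithBot ℕ∞) at hbot
    have he : (e : WithBot ℕ∞) ≤ 2 := by rw [← hbot]; exact hdim
    have he' : e ≤ 2 := WithBot.coe_le_coe.mp he
    obtain ⟨d, rfl⟩ : ∃ d : ℕ, e = d :=
      (ENat.ne_top_iff_exists.mp (ne_top_of_le_ne_top (by decide) he')).imp fun _ h => h.symm
    have hd : d ≤ 2 := by exact_mod_cast he'
    have key := Groth.Agent.Lib.Helper43.RegGlDim.glDim_le R hreg d hbot M
    exact hasProjectiveDimensionLT_of_ge _ (d + 1) 3 (by omega)

variable {R : Type u} [CommRing R]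

/-- Over a ring of global dimension `≤ 2`, the kernel of a linear map between projective modules
is projective. -/
theorem projective_ker (hgl : ∀ M : ModuleCat.{u} R, HasProjectiveDimensionLT M 3)
    {P P' : Type u} [AddCommGroup P] [Module R P] [AddCommGroup P'] [Module R P']
    [Module.Projective R P] [Module.Projective R P'] (f : P →ₗ[R] P') :
    Module.Projective R (LinearMap.ker f) := by
  -- first sequence: `0 → range f → P' → P' ⧸ range f → 0`
  let S1 : ShortComplex (ModuleCat.{u} R) :=
    ShortComplex.mk (ModuleCat.ofHom (LinearMap.range f).subtype)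
      (ModuleCat.ofHom (LinearMap.range f).mkQ) (by
        ext x
        simp)
  have hS1 : S1.ShortExact := by
    refine ModuleCat.shortComplex_shortExact _ ?_ ?_ ?_
    · intro y
      change (LinearMap.range f).mkQ y = 0 ↔ y ∈ Set.range (LinearMap.range f).subtype
      rw [Submodule.mkQ_apply, Submodule.Quotient.mk_eq_zero]
      simp only [LinearMap.mem_range, Submodule.coe_subtype, Subtype.range_coe_subtype]
      exact Iff.rfl
    · exact (LinearMap.range f).injective_subtype
    · exact (LinearMap.range f).mkQ_surjective
  have hr : HasProjectiveDimensionLT (ModuleCat.of R (LinearMap.range f)) 2 := by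
    have h2 : HasProjectiveDimensionLT S1.X₂ 2 := by
      have : Projective (ModuleCat.of R P') :=
        (IsProjective.iff_projective (R := R) (P := P')).1 inferInstance
      have h1 : HasProjectiveDimensionLT (ModuleCat.of R P') 1 := inferInstance
      exact hasProjectiveDimensionLT_of_ge _ 1 2 (by omega)
    exact hS1.hasProjectiveDimensionLT_X₁ 2 h2 (hgl _)
  -- second sequence: `0 → ker f → P → range f → 0`
  let S2 : ShortComplex (ModuleCat.{u} R) :=
    ShortComplex.mk (ModuleCat.ofHom (LinearMap.ker f).subtype)
      (ModuleCat.ofHom f.rangeRestrict) (by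
        ext x
        simp)
  have hS2 : S2.ShortExact := by
    refine ModuleCat.shortComplex_shortExact _ ?_ ?_ ?_
    · intro y
      change f.rangeRestrict y = 0 ↔ y ∈ Set.range (LinearMap.ker f).subtype
      rw [← LinearMap.mem_ker, LinearMap.ker_rangeRestrict]
      simp only [LinearMap.mem_ker, Submodule.coe_subtype, Subtype.range_coe_subtype]
      exact Iff.rfl
    · exact (LinearMap.ker f).injective_subtype
    · exact f.surjective_rangeRestrict
  have hk : HasProjectiveDimensionLT (ModuleCat.of R (LinearMap.ker f)) 1 := by
    have h2 : HasProjectiveDimensionLT S2.X₂ 1 := by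
      have : Projective (ModuleCat.of R P) :=
        (IsProjective.iff_projective (R := R) (P := P)).1 inferInstance
      change HasProjectiveDimensionLT (ModuleCat.of R P) 1
      infer_instance
    exact hS2.hasProjectiveDimensionLT_X₁ 1 h2 hr
  have := (projective_iff_hasProjectiveDimensionLT_one
    (X := ModuleCat.of R (LinearMap.ker f))).2 hk
  exact (IsProjective.iff_projective (R := R) (P := LinearMap.ker f)).2 this

end Groth.Agent.Lib.Helper43.GlDimKer
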