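import Mathlib.RingTheory.Flat.IsBaseChange
import Mathlib.RingTheory.IsTensorProduct
import Mathlib.RingTheory.TensorProduct.Quotient
import Mathlib.RingTheory.Etale.Basic
import Mathlib.RingTheory.Smooth.Flat
import Mathlib.RingTheory.Ideal.Over

/-!
# Flat base change of invariants (helper43)

Abstract form: `M` an `S₀`-algebra with a "coaction" `ρM : M → M ⊗ A` (only `k`-linearity and
`S₀`-linearity are used), `N = R₀ ⊗_{S₀} M` with compatible `ρN`, `S₀ → R₀` flat.  Then the
invariants of `N` are the base change of the invariants of `M`.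
-/

set_option autoImplicit false
universe u

open TensorProduct

namespace Groth.Agent.Lib.Helper43.InvBC

/-- lifting a ring hom through an injective ring hom -/
lemma exists_ringHom_lift {X Y Z : Type*} [CommRing X] [CommRing Y] [CommRing Z]
    (j : Y →+* Z) (hj : Function.Injective j) (f : X →+* Z) (h : ∀ x, f x ∈ Set.range j) :
    ∃ g : X →+* Y, ∀ x, j (g x) = f x := by
  choose g hg using h
  exact ⟨{ toFun := g
           map_one' := hj (by rw [hg, map_one, map_one])
           map_mul' := fun a b => hj (by rw [hg, map_mul, map_mul, hg, hg])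
           map_zero' := hj (by rw [hg, map_zero, map_zero])
           map_add' := fun a b => hj (by rw [hg, map_add, map_add, hg, hg]) }, hg⟩

section Pushout

variable (R S R' S' : Type*) [CommRing R] [CommRing S] [CommRing R'] [CommRing S']
  [Algebra R S] [Algebra R R'] [Algebra S S'] [Algebra R' S'] [Algebra R S']
  [IsScalarTower R R' S'] [IsScalarTower R S S']

lemma isPushout_iff_bijective_productMap :
    Algebra.IsPushout R S R' S' ↔
      Function.Bijective (Algebra.TensorProduct.productMap (IsScalarTower.toAlgHom R S S')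
        (IsScalarTower.toAlgHom R R' S')) := by
  rw [Algebra.isPushout_iff, IsBaseChange, IsTensorProduct]
  have key : ∀ x : S ⊗[R] R',
      TensorProduct.lift (((Algebra.linearMap S (Module.End S (R' →ₗ[R] S'))).flip
        (IsScalarTower.toAlgHom R R' S').toLinearMap).restrictScalars R) x =
      Algebra.TensorProduct.productMap (IsScalarTower.toAlgHom R S S')
        (IsScalarTower.toAlgHom R R' S') x := by
    intro x
    induction x with
    | zero => simp
    | tmul a b => simp [Algebra.smul_def]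
    | add x y hx hy => simp only [map_add, hx, hy]
  constructor
  · intro h
    refine ⟨fun x y hxy => h.1 ?_, fun y => ?_⟩
    · rw [key, key]; exact hxy
    · obtain ⟨x, hx⟩ := h.2 y
      exact ⟨x, by rw [← key]; exact hx⟩
  · intro h
    refine ⟨fun x y hxy => h.1 ?_, fun y => ?_⟩
    · rw [← key, ← key]; exact hxy
    · obtain ⟨x, hx⟩ := h.2 y
      exact ⟨x, by rw [key]; exact hx⟩

end Pushout

section Inv

variable {k A : Type u} [CommRing k] [AddCommGroup A] [Module k A] (one : A)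
  {S₀ R₀ M N S₁ R₁ : Type u} [CommRing S₀] [CommRing R₀] [CommRing M] [CommRing N]
  [CommRing S₁] [CommRing R₁]
  [Algebra k S₀] [Algebra k R₀] [Algebra k M] [Algebra k N]
  [Algebra S₀ R₀] [Algebra S₀ M] [Algebra R₀ N] [Algebra M N] [Algebra S₀ N]
  [IsScalarTower k S₀ R₀] [IsScalarTower k S₀ M] [IsScalarTower k R₀ N] [IsScalarTower k S₀ N]
  [IsScalarTower S₀ R₀ N] [IsScalarTower S₀ M N]
  [Module.Flat S₀ R₀] [Algebra.IsPushout S₀ R₀ M N]
  [Algebra S₀ S₁] [Algebra S₁ M] [IsScalarTower S₀ S₁ M]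
  [Algebra R₀ R₁] [Algebra R₁ N] [IsScalarTower R₀ R₁ N]
  [Algebra S₁ R₁] [Algebra S₀ R₁] [IsScalarTower S₀ S₁ R₁] [IsScalarTower S₀ R₀ R₁]
  [Algebra S₁ N] [IsScalarTower S₁ M N] [IsScalarTower S₁ R₁ N]

include one in
theorem inv_isPushout
    (ρM : M →ₗ[k] M ⊗[k] A) (ρN : N →ₗ[k] N ⊗[k] A)
    (hρM : ∀ (s : S₀) (m : M), ρM (s • m) = s • ρM m)
    (hρN : ∀ (r : R₀) (n : N), ρN (r • n) = r • ρN n)
    (hcomp : ∀ m : M, ρN (algebraMap M N m) =
      TensorProduct.AlgebraTensorModule.map (IsScalarTower.toAlgHom S₀ M N).toLinearMap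
        (LinearMap.id : A →ₗ[k] A) (ρM m))
    (hS₁i : Function.Injective (algebraMap S₁ M))
    (hS₁ : ∀ m, m ∈ Set.range (algebraMap S₁ M) ↔ ρM m = m ⊗ₜ[k] one)
    (hR₁i : Function.Injective (algebraMap R₁ N))
    (hR₁ : ∀ n, n ∈ Set.range (algebraMap R₁ N) ↔ ρN n = n ⊗ₜ[k] one) :
    Algebra.IsPushout S₀ R₀ S₁ R₁ := by
  let f : S₁ →ₗ[S₀] M := (IsScalarTower.toAlgHom S₀ S₁ M).toLinearMap
  let g : M →ₗ[S₀] M ⊗[k] A :=
    { toFun := fun m => ρM m - m ⊗ₜ[k] one
      map_add' := fun a b => by rw [map_add, TensorProduct.add_tmul]; abel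
      map_smul' := fun s m => by
        rw [hρM, RingHom.id_apply, smul_sub, TensorProduct.smul_tmul'] }
  let f' : R₁ →ₗ[R₀] N := (IsScalarTower.toAlgHom R₀ R₁ N).toLinearMap
  let g' : N →ₗ[R₀] N ⊗[k] A :=
    { toFun := fun n => ρN n - n ⊗ₜ[k] one
      map_add' := fun a b => by rw [map_add, TensorProduct.add_tmul]; abel
      map_smul' := fun s m => by
        rw [hρN, RingHom.id_apply, smul_sub, TensorProduct.smul_tmul'] }
  let h₁ : S₁ →ₗ[S₀] R₁ := (IsScalarTower.toAlgHom S₀ S₁ R₁).toLinearMap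
  let h₂ : M →ₗ[S₀] N := (IsScalarTower.toAlgHom S₀ M N).toLinearMap
  let h₃ : M ⊗[k] A →ₗ[S₀] N ⊗[k] A :=
    TensorProduct.AlgebraTensorModule.map h₂ (LinearMap.id : A →ₗ[k] A)
  have isb₂ : IsBaseChange R₀ h₂ := Algebra.IsPushout.out
  have isb₃ : IsBaseChange R₀ h₃ := isBaseChange_tensorProduct_map _ isb₂
  have comm₁ : h₂.comp f = (f'.restrictScalars S₀).comp h₁ := by
    ext x
    change algebraMap M N (algebraMap S₁ M x) = algebraMap R₁ N (algebraMap S₁ R₁ x)
    rw [← IsScalarTower.algebraMap_apply, ← IsScalarTower.algebraMap_apply]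
  have comm₂ : h₃.comp g = (g'.restrictScalars S₀).comp h₂ := by
    ext m
    change h₃ (ρM m - m ⊗ₜ[k] one) = ρN (algebraMap M N m) - (algebraMap M N m) ⊗ₜ[k] one
    rw [map_sub, hcomp]
    rfl
  have exact₁ : Function.Exact f g := by
    intro m
    change ρM m - m ⊗ₜ[k] one = 0 ↔ m ∈ Set.range (algebraMap S₁ M)
    rw [sub_eq_zero, hS₁]
  have exact₂ : Function.Exact f' g' := by
    intro n
    change ρN n - n ⊗ₜ[k] one = 0 ↔ n ∈ Set.range (algebraMap R₁ N)
    rw [sub_eq_zero, hR₁]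
  exact ⟨IsBaseChange.of_left_exact R₀ h₁ h₂ h₃ comm₁ comm₂ isb₂ isb₃ exact₁ hS₁i exact₂ hR₁i⟩

end Inv

end Groth.Agent.Lib.Helper43.InvBC
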