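import Mathlib.Tactic
import Groth.Agent.Lib.Helper43.KRPres
import Mathlib.RingTheory.MvPolynomial.Localization
import Mathlib.RingTheory.Finiteness.FiniteTypeLocal

/-!
# `LCI.IsLCI` is local on the target (helper43)

* `koszulRegularIdeal_away` : if `S_{β G}` is lci over `R` then `(ker β) R[y]_G` is Koszul-regular
* `isLCI_of_span` : Stacks-style locality of lci ring maps on a standard open cover of the target
-/

set_option autoImplicit false
universe u

open MvPolynomial

namespace Groth.Agent.Lib.Helper43.KRLocal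

open Groth.Agent.Lib.Helper43.KRIdeal Groth.Agent.Lib.Helper43.KRPoly
open Groth.Agent.Lib.Helper43.KRPres

lemma aeval_invSelf_props {A' : Type u} [CommRing A'] (G : A') (L : Type u) [CommRing L]
    [Algebra A' L] [IsLocalization.Away G L] :
    Function.Surjective (aeval (fun _ => IsLocalization.Away.invSelf G) :
      MvPolynomial Unit A' →ₐ[A'] L) ∧
    RingHom.ker (aeval (fun _ => IsLocalization.Away.invSelf G) :
      MvPolynomial Unit A' →ₐ[A'] L).toRingHom = Ideal.span {C G * X () - 1} := by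
  let e := IsLocalization.Away.mvPolynomialQuotientEquiv L G
  constructor
  · intro y
    obtain ⟨x, rfl⟩ := e.surjective y
    obtain ⟨p, rfl⟩ := Ideal.Quotient.mk_surjective x
    exact ⟨p, (IsLocalization.Away.mvPolynomialQuotientEquiv_apply L G p).symm⟩
  · ext p
    rw [RingHom.mem_ker]
    change aeval (fun _ => IsLocalization.Away.invSelf G) p = 0 ↔ _
    rw [← IsLocalization.Away.mvPolynomialQuotientEquiv_apply L G p,
      EmbeddingLike.map_eq_zero_iff, Ideal.Quotient.eq_zero_iff_mem]


/-- if `S_{β G}` is lci over `R` then `(ker β) R[y]_G` is a Koszul-regular ideal -/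
theorem koszulRegularIdeal_away (R S : Type u) [CommRing R] [CommRing S] [Algebra R S] (M : ℕ)
    (β : MvPolynomial (Fin M) R →ₐ[R] S) (hβ : Function.Surjective β)
    (G : MvPolynomial (Fin M) R) (hlci : LCI.IsLCI R (Localization.Away (β G))) :
    LCI.IsKoszulRegularIdeal
      ((RingHom.ker β.toRingHom).map (algebraMap _ (Localization.Away G))) := by
  classical
  obtain ⟨-, n, α, hα, hkα⟩ := hlci
  obtain ⟨π, hπ, hkerπ, hcomm⟩ : ∃ π : Localization.Away G →+* Localization.Away (β G),
      Function.Surjective π ∧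
      RingHom.ker π = (RingHom.ker β.toRingHom).map (algebraMap _ (Localization.Away G)) ∧
      ∀ a, π (algebraMap _ _ a) = algebraMap S _ (β a) := awayMap_props β.toRingHom hβ G
  let ρ : MvPolynomial Unit (MvPolynomial (Fin M) R) →ₐ[MvPolynomial (Fin M) R]
      Localization.Away G := aeval (fun _ => IsLocalization.Away.invSelf G)
  obtain ⟨hρ, hkerρ⟩ := aeval_invSelf_props G (Localization.Away G)
  let γ' : MvPolynomial Unit (MvPolynomial (Fin M) R) →+* Localization.Away (β G) :=
    π.comp ρ.toRingHom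
  let γA : MvPolynomial Unit (MvPolynomial (Fin M) R) →ₐ[R] Localization.Away (β G) :=
    { γ' with
      commutes' := by
        intro r
        change π (ρ (algebraMap R _ r)) = _
        rw [MvPolynomial.algebraMap_apply, aeval_C, hcomm, AlgHom.commutes,
          ← IsScalarTower.algebraMap_apply] }
  let ε : MvPolynomial (Fin (Fintype.card (Unit ⊕ Fin M))) R ≃ₐ[R]
      MvPolynomial Unit (MvPolynomial (Fin M) R) :=
    (renameEquiv R (Fintype.equivFin (Unit ⊕ Fin M)).symm).trans (sumAlgEquiv R Unit (Fin M))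
  let δ : MvPolynomial (Fin (Fintype.card (Unit ⊕ Fin M))) R →ₐ[R] Localization.Away (β G) :=
    γA.comp ε.toAlgHom
  have hδ : Function.Surjective δ := (hπ.comp hρ).comp ε.surjective
  have h1 := ker_koszulRegular_indep R _ n _ α hα δ hδ hkα
  have h2 := koszulRegularIdeal_map_equiv ε.toRingEquiv _ h1
  have hK' : (RingHom.ker δ.toRingHom).map ((ε.toRingEquiv : _ ≃+* _) : _ →+* _) =
      RingHom.ker γ' := by
    rw [Ideal.map_comap_of_equiv]
    ext x
    rw [Ideal.mem_comap, RingHom.mem_ker, RingHom.mem_ker]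
    change γ' (ε (ε.symm x)) = 0 ↔ γ' x = 0
    rw [AlgEquiv.apply_symm_apply]
  rw [hK'] at h2
  have hkr : LCI.IsKoszulRegularSeq (MvPolynomial Unit (MvPolynomial (Fin M) R))
      [C G * X () - 1] :=
    koszulRegular_singleton _ (isSMulRegular_of_isUnit_constantCoeff _ (by simp))
  have hle : RingHom.ker ρ.toRingHom ≤ RingHom.ker γ' := by
    intro x hx
    rw [RingHom.mem_ker] at hx ⊢
    change π (ρ.toRingHom x) = 0
    rw [hx, map_zero]
  have haK : (C G * X () - 1 : MvPolynomial Unit (MvPolynomial (Fin M) R)) ∈ RingHom.ker γ' :=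
    hle (by rw [hkerρ]; exact Ideal.subset_span rfl)
  have hind : ∀ 𝔭 : Ideal (MvPolynomial Unit (MvPolynomial (Fin M) R)), 𝔭.IsPrime →
      RingHom.ker γ' ≤ 𝔭 → ∀ (h₁ : List (MvPolynomial Unit (MvPolynomial (Fin M) R)))
      (a : MvPolynomial Unit (MvPolynomial (Fin M) R))
      (h₂ : List (MvPolynomial Unit (MvPolynomial (Fin M) R))),
      [(C G * X () - 1 : MvPolynomial Unit (MvPolynomial (Fin M) R))] = h₁ ++ a :: h₂ →
      ∀ s, s ∉ 𝔭 → ∀ z ∈ Ideal.ofList h₁, s * a - z ∉ 𝔭 * RingHom.ker γ' := by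
    intro 𝔭 h𝔭 hK𝔭 h₁ a h₂ hh s hs z hz
    have h12 : h₁ = [] ∧ a = C G * X () - 1 := by
      cases h₁ with
      | nil =>
        simp only [List.nil_append, List.cons.injEq] at hh
        exact ⟨rfl, hh.1.symm⟩
      | cons b t =>
        have := congrArg List.length hh
        simp at this
    obtain ⟨rfl, rfl⟩ := h12
    have := h𝔭
    refine ind_of_derivation (pderiv ()) _ 𝔭 hK𝔭 _ haK ?_
      {x | x ∈ ([] : List (MvPolynomial Unit (MvPolynomial (Fin M) R)))} (by simp) s hs z hz
    have hD : pderiv () (C G * X () - 1 : MvPolynomial Unit (MvPolynomial (Fin M) R)) = C G := by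
      simp [Derivation.leibniz]
    rw [hD]
    intro hCG
    apply h𝔭.ne_top
    rw [Ideal.eq_top_iff_one]
    have e1 : (1 : MvPolynomial Unit (MvPolynomial (Fin M) R)) =
        C G * X () - (C G * X () - 1) := by ring
    rw [e1]
    exact 𝔭.sub_mem (𝔭.mul_mem_right _ hCG) (hK𝔭 haK)
  have h3 := koszulRegularIdeal_map ρ.toRingHom hρ [C G * X () - 1]
    (by rw [hkerρ, Ideal.ofList_singleton]) hkr (RingHom.ker γ') h2 hle hind
  have h4 : (RingHom.ker γ').map ρ.toRingHom = RingHom.ker π := by
    rw [← RingHom.comap_ker]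
    exact Ideal.map_comap_of_surjective ρ.toRingHom hρ _
  rw [h4, hkerπ] at h3
  exact h3


/-- the Koszul-regularity of the kernel of a presentation can be checked on a standard open
cover of the target -/
theorem ker_koszulRegular_of_span' (R S : Type u) [CommRing R] [CommRing S] [Algebra R S]
    {ι : Type*} (g : ι → S) (hg : Ideal.span (Set.range g) = ⊤)
    (h : ∀ j, LCI.IsLCI R (Localization.Away (g j))) (M : ℕ)
    (β : MvPolynomial (Fin M) R →ₐ[R] S) (hβ : Function.Surjective β) :
    LCI.IsKoszulRegularIdeal (RingHom.ker β.toRingHom) := by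
  classical
  choose G hG using fun j => hβ (g j)
  apply isKoszulRegularIdeal_of_charts
  intro 𝔮 h𝔮
  have hex : ∃ j, G j ∉ 𝔮.asIdeal := by
    by_contra hcon
    push_neg at hcon
    have h1 : Ideal.span (Set.range g) ≤ 𝔮.asIdeal.map β.toRingHom := by
      rw [Ideal.span_le]
      rintro _ ⟨j, rfl⟩
      rw [← hG j]
      exact Ideal.mem_map_of_mem _ (hcon j)
    rw [hg, top_le_iff, Ideal.eq_top_iff_one] at h1
    obtain ⟨x, hx, hx1⟩ := (Ideal.mem_map_iff_of_surjective β.toRingHom hβ).1 h1
    apply 𝔮.2.ne_top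
    rw [Ideal.eq_top_iff_one]
    have h2 : (1 : MvPolynomial (Fin M) R) - x ∈ RingHom.ker β.toRingHom := by
      rw [RingHom.mem_ker, map_sub, hx1, map_one, sub_self]
    have h3 : (1 : MvPolynomial (Fin M) R) = (1 - x) + x := by ring
    rw [h3]
    exact 𝔮.asIdeal.add_mem (h𝔮 h2) hx
  obtain ⟨j, hj⟩ := hex
  have hl : LCI.IsLCI R (Localization.Away (β (G j))) := by
    rw [hG j]; exact h j
  exact exists_chart_of_away _ (G j) (koszulRegularIdeal_away R S M β hβ (G j) hl) 𝔮 hj h𝔮

/-- **lci ring maps are local on the target** (arbitrary index type) -/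
theorem isLCI_of_span' (R S : Type u) [CommRing R] [CommRing S] [Algebra R S]
    {ι : Type*} (g : ι → S) (hg : Ideal.span (Set.range g) = ⊤)
    (h : ∀ j, LCI.IsLCI R (Localization.Away (g j))) : LCI.IsLCI R S := by
  have hft : Algebra.FiniteType R S :=
    Algebra.FiniteType.of_span_eq_top_target (Set.range g) hg
      (by rintro _ ⟨j, rfl⟩; exact (h j).1)
  obtain ⟨M, β, hβ⟩ := Algebra.FiniteType.iff_quotient_mvPolynomial''.1 hft
  exact ⟨hft, M, β, hβ, ker_koszulRegular_of_span' R S g hg h M β hβ⟩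

theorem ker_koszulRegular_of_span (R S : Type u) [CommRing R] [CommRing S] [Algebra R S]
    (m : ℕ) (g : Fin m → S) (hg : Ideal.span (Set.range g) = ⊤)
    (h : ∀ j, LCI.IsLCI R (Localization.Away (g j))) (M : ℕ)
    (β : MvPolynomial (Fin M) R →ₐ[R] S) (hβ : Function.Surjective β) :
    LCI.IsKoszulRegularIdeal (RingHom.ker β.toRingHom) :=
  ker_koszulRegular_of_span' R S g hg h M β hβ

/-- **lci ring maps are local on the target** -/
theorem isLCI_of_span (R S : Type u) [CommRing R] [CommRing S] [Algebra R S]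
    (m : ℕ) (g : Fin m → S) (hg : Ideal.span (Set.range g) = ⊤)
    (h : ∀ j, LCI.IsLCI R (Localization.Away (g j))) : LCI.IsLCI R S :=
  isLCI_of_span' R S g hg h

end Groth.Agent.Lib.Helper43.KRLocal
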