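import Mathlib.Tactic
import Groth.Agent.Lib.Helper43.KRLocal
import Mathlib.RingTheory.Polynomial.Basic

/-!
# Composition of lci ring maps (helper43)

* `isLCI_of_ringEquiv` : transport of `LCI.IsLCI` along a ring isomorphism of the target
* `isLCI_comp` : `A → B` lci, `B → C` lci ⇒ `A → C` lci
* `IsLCIHom φ`, `IsLCIHom.comp`, `IsLCIHom.of_equiv`, `IsLCIHom.of_span`
-/

set_option autoImplicit false
set_option linter.style.haveILetI false
universe u

open MvPolynomial

namespace Groth.Agent.Lib.Helper43.KRComp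

open Groth.Agent.Lib.Helper43.KRIdeal Groth.Agent.Lib.Helper43.KRPoly
open Groth.Agent.Lib.Helper43.KRPres Groth.Agent.Lib.Helper43.KRLocal

theorem isLCI_of_ringEquiv (R B B' : Type u) [CommRing R] [CommRing B] [CommRing B']
    [Algebra R B] [Algebra R B'] (e : B ≃+* B')
    (he : ∀ r, e (algebraMap R B r) = algebraMap R B' r) (h : LCI.IsLCI R B) :
    LCI.IsLCI R B' := by
  obtain ⟨hft, n, f, hf, hk⟩ := h
  let eA : B ≃ₐ[R] B' := { e with commutes' := he }
  refine ⟨Algebra.FiniteType.equiv hft eA, n, eA.toAlgHom.comp f, ?_, ?_⟩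
  · exact eA.surjective.comp hf
  · have : RingHom.ker (eA.toAlgHom.comp f).toRingHom = RingHom.ker f.toRingHom := by
      ext x
      rw [RingHom.mem_ker, RingHom.mem_ker]
      change eA (f x) = 0 ↔ f x = 0
      exact EmbeddingLike.map_eq_zero_iff
    rw [this]
    exact hk

/-- **Composition of lci ring maps.** -/
theorem isLCI_comp (A B E : Type u) [CommRing A] [CommRing B] [CommRing E]
    [Algebra A B] [Algebra B E] [Algebra A E] [IsScalarTower A B E]
    (hAB : LCI.IsLCI A B) (hBC : LCI.IsLCI B E) : LCI.IsLCI A E := by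
  classical
  obtain ⟨hft₁, n, α, hα, hkα⟩ := hAB
  obtain ⟨hft₂, m, β, hβ, hkβ⟩ := hBC
  have hft : Algebra.FiniteType A E := Algebra.FiniteType.trans hft₁ hft₂
  let ρ : MvPolynomial (Fin m) (MvPolynomial (Fin n) A) →+* MvPolynomial (Fin m) B :=
    MvPolynomial.map α.toRingHom
  have hρ : Function.Surjective ρ := MvPolynomial.map_surjective _ hα
  have hkerρ : LCI.IsKoszulRegularIdeal (RingHom.ker ρ) := by
    rw [MvPolynomial.ker_map]
    apply koszulRegularIdeal_map_of_flat _ _ _ hkα
    exact RingHom.flat_algebraMap_iff.2 inferInstance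
  have h1 := koszulRegularIdeal_comap ρ hρ hkerρ _ hkβ
  rw [RingHom.comap_ker] at h1
  let γ : MvPolynomial (Fin m) (MvPolynomial (Fin n) A) →ₐ[A] E :=
    { β.toRingHom.comp ρ with
      commutes' := by
        intro a
        change β (ρ (algebraMap A _ a)) = _
        rw [MvPolynomial.algebraMap_apply]
        change β (MvPolynomial.map α.toRingHom (C (algebraMap A _ a))) = _
        rw [MvPolynomial.map_C]
        change β (C (α (algebraMap A _ a))) = _
        rw [AlgHom.commutes, ← MvPolynomial.algebraMap_eq, AlgHom.commutes,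
          ← IsScalarTower.algebraMap_apply] }
  let ε : MvPolynomial (Fin (Fintype.card (Fin m ⊕ Fin n))) A ≃ₐ[A]
      MvPolynomial (Fin m) (MvPolynomial (Fin n) A) :=
    (renameEquiv A (Fintype.equivFin (Fin m ⊕ Fin n)).symm).trans (sumAlgEquiv A (Fin m) (Fin n))
  refine ⟨hft, _, γ.comp ε.toAlgHom, (hβ.comp hρ).comp ε.surjective, ?_⟩
  have h2 := koszulRegularIdeal_map_equiv ε.symm.toRingEquiv _ h1
  have hK : (RingHom.ker (β.toRingHom.comp ρ)).map
      ((ε.symm.toRingEquiv : _ ≃+* _) : _ →+* _) = RingHom.ker (γ.comp ε.toAlgHom).toRingHom := by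
    rw [Ideal.map_comap_of_equiv]
    ext x
    rw [Ideal.mem_comap, RingHom.mem_ker, RingHom.mem_ker]
    rfl
  rwa [hK] at h2

/-- a ring map is lci, in the sense of `LCI.IsLCI` for the induced algebra structure -/
def IsLCIHom {R S : Type u} [CommRing R] [CommRing S] (φ : R →+* S) : Prop :=
  letI := φ.toAlgebra
  LCI.IsLCI R S

lemma IsLCIHom.comp {R S T : Type u} [CommRing R] [CommRing S] [CommRing T] {φ : R →+* S}
    {ψ : S →+* T} (hφ : IsLCIHom φ) (hψ : IsLCIHom ψ) : IsLCIHom (ψ.comp φ) := by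
  letI := φ.toAlgebra
  letI := ψ.toAlgebra
  letI := (ψ.comp φ).toAlgebra
  haveI : IsScalarTower R S T := IsScalarTower.of_algebraMap_eq (fun _ => rfl)
  exact isLCI_comp R S T hφ hψ

lemma IsLCIHom.of_equiv {R S S' : Type u} [CommRing R] [CommRing S] [CommRing S'] {φ : R →+* S}
    (e : S ≃+* S') (hφ : IsLCIHom φ) : IsLCIHom ((e : S →+* S').comp φ) := by
  letI := φ.toAlgebra
  letI := ((e : S →+* S').comp φ).toAlgebra
  exact isLCI_of_ringEquiv R S S' e (fun _ => rfl) hφ

lemma IsLCIHom.of_span {R S : Type u} [CommRing R] [CommRing S] (φ : R →+* S) {ι : Type*}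
    (s : ι → S) (hs : Ideal.span (Set.range s) = ⊤)
    (h : ∀ j, IsLCIHom ((algebraMap S (Localization.Away (s j))).comp φ)) : IsLCIHom φ := by
  letI := φ.toAlgebra
  apply isLCI_of_span' R S s hs
  intro j
  exact @isLCI_of_ringEquiv R (Localization.Away (s j)) (Localization.Away (s j)) _ _ _
    (((algebraMap S (Localization.Away (s j))).comp φ).toAlgebra) OreLocalization.instAlgebra
    (RingEquiv.refl _) (fun r => rfl) (h j)

end Groth.Agent.Lib.Helper43.KRComp
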