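import Mathlib.Tactic
import Groth.Agent.Lib.Helper43.KRComp
import Groth.Agent.Lib.Helper43.KRDescent
import Mathlib.RingTheory.MvPolynomial.Localization
import Mathlib.RingTheory.LocalProperties.Basic

/-!
# `IsLCIHom` is a local property of ring homomorphisms (helper43)

* `isLCI_away` : localizations `R → R_r` are lci
* `isLCIHom_of_comp_away` : cancel a localization on the source
* `isLCIHom_propertyIsLocal : RingHom.PropertyIsLocal @IsLCIHom`
-/

set_option autoImplicit false
set_option linter.style.haveILetI false
universe u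

open MvPolynomial

namespace Groth.Agent.Lib.Helper43.KRLocalProp

open Groth.Agent.Lib.Helper43.KRIdeal Groth.Agent.Lib.Helper43.KRPoly
open Groth.Agent.Lib.Helper43.KRPres Groth.Agent.Lib.Helper43.KRLocal
open Groth.Agent.Lib.Helper43.KRComp

/-- localizations away from an element are lci -/
theorem isLCI_away {R S : Type u} [CommRing R] [CommRing S] [Algebra R S] (r : R)
    [IsLocalization.Away r S] : LCI.IsLCI R S := by
  classical
  let ρ : MvPolynomial Unit R →ₐ[R] S := aeval (fun _ => IsLocalization.Away.invSelf r)
  obtain ⟨hρ, hkerρ⟩ := aeval_invSelf_props r S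
  let ε : MvPolynomial (Fin 1) R ≃ₐ[R] MvPolynomial Unit R :=
    renameEquiv R (Equiv.equivPUnit (Fin 1))
  let f : MvPolynomial (Fin 1) R →ₐ[R] S := ρ.comp ε.toAlgHom
  have hf : Function.Surjective f := hρ.comp ε.surjective
  refine ⟨Algebra.FiniteType.of_surjective f hf, 1, f, hf, ?_⟩
  have hkr : LCI.IsKoszulRegularIdeal (RingHom.ker ρ.toRingHom) := by
    rw [hkerρ, ← Ideal.ofList_singleton]
    exact isKoszulRegularIdeal_of_seq _
      (koszulRegular_singleton _ (isSMulRegular_of_isUnit_constantCoeff _ (by simp)))
  have h2 := koszulRegularIdeal_map_equiv ε.symm.toRingEquiv _ hkr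
  have hK : (RingHom.ker ρ.toRingHom).map ((ε.symm.toRingEquiv : _ ≃+* _) : _ →+* _) =
      RingHom.ker f.toRingHom := by
    rw [Ideal.map_comap_of_equiv]
    ext x
    rw [Ideal.mem_comap, RingHom.mem_ker, RingHom.mem_ker]
    rfl
  rwa [hK] at h2

lemma isLCIHom_algebraMap_iff {R S : Type u} [CommRing R] [CommRing S] [Algebra R S] :
    IsLCIHom (algebraMap R S) ↔ LCI.IsLCI R S := by
  constructor
  · intro h
    exact @isLCI_of_ringEquiv R S S _ _ _ (algebraMap R S).toAlgebra _ (RingEquiv.refl _)
      (fun _ => rfl) h
  · intro h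
    exact @isLCI_of_ringEquiv R S S _ _ _ _ (algebraMap R S).toAlgebra (RingEquiv.refl _)
      (fun _ => rfl) h

attribute [local instance] MvPolynomial.algebraMvPolynomial

/-- cancel a localization on the source -/
theorem isLCIHom_of_comp_away {R R' S' : Type u} [CommRing R] [CommRing R'] [CommRing S']
    [Algebra R R'] (r : R) [IsLocalization.Away r R'] (ψ : R' →+* S')
    (h : IsLCIHom (ψ.comp (algebraMap R R'))) : IsLCIHom ψ := by
  classical
  letI algRS' : Algebra R S' := (ψ.comp (algebraMap R R')).toAlgebra
  letI algR'S' : Algebra R' S' := ψ.toAlgebra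
  haveI : IsScalarTower R R' S' := IsScalarTower.of_algebraMap_eq (fun _ => rfl)
  obtain ⟨hft, n, α, hα, hK⟩ := h
  let α' : MvPolynomial (Fin n) R' →ₐ[R'] S' := aeval (fun i => α (X i))
  have hcomp : ∀ p : MvPolynomial (Fin n) R, α' (MvPolynomial.map (algebraMap R R') p) = α p := by
    intro p
    rw [aeval_map_algebraMap]
    exact (DFunLike.congr_fun (MvPolynomial.aeval_unique α) p).symm
  have hα' : Function.Surjective α' := by
    intro s
    obtain ⟨p, rfl⟩ := hα s
    exact ⟨_, hcomp p⟩
  refine ⟨Algebra.FiniteType.of_surjective α' hα', n, α', hα', ?_⟩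
  have hflat : (MvPolynomial.map (algebraMap R R') :
      MvPolynomial (Fin n) R →+* MvPolynomial (Fin n) R').Flat :=
    RingHom.flat_algebraMap_iff.2
      (IsLocalization.flat _ ((Submonoid.powers r).map (C (σ := Fin n))))
  have hker : RingHom.ker α'.toRingHom =
      (RingHom.ker α.toRingHom).map (MvPolynomial.map (algebraMap R R')) := by
    apply le_antisymm
    · intro p' hp'
      rw [RingHom.mem_ker] at hp'
      obtain ⟨⟨p, m⟩, hpm⟩ := IsLocalization.surj ((Submonoid.powers r).map (C (σ := Fin n))) p'
      have hu : IsUnit (algebraMap (MvPolynomial (Fin n) R) (MvPolynomial (Fin n) R') m.1) :=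
        IsLocalization.map_units _ m
      have hp : p ∈ RingHom.ker α.toRingHom := by
        rw [RingHom.mem_ker]
        change α p = 0
        rw [← hcomp p]
        have : MvPolynomial.map (algebraMap R R') p =
            p' * algebraMap (MvPolynomial (Fin n) R) (MvPolynomial (Fin n) R') m.1 := hpm.symm
        rw [this, map_mul]
        have h0 : α' p' = 0 := hp'
        rw [h0, zero_mul]
      have h3 : p' * algebraMap (MvPolynomial (Fin n) R) (MvPolynomial (Fin n) R') m.1 ∈
          (RingHom.ker α.toRingHom).map (MvPolynomial.map (algebraMap R R')) := by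
        rw [hpm]
        exact Ideal.mem_map_of_mem _ hp
      exact (Ideal.mul_unit_mem_iff_mem _ hu).1 h3
    · rw [Ideal.map_le_iff_le_comap]
      intro p hp
      rw [Ideal.mem_comap, RingHom.mem_ker]
      change α' (MvPolynomial.map (algebraMap R R') p) = 0
      rw [hcomp p]
      exact hp
  rw [hker]
  exact koszulRegularIdeal_map_of_flat _ hflat _ hK

theorem isLCIHom_stableUnderComposition : RingHom.StableUnderComposition @IsLCIHom :=
  fun _ _ _ _ _ _ _ _ hf hg => hf.comp hg

theorem isLCIHom_holdsForLocalizationAway : RingHom.HoldsForLocalizationAway @IsLCIHom := by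
  intro R S _ _ _ r _
  exact isLCIHom_algebraMap_iff.2 (isLCI_away r)

theorem isLCIHom_ofLocalizationSpanTarget : RingHom.OfLocalizationSpanTarget @IsLCIHom := by
  intro R S _ _ f s hs H
  exact IsLCIHom.of_span f (fun r : s => (r : S)) (by simpa using hs) H

theorem isLCIHom_localizationAwayPreserves : RingHom.LocalizationAwayPreserves @IsLCIHom := by
  intro R S _ _ f r R' S' _ _ _ _ _ _ hf
  apply isLCIHom_of_comp_away r
  have e : (IsLocalization.Away.map R' S' f r).comp (algebraMap R R') =
      (algebraMap S S').comp f := IsLocalization.map_comp _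
  rw [e]
  exact hf.comp (isLCIHom_holdsForLocalizationAway S' (f r))

theorem isLCIHom_propertyIsLocal : RingHom.PropertyIsLocal @IsLCIHom where
  localizationAwayPreserves := isLCIHom_localizationAwayPreserves
  ofLocalizationSpanTarget := isLCIHom_ofLocalizationSpanTarget
  ofLocalizationSpan := isLCIHom_ofLocalizationSpanTarget.ofLocalizationSpan
    (isLCIHom_stableUnderComposition.stableUnderCompositionWithLocalizationAway
      isLCIHom_holdsForLocalizationAway).1
  StableUnderCompositionWithLocalizationAwayTarget :=
    (isLCIHom_stableUnderComposition.stableUnderCompositionWithLocalizationAway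
      isLCIHom_holdsForLocalizationAway).2

end Groth.Agent.Lib.Helper43.KRLocalProp
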