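import Mathlib.Tactic
import Groth.Agent.Lib.Helper43.KRLocalProp
import Mathlib.RingTheory.TensorProduct.MvPolynomial
import Mathlib.RingTheory.Finiteness.Descent
import Mathlib.RingTheory.RingHom.FaithfullyFlat
import Mathlib.LinearAlgebra.TensorProduct.RightExactness

/-!
# Faithfully flat descent of lci ring maps (helper43)

* `isLCI_of_faithfullyFlat_tensor` : `R → S` faithfully flat, `S → S ⊗[R] T` lci ⇒ `R → T` lci
* `isLCIHom_codescendsAlong : RingHom.CodescendsAlong @IsLCIHom RingHom.FaithfullyFlat`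
-/

set_option autoImplicit false
set_option linter.style.haveILetI false
universe u

open MvPolynomial TensorProduct

namespace Groth.Agent.Lib.Helper43.KRCodescent

open Groth.Agent.Lib.Helper43.KRIdeal Groth.Agent.Lib.Helper43.KRPoly
open Groth.Agent.Lib.Helper43.KRPres Groth.Agent.Lib.Helper43.KRLocal
open Groth.Agent.Lib.Helper43.KRComp Groth.Agent.Lib.Helper43.KRDescent
open Groth.Agent.Lib.Helper43.KRLocalProp

theorem isLCI_of_faithfullyFlat_tensor (R S T : Type u) [CommRing R] [CommRing S] [CommRing T]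
    [Algebra R S] [Algebra R T] [Module.FaithfullyFlat R S] (h : LCI.IsLCI S (S ⊗[R] T)) :
    LCI.IsLCI R T := by
  classical
  haveI : Algebra.FiniteType S (S ⊗[R] T) := h.1
  have hft : Algebra.FiniteType R T :=
    Algebra.FiniteType.of_finiteType_tensorProduct_of_faithfullyFlat (T := S) (R := R) (S := T)
  obtain ⟨n, α, hα⟩ := Algebra.FiniteType.iff_quotient_mvPolynomial''.1 hft
  refine ⟨hft, n, α, hα, ?_⟩
  obtain ⟨-, n', α', hα', hK'⟩ := h
  let β : MvPolynomial (Fin n) S →ₐ[S] S ⊗[R] T := aeval (fun i => (1 : S) ⊗ₜ[R] α (X i))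
  let γ : MvPolynomial (Fin n) R ⊗[R] S →ₐ[R] T ⊗[R] S :=
    Algebra.TensorProduct.map α (AlgHom.id R S)
  have hγ : Function.Surjective γ :=
    Algebra.TensorProduct.map_surjective (f := α) (g := AlgHom.id R S) hα Function.surjective_id
  have hkerγ : RingHom.ker γ = (RingHom.ker α).map
      (Algebra.TensorProduct.includeLeft : MvPolynomial (Fin n) R →ₐ[R] _) :=
    Algebra.TensorProduct.rTensor_ker α hα
  let θ' : MvPolynomial (Fin n) R ⊗[R] S ≃+* MvPolynomial (Fin n) S :=
    (Algebra.TensorProduct.comm R (MvPolynomial (Fin n) R) S).toRingEquiv.trans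
      (algebraTensorAlgEquiv R S).toRingEquiv
  let cm : S ⊗[R] T ≃+* T ⊗[R] S := (Algebra.TensorProduct.comm R S T).toRingEquiv
  have hcomm : (cm : _ →+* _).comp β.toRingHom = (γ.toRingHom).comp (θ'.symm : _ →+* _) := by
    apply MvPolynomial.ringHom_ext
    · intro s
      have e1 : (algebraTensorAlgEquiv R S).symm (C s : MvPolynomial (Fin n) S) =
          s ⊗ₜ[R] (1 : MvPolynomial (Fin n) R) := by
        have : (C s : MvPolynomial (Fin n) S) = monomial 0 s := rfl
        rw [this, algebraTensorAlgEquiv_symm_monomial]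
        rfl
      simp [cm, β, γ, θ', Algebra.TensorProduct.algebraMap_apply, e1]
    · intro i
      simp [cm, β, γ, θ']
  have hβker : RingHom.ker β.toRingHom = (RingHom.ker γ.toRingHom).comap (θ'.symm : _ →+* _) := by
    ext x
    rw [Ideal.mem_comap, RingHom.mem_ker, RingHom.mem_ker]
    have h1 := congrArg (fun φ : MvPolynomial (Fin n) S →+* T ⊗[R] S => φ x) hcomm
    simp only [RingHom.comp_apply] at h1
    constructor
    · intro hx
      rw [← h1, hx, map_zero]
    · intro hx
      rw [← h1] at hx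
      exact (EmbeddingLike.map_eq_zero_iff (f := cm)).1 hx
  have hβsurj : Function.Surjective β := by
    intro y
    obtain ⟨z, hz⟩ := hγ (cm y)
    refine ⟨θ' z, ?_⟩
    apply cm.injective
    have h1 := congrArg (fun φ : MvPolynomial (Fin n) S →+* T ⊗[R] S => φ (θ' z)) hcomm
    simp only [RingHom.comp_apply] at h1
    refine Eq.trans h1 ?_
    rw [← hz]
    change γ (θ'.symm (θ' z)) = γ z
    rw [RingEquiv.symm_apply_apply]
  have h1 := ker_koszulRegular_indep S (S ⊗[R] T) n' n α' hα' β hβsurj hK'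
  have h2 := koszulRegularIdeal_map_equiv θ'.symm _ h1
  have h3 : (RingHom.ker β.toRingHom).map (θ'.symm : _ →+* _) = RingHom.ker γ.toRingHom := by
    rw [hβker]
    exact Ideal.map_comap_of_surjective _ θ'.symm.surjective _
  rw [h3] at h2
  apply koszulRegularIdeal_of_faithfullyFlat (MvPolynomial (Fin n) R)
    (MvPolynomial (Fin n) R ⊗[R] S)
  convert h2 using 1
  exact hkerγ.symm


theorem isLCIHom_respectsIso : RingHom.RespectsIso @IsLCIHom :=
  isLCIHom_propertyIsLocal.respectsIso

theorem isLCIHom_codescendsAlong :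
    RingHom.CodescendsAlong @IsLCIHom RingHom.FaithfullyFlat := by
  apply RingHom.CodescendsAlong.mk _ isLCIHom_respectsIso
  intro R S T _ _ _ _ _ hQ hP
  rw [RingHom.faithfullyFlat_algebraMap_iff] at hQ
  rw [isLCIHom_algebraMap_iff] at hP ⊢
  exact isLCI_of_faithfullyFlat_tensor R S T hP

end Groth.Agent.Lib.Helper43.KRCodescent
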