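import Mathlib
import Groth.Agent.Lib.Helper43.KindImmDescent
import Groth.Agent.S3824
import Groth.Agent.S2103

set_option autoImplicit false
set_option linter.style.haveILetI false
universe u

open MvPolynomial

namespace Groth.Agent.Lib.Helper43.KindCancel

open Groth.Agent.Lib.Helper43.SeqFlatBC Groth.Agent.Lib.Helper43.KindIdeal
open Groth.Agent.Lib.Helper43.KindImmDescent

section Fn

variable {R R' : Type u} [CommRing R] [CommRing R']

/-- **cancellation for `H₁`-regular sequences** along a retraction -/
theorem h1_cancel {m n : ℕ} (t : Fin m → R) (y : Fin n → R) (π : R →+* R') (s : R' →+* R)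
    (hs : ∀ x, π (s x) = x) (hker : RingHom.ker π = Ideal.span (Set.range y))
    (h : CAlgX.IsH1Regular (Fin.append t y)) : CAlgX.IsH1Regular (π ∘ t) := by
  classical
  intro a ha
  have hy : ∀ j, π (y j) = 0 := fun j => by
    rw [← RingHom.mem_ker, hker]; exact Ideal.subset_span ⟨j, rfl⟩
  have hq : ∀ i, ∃ q : Fin n → R, ∑ j, q j * y j = t i - s (π (t i)) := by
    intro i
    have : t i - s (π (t i)) ∈ RingHom.ker π := by
      rw [RingHom.mem_ker, map_sub, hs, sub_self]
    rw [hker, Ideal.mem_span_range_iff_exists_fun] at this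
    exact this
  choose q hq using hq
  let A : Fin (m + n) → R := Fin.append (s ∘ a) (fun j => - ∑ i, s (a i) * q i j)
  have hA : ∑ k, A k * (Fin.append t y) k = 0 := by
    rw [Fin.sum_univ_add]
    simp only [A, Fin.append_left, Fin.append_right, Function.comp_apply]
    have h1 : ∑ j, (-∑ i, s (a i) * q i j) * y j = - ∑ i, s (a i) * (t i - s (π (t i))) := by
      simp_rw [← hq, Finset.mul_sum, neg_mul, Finset.sum_mul, Finset.sum_neg_distrib]
      rw [Finset.sum_comm]
      congr 1
      refine Finset.sum_congr rfl fun i _ => Finset.sum_congr rfl fun j _ => by ring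
    rw [h1]
    have h2 : ∑ i, s (a i) * s (π (t i)) = 0 := by
      have := congrArg s ha
      simpa [map_sum, map_mul] using this
    simp_rw [mul_sub, Finset.sum_sub_distrib]
    rw [h2]
    ring
  have hmem := h A hA
  -- push forward along `v ↦ π ∘ v ∘ castAdd`
  have key : ∀ v ∈ Submodule.span R {v : Fin (m + n) → R | ∃ i j : Fin (m + n),
      v = Pi.single i ((Fin.append t y) j) - Pi.single j ((Fin.append t y) i)},
      (fun i : Fin m => π (v (Fin.castAdd n i))) ∈ Submodule.span R'
        {v : Fin m → R' | ∃ i j : Fin m, v = Pi.single i ((π ∘ t) j) - Pi.single j ((π ∘ t) i)} := by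
    intro v hv
    induction hv using Submodule.span_induction with
    | mem v hv =>
      obtain ⟨i', j', rfl⟩ := hv
      have hsingle : ∀ (k : Fin (m + n)) (c : R), (fun i : Fin m =>
          π ((Pi.single k c : Fin (m + n) → R) (Fin.castAdd n i))) =
          Fin.addCases (fun i₀ => (Pi.single i₀ (π c) : Fin m → R')) (fun _ => 0) k := by
        intro k c
        induction k using Fin.addCases with
        | left i₀ =>
          funext i
          rw [Fin.addCases_left]
          by_cases hi : i = i₀
          · subst hi; simp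
          · rw [Pi.single_eq_of_ne hi, Pi.single_eq_of_ne (by
              intro h; exact hi (Fin.castAdd_injective _ _ h)), map_zero]
        | right j₀ =>
          funext i
          rw [Fin.addCases_right, Pi.single_eq_of_ne (by
            intro h
            have := congrArg Fin.val h
            simp at this
            omega), map_zero]
          rfl
      have hsub : (fun i : Fin m => π ((Pi.single i' ((Fin.append t y) j') -
          Pi.single j' ((Fin.append t y) i') : Fin (m + n) → R) (Fin.castAdd n i))) =
          (fun i : Fin m => π ((Pi.single i' ((Fin.append t y) j') : Fin (m + n) → R)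
            (Fin.castAdd n i))) -
          (fun i : Fin m => π ((Pi.single j' ((Fin.append t y) i') : Fin (m + n) → R)
            (Fin.castAdd n i))) := by
        funext i
        simp only [Pi.sub_apply, map_sub]
      rw [hsub, hsingle, hsingle]
      induction i' using Fin.addCases with
      | left i₀ =>
        induction j' using Fin.addCases with
        | left j₀ =>
          simp only [Fin.addCases_left, Fin.append_left]
          exact Submodule.subset_span ⟨i₀, j₀, rfl⟩
        | right j₀ =>
          simp only [Fin.addCases_left, Fin.addCases_right, Fin.append_right, hy,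
            Pi.single_zero, sub_zero]
          exact zero_mem _
      | right i₀ =>
        induction j' using Fin.addCases with
        | left j₀ =>
          simp only [Fin.addCases_left, Fin.addCases_right, Fin.append_right, hy,
            Pi.single_zero, zero_sub, neg_zero]
          exact zero_mem _
        | right j₀ =>
          simp only [Fin.addCases_right, sub_self]
          exact zero_mem _
    | zero =>
      simp only [Pi.zero_apply, map_zero]
      exact zero_mem _
    | add v w _ _ hv hw =>
      have : (fun i : Fin m => π ((v + w) (Fin.castAdd n i))) =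
          (fun i : Fin m => π (v (Fin.castAdd n i))) + (fun i : Fin m => π (w (Fin.castAdd n i))) := by
        funext i; simp
      rw [this]
      exact add_mem hv hw
    | smul r v _ hv =>
      have : (fun i : Fin m => π ((r • v) (Fin.castAdd n i))) =
          π r • (fun i : Fin m => π (v (Fin.castAdd n i))) := by
        funext i; simp
      rw [this]
      exact Submodule.smul_mem _ _ hv
  have := key A hmem
  have hA' : (fun i : Fin m => π (A (Fin.castAdd n i))) = a := by
    funext i
    simp only [A, Fin.append_left, Function.comp_apply, hs]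
  rwa [hA'] at this

/-- **cancellation for quasi-regular sequences** along a retraction -/
theorem quasi_cancel {m n : ℕ} (t : Fin m → R) (y : Fin n → R) (π : R →+* R') (s : R' →+* R)
    (hs : ∀ x, π (s x) = x) (hker : RingHom.ker π = Ideal.span (Set.range y))
    (h : CAlgX.IsQuasiRegular (Fin.append t y)) : CAlgX.IsQuasiRegular (π ∘ t) := by
  classical
  intro d F hF hev α
  have hy : ∀ j, π (y j) = 0 := fun j => by
    rw [← RingHom.mem_ker, hker]; exact Ideal.subset_span ⟨j, rfl⟩
  have hq : ∀ i, ∃ q : Fin n → R, ∑ j, q j * y j = t i - s (π (t i)) := by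
    intro i
    have : t i - s (π (t i)) ∈ RingHom.ker π := by
      rw [RingHom.mem_ker, map_sub, hs, sub_self]
    rw [hker, Ideal.mem_span_range_iff_exists_fun] at this
    exact this
  choose q hq using hq
  set I : Ideal R := Ideal.span (Set.range (Fin.append t y)) with hI
  set J : Ideal R' := Ideal.span (Set.range (π ∘ t)) with hJ
  have htI : ∀ i, t i ∈ I := fun i => Ideal.subset_span ⟨Fin.castAdd n i, by simp⟩
  have hyI : ∀ j, y j ∈ I := fun j => Ideal.subset_span ⟨Fin.natAdd m j, by simp⟩
  have hIJ : I.map π = J := by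
    rw [hI, hJ, Ideal.map_span]
    apply le_antisymm
    · rw [Ideal.span_le]
      rintro _ ⟨_, ⟨k, rfl⟩, rfl⟩
      induction k using Fin.addCases with
      | left i => rw [Fin.append_left]; exact Ideal.subset_span ⟨i, rfl⟩
      | right j => rw [Fin.append_right, hy]; exact zero_mem _
    · rw [Ideal.span_le]
      rintro _ ⟨i, rfl⟩
      exact Ideal.subset_span ⟨t i, ⟨Fin.castAdd n i, by simp⟩, rfl⟩
  have hsJ : J.map s ≤ I := by
    rw [hJ, Ideal.map_span, Ideal.span_le]
    rintro _ ⟨_, ⟨i, rfl⟩, rfl⟩
    have : s ((π ∘ t) i) = t i - ∑ j, q i j * y j := by rw [hq]; simp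
    rw [this]
    exact I.sub_mem (htI i) (I.sum_mem fun j _ => I.mul_mem_left _ (hyI j))
  -- the substituted polynomial
  let g : Fin m → MvPolynomial (Fin (m + n)) R :=
    fun i => X (Fin.castAdd n i) - ∑ j, C (q i j) * X (Fin.natAdd m j)
  have hg : ∀ i, (g i).IsHomogeneous 1 := by
    intro i
    refine IsHomogeneous.sub (isHomogeneous_X _ _) ?_
    exact IsHomogeneous.sum _ _ _ (fun j _ => isHomogeneous_C_mul_X _ _)
  let G : MvPolynomial (Fin (m + n)) R := aeval g (map s F)
  have hGhom : G.IsHomogeneous d := by
    have := (hF.map s).aeval g hg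
    rwa [one_mul] at this
  have hGev : eval (Fin.append t y) G ∈ I ^ (d + 1) := by
    have h1 : eval (Fin.append t y) G = s (eval (π ∘ t) F) := by
      have e1 : eval (Fin.append t y) G =
          aeval (fun i => aeval (Fin.append t y) (g i)) (map s F) := by
        change aeval (Fin.append t y) (aeval g (map s F)) = _
        rw [← bind₁, aeval_bind₁]
      rw [e1]
      have e2 : (fun i => aeval (Fin.append t y) (g i)) = s ∘ (π ∘ t) := by
        funext i
        simp only [g, map_sub, aeval_X, Fin.append_left, map_sum, map_mul, aeval_C,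
          Fin.append_right, Function.comp_apply, Algebra.algebraMap_self, RingHom.id_apply]
        rw [hq]; ring
      rw [e2, aeval_def, eval₂_map, Algebra.algebraMap_self, RingHom.id_comp]
      have e3 : s (eval (π ∘ t) F) = eval₂ (s.comp (RingHom.id R')) (s ∘ (π ∘ t)) F :=
        eval₂_comp_left s (RingHom.id R') (π ∘ t) F
      rw [e3, RingHom.comp_id]
    rw [h1]
    have h2 : s (eval (π ∘ t) F) ∈ (J ^ (d + 1)).map s := Ideal.mem_map_of_mem _ hev
    rw [Ideal.map_pow] at h2
    exact Ideal.pow_right_mono hsJ _ h2
  have hcoef := h d G hGhom hGev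
  -- push forward along `Θ`
  let Θ : MvPolynomial (Fin (m + n)) R →+* MvPolynomial (Fin m) R' :=
    eval₂Hom ((C : R' →+* MvPolynomial (Fin m) R').comp π)
      (Fin.append (fun i => (X i : MvPolynomial (Fin m) R')) (fun _ => 0))
  have hΘG : Θ G = F := by
    change eval₂Hom _ _ (bind₁ g (map s F)) = F
    rw [eval₂Hom_bind₁]
    have e1 : (fun i => eval₂Hom ((C : R' →+* MvPolynomial (Fin m) R').comp π)
        (Fin.append (fun i => (X i : MvPolynomial (Fin m) R')) (fun _ => 0)) (g i)) =
        fun i => (X i : MvPolynomial (Fin m) R') := by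
      funext i
      simp only [g, map_sub, eval₂Hom_X', Fin.append_left, map_sum, map_mul, Fin.append_right,
        mul_zero, Finset.sum_const_zero, sub_zero]
    rw [e1]
    change eval₂ _ _ (map s F) = F
    rw [eval₂_map]
    have e2 : ((C : R' →+* MvPolynomial (Fin m) R').comp π).comp s = C := by
      ext r
      simp [hs]
    rw [e2, eval₂_eta]
  have hGmem : G ∈ Ideal.map (C : R →+* MvPolynomial (Fin (m + n)) R) I :=
    mem_map_C_iff.2 hcoef
  have hΘC : Θ.comp (C : R →+* MvPolynomial (Fin (m + n)) R) =
      (C : R' →+* MvPolynomial (Fin m) R').comp π := by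
    ext r
    simp [Θ]
  have hFmem : F ∈ Ideal.map (C : R' →+* MvPolynomial (Fin m) R') J := by
    rw [← hΘG, ← hIJ, Ideal.map_map, ← hΘC, ← Ideal.map_map]
    exact Ideal.mem_map_of_mem _ hGmem
  exact mem_map_C_iff.1 hFmem α

end Fn


section Lists

variable {R R' : Type u} [CommRing R] [CommRing R']

lemma h1_cast_iff {c c' : ℕ} (h : c' = c) (f : Fin c → R) :
    CAlgX.IsH1Regular (f ∘ Fin.cast h) ↔ CAlgX.IsH1Regular f := by
  subst h
  exact Iff.rfl

lemma quasi_cast_iff {c c' : ℕ} (h : c' = c) (f : Fin c → R) :
    CAlgX.IsQuasiRegular (f ∘ Fin.cast h) ↔ CAlgX.IsQuasiRegular f := by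
  subst h
  exact Iff.rfl

lemma seq_h1_ofFn {c : ℕ} (f : Fin c → R) :
    RegImm.Kind.Seq .h1 R (List.ofFn f) ↔ CAlgX.IsH1Regular f := by
  change CAlgX.IsH1Regular (List.ofFn f).get ↔ _
  rw [get_ofFn_eq]
  exact h1_cast_iff _ f

lemma seq_quasi_ofFn {c : ℕ} (f : Fin c → R) :
    RegImm.Kind.Seq .quasi R (List.ofFn f) ↔ CAlgX.IsQuasiRegular f := by
  change CAlgX.IsQuasiRegular (List.ofFn f).get ↔ _
  rw [get_ofFn_eq]
  exact quasi_cast_iff _ f

/-- **cancellation along a retraction** for the kinds `h1` and `quasi` -/
theorem kind_cancel (k : RegImm.Kind) (hk : k = .h1 ∨ k = .quasi) (π : R →+* R') (s : R' →+* R)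
    (hs : ∀ x, π (s x) = x) (ts ys : List R) (hker : RingHom.ker π = Ideal.ofList ys)
    (h : k.Seq R (ts ++ ys)) : k.Seq R' (ts.map π) := by
  have e1 : ts ++ ys = List.ofFn (Fin.append ts.get ys.get) := by
    rw [List.ofFn_fin_append, List.ofFn_get, List.ofFn_get]
  have e2 : ts.map π = List.ofFn (π ∘ ts.get) := by
    rw [← List.map_ofFn, List.ofFn_get]
  have hker' : RingHom.ker π = Ideal.span (Set.range ys.get) := by
    rw [hker, ofList_eq_span_range_get]
  rw [e1] at h
  rw [e2]
  rcases hk with rfl | rfl
  · exact (seq_h1_ofFn _).2 (h1_cancel _ _ π s hs hker' ((seq_h1_ofFn _).1 h))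
  · exact (seq_quasi_ofFn _).2 (quasi_cancel _ _ π s hs hker' ((seq_quasi_ofFn _).1 h))

/-- **change of generators** (same length, same ideal) for the kinds `h1` and `quasi`, up to
inverting some `d ≡ 1` -/
theorem kind_same_length (k : RegImm.Kind) (hk : k = .h1 ∨ k = .quasi) (l l' : List R)
    (hlen : l'.length = l.length) (hI : Ideal.ofList l' = Ideal.ofList l) (h : k.Seq R l) :
    ∃ d : R, d - 1 ∈ Ideal.ofList l ∧ ∀ (D : Type u) [CommRing D] (ψ : R →+* D), ψ.Flat →
      IsUnit (ψ d) → k.Seq D (l'.map ψ) := by
  have hspan : Ideal.span (Set.range (l'.get ∘ Fin.cast hlen.symm)) = Ideal.span (Set.range l.get) := by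
    rw [← ofList_eq_span_range_get, ← hI, ofList_eq_span_range_get]
    congr 1
    ext x
    constructor
    · rintro ⟨i, rfl⟩; exact ⟨Fin.cast hlen.symm i, rfl⟩
    · rintro ⟨i, rfl⟩; exact ⟨Fin.cast hlen i, by simp⟩
  have hquasi : CAlgX.IsQuasiRegular l.get → CAlgX.IsQuasiRegular l'.get := by
    intro hq
    have := Groth.Agent.S3824.result l.get (l'.get ∘ Fin.cast hlen.symm) hq hspan
    exact (quasi_cast_iff _ _).1 this
  rcases hk with rfl | rfl
  · have hq' : CAlgX.IsQuasiRegular l'.get := hquasi (Groth.Agent.S2103.result _ h)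
    have hspan' : Ideal.span (Set.range l'.get) = Ideal.span (Set.range l.get) := by
      rw [← ofList_eq_span_range_get, ← ofList_eq_span_range_get, hI]
    obtain ⟨d, hd, hD⟩ := exists_det l'.get l.get hq' h hspan'
    refine ⟨d, ?_, ?_⟩
    · rw [← hI, ofList_eq_span_range_get]; exact hd
    · intro D _ ψ hψ hu
      change CAlgX.IsH1Regular (l'.map ψ).get
      rw [get_map_eq]
      exact h1_cast _ _ (hD D ψ hψ hu)
  · refine ⟨1, by simp, ?_⟩
    intro D _ ψ hψ _
    exact kindSeq_of_flat' .quasi (by decide) ψ hψ l' (hquasi h)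

end Lists

end Groth.Agent.Lib.Helper43.KindCancel
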