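import Mathlib
import Groth.Agent.Lib.Helper43.KindCancel
import Groth.Agent.Lib.Helper43.KRPoly

set_option autoImplicit false
set_option linter.style.haveILetI false
universe u

namespace Groth.Agent.Lib.Helper43.KindChart

open Groth.Agent.Lib.Helper43.SeqFlatBC Groth.Agent.Lib.Helper43.KindIdeal
open Groth.Agent.Lib.Helper43.KindImmDescent Groth.Agent.Lib.Helper43.KindCancel
open Groth.Agent.Lib.Helper43.KRIdeal Groth.Agent.Lib.Helper43.H1Descent

section SameLength

variable {R : Type u} [CommRing R]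

/-- `H₁`-regularity does not depend on the generators (same length, same ideal) -/
theorem h1_same_length {c : ℕ} (f f' : Fin c → R) (hf : CAlgX.IsH1Regular f)
    (hspan : Ideal.span (Set.range f') = Ideal.span (Set.range f)) : CAlgX.IsH1Regular f' := by
  have hq' : CAlgX.IsQuasiRegular f' :=
    Groth.Agent.S3824.result f f' (Groth.Agent.S2103.result f hf) hspan
  obtain ⟨d, hd, hD⟩ := exists_det f' f hq' hf hspan
  apply h1_of_family
  intro 𝔪 h𝔪 hle
  have hd𝔪 : d ∉ 𝔪 := by
    intro hcon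
    apply h𝔪.ne_top
    rw [Ideal.eq_top_iff_one]
    have : (1 : R) = d - (d - 1) := by ring
    rw [this]
    exact 𝔪.sub_mem hcon (hle hd)
  refine ⟨Localization.Away d, inferInstance, algebraMap R (Localization.Away d),
    RingHom.flat_algebraMap_iff.2 (IsLocalization.flat _ (Submonoid.powers d)), ?_,
    hD _ _ (RingHom.flat_algebraMap_iff.2 (IsLocalization.flat _ (Submonoid.powers d)))
      (IsLocalization.Away.algebraMap_isUnit d)⟩
  haveI := h𝔪.isPrime
  have hdisj : Disjoint (Submonoid.powers d : Set R) (𝔪 : Set R) := by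
    rw [Set.disjoint_left]
    rintro x ⟨n, rfl⟩ hx
    exact hd𝔪 (h𝔪.isPrime.mem_of_pow_mem _ hx)
  exact (IsLocalization.isPrime_of_isPrime_disjoint (Submonoid.powers d) _ _ h𝔪.isPrime hdisj).ne_top

/-- change of generators for the kinds `h1`, `quasi` -/
theorem kind_same_length' (k : RegImm.Kind) (hk : k = .h1 ∨ k = .quasi) (l l' : List R)
    (hlen : l'.length = l.length) (hI : Ideal.ofList l' = Ideal.ofList l) (h : k.Seq R l) :
    k.Seq R l' := by
  have hspan : Ideal.span (Set.range (l'.get ∘ Fin.cast hlen.symm)) =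
      Ideal.span (Set.range l.get) := by
    rw [← ofList_eq_span_range_get, ← hI, ofList_eq_span_range_get]
    congr 1
    ext x
    constructor
    · rintro ⟨i, rfl⟩; exact ⟨Fin.cast hlen.symm i, rfl⟩
    · rintro ⟨i, rfl⟩; exact ⟨Fin.cast hlen i, by simp⟩
  rcases hk with rfl | rfl
  · exact (h1_cast_iff _ _).1 (h1_same_length l.get _ h hspan)
  · exact (quasi_cast_iff _ _).1 (Groth.Agent.S3824.result l.get _ h hspan)

end SameLength

section Chart

variable {P : Type u} [CommRing P]

/-- `l ⊆ K` generates `K` up to powers of `g`, and `l` is a sequence of kind `k` in `P_g` -/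
structure KChart (k : RegImm.Kind) (K : Ideal P) (g : P) (l : List P) : Prop where
  sub : ∀ x ∈ l, x ∈ K
  gen : ∀ x ∈ K, ∃ u : ℕ, g ^ u * x ∈ Ideal.ofList l
  seq : k.Seq (Localization.Away g) (l.map (algebraMap P (Localization.Away g)))

variable {k : RegImm.Kind} {K : Ideal P} {g : P} {l : List P}

lemma ne_regular (hk : k = .h1 ∨ k = .quasi) : k ≠ .regular := by
  rcases hk with rfl | rfl <;> decide

lemma KChart.seq_flat (hk : k = .h1 ∨ k = .quasi) (c : KChart k K g l) (S : Type u) [CommRing S]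
    [Algebra P S] [Module.Flat P S]
    (hu : IsUnit (algebraMap P S g)) : k.Seq S (l.map (algebraMap P S)) := by
  let φ : Localization.Away g →+* S := IsLocalization.Away.lift g hu
  have hφ : ∀ a, φ (algebraMap P _ a) = algebraMap P S a :=
    fun a => IsLocalization.Away.lift_eq g hu a
  have h1 := kindSeq_of_flat' k (ne_regular hk) φ
    (flat_of_isLocalization (Submonoid.powers g) φ hφ) _ c.seq
  rw [List.map_map] at h1
  have h2 : (⇑φ ∘ ⇑(algebraMap P (Localization.Away g))) = ⇑(algebraMap P S) := funext hφ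
  rwa [h2] at h1

lemma KChart.map_eq (c : KChart k K g l) (S : Type u) [CommRing S] [Algebra P S]
    (hu : IsUnit (algebraMap P S g)) :
    K.map (algebraMap P S) = Ideal.ofList (l.map (algebraMap P S)) := by
  rw [← Ideal.map_ofList]
  apply le_antisymm
  · exact map_le_of_gen c.gen S hu
  · apply Ideal.map_mono
    rw [Ideal.span_le]
    exact c.sub

/-- the local notion gives charts -/
lemma KChart.of_loc (hk : k = .h1 ∨ k = .quasi) (K : Ideal P) (g : P) (T : Type u) [CommRing T]
    [Algebra P T] [IsLocalization.Away g T] (lT : List T) (hseq : k.Seq T lT)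
    (hgen : K.map (algebraMap P T) = Ideal.ofList lT) :
    ∃ l : List P, l.length = lT.length ∧ KChart k K g l := by
  classical
  have key : ∀ y ∈ lT, ∃ x : P, x ∈ K ∧ ∃ v : T, IsUnit v ∧ algebraMap P T x = y * v := by
    intro y hy
    have h1 : y ∈ K.map (algebraMap P T) := by
      rw [hgen]; exact Ideal.subset_span hy
    rw [IsLocalization.mem_map_algebraMap_iff (Submonoid.powers g)] at h1
    obtain ⟨⟨x, s⟩, hxs⟩ := h1
    exact ⟨x.1, x.2, algebraMap P T s.1, IsLocalization.map_units T s, hxs.symm⟩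
  let c : T → P := fun y => if hy : y ∈ lT then (key y hy).choose else 0
  have hc : ∀ y ∈ lT, c y ∈ K ∧ ∃ v : T, IsUnit v ∧ algebraMap P T (c y) = y * v := by
    intro y hy
    simp only [c, dif_pos hy]
    exact (key y hy).choose_spec
  have hI : Ideal.ofList lT = Ideal.ofList ((lT.map c).map (algebraMap P T)) := by
    apply le_antisymm
    · rw [Ideal.span_le]
      intro y hy
      obtain ⟨-, v, hv, hyv⟩ := hc y hy
      have h2 : algebraMap P T (c y) ∈ Ideal.ofList ((lT.map c).map (algebraMap P T)) :=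
        Ideal.subset_span (List.mem_map.2 ⟨c y, List.mem_map.2 ⟨y, hy, rfl⟩, rfl⟩)
      rw [hyv, mul_comm] at h2
      exact (Ideal.unit_mul_mem_iff_mem _ hv).1 h2
    · rw [Ideal.span_le]
      intro z hz
      obtain ⟨x, hx, rfl⟩ := List.mem_map.1 hz
      obtain ⟨y, hy, rfl⟩ := List.mem_map.1 hx
      obtain ⟨-, v, hv, hyv⟩ := hc y hy
      change algebraMap P T (c y) ∈ Ideal.ofList lT
      rw [hyv]
      exact Ideal.mul_mem_right _ _ (Ideal.subset_span hy)
  have hseq2 : k.Seq T ((lT.map c).map (algebraMap P T)) :=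
    kind_same_length' k hk lT _ (by simp) hI.symm hseq
  refine ⟨lT.map c, by simp, ⟨?_, ?_, ?_⟩⟩
  · intro x hx
    obtain ⟨y, hy, rfl⟩ := List.mem_map.1 hx
    exact (hc y hy).1
  · apply gen_of_map_le g T
    rw [hgen, hI, Ideal.map_ofList]
  · let e : T ≃ₐ[P] Localization.Away g :=
      IsLocalization.algEquiv (Submonoid.powers g) T (Localization.Away g)
    have h3 := kindSeq_of_flat' k (ne_regular hk) e.toRingEquiv.toRingHom
      (RingHom.Flat.of_bijective e.bijective) _ hseq2
    rw [List.map_map] at h3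
    have h4 : (⇑e.toRingEquiv.toRingHom ∘ ⇑(algebraMap P T)) =
        ⇑(algebraMap P (Localization.Away g)) :=
      funext (fun a => e.commutes a)
    rwa [h4] at h3

/-- charts at all primes give the local notion -/
lemma isLocallyKind_of_kcharts (K : Ideal P)
    (h : ∀ (𝔭 : Ideal P) [𝔭.IsPrime], K ≤ 𝔭 → ∃ g : P, g ∉ 𝔭 ∧ ∃ l, KChart k K g l) :
    IsLocallyKind k K := by
  intro 𝔭 _ h𝔭
  obtain ⟨g, hg, l, c⟩ := h 𝔭 h𝔭
  exact ⟨g, hg, l.map (algebraMap P (Localization.Away g)), c.seq,
    (c.map_eq _ (IsLocalization.Away.algebraMap_isUnit g)).symm⟩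

lemma exists_kchart (hk : k = .h1 ∨ k = .quasi) {K : Ideal P} (h : IsLocallyKind k K)
    (𝔭 : Ideal P) [𝔭.IsPrime]
    (h𝔭 : K ≤ 𝔭) : ∃ g : P, g ∉ 𝔭 ∧ ∃ l, KChart k K g l := by
  obtain ⟨g, hg, lT, hseq, hgen⟩ := h 𝔭 h𝔭
  obtain ⟨l, -, c⟩ := KChart.of_loc hk K g (Localization.Away g) lT hseq hgen.symm
  exact ⟨g, hg, l, c⟩

lemma KChart.mul (hk : k = .h1 ∨ k = .quasi) (c : KChart k K g l) (t : P) :
    KChart k K (g * t) l := by
  refine ⟨c.sub, ?_, ?_⟩
  · intro x hx
    obtain ⟨u, hu⟩ := c.gen x hx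
    refine ⟨u, ?_⟩
    have : (g * t) ^ u * x = t ^ u * (g ^ u * x) := by ring
    rw [this]
    exact Ideal.mul_mem_left _ _ hu
  · apply c.seq_flat hk
    have h1 : IsUnit (algebraMap P (Localization.Away (g * t)) (g * t)) :=
      IsLocalization.Away.algebraMap_isUnit (g * t)
    rw [map_mul] at h1
    exact isUnit_of_mul_isUnit_left h1

/-- replace the generators by another family of the same length -/
lemma KChart.of_same_length (hk : k = .h1 ∨ k = .quasi) (c : KChart k K g l) (l' : List P)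
    (hlen : l'.length = l.length)
    (hsub : ∀ x ∈ l', x ∈ K) (hgen : ∀ x ∈ K, ∃ u : ℕ, g ^ u * x ∈ Ideal.ofList l') :
    KChart k K g l' := by
  refine ⟨hsub, hgen, ?_⟩
  have hu := IsLocalization.Away.algebraMap_isUnit (S := Localization.Away g) g
  apply kind_same_length' k hk _ _ (by simp [hlen]) ?_ c.seq
  rw [← c.map_eq _ hu, ← Ideal.map_ofList]
  apply le_antisymm
  · apply Ideal.map_mono
    rw [Ideal.span_le]
    exact hsub
  · exact map_le_of_gen hgen _ hu

end Chart

section Maps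

variable {P : Type u} [CommRing P] {k : RegImm.Kind}

/-- **flat base change** of ideals locally generated by a sequence of kind `k` -/
theorem isLocallyKind_map_of_flat (hk : k = .h1 ∨ k = .quasi) {P' : Type u} [CommRing P']
    (φ : P →+* P') (hφ : φ.Flat) (K : Ideal P) (h : IsLocallyKind k K) :
    IsLocallyKind k (K.map φ) := by
  apply isLocallyKind_of_kcharts
  intro 𝔓 _ h𝔓
  obtain ⟨g, hg, l, c⟩ := exists_kchart hk h (𝔓.comap φ)
    (by rw [Ideal.map_le_iff_le_comap] at h𝔓; exact h𝔓)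
  refine ⟨φ g, hg, l.map φ, ?_, ?_, ?_⟩
  · intro x hx
    obtain ⟨y, hy, rfl⟩ := List.mem_map.1 hx
    exact Ideal.mem_map_of_mem _ (c.sub y hy)
  · have h1 : K ≤ sat g (Ideal.ofList l) := c.gen
    have h2 := (Ideal.map_mono (f := φ) h1).trans (map_sat_le φ g _)
    rw [Ideal.map_ofList] at h2
    exact h2
  · let ψ : P →+* Localization.Away (φ g) := (algebraMap P' (Localization.Away (φ g))).comp φ
    have hψ : ψ.Flat := hφ.comp (RingHom.flat_algebraMap_iff.2 (IsLocalization.flat _
      (Submonoid.powers (φ g))))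
    letI := ψ.toAlgebra
    haveI : Module.Flat P (Localization.Away (φ g)) := hψ
    have h1 := c.seq_flat hk (Localization.Away (φ g))
      (IsLocalization.Away.algebraMap_isUnit (φ g))
    rw [List.map_map]
    exact h1

/-- charts of `K A_G` give charts of `K` at primes not containing `G` -/
theorem exists_kchart_of_away (hk : k = .h1 ∨ k = .quasi) (K : Ideal P) (G : P)
    (hK : IsLocallyKind k (K.map (algebraMap P (Localization.Away G))))
    (𝔮 : Ideal P) [h𝔮 : 𝔮.IsPrime] (hG : G ∉ 𝔮) (hle : K ≤ 𝔮) :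
    ∃ g : P, g ∉ 𝔮 ∧ ∃ l, KChart k K g l := by
  have hdisj : Disjoint (Submonoid.powers G : Set P) (𝔮 : Set P) := by
    rw [Set.disjoint_left]
    rintro x ⟨n, rfl⟩ hx
    exact hG (h𝔮.mem_of_pow_mem _ hx)
  have hprime : (𝔮.map (algebraMap P (Localization.Away G))).IsPrime :=
    IsLocalization.isPrime_of_isPrime_disjoint (Submonoid.powers G) _ _ h𝔮 hdisj
  obtain ⟨g'', hg'', lT, hseq, hgen⟩ := hK (𝔮.map (algebraMap P (Localization.Away G)))
    (Ideal.map_mono hle)
  obtain ⟨n, a, ha⟩ := IsLocalization.Away.surj G g''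
  have hunit : IsUnit (algebraMap P (Localization.Away G) G ^ n) :=
    (IsLocalization.Away.algebraMap_isUnit G).pow n
  have hassoc : Associated (algebraMap P (Localization.Away G) a) g'' := by
    obtain ⟨v, hv⟩ := hunit
    exact ⟨v⁻¹, by rw [← ha, ← hv, mul_assoc, Units.mul_inv, mul_one]⟩
  have haq : a ∉ 𝔮 := by
    intro hh
    apply hg''
    have h1 : algebraMap P (Localization.Away G) a ∈ 𝔮.map (algebraMap P (Localization.Away G)) :=
      Ideal.mem_map_of_mem _ hh
    rw [← ha] at h1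
    exact (hprime.mem_or_mem h1).resolve_right (fun h2 => hprime.ne_top
      (Ideal.eq_top_of_isUnit_mem _ h2 hunit))
  haveI : IsLocalization.Away (G * a) (Localization.Away g'') :=
    IsLocalization.Away.mul_of_associated G a g'' hassoc
  have hgen' : K.map (algebraMap P (Localization.Away g'')) = Ideal.ofList lT := by
    refine Eq.trans ?_ hgen.symm
    rw [Ideal.map_map, ← IsScalarTower.algebraMap_eq]
  obtain ⟨l, -, c⟩ := KChart.of_loc hk K (G * a) (Localization.Away g'') lT hseq hgen'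
  exact ⟨G * a, fun hh => (h𝔮.mem_or_mem hh).elim hG haq, l, c⟩

theorem isLocallyKind_of_away (hk : k = .h1 ∨ k = .quasi) (K : Ideal P)
    (h : ∀ (𝔮 : Ideal P) [𝔮.IsPrime], K ≤ 𝔮 → ∃ G : P, G ∉ 𝔮 ∧
      IsLocallyKind k (K.map (algebraMap P (Localization.Away G)))) : IsLocallyKind k K := by
  apply isLocallyKind_of_kcharts
  intro 𝔮 _ h𝔮
  obtain ⟨G, hG, hK⟩ := h 𝔮 h𝔮
  exact exists_kchart_of_away hk K G hK 𝔮 hG h𝔮

end Maps

section Cancel

variable {P P₂ : Type u} [CommRing P] [CommRing P₂] {k : RegImm.Kind}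

/-- **Cancellation**: `ρ : P → P₂` with a section `σ` and kernel generated by `h`, `K ⊇ ker ρ`
locally generated by a sequence of kind `k` such that `h` is independent modulo `𝔭 K` at all
primes `𝔭 ⊇ K`. Then `ρ(K)` is locally generated by a sequence of kind `k`. -/
theorem isLocallyKind_map (hk : k = .h1 ∨ k = .quasi) (ρ : P →+* P₂) (σ : P₂ →+* P)
    (hσ : ∀ x, ρ (σ x) = x) (h : List P)
    (hker : RingHom.ker ρ = Ideal.ofList h) (K : Ideal P)
    (hK : IsLocallyKind k K) (hle : RingHom.ker ρ ≤ K)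
    (hind : ∀ 𝔭 : Ideal P, 𝔭.IsPrime → K ≤ 𝔭 → ∀ (h₁ : List P) (a : P) (h₂ : List P),
      h = h₁ ++ a :: h₂ → ∀ s : P, s ∉ 𝔭 → ∀ z ∈ Ideal.ofList h₁, s * a - z ∉ 𝔭 * K) :
    IsLocallyKind k (K.map ρ) := by
  have hρ : Function.Surjective ρ := fun x => ⟨σ x, hσ x⟩
  apply isLocallyKind_of_kcharts
  intro 𝔭₂ _ h𝔭₂
  set 𝔭 : Ideal P := 𝔭₂.comap ρ with h𝔭def
  haveI : 𝔭.IsPrime := Ideal.comap_isPrime ρ 𝔭₂
  have h𝔭 : K ≤ 𝔭 := by rw [Ideal.map_le_iff_le_comap] at h𝔭₂; exact h𝔭₂
  have hsub : ∀ x ∈ h, x ∈ K := fun x hx => hle (by rw [hker]; exact Ideal.subset_span hx)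
  obtain ⟨g₀, hg₀, l, c⟩ := exists_kchart hk hK 𝔭 h𝔭
  obtain ⟨t, ht, w, hwK, hlen, hgen⟩ := exchange K 𝔭 l.length h
    (hind 𝔭 inferInstance h𝔭) hsub h [] rfl g₀ hg₀ l c.sub (by simp)
    (by rw [List.nil_append]; exact c.gen)
  have hgen' : K ≤ sat (g₀ * t) (Ideal.ofList (w ++ h)) := by
    rwa [Ideal.ofList_append, sup_comm, ← Ideal.ofList_append]
  have c' : KChart k K (g₀ * t) (w ++ h) := ((c.mul hk t)).of_same_length hk (w ++ h)
    (by rw [List.length_append]; exact hlen)
    (fun x hx => (List.mem_append.1 hx).elim (hwK x) (hsub x)) hgen'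
  -- shrink so that the section extends
  set g : P := g₀ * t * σ (ρ (g₀ * t)) with hgdef
  have c'' : KChart k K g (w ++ h) := c'.mul hk _
  have hg𝔭 : g ∉ 𝔭 := by
    have h1 : g₀ * t ∉ 𝔭 := fun hh => (Ideal.IsPrime.mem_or_mem inferInstance hh).elim hg₀ ht
    intro hh
    rcases Ideal.IsPrime.mem_or_mem inferInstance hh with h2 | h2
    · exact h1 h2
    · apply h1
      change ρ (σ (ρ (g₀ * t))) ∈ 𝔭₂ at h2
      rw [hσ] at h2
      exact h2
  have hmapbot : Ideal.ofList (h.map ρ) = ⊥ := by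
    rw [← Ideal.map_ofList, ← hker, Ideal.map_eq_bot_iff_le_ker]
  refine ⟨ρ g, hg𝔭, w.map ρ, ?_, ?_, ?_⟩
  · intro x hx
    obtain ⟨y, hy, rfl⟩ := List.mem_map.1 hx
    exact Ideal.mem_map_of_mem _ (hwK y hy)
  · have h1 : K ≤ sat g (Ideal.ofList (w ++ h)) := c''.gen
    have h2 := (Ideal.map_mono (f := ρ) h1).trans (map_sat_le ρ _ _)
    rw [Ideal.map_ofList, List.map_append, Ideal.ofList_append, hmapbot, sup_bot_eq] at h2
    exact h2
  · obtain ⟨π, hπ, hkerπ, hcomm⟩ := awayMap_props ρ hρ g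
    set S := Localization.Away g
    set B := Localization.Away (ρ g)
    -- the section of `π`
    have hu : IsUnit (((algebraMap P S).comp σ) (ρ g)) := by
      have h1 : IsUnit (algebraMap P S g) := IsLocalization.Away.algebraMap_isUnit g
      have h2 : ρ g = ρ (g₀ * t) * ρ (g₀ * t) := by
        rw [hgdef, map_mul, hσ]
      have h3 : IsUnit (algebraMap P S (σ (ρ (g₀ * t)))) := by
        have h1' : IsUnit (algebraMap P S (g₀ * t) * algebraMap P S (σ (ρ (g₀ * t)))) := by
          rw [← map_mul]; exact h1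
        exact isUnit_of_mul_isUnit_right h1'
      rw [RingHom.comp_apply, h2, map_mul, map_mul]
      exact h3.mul h3
    let s : B →+* S := IsLocalization.Away.lift (ρ g) hu
    have hs0 : ∀ y : P₂, s (algebraMap P₂ B y) = algebraMap P S (σ y) :=
      fun y => IsLocalization.Away.lift_eq (ρ g) hu y
    have hs : ∀ x, π (s x) = x := by
      have : (π.comp s) = RingHom.id B := by
        apply IsLocalization.ringHom_ext (Submonoid.powers (ρ g))
        ext y
        rw [RingHom.comp_apply, RingHom.comp_apply, hs0, hcomm, hσ]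
        rfl
      intro x
      exact RingHom.congr_fun this x
    have hker' : RingHom.ker π = Ideal.ofList (h.map (algebraMap P S)) := by
      rw [hkerπ, hker, Ideal.map_ofList]
    have hts : k.Seq S (w.map (algebraMap P S) ++ h.map (algebraMap P S)) := by
      rw [← List.map_append]
      exact c''.seq
    have := kind_cancel k hk π s hs _ _ hker' hts
    rw [List.map_map] at this ⊢
    have e : (⇑π ∘ ⇑(algebraMap P S)) = (⇑(algebraMap P₂ B) ∘ ⇑ρ) := funext hcomm
    rwa [e] at this

end Cancel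

end Groth.Agent.Lib.Helper43.KindChart
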