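import Mathlib
import Groth.Agent.Lib.Helper43.KindChart
import Groth.Agent.Lib.Helper43.KREtale

set_option autoImplicit false
set_option linter.style.haveILetI false
universe u

namespace Groth.Agent.Lib.Helper43.KindSmooth

open Groth.Agent.Lib.Helper43.SeqFlatBC Groth.Agent.Lib.Helper43.KindIdeal
open Groth.Agent.Lib.Helper43.KindImmDescent Groth.Agent.Lib.Helper43.KindCancel
open Groth.Agent.Lib.Helper43.KRIdeal Groth.Agent.Lib.Helper43.KindChart
open Groth.Agent.Lib.Helper43.KREtale Groth.Agent.Lib.Helper43.KRPoly

variable {k : RegImm.Kind}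

/-- faithfully flat descent of ideals locally generated by a sequence of kind `k` -/
theorem isLocallyKind_of_faithfullyFlat (hk : k = .h1 ∨ k = .quasi) (A B : Type u) [CommRing A]
    [CommRing B] [Algebra A B] [Module.FaithfullyFlat A B] (I : Ideal A)
    (h : IsLocallyKind k (I.map (algebraMap A B))) : IsLocallyKind k I := by
  rcases hk with rfl | rfl
  · exact (isLocallyKind_h1_iff _).2
      (isLocallyH1_of_faithfullyFlat A B I ((isLocallyKind_h1_iff _).1 h))
  · exact (isLocallyKind_quasi_iff _).2
      (Groth.Agent.S9252.result A B I ((isLocallyKind_quasi_iff _).1 h))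

section Pres

variable {A C : Type u} [CommRing A] [CommRing C] [Algebra A C]

open MvPolynomial in
/-- polynomial presentations: the kernel of a surjection `A → C` is locally generated by a
sequence of kind `k` as soon as the kernel of some presentation `A[x] → C` is -/
theorem isLocallyKind_ker_of_presentation (hk : k = .h1 ∨ k = .quasi)
    (hC : Function.Surjective (algebraMap A C)) (n : ℕ) (α : MvPolynomial (Fin n) A →ₐ[A] C)
    (h : IsLocallyKind k (RingHom.ker α.toRingHom)) :
    IsLocallyKind k (RingHom.ker (algebraMap A C)) := by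
  classical
  choose c hc using fun j : Fin n => hC (α (X j))
  let ρ : MvPolynomial (Fin n) A →+* A := MvPolynomial.eval c
  have hρ : Function.Surjective ρ := fun a => ⟨MvPolynomial.C a, eval_C _⟩
  have hαρ : ∀ p, α p = algebraMap A C (ρ p) := by
    intro p
    induction p using MvPolynomial.induction_on with
    | C a => simp [ρ]
    | add p q hp hq => simp only [map_add, hp, hq]
    | mul_X p j hp => simp only [map_mul, hp, ρ, eval_X, hc]
  have hK : RingHom.ker α.toRingHom = (RingHom.ker (algebraMap A C)).comap ρ := by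
    ext p
    rw [RingHom.mem_ker, Ideal.mem_comap, RingHom.mem_ker]
    change α p = 0 ↔ _
    rw [hαρ]
  have hle : RingHom.ker ρ ≤ RingHom.ker α.toRingHom := by
    rw [hK]
    exact Ideal.comap_mono bot_le
  have h3 := isLocallyKind_map hk ρ MvPolynomial.C (fun x => eval_C x) _ (ker_eval_eq c) _ h hle
    (fun 𝔭 h𝔭 hK𝔭 => ind_X_sub_C c _ (by rw [← ker_eval_eq]; exact hle) 𝔭 h𝔭 hK𝔭)
  rwa [hK, Ideal.map_comap_of_surjective ρ hρ] at h3

end Pres

section Etale

variable {P B : Type u} [CommRing P] [CommRing B] [Algebra P B] [Algebra.Etale P B]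

/-- étale invariance, going down -/
theorem isLocallyKind_comap_of_etale (hk : k = .h1 ∨ k = .quasi) (I : Ideal B)
    (hsurj : ∀ b : B, ∃ a : P, b - algebraMap P B a ∈ I)
    (hKR : IsLocallyKind k I) : IsLocallyKind k (I.comap (algebraMap P B)) := by
  classical
  set It : Ideal P := I.comap (algebraMap P B) with hIt
  set K₀ : Ideal B := It.map (algebraMap P B) with hK₀
  have hK₀I : K₀ ≤ I := Ideal.map_comap_le
  obtain ⟨h, hh1, hh2⟩ := exists_mul_mem I hsurj
  apply isLocallyKind_of_kcharts
  intro 𝔭i h𝔭prime h𝔭
  let 𝔭 : PrimeSpectrum P := ⟨𝔭i, h𝔭prime⟩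
  obtain ⟨𝔮, h𝔮prime, hI𝔮, h𝔮𝔭⟩ := exists_prime_over I hsurj 𝔭.asIdeal h𝔭
  have hh𝔮 : h ∉ 𝔮 := by
    intro hcon
    apply h𝔮prime.ne_top
    rw [Ideal.eq_top_iff_one]
    have : (1 : B) = h - (h - 1) := by ring
    rw [this]
    exact Ideal.sub_mem _ hcon (hI𝔮 hh1)
  haveI : Module.Flat P B := inferInstance
  haveI : Module.Flat B (Localization.Away h) := IsLocalization.flat _ (Submonoid.powers h)
  haveI : Module.Flat P (Localization.Away h) := Module.Flat.trans P B _
  haveI : Algebra.FinitePresentation B (Localization.Away h) :=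
    IsLocalization.Away.finitePresentation h
  haveI : Algebra.FinitePresentation P (Localization.Away h) :=
    Algebra.FinitePresentation.trans P B _
  have hW : IsOpen (Set.range (PrimeSpectrum.comap (algebraMap P (Localization.Away h)))) :=
    (PrimeSpectrum.isOpenMap_comap_of_hasGoingDown_of_finitePresentation).isOpen_range
  have h𝔭W : 𝔭 ∈ Set.range (PrimeSpectrum.comap (algebraMap P (Localization.Away h))) := by
    have hdisj : Disjoint (Submonoid.powers h : Set B) (𝔮 : Set B) := by
      rw [Set.disjoint_left]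
      rintro x ⟨n, rfl⟩ hx
      exact hh𝔮 (h𝔮prime.mem_of_pow_mem _ hx)
    refine ⟨⟨𝔮.map (algebraMap B (Localization.Away h)),
      IsLocalization.isPrime_of_isPrime_disjoint (Submonoid.powers h) _ _ h𝔮prime hdisj⟩, ?_⟩
    apply PrimeSpectrum.ext
    change (𝔮.map (algebraMap B (Localization.Away h))).comap
      (algebraMap P (Localization.Away h)) = 𝔭.asIdeal
    rw [IsScalarTower.algebraMap_eq P B (Localization.Away h), ← Ideal.comap_comap]
    have := IsLocalization.under_map_of_isPrime_disjoint (Submonoid.powers h)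
      (Localization.Away h) h𝔮prime hdisj
    rw [Ideal.under_def] at this
    rw [this, h𝔮𝔭]
  obtain ⟨_, ⟨t, rfl⟩, h𝔭t, htW⟩ :=
    PrimeSpectrum.isTopologicalBasis_basic_opens.exists_subset_of_mem_open h𝔭W hW
  set s : B := h * algebraMap P B t with hs_def
  have hs : ∀ 𝔭' : PrimeSpectrum P, t ∉ 𝔭'.asIdeal → ∃ 𝔮' : PrimeSpectrum B, s ∉ 𝔮'.asIdeal ∧
      𝔮'.asIdeal.comap (algebraMap P B) = 𝔭'.asIdeal := by
    intro 𝔭' ht
    obtain ⟨𝔮h, h𝔮h⟩ := htW (show 𝔭' ∈ (PrimeSpectrum.basicOpen t : Set _) from ht)
    have hcomap : (𝔮h.asIdeal.comap (algebraMap B (Localization.Away h))).comap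
        (algebraMap P B) = 𝔭'.asIdeal := by
      rw [Ideal.comap_comap, ← IsScalarTower.algebraMap_eq P B (Localization.Away h)]
      exact congrArg PrimeSpectrum.asIdeal h𝔮h
    refine ⟨PrimeSpectrum.comap (algebraMap B (Localization.Away h)) 𝔮h, ?_, hcomap⟩
    intro hcon
    rcases (PrimeSpectrum.comap (algebraMap B (Localization.Away h)) 𝔮h).2.mem_or_mem hcon
      with h1 | h1
    · exact 𝔮h.2.ne_top (Ideal.eq_top_of_isUnit_mem _ h1
        (IsLocalization.Away.algebraMap_isUnit h))
    · apply ht
      rw [← hcomap]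
      exact h1
  have hts : IsUnit (algebraMap B (Localization.Away s) (algebraMap P B t)) := by
    have h1 : IsUnit (algebraMap B (Localization.Away s) s) :=
      IsLocalization.Away.algebraMap_isUnit s
    rw [hs_def, map_mul] at h1
    exact isUnit_of_mul_isUnit_right h1
  obtain ⟨φ, hφ, hff⟩ := faithfullyFlat_away t s hs hts
  have hus : IsUnit (algebraMap B (Localization.Away s) s) :=
    IsLocalization.Away.algebraMap_isUnit s
  have heq : I.map (algebraMap B (Localization.Away s)) =
      K₀.map (algebraMap B (Localization.Away s)) := by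
    apply le_antisymm
    · refine map_le_of_gen (g := s) (fun x hx => ⟨1, ?_⟩) _ hus
      rw [pow_one, hs_def]
      have : h * algebraMap P B t * x = algebraMap P B t * (h * x) := by ring
      rw [this]
      exact Ideal.mul_mem_left _ _ (hh2 x hx)
    · exact Ideal.map_mono hK₀I
  have hflat' : (algebraMap B (Localization.Away s)).Flat :=
    RingHom.flat_algebraMap_iff.2 (IsLocalization.flat _ (Submonoid.powers s))
  letI := φ.toAlgebra
  haveI : Module.FaithfullyFlat (Localization.Away t) (Localization.Away s) := hff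
  have key : IsLocallyKind k ((It.map (algebraMap P (Localization.Away t))).map
      (algebraMap (Localization.Away t) (Localization.Away s))) := by
    rw [Ideal.map_map]
    have hcomp : (algebraMap (Localization.Away t) (Localization.Away s)).comp
        (algebraMap P (Localization.Away t)) =
        (algebraMap B (Localization.Away s)).comp (algebraMap P B) := by
      ext a
      rw [RingHom.comp_apply, RingHom.algebraMap_toAlgebra, hφ, RingHom.comp_apply,
        ← IsScalarTower.algebraMap_apply P B (Localization.Away s)]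
    rw [hcomp, ← Ideal.map_map, ← hK₀, ← heq]
    exact isLocallyKind_map_of_flat hk _ hflat' _ hKR
  have hfin := isLocallyKind_of_faithfullyFlat hk (Localization.Away t) (Localization.Away s)
    _ key
  exact exists_kchart_of_away hk It t hfin 𝔭i h𝔭t h𝔭

end Etale

section Smooth

variable {A B : Type u} [CommRing A] [CommRing B] [Algebra A B]

/-- **Smooth cancellation for ideals locally generated by a sequence of kind `k`**: for `B`
standard smooth over `A` and an ideal `I` of `B` with `A → B/I` surjective, if `I` is locally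
generated by a sequence of kind `k` then so is its contraction. -/
theorem isLocallyKind_comap_of_isStandardSmooth (hk : k = .h1 ∨ k = .quasi)
    [Algebra.IsStandardSmooth A B] (I : Ideal B)
    (hsurj : ∀ b : B, ∃ a : A, b - algebraMap A B a ∈ I) (hI : IsLocallyKind k I) :
    IsLocallyKind k (I.comap (algebraMap A B)) := by
  obtain ⟨n, g, hgC, hg⟩ := RingHom.IsStandardSmooth.exists_etale_mvPolynomial
    (f := algebraMap A B) (RingHom.isStandardSmooth_algebraMap.2 inferInstance)
  have hgC' : ∀ a, g (MvPolynomial.C a) = algebraMap A B a := fun a => RingHom.congr_fun hgC a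
  -- the presentation `A[x] → B/I`
  let α : MvPolynomial (Fin n) A →ₐ[A] B ⧸ I :=
    { toRingHom := (Ideal.Quotient.mk I).comp g
      commutes' := by
        intro a
        change Ideal.Quotient.mk I (g (MvPolynomial.C a)) = _
        rw [hgC']
        rfl }
  have hC : Function.Surjective (algebraMap A (B ⧸ I)) := by
    intro y
    obtain ⟨b, rfl⟩ := Ideal.Quotient.mk_surjective y
    obtain ⟨a, ha⟩ := hsurj b
    refine ⟨a, ?_⟩
    change Ideal.Quotient.mk I (algebraMap A B a) = Ideal.Quotient.mk I b
    rw [eq_comm, Ideal.Quotient.eq]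
    exact ha
  have hkerA : RingHom.ker (algebraMap A (B ⧸ I)) = I.comap (algebraMap A B) := by
    ext a
    rw [RingHom.mem_ker, Ideal.mem_comap]
    change Ideal.Quotient.mk I (algebraMap A B a) = 0 ↔ _
    rw [Ideal.Quotient.eq_zero_iff_mem]
  have hkerα : RingHom.ker α.toRingHom = I.comap g := by
    ext x
    rw [RingHom.mem_ker, Ideal.mem_comap]
    change Ideal.Quotient.mk I (g x) = 0 ↔ _
    rw [Ideal.Quotient.eq_zero_iff_mem]
  rw [← hkerA]
  apply isLocallyKind_ker_of_presentation hk hC n α
  rw [hkerα]
  letI := g.toAlgebra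
  haveI : Algebra.Etale (MvPolynomial (Fin n) A) B := hg
  have hsurjP : ∀ b : B, ∃ p : MvPolynomial (Fin n) A,
      b - algebraMap (MvPolynomial (Fin n) A) B p ∈ I := by
    intro b
    obtain ⟨a, ha⟩ := hsurj b
    refine ⟨MvPolynomial.C a, ?_⟩
    rw [RingHom.algebraMap_toAlgebra, hgC']
    exact ha
  exact isLocallyKind_comap_of_etale hk I hsurjP hI

end Smooth

end Groth.Agent.Lib.Helper43.KindSmooth
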