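import Mathlib.Tactic
import Groth.Agent.Lib.Helper43.KRSmoothImm
import Groth.Agent.Lib.Helper43.KindSmooth
import Mathlib.AlgebraicGeometry.Morphisms.Smooth

/-!
# Smooth cancellation for `H₁`-regular and quasi-regular immersions (helper43)

* `isLocallyKind_ker_of_charts` : on compatible charts, the kernel of `j ≫ p` is locally
  generated by a sequence of kind `k` as soon as the kernel of `j` is
* `regImm_kind_of_smooth` : for immersions `i = j ≫ p` with `p` smooth, `i` is a `k`-regular
  immersion as soon as `j` is (`k = h1, quasi`)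
* `regImm_of_smooth` : the same for `k ≠ regular`
-/

set_option autoImplicit false
set_option linter.style.haveILetI false
universe u

open CategoryTheory CategoryTheory.Limits AlgebraicGeometry

namespace Groth.Agent.Lib.Helper43.KindSmoothImm

open Groth.Agent.Lib.Helper43.KoszulAtPerf Groth.Agent.Lib.Helper43.RegImmFlatBC
open Groth.Agent.Lib.Helper43.KRIdeal Groth.Agent.Lib.Helper43.RegImmComp
open Groth.Agent.Lib.Helper43.KRImmDescent Groth.Agent.Lib.Helper43.KREtale
open Groth.Agent.Lib.Helper43.KRSmoothImm Groth.Agent.Lib.Helper43.KindImmDescent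
open Groth.Agent.Lib.Helper43.KindSmooth

/-- the kernel of the composite is locally of kind `k` on compatible charts -/
theorem isLocallyKind_ker_of_charts {k : RegImm.Kind} (hk : k = .h1 ∨ k = .quasi)
    {X V V' : Scheme.{u}} (j : X ⟶ V') (p : V' ⟶ V)
    (U : V.Opens) (W : V'.Opens) (hU : IsAffineOpen U) (e : W ≤ p ⁻¹ᵁ U)
    [IsClosedImmersion ((j ≫ p) ∣_ U)]
    (hstd : (p.appLE U W e).hom.IsStandardSmooth) (hpre : j ⁻¹ᵁ W = (j ≫ p) ⁻¹ᵁ U)
    (hI : IsLocallyKind k (RingHom.ker (j.app W).hom)) :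
    IsLocallyKind k (RingHom.ker ((j ≫ p).app U).hom) := by
  letI := (p.appLE U W e).hom.toAlgebra
  haveI : Algebra.IsStandardSmooth Γ(V, U) Γ(V', W) := hstd
  have hle : j ⁻¹ᵁ W ≤ (j ≫ p) ⁻¹ᵁ U := hpre.le
  -- the restriction map between the two (equal) opens of `X`
  let ρ : Γ(X, (j ≫ p) ⁻¹ᵁ U) ⟶ Γ(X, j ⁻¹ᵁ W) := X.presheaf.map (homOfLE hle).op
  haveI : IsIso (homOfLE hle) :=
    ⟨homOfLE hpre.ge, Subsingleton.elim _ _, Subsingleton.elim _ _⟩
  haveI : IsIso ρ := inferInstanceAs (IsIso (X.presheaf.map (homOfLE hle).op))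
  have hρbij : Function.Bijective ρ.hom := ConcreteCategory.bijective_of_isIso ρ
  have hcompat : ∀ a : Γ(V, U), ρ.hom (((j ≫ p).app U).hom a) =
      (j.app W).hom ((p.appLE U W e).hom a) := by
    intro a
    have h1 : (j ≫ p).app U ≫ ρ = p.appLE U W e ≫ j.app W := by
      have h2 := Scheme.Hom.appLE_comp_appLE j p U W (j ⁻¹ᵁ W) e le_rfl
      rw [Scheme.Hom.appLE_eq_app] at h2
      rw [h2]
      rfl
    have h3 := congrArg (fun f => f.hom a) h1
    exact h3
  have hsurjU : Function.Surjective ((j ≫ p).app U).hom := app_surjective_of_restrict _ U hU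
  have hcomap : RingHom.ker ((j ≫ p).app U).hom =
      (RingHom.ker (j.app W).hom).comap (algebraMap Γ(V, U) Γ(V', W)) := by
    ext a
    rw [RingHom.mem_ker, Ideal.mem_comap, RingHom.mem_ker, RingHom.algebraMap_toAlgebra,
      ← hcompat]
    constructor
    · intro h; rw [h, map_zero]
    · intro h
      apply hρbij.1
      rw [h, map_zero]
  have hsurj : ∀ b : Γ(V', W), ∃ a : Γ(V, U),
      b - algebraMap Γ(V, U) Γ(V', W) a ∈ RingHom.ker (j.app W).hom := by
    intro b
    obtain ⟨y', hy'⟩ := hρbij.2 ((j.app W).hom b)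
    obtain ⟨a, rfl⟩ := hsurjU y'
    refine ⟨a, ?_⟩
    rw [RingHom.mem_ker, map_sub, RingHom.algebraMap_toAlgebra, ← hcompat, hy', sub_self]
  rw [hcomap]
  exact isLocallyKind_comap_of_isStandardSmooth hk _ hsurj hI

/-- **Smooth cancellation for `H₁`-regular and quasi-regular immersions.** -/
theorem regImm_kind_of_smooth {k : RegImm.Kind} (hk : k = .h1 ∨ k = .quasi)
    {X V V' : Scheme.{u}} (i : X ⟶ V) [IsImmersion i]
    (j : X ⟶ V') [IsImmersion j] (p : V' ⟶ V) [Smooth p] (h : j ≫ p = i)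
    (hj : RegImm.IsRegularImmersion k j) : RegImm.IsRegularImmersion k i := by
  subst h
  have hk' : k ≠ .regular := by rcases hk with rfl | rfl <;> simp
  refine ⟨inferInstance, fun z => ?_⟩
  obtain ⟨U, W, hU, hW, e, hzU, hzW, hci, hcj, hstd, hpre⟩ := exists_charts j p z
  haveI := hci
  haveI := hcj
  have hI := isLocallyKind_ker_of_regImmAt k hk' j W hW (fun z' _ => hj.2 z')
  have hJ := isLocallyKind_ker_of_charts hk j p U W hU e hstd hpre hI
  exact regImmAt_of_isLocallyKind k hk' (j ≫ p) U hU hJ z hzU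

/-- **Smooth cancellation for regular immersions of kind `k ≠ regular`.** -/
theorem regImm_of_smooth {k : RegImm.Kind} (hk : k ≠ .regular)
    {X V V' : Scheme.{u}} (i : X ⟶ V) [IsImmersion i]
    (j : X ⟶ V') [IsImmersion j] (p : V' ⟶ V) [Smooth p] (h : j ≫ p = i)
    (hj : RegImm.IsRegularImmersion k j) : RegImm.IsRegularImmersion k i := by
  cases k with
  | regular => exact absurd rfl hk
  | koszul => exact (regImm_koszul_iff_of_smooth i j p h).2 hj
  | h1 => exact regImm_kind_of_smooth (Or.inl rfl) i j p h hj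
  | quasi => exact regImm_kind_of_smooth (Or.inr rfl) i j p h hj

end Groth.Agent.Lib.Helper43.KindSmoothImm
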