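import Mathlib
import Groth.Agent.Lib.Helper43.KoszulPerf

set_option autoImplicit false
set_option linter.style.haveILetI false
universe u

open CategoryTheory CategoryTheory.Limits HomologicalComplex CochainComplex HomComplex

namespace Groth.Agent.Lib.Helper43.KoszulAnn

variable {A : Type u} [CommRing A]

lemma comp_apply'' {X Y Z : ModuleCat.{u} A} (f : X ⟶ Y) (g : Y ⟶ Z) (h : X ⟶ Z)
    (e : f ≫ g = h) (x : X) : g.hom (f.hom x) = h.hom x := by
  subst e
  rfl

/-- bottom-degree injection: an injective linear map `A → K(l)^{-n}` sending the joint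
annihilator of `l` into the cycles -/
theorem exists_bot (l : List A) : ∀ d : ℤ, d = -(l.length : ℤ) →
    ∃ ι : A →ₗ[A] (Koszul.koszul A l).X d, Function.Injective ι ∧
      ∀ x : A, (∀ a ∈ l, a * x = 0) → ((Koszul.koszul A l).d d (d + 1)).hom (ι x) = 0 := by
  induction l with
  | nil =>
    intro d hd
    simp only [List.length_nil, Nat.cast_zero, neg_zero] at hd
    subst hd
    let e : ((HomologicalComplex.single (ModuleCat.{u} A) (ComplexShape.up ℤ) 0).obj
      (ModuleCat.of A A)).X 0 ≅ ModuleCat.of A A :=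
      HomologicalComplex.singleObjXSelf (ComplexShape.up ℤ) 0 (ModuleCat.of A A)
    refine ⟨e.inv.hom, ?_, ?_⟩
    · exact ((ConcreteCategory.isIso_iff_bijective e.inv).mp inferInstance).1
    · intro x _
      have : ((HomologicalComplex.single (ModuleCat.{u} A) (ComplexShape.up ℤ) 0).obj
          (ModuleCat.of A A)).d 0 (0 + 1) = 0 := HomologicalComplex.single_obj_d _ _ _ _ _
      change ((((HomologicalComplex.single (ModuleCat.{u} A) (ComplexShape.up ℤ) 0).obj
          (ModuleCat.of A A)).d 0 (0 + 1))).hom _ = 0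
      rw [this]
      rfl
  | cons f l ih =>
    intro d hd
    obtain ⟨ι', hinj, hcyc⟩ := ih (d + 1) (by rw [hd]; simp only [List.length_cons]; push_cast; ring)
    set φ : Koszul.koszul A l ⟶ Koszul.koszul A l := f • 𝟙 (Koszul.koszul A l) with hφ
    have hd1 : d + 1 + (-1) = d := by ring
    refine ⟨((mappingCone.inl φ).v (d + 1) d hd1).hom.comp ι', ?_, ?_⟩
    · intro x y hxy
      apply hinj
      have h1 : ((mappingCone.fst φ).1.v d (d + 1) rfl).hom
          (((mappingCone.inl φ).v (d + 1) d hd1).hom (ι' x)) =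
          ((mappingCone.fst φ).1.v d (d + 1) rfl).hom
          (((mappingCone.inl φ).v (d + 1) d hd1).hom (ι' y)) := congrArg _ hxy
      have key : ∀ u : (Koszul.koszul A l).X (d + 1),
          ((mappingCone.fst φ).1.v d (d + 1) rfl).hom
            (((mappingCone.inl φ).v (d + 1) d hd1).hom u) = u := by
        intro u
        exact comp_apply'' _ _ _ (mappingCone.inl_v_fst_v φ (d + 1) d rfl) u
      rw [← key (ι' x), ← key (ι' y)]
      exact h1
    · intro x hx
      have hx1 : ∀ a ∈ l, a * x = 0 := fun a ha => hx a (List.mem_cons_of_mem _ ha)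
      have hx2 : f * x = 0 := hx f (List.mem_cons_self)
      have h1 := mappingCone.inl_v_d φ (d + 1) d (d + 1 + 1) hd1 (by ring)
      have h2 := congrArg (fun t => t.hom (ι' x)) h1
      simp only [ModuleCat.hom_comp, LinearMap.comp_apply, ModuleCat.hom_sub,
        LinearMap.sub_apply] at h2
      change ((mappingCone φ).d d (d + 1)).hom (((mappingCone.inl φ).v (d + 1) d hd1).hom (ι' x)) = 0
      rw [h2, hcyc x hx1, map_zero, sub_zero]
      have h3 : (φ.f (d + 1)).hom (ι' x) = 0 := by
        rw [hφ]
        change f • (ι' x) = 0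
        rw [← map_smul, smul_eq_mul, hx2, map_zero]
      rw [h3, map_zero]

end Groth.Agent.Lib.Helper43.KoszulAnn

namespace Groth.Agent.Lib.Helper43.KoszulAnn

variable {A : Type u} [CommRing A]

open Groth.Agent.Lib.Helper43.KoszulPerf in
/-- the joint annihilator of a nonempty Koszul-regular sequence is zero -/
theorem eq_zero_of_forall_mul_eq_zero (l : List A) (hl : l ≠ [])
    (h : LCI.IsKoszulRegularSeq A l) (x : A) (hx : ∀ a ∈ l, a * x = 0) : x = 0 := by
  obtain ⟨ι, hinj, hcyc⟩ := exists_bot l (-(l.length : ℤ)) rfl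
  have hlen : 0 < l.length := List.length_pos_of_ne_nil hl
  have hd0 : (-(l.length : ℤ)) ≠ 0 := by omega
  have hH := h _ hd0
  have hX : IsZero ((Koszul.koszul A l).X (-(l.length : ℤ) - 1)) :=
    koszul_vanishesOutside l _ (Or.inl (by omega))
  have hex : ((Koszul.koszul A l).sc' (-(l.length : ℤ) - 1) (-(l.length : ℤ))
      (-(l.length : ℤ) + 1)).Exact := by
    rw [← HomologicalComplex.exactAt_iff' _ (-(l.length : ℤ) - 1) (-(l.length : ℤ))
      (-(l.length : ℤ) + 1) (by simp) (by simp)]
    exact (HomologicalComplex.exactAt_iff_isZero_homology _ _).mpr hH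
  rw [ShortComplex.moduleCat_exact_iff] at hex
  obtain ⟨y, hy⟩ := hex (ι x) (hcyc x hx)
  haveI : Subsingleton ((Koszul.koszul A l).X (-(l.length : ℤ) - 1)) :=
    ModuleCat.subsingleton_of_isZero hX
  have hy0 : y = 0 := @Subsingleton.elim _ this y 0
  rw [hy0, map_zero] at hy
  apply hinj
  rw [map_zero]
  exact hy.symm

end Groth.Agent.Lib.Helper43.KoszulAnn
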