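import Mathlib.Tactic
import Groth.Agent.Lib.Helper43.KRSmoothImm
import Groth.Prelude.Def_RegImm

/-!
# Independence of the factorisation for lci morphisms (helper43)

* `regImmAt_of_comp_ι` : Koszul-regularity at a point can be checked on an open of the source
* `regImm_of_koszulAt` : if `f` is Koszul at every point then every immersion into a smooth
  `Y`-scheme is Koszul-regular
-/

set_option autoImplicit false
set_option linter.style.haveILetI false
universe u

open CategoryTheory CategoryTheory.Limits AlgebraicGeometry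

namespace Groth.Agent.Lib.Helper43.KoszulAtFactor

open Groth.Agent.Lib.Helper43.KoszulAtPerf Groth.Agent.Lib.Helper43.RegImmFlatBC
open Groth.Agent.Lib.Helper43.KRIdeal Groth.Agent.Lib.Helper43.RegImmComp
open Groth.Agent.Lib.Helper43.KRImmDescent Groth.Agent.Lib.Helper43.KREtale
open Groth.Agent.Lib.Helper43.KRSmoothImm

/-- Koszul-regularity of an immersion at a point can be checked on an open neighbourhood of the
point in the source -/
theorem regImmAt_of_comp_ι {X Z : Scheme.{u}} (i : X ⟶ Z) [IsImmersion i] (U : X.Opens) (x : X)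
    (hx : x ∈ U) (h : RegImm.IsRegularImmersion .koszul (U.ι ≫ i)) :
    RegImm.IsRegularImmersionAt .koszul i x := by
  -- an open of `Z` cutting out `U`
  obtain ⟨O, hOopen, hO⟩ := i.isEmbedding.isInducing.isOpen_iff.1 U.2
  let O' : Z.Opens := ⟨O, hOopen⟩
  have hO' : i ⁻¹ᵁ O' = U := by ext y; exact Set.ext_iff.1 hO y
  have hxO : i x ∈ O' := by
    have : x ∈ i ⁻¹ᵁ O' := by rw [hO']; exact hx
    exact this
  have hxc : i x ∈ i.coborderRange := subset_coborder ⟨x, rfl⟩
  have hxc' : i x ∈ (U.ι ≫ i).coborderRange := subset_coborder ⟨⟨x, hx⟩, rfl⟩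
  obtain ⟨W, hW, hxW, hWle⟩ := exists_isAffineOpen_mem_and_subset
    (U := O' ⊓ i.coborderRange ⊓ (U.ι ≫ i).coborderRange) (x := i x) ⟨⟨hxO, hxc⟩, hxc'⟩
  have hWO : W ≤ O' := fun y hy => (hWle hy).1.1
  have hWc : W ≤ i.coborderRange := fun y hy => (hWle hy).1.2
  have hWc' : W ≤ (U.ι ≫ i).coborderRange := fun y hy => (hWle hy).2
  haveI hci : IsClosedImmersion (i ∣_ W) := isClosedImmersion_restrict_of_le_coborderRange i W hWc
  haveI hci' : IsClosedImmersion ((U.ι ≫ i) ∣_ W) :=
    isClosedImmersion_restrict_of_le_coborderRange _ W hWc'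
  have hJ₂ := isKoszulRegularIdeal_ker_of_regImmAt (U.ι ≫ i) W hW (fun z' _ => h.2 z')
  have hpreU : i ⁻¹ᵁ W ≤ U := by
    rw [← hO']
    exact i.preimage_mono hWO
  have hiso : IsIso (U.ι.app (i ⁻¹ᵁ W)) :=
    Scheme.Hom.isIso_app U.ι _ (by rw [Scheme.Opens.opensRange_ι]; exact hpreU)
  have hker : RingHom.ker ((U.ι ≫ i).app W).hom = RingHom.ker (i.app W).hom := by
    ext a
    rw [RingHom.mem_ker, RingHom.mem_ker, Scheme.Hom.comp_app]
    have hinj : Function.Injective (U.ι.app (i ⁻¹ᵁ W)).hom :=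
      (ConcreteCategory.bijective_of_isIso (U.ι.app (i ⁻¹ᵁ W))).1
    constructor
    · intro h0
      apply hinj
      rw [map_zero]
      exact h0
    · intro h0
      change (U.ι.app (i ⁻¹ᵁ W)).hom ((i.app W).hom a) = 0
      rw [h0, map_zero]
  rw [hker] at hJ₂
  exact regImmAt_of_isKoszulRegularIdeal i W hW hJ₂ x hxW


/-- **Independence of the factorisation**: if `f` is Koszul at every point, every immersion of
`X` into a smooth `Y`-scheme is Koszul-regular. -/
theorem regImm_of_koszulAt {X Y Z : Scheme.{u}} (f : X ⟶ Y) (hf : ∀ x : X, Synt.IsKoszulAt f x)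
    (p : Z ⟶ Y) [Smooth p] (i : X ⟶ Z) [IsImmersion i] (h : i ≫ p = f) :
    RegImm.IsRegularImmersion .koszul i := by
  refine ⟨inferInstance, fun x => ?_⟩
  obtain ⟨U, P, i₀, π, hxU, -, hi₀, hπ, hfac⟩ := hf x
  haveI := hπ
  haveI : IsImmersion i₀ := hi₀.1
  have hcond : (U.ι ≫ i) ≫ p = i₀ ≫ π := by rw [Category.assoc, h, hfac]
  let k : (U : Scheme.{u}) ⟶ pullback p π := pullback.lift (U.ι ≫ i) i₀ hcond
  have hk1 : k ≫ pullback.fst p π = U.ι ≫ i := pullback.lift_fst _ _ _
  have hk2 : k ≫ pullback.snd p π = i₀ := pullback.lift_snd _ _ _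
  haveI : IsImmersion (k ≫ pullback.fst p π) := by rw [hk1]; infer_instance
  haveI : IsImmersion k := IsImmersion.of_comp k (pullback.fst p π)
  haveI : Smooth (pullback.fst p π) := MorphismProperty.pullback_fst _ _ hπ
  haveI : Smooth (pullback.snd p π) := MorphismProperty.pullback_snd _ _ inferInstance
  have hk : RegImm.IsRegularImmersion .koszul k :=
    (regImm_koszul_iff_of_smooth i₀ k (pullback.snd p π) hk2).1 hi₀
  have hUi : RegImm.IsRegularImmersion .koszul (U.ι ≫ i) :=
    (regImm_koszul_iff_of_smooth (U.ι ≫ i) k (pullback.fst p π) hk1).2 hk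
  exact regImmAt_of_comp_ι i U x hxU hUi

end Groth.Agent.Lib.Helper43.KoszulAtFactor
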