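import Mathlib.Tactic
import Groth.Agent.Lib.Helper43.KoszulAtFactor
import Mathlib.AlgebraicGeometry.Morphisms.LocalFlatDescent
import Mathlib.AlgebraicGeometry.Morphisms.FiniteType

/-!
# fpqc descent of lci morphisms in the factorisation sense (helper43)

* `regImm_openImmersion_comp` : open immersion followed by a Koszul-regular immersion
* `isKoszulAt_openImmersion_comp`
* `exists_factorisation` : local closed immersion into an affine space over an affine open
* `isKoszulAt_descent` : `Synt.IsKoszulAt` at all points descends along flat surjective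
  quasi-compact base change
-/

set_option autoImplicit false
set_option linter.style.haveILetI false
universe u

open CategoryTheory CategoryTheory.Limits AlgebraicGeometry

namespace Groth.Agent.Lib.Helper43.KoszulAtDescent

open Groth.Agent.Lib.Helper43.KoszulAtPerf Groth.Agent.Lib.Helper43.RegImmFlatBC
open Groth.Agent.Lib.Helper43.KRIdeal Groth.Agent.Lib.Helper43.RegImmComp
open Groth.Agent.Lib.Helper43.KRImmDescent Groth.Agent.Lib.Helper43.KREtale
open Groth.Agent.Lib.Helper43.KRSmoothImm Groth.Agent.Lib.Helper43.KoszulAtFactor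

/-- an open immersion followed by a Koszul-regular immersion is a Koszul-regular immersion -/
theorem regImm_openImmersion_comp {T X Z : Scheme.{u}} (o : T ⟶ X) [IsOpenImmersion o]
    (i : X ⟶ Z) (hi : RegImm.IsRegularImmersion .koszul i) :
    RegImm.IsRegularImmersion .koszul (o ≫ i) := by
  haveI : IsImmersion i := hi.1
  refine ⟨inferInstance, fun t => ?_⟩
  obtain ⟨O, hOopen, hO⟩ := i.isEmbedding.isInducing.isOpen_iff.1 o.opensRange.2
  let O' : Z.Opens := ⟨O, hOopen⟩
  have hO' : i ⁻¹ᵁ O' = o.opensRange := by ext y; exact Set.ext_iff.1 hO y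
  have hxO : i (o t) ∈ O' := by
    have : o t ∈ i ⁻¹ᵁ O' := by rw [hO']; exact ⟨t, rfl⟩
    exact this
  have hxc : i (o t) ∈ i.coborderRange := subset_coborder ⟨o t, rfl⟩
  have hxc' : i (o t) ∈ (o ≫ i).coborderRange := subset_coborder ⟨t, rfl⟩
  obtain ⟨W, hW, hxW, hWle⟩ := exists_isAffineOpen_mem_and_subset
    (U := O' ⊓ i.coborderRange ⊓ (o ≫ i).coborderRange) (x := i (o t)) ⟨⟨hxO, hxc⟩, hxc'⟩
  have hWO : W ≤ O' := fun y hy => (hWle hy).1.1
  have hWc : W ≤ i.coborderRange := fun y hy => (hWle hy).1.2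
  have hWc' : W ≤ (o ≫ i).coborderRange := fun y hy => (hWle hy).2
  haveI hci : IsClosedImmersion (i ∣_ W) := isClosedImmersion_restrict_of_le_coborderRange i W hWc
  haveI hci' : IsClosedImmersion ((o ≫ i) ∣_ W) :=
    isClosedImmersion_restrict_of_le_coborderRange _ W hWc'
  have hJ₁ := isKoszulRegularIdeal_ker_of_regImmAt i W hW (fun z' _ => hi.2 z')
  have hpreU : i ⁻¹ᵁ W ≤ o.opensRange := by
    rw [← hO']
    exact i.preimage_mono hWO
  have hiso : IsIso (o.app (i ⁻¹ᵁ W)) := Scheme.Hom.isIso_app o _ hpreU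
  have hker : RingHom.ker ((o ≫ i).app W).hom = RingHom.ker (i.app W).hom := by
    ext a
    rw [RingHom.mem_ker, RingHom.mem_ker, Scheme.Hom.comp_app]
    have hinj : Function.Injective (o.app (i ⁻¹ᵁ W)).hom :=
      (ConcreteCategory.bijective_of_isIso (o.app (i ⁻¹ᵁ W))).1
    constructor
    · intro h0
      apply hinj
      rw [map_zero]
      exact h0
    · intro h0
      change (o.app (i ⁻¹ᵁ W)).hom ((i.app W).hom a) = 0
      rw [h0, map_zero]
  rw [← hker] at hJ₁
  exact regImmAt_of_isKoszulRegularIdeal (o ≫ i) W hW hJ₁ t hxW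

/-- `IsKoszulAt` is inherited by open immersions into the source -/
theorem isKoszulAt_openImmersion_comp {T X Y : Scheme.{u}} (o : T ⟶ X) [IsOpenImmersion o]
    (f : X ⟶ Y) (t : T) (h : Synt.IsKoszulAt f (o t)) : Synt.IsKoszulAt (o ≫ f) t := by
  obtain ⟨U₁, P₁, i₁, π₁, hx, hlft, hKR, hsm, hfac⟩ := h
  refine ⟨o ⁻¹ᵁ U₁, P₁, (o ∣_ U₁) ≫ i₁, π₁, hx, ?_, ?_, hsm, ?_⟩
  · have : (o ⁻¹ᵁ U₁).ι ≫ o ≫ f = (o ∣_ U₁) ≫ (U₁.ι ≫ f) := by
      rw [← Category.assoc, ← morphismRestrict_ι, Category.assoc]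
    rw [this]
    haveI := hlft
    infer_instance
  · exact regImm_openImmersion_comp (o ∣_ U₁) i₁ hKR
  · rw [Category.assoc, hfac, ← Category.assoc, morphismRestrict_ι, Category.assoc]


/-- local factorisation of a morphism locally of finite type: a closed immersion into an affine
space over an affine open of the base -/
theorem exists_factorisation {X Y : Scheme.{u}} (f : X ⟶ Y) [LocallyOfFiniteType f] (x : X) :
    ∃ (U : X.Opens) (P : Scheme.{u}) (i : (U : Scheme.{u}) ⟶ P) (π : P ⟶ Y),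
      x ∈ U ∧ IsClosedImmersion i ∧ Smooth π ∧ i ≫ π = U.ι ≫ f := by
  obtain ⟨V, hV, hxV, -⟩ := exists_isAffineOpen_mem_and_subset (x := f x) (U := ⊤) trivial
  obtain ⟨U, hU, hxU, hUle⟩ := exists_isAffineOpen_mem_and_subset (x := x) (U := f ⁻¹ᵁ V) hxV
  have e : U ≤ f ⁻¹ᵁ V := hUle
  have hft : (f.appLE V U e).hom.FiniteType :=
    (HasRingHomProperty.iff_appLE (P := @LocallyOfFiniteType)).1 inferInstance ⟨V, hV⟩ ⟨U, hU⟩ e
  letI := (f.appLE V U e).hom.toAlgebra
  haveI : Algebra.FiniteType Γ(Y, V) Γ(X, U) := hft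
  obtain ⟨n, ψ, hψ⟩ := Algebra.FiniteType.iff_quotient_mvPolynomial''.1
    (inferInstance : Algebra.FiniteType Γ(Y, V) Γ(X, U))
  let P : Scheme.{u} := Spec (CommRingCat.of (MvPolynomial (Fin n) Γ(Y, V)))
  let ψ' : CommRingCat.of (MvPolynomial (Fin n) Γ(Y, V)) ⟶ Γ(X, U) := CommRingCat.ofHom ψ.toRingHom
  let c : Γ(Y, V) ⟶ CommRingCat.of (MvPolynomial (Fin n) Γ(Y, V)) :=
    CommRingCat.ofHom (MvPolynomial.C)
  haveI : IsClosedImmersion (Spec.map ψ') := IsClosedImmersion.spec_of_surjective ψ' hψ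
  haveI : Smooth (Spec.map c) := by
    rw [HasRingHomProperty.Spec_iff (P := @Smooth)]
    change (algebraMap Γ(Y, V) (MvPolynomial (Fin n) Γ(Y, V))).Smooth
    rw [RingHom.smooth_algebraMap]
    exact ⟨inferInstance, inferInstance⟩
  refine ⟨U, P, hU.isoSpec.hom ≫ Spec.map ψ', Spec.map c ≫ hV.fromSpec, hxU, inferInstance,
    inferInstance, ?_⟩
  have hcomp : c ≫ ψ' = f.appLE V U e := by
    ext a
    change ψ (MvPolynomial.C a) = (f.appLE V U e).hom a
    rw [← MvPolynomial.algebraMap_eq, AlgHom.commutes]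
    rfl
  rw [Category.assoc, ← Category.assoc (Spec.map ψ'), ← Spec.map_comp, hcomp,
    IsAffineOpen.SpecMap_appLE_fromSpec f hV hU e, IsAffineOpen.fromSpec, Category.assoc,
    Iso.hom_inv_id_assoc]


/-- **fpqc descent of lci morphisms (factorisation sense).** -/
theorem isKoszulAt_descent {X Y X' Y' : Scheme.{u}} (f : X ⟶ Y) (g : Y' ⟶ Y) [Flat g]
    [Surjective g] [QuasiCompact g] (f' : X' ⟶ Y') (g' : X' ⟶ X) (hsq : IsPullback g' f' f g)
    (hf' : ∀ x' : X', Synt.IsKoszulAt f' x') : ∀ x : X, Synt.IsKoszulAt f x := by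
  haveI : IsZariskiLocalAtSource @LocallyOfFiniteType.{u} :=
    HasRingHomProperty.instIsZariskiLocalAtSource (P := @LocallyOfFiniteType)
      (Q := @RingHom.FiniteType)
  -- `f'` and hence `f` are locally of finite type
  have hlft' : LocallyOfFiniteType f' := by
    choose U' P' i' π' hx' hlft _ _ _ using hf'
    refine IsZariskiLocalAtSource.of_iSup_eq_top (P := @LocallyOfFiniteType) U' ?_ hlft
    rw [eq_top_iff]
    intro x' _
    rw [TopologicalSpace.Opens.mem_iSup]
    exact ⟨x', hx' x'⟩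
  have hQ : (@Surjective ⊓ @Flat ⊓ @QuasiCompact : MorphismProperty Scheme.{u}) g :=
    ⟨⟨inferInstance, inferInstance⟩, inferInstance⟩
  haveI hlft : LocallyOfFiniteType f :=
    MorphismProperty.of_isPullback_of_descendsAlong (P := @LocallyOfFiniteType)
      (Q := (@Surjective ⊓ @Flat ⊓ @QuasiCompact : MorphismProperty Scheme.{u})) hsq.flip hQ hlft'
  intro x
  obtain ⟨U, P, i₀, π, hxU, hci, hsm, hfac⟩ := exists_factorisation f x
  haveI := hci
  haveI := hsm
  refine ⟨U, P, i₀, π, hxU, inferInstance, ?_, hsm, hfac⟩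
  -- base change to `Y'`
  let gP : pullback π g ⟶ P := pullback.fst π g
  let p' : pullback π g ⟶ Y' := pullback.snd π g
  haveI : Flat gP := inferInstanceAs (Flat (pullback.fst π g))
  haveI : Surjective gP := inferInstanceAs (Surjective (pullback.fst π g))
  haveI : QuasiCompact gP := inferInstanceAs (QuasiCompact (pullback.fst π g))
  haveI : Smooth p' := inferInstanceAs (Smooth (pullback.snd π g))
  let i₀' : pullback i₀ gP ⟶ pullback π g := pullback.snd i₀ gP
  let f'' : pullback i₀ gP ⟶ Y' := i₀' ≫ p'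
  -- the open immersion `U'' → X'`
  have hw : (pullback.fst i₀ gP ≫ U.ι) ≫ f = f'' ≫ g := by
    rw [Category.assoc, ← hfac, ← Category.assoc, pullback.condition, Category.assoc,
      pullback.condition, Category.assoc]
  let o : pullback i₀ gP ⟶ X' := hsq.lift (pullback.fst i₀ gP ≫ U.ι) f'' hw
  have ho1 : o ≫ g' = pullback.fst i₀ gP ≫ U.ι := hsq.lift_fst _ _ _
  have ho2 : o ≫ f' = f'' := hsq.lift_snd _ _ _
  have hpb1 : IsPullback (pullback.fst i₀ gP) i₀' i₀ gP := IsPullback.of_hasPullback i₀ gP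
  have hpb2 : IsPullback gP p' π g := IsPullback.of_hasPullback π g
  have hbig : IsPullback (pullback.fst i₀ gP) (i₀' ≫ p') (i₀ ≫ π) g := hpb1.paste_vert hpb2
  have hleft : IsPullback (pullback.fst i₀ gP) o U.ι g' := by
    refine IsPullback.of_bot ?_ ho1.symm hsq
    rw [ho2, ← hfac]
    exact hbig
  haveI : IsOpenImmersion o := MorphismProperty.of_isPullback hleft inferInstance
  have hK'' : ∀ u : ↥(pullback i₀ gP), Synt.IsKoszulAt f'' u := by
    intro u
    rw [← ho2]
    exact isKoszulAt_openImmersion_comp o f' u (hf' (o u))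
  have hKR' : RegImm.IsRegularImmersion .koszul i₀' :=
    regImm_of_koszulAt f'' hK'' p' i₀' rfl
  exact regImm_koszul_descent i₀ gP i₀' (pullback.fst i₀ gP) hpb1 hKR'

end Groth.Agent.Lib.Helper43.KoszulAtDescent
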