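import Mathlib.Tactic
import Groth.Agent.Lib.Helper43.KRCodescent
import Mathlib.AlgebraicGeometry.Morphisms.Descent
import Mathlib.AlgebraicGeometry.Morphisms.FlatDescent

/-!
# fpqc descent for affine-locally lci morphisms (helper43)

* `lciMor := affineLocally IsLCIHom`, with `HasRingHomProperty lciMor IsLCIHom`
* `pullback_fst_of_isLocalIso` : a Zariski-local (at the target) property is stable under base
  change along local isomorphisms
* `lciMor_descendsAlong` : `lciMor` descends along flat surjective quasi-compact morphisms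
  (variant of Mathlib's `HasRingHomProperty.descendsAlong` without stability under base change)
-/

set_option autoImplicit false
universe u

open CategoryTheory CategoryTheory.Limits AlgebraicGeometry MorphismProperty

namespace Groth.Agent.Lib.Helper43.LCIDescent

open Groth.Agent.Lib.Helper43.KRComp Groth.Agent.Lib.Helper43.KRLocalProp
open Groth.Agent.Lib.Helper43.KRCodescent

/-- affine-locally lci morphisms of schemes -/
def lciMor : MorphismProperty Scheme.{u} := affineLocally @IsLCIHom

instance : HasRingHomProperty lciMor.{u} @IsLCIHom := ⟨isLCIHom_propertyIsLocal, rfl⟩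

/-- a property local at the target is stable under base change along local isomorphisms -/
lemma pullback_fst_of_isLocalIso (P : MorphismProperty Scheme.{u}) [IsZariskiLocalAtTarget P]
    {T X W : Scheme.{u}} (q : T ⟶ X) [IsLocalIso q] (h : W ⟶ X) (hP : P h) :
    P (pullback.fst q h) := by
  choose U hxU hU using fun x : T => IsLocalIso.exists_isOpenImmersion (f := q) x
  have hsup : iSup U = ⊤ := by
    rw [eq_top_iff]
    intro x _
    rw [TopologicalSpace.Opens.mem_iSup]
    exact ⟨x, hxU x⟩
  rw [IsZariskiLocalAtTarget.iff_of_iSup_eq_top (P := P) U hsup]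
  intro x
  haveI := hU x
  have h1 := isPullback_morphismRestrict (pullback.fst q h) (U x)
  have h2 := IsPullback.of_hasPullback q h
  have h3 := h1.paste_vert h2
  exact IsZariskiLocalAtTarget.of_isPullback (iY := (U x).ι ≫ q) h3.flip hP


section Descent

variable (P P' : MorphismProperty Scheme.{u})
variable (Q Q' : ∀ {R S : Type u} [CommRing R] [CommRing S], (R →+* S) → Prop)
variable [P'.IsStableUnderBaseChange] [P'.IsStableUnderComposition]
variable
  (H₁ : (@IsLocalIso ⊓ @Surjective : MorphismProperty Scheme) ≤ P')
  (H₂ : ∀ {R S : CommRingCat.{u}} {f : R ⟶ S}, P' (Spec.map f) → Q' f.hom)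

set_option backward.isDefEq.respectTransparency.types false in
include H₁ in
/-- variant of Mathlib's `IsZariskiLocalAtTarget.descendsAlong_inf_quasiCompact` which does not
assume that `P` is stable under base change -/
lemma descendsAlong_inf_quasiCompact' [IsZariskiLocalAtTarget P]
    (H : ∀ {R S : CommRingCat.{u}} {Y : Scheme.{u}} (φ : R ⟶ S) (g : Y ⟶ Spec R),
      P' (Spec.map φ) → P (pullback.fst (Spec.map φ) g) → P g) :
    P.DescendsAlong (P' ⊓ @QuasiCompact) := by
  apply IsZariskiLocalAtTarget.descendsAlong
  intro R X Y f g hf h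
  wlog hX : ∃ T, X = Spec T generalizing X
  · have _ : CompactSpace X := by simpa [← quasiCompact_iff_compactSpace f] using hf.2
    obtain ⟨Y, p, hsurj, hP', hY⟩ := X.exists_hom_isAffine_of_isZariskiLocalAtSource @IsLocalIso
    refine this (f := (Y.isoSpec.inv ≫ p) ≫ f) ?_ ?_ ⟨_, rfl⟩
    · rw [Category.assoc, (P' ⊓ @QuasiCompact).cancel_left_of_respectsIso]
      exact ⟨P'.comp_mem _ _ (H₁ _ ⟨hP', hsurj⟩) hf.1, inferInstance⟩
    · rw [← pullbackRightPullbackFstIso_inv_fst f g _, P.cancel_left_of_respectsIso]
      haveI : IsLocalIso (Y.isoSpec.inv ≫ p) :=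
        (MorphismProperty.cancel_left_of_respectsIso @IsLocalIso _ _).2 hP'
      exact pullback_fst_of_isLocalIso P _ _ h
  obtain ⟨T, rfl⟩ := hX
  obtain ⟨φ, rfl⟩ := Spec.map_surjective f
  exact H φ g hf.1 h

include H₁ H₂ in
/-- variant of Mathlib's `HasRingHomProperty.descendsAlong` which does not assume that `P` is
stable under base change -/
lemma descendsAlong' [HasRingHomProperty P Q] (hQQ' : RingHom.CodescendsAlong Q Q') :
    P.DescendsAlong (P' ⊓ @QuasiCompact) := by
  apply descendsAlong_inf_quasiCompact' _ _ H₁
  introv h hf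
  wlog hY : ∃ S, Y = Spec S generalizing Y
  · rw [IsZariskiLocalAtSource.iff_of_openCover (P := P) Y.affineCover]
    intro i
    have heq : pullback.fst (Spec.map φ) (Y.affineCover.f i ≫ g) =
        pullback.map _ _ _ _ (𝟙 _) (Y.affineCover.f i) (𝟙 _) (by simp) (by simp) ≫
          pullback.fst (Spec.map φ) g := (pullback.lift_fst _ _ _).symm
    exact this _ (heq ▸ AlgebraicGeometry.IsZariskiLocalAtSource.comp hf _) ⟨_, rfl⟩
  obtain ⟨S, rfl⟩ := hY
  apply of_pullback_fst_Spec_of_codescendsAlong _ _ hQQ' H₂ _ h hf
  simp [HasRingHomProperty.Spec_iff (P := P)]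

end Descent

set_option backward.isDefEq.respectTransparency.types false in
/-- affine-locally lci morphisms descend along flat surjective quasi-compact morphisms -/
theorem lciMor_descendsAlong :
    lciMor.{u}.DescendsAlong (@Surjective ⊓ @Flat ⊓ @QuasiCompact) := by
  refine descendsAlong' lciMor.{u} _ @IsLCIHom @RingHom.FaithfullyFlat ?_ ?_
    isLCIHom_codescendsAlong
  · rw [inf_comm]
    gcongr
    exact IsLocalIso.le_of_isZariskiLocalAtSource @Flat
  · intro R S f ⟨hf₁, hf₂⟩
    rw [RingHom.FaithfullyFlat.iff_flat_and_comap_surjective]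
    refine ⟨?_, (Spec.map f).surjective⟩
    rwa [HasRingHomProperty.Spec_iff (P := @Flat)] at hf₂

end Groth.Agent.Lib.Helper43.LCIDescent
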