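import Mathlib.Tactic
import Groth.Agent.Lib.Helper43.KoszulAtDescent
import Groth.Agent.Lib.Helper43.LCIDescent

/-!
# Koszul-at-every-point = affine-locally lci (helper43)

* `ker_SpecMap_app_top`, `regImm_SpecMap_of_koszulRegularIdeal`,
  `koszulRegularIdeal_of_regImm_SpecMap`
* `factorisation_props`
* `lciMor_of_isKoszulAt`, `isKoszulAt_of_lciMor`, `isKoszulAt_iff_lciMor`
* `isKoszulAt_comp` : composition of lci morphisms (factorisation sense)
-/

set_option autoImplicit false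
set_option linter.style.haveILetI false
universe u

open CategoryTheory CategoryTheory.Limits AlgebraicGeometry

namespace Groth.Agent.Lib.Helper43.KoszulAtLCI

open Groth.Agent.Lib.Helper43.KoszulAtPerf Groth.Agent.Lib.Helper43.RegImmFlatBC
open Groth.Agent.Lib.Helper43.KRIdeal Groth.Agent.Lib.Helper43.RegImmComp
open Groth.Agent.Lib.Helper43.KRImmDescent Groth.Agent.Lib.Helper43.KREtale
open Groth.Agent.Lib.Helper43.KRSmoothImm Groth.Agent.Lib.Helper43.KoszulAtFactor
open Groth.Agent.Lib.Helper43.KoszulAtDescent Groth.Agent.Lib.Helper43.LCIDescent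
open Groth.Agent.Lib.Helper43.KRComp Groth.Agent.Lib.Helper43.KRLocalProp

/-- the kernel of `Spec.map φ` on global sections -/
lemma ker_SpecMap_app_top {R S : CommRingCat.{u}} (φ : R ⟶ S) :
    RingHom.ker ((Spec.map φ).app ⊤).hom =
      (RingHom.ker φ.hom).comap (Scheme.ΓSpecIso R).commRingCatIsoToRingEquiv := by
  ext a
  rw [RingHom.mem_ker, Ideal.mem_comap, RingHom.mem_ker]
  have h1 := Scheme.ΓSpecIso_naturality φ
  have h2 : (Scheme.ΓSpecIso S).hom.hom ((Spec.map φ).appTop.hom a) =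
      φ.hom ((Scheme.ΓSpecIso R).hom.hom a) := congrArg (fun f => f.hom a) h1
  have hinj : Function.Injective (Scheme.ΓSpecIso S).hom.hom :=
    (ConcreteCategory.bijective_of_isIso (Scheme.ΓSpecIso S).hom).1
  constructor
  · intro h
    have h' : (Spec.map φ).appTop.hom a = 0 := h
    change φ.hom ((Scheme.ΓSpecIso R).hom.hom a) = 0
    rw [← h2, h', map_zero]
  · intro h
    have h' : φ.hom ((Scheme.ΓSpecIso R).hom.hom a) = 0 := h
    change (Spec.map φ).appTop.hom a = 0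
    apply hinj
    rw [h2, h', map_zero]

/-- `Spec` of a surjection with Koszul-regular kernel is a Koszul-regular immersion -/
theorem regImm_SpecMap_of_koszulRegularIdeal {R S : CommRingCat.{u}} (φ : R ⟶ S)
    (hφ : Function.Surjective φ.hom) (hKR : LCI.IsKoszulRegularIdeal (RingHom.ker φ.hom)) :
    RegImm.IsRegularImmersion .koszul (Spec.map φ) := by
  haveI : IsClosedImmersion (Spec.map φ) := IsClosedImmersion.spec_of_surjective φ hφ
  refine ⟨inferInstance, fun z => ?_⟩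
  have hI : LCI.IsKoszulRegularIdeal (RingHom.ker ((Spec.map φ).app ⊤).hom) := by
    rw [ker_SpecMap_app_top, ← Ideal.map_symm]
    exact koszulRegularIdeal_map_equiv _ _ hKR
  exact regImmAt_of_isKoszulRegularIdeal (Spec.map φ) ⊤ (isAffineOpen_top _) hI z trivial

/-- conversely -/
theorem koszulRegularIdeal_of_regImm_SpecMap {R S : CommRingCat.{u}} (φ : R ⟶ S)
    (hφ : Function.Surjective φ.hom)
    (h : RegImm.IsRegularImmersion .koszul (Spec.map φ)) :
    LCI.IsKoszulRegularIdeal (RingHom.ker φ.hom) := by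
  haveI : IsClosedImmersion (Spec.map φ) := IsClosedImmersion.spec_of_surjective φ hφ
  have hI := isKoszulRegularIdeal_ker_of_regImm (Spec.map φ) ⊤ (isAffineOpen_top _) h.2
  rw [ker_SpecMap_app_top] at hI
  have h2 := koszulRegularIdeal_map_equiv (Scheme.ΓSpecIso R).commRingCatIsoToRingEquiv _ hI
  have h3 : ((RingHom.ker φ.hom).comap (Scheme.ΓSpecIso R).commRingCatIsoToRingEquiv).map
      (Scheme.ΓSpecIso R).commRingCatIsoToRingEquiv = RingHom.ker φ.hom :=
    Ideal.map_comap_of_surjective _ (Scheme.ΓSpecIso R).commRingCatIsoToRingEquiv.surjective _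
  rw [← h3]
  exact h2


/-- the factorisation through an affine space attached to a presentation of `Γ(X, U)` over
`Γ(Y, V)` -/
lemma factorisation_props {X Y : Scheme.{u}} (f : X ⟶ Y) (U : X.Opens) (hU : IsAffineOpen U)
    (V : Y.Opens) (hV : IsAffineOpen V) (e : U ≤ f ⁻¹ᵁ V) (n : ℕ)
    (ψ' : CommRingCat.of (MvPolynomial (Fin n) Γ(Y, V)) ⟶ Γ(X, U))
    (hcomp : CommRingCat.ofHom (MvPolynomial.C : Γ(Y, V) →+* MvPolynomial (Fin n) Γ(Y, V)) ≫ ψ' =
      f.appLE V U e) :
    Smooth (Spec.map (CommRingCat.ofHom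
        (MvPolynomial.C : Γ(Y, V) →+* MvPolynomial (Fin n) Γ(Y, V))) ≫ hV.fromSpec) ∧
      (hU.isoSpec.hom ≫ Spec.map ψ') ≫ (Spec.map (CommRingCat.ofHom
        (MvPolynomial.C : Γ(Y, V) →+* MvPolynomial (Fin n) Γ(Y, V))) ≫ hV.fromSpec) = U.ι ≫ f := by
  set c : Γ(Y, V) ⟶ CommRingCat.of (MvPolynomial (Fin n) Γ(Y, V)) :=
    CommRingCat.ofHom (MvPolynomial.C) with hc
  haveI : Smooth (Spec.map c) := by
    rw [HasRingHomProperty.Spec_iff (P := @Smooth)]
    change (algebraMap Γ(Y, V) (MvPolynomial (Fin n) Γ(Y, V))).Smooth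
    rw [RingHom.smooth_algebraMap]
    exact ⟨inferInstance, inferInstance⟩
  refine ⟨inferInstance, ?_⟩
  rw [Category.assoc, ← Category.assoc (Spec.map ψ'), ← Spec.map_comp, hcomp,
    IsAffineOpen.SpecMap_appLE_fromSpec f hV hU e, IsAffineOpen.fromSpec, Category.assoc,
    Iso.hom_inv_id_assoc]

/-- a morphism which is Koszul at every point is affine-locally lci -/
theorem lciMor_of_isKoszulAt {X Y : Scheme.{u}} (f : X ⟶ Y)
    (hf : ∀ x : X, Synt.IsKoszulAt f x) : lciMor f := by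
  haveI : IsZariskiLocalAtSource @LocallyOfFiniteType.{u} :=
    HasRingHomProperty.instIsZariskiLocalAtSource (P := @LocallyOfFiniteType)
      (Q := @RingHom.FiniteType)
  haveI hlft : LocallyOfFiniteType f := by
    choose U' P' i' π' hx' hlft _ _ _ using hf
    refine IsZariskiLocalAtSource.of_iSup_eq_top (P := @LocallyOfFiniteType) U' ?_ hlft
    rw [eq_top_iff]
    intro x' _
    rw [TopologicalSpace.Opens.mem_iSup]
    exact ⟨x', hx' x'⟩
  rw [HasRingHomProperty.iff_exists_appLE (P := lciMor)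
    (isLCIHom_stableUnderComposition.stableUnderCompositionWithLocalizationAway
      isLCIHom_holdsForLocalizationAway).1]
  intro x
  obtain ⟨V, hV, hxV, -⟩ := exists_isAffineOpen_mem_and_subset (x := f x) (U := ⊤) trivial
  obtain ⟨U, hU, hxU, hUle⟩ := exists_isAffineOpen_mem_and_subset (x := x) (U := f ⁻¹ᵁ V) hxV
  have e : U ≤ f ⁻¹ᵁ V := hUle
  refine ⟨⟨V, hV⟩, ⟨U, hU⟩, hxU, e, ?_⟩
  have hft : (f.appLE V U e).hom.FiniteType :=
    (HasRingHomProperty.iff_appLE (P := @LocallyOfFiniteType)).1 inferInstance ⟨V, hV⟩ ⟨U, hU⟩ e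
  change IsLCIHom (f.appLE V U e).hom
  unfold IsLCIHom
  letI := (f.appLE V U e).hom.toAlgebra
  haveI : Algebra.FiniteType Γ(Y, V) Γ(X, U) := hft
  obtain ⟨n, ψ, hψ⟩ := Algebra.FiniteType.iff_quotient_mvPolynomial''.1
    (inferInstance : Algebra.FiniteType Γ(Y, V) Γ(X, U))
  refine ⟨inferInstance, n, ψ, hψ, ?_⟩
  let ψ' : CommRingCat.of (MvPolynomial (Fin n) Γ(Y, V)) ⟶ Γ(X, U) := CommRingCat.ofHom ψ.toRingHom
  have hcomp : CommRingCat.ofHom (MvPolynomial.C : Γ(Y, V) →+* MvPolynomial (Fin n) Γ(Y, V)) ≫ ψ' =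
      f.appLE V U e := by
    ext a
    change ψ (MvPolynomial.C a) = (f.appLE V U e).hom a
    rw [← MvPolynomial.algebraMap_eq, AlgHom.commutes]
    rfl
  obtain ⟨hsm, hfac⟩ := factorisation_props f U hU V hV e n ψ' hcomp
  haveI := hsm
  haveI : IsClosedImmersion (Spec.map ψ') := IsClosedImmersion.spec_of_surjective ψ' hψ
  have hK : ∀ u : ↥(U : Scheme.{u}), Synt.IsKoszulAt (U.ι ≫ f) u := fun u =>
    isKoszulAt_openImmersion_comp U.ι f u (hf (U.ι u))
  have hKR := regImm_of_koszulAt (U.ι ≫ f) hK _ (hU.isoSpec.hom ≫ Spec.map ψ') hfac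
  have hKR' : RegImm.IsRegularImmersion .koszul (Spec.map ψ') := by
    have := regImm_openImmersion_comp hU.isoSpec.inv _ hKR
    rwa [Iso.inv_hom_id_assoc] at this
  exact koszulRegularIdeal_of_regImm_SpecMap ψ' hψ hKR'

/-- an affine-locally lci morphism is Koszul at every point -/
theorem isKoszulAt_of_lciMor {X Y : Scheme.{u}} (f : X ⟶ Y) (hf : lciMor f) (x : X) :
    Synt.IsKoszulAt f x := by
  obtain ⟨V, hV, hxV, -⟩ := exists_isAffineOpen_mem_and_subset (x := f x) (U := ⊤) trivial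
  obtain ⟨U, hU, hxU, hUle⟩ := exists_isAffineOpen_mem_and_subset (x := x) (U := f ⁻¹ᵁ V) hxV
  have e : U ≤ f ⁻¹ᵁ V := hUle
  have hLCI : IsLCIHom (f.appLE V U e).hom :=
    (HasRingHomProperty.iff_appLE (P := lciMor)).1 hf ⟨V, hV⟩ ⟨U, hU⟩ e
  unfold IsLCIHom at hLCI
  letI := (f.appLE V U e).hom.toAlgebra
  obtain ⟨hft, n, ψ, hψ, hKRI⟩ := hLCI
  let ψ' : CommRingCat.of (MvPolynomial (Fin n) Γ(Y, V)) ⟶ Γ(X, U) := CommRingCat.ofHom ψ.toRingHom
  have hcomp : CommRingCat.ofHom (MvPolynomial.C : Γ(Y, V) →+* MvPolynomial (Fin n) Γ(Y, V)) ≫ ψ' =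
      f.appLE V U e := by
    ext a
    change ψ (MvPolynomial.C a) = (f.appLE V U e).hom a
    rw [← MvPolynomial.algebraMap_eq, AlgHom.commutes]
    rfl
  obtain ⟨hsm, hfac⟩ := factorisation_props f U hU V hV e n ψ' hcomp
  have hKR : RegImm.IsRegularImmersion .koszul (Spec.map ψ') :=
    regImm_SpecMap_of_koszulRegularIdeal ψ' hψ hKRI
  have hlft : LocallyOfFiniteType (U.ι ≫ f) := by
    rw [← hfac]
    haveI : IsClosedImmersion (Spec.map ψ') := IsClosedImmersion.spec_of_surjective ψ' hψ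
    haveI := hsm
    infer_instance
  exact ⟨U, _, hU.isoSpec.hom ≫ Spec.map ψ', _, hxU, hlft,
    regImm_openImmersion_comp hU.isoSpec.hom _ hKR, hsm, hfac⟩

/-- **lci morphisms in the factorisation sense are the affine-locally lci morphisms** -/
theorem isKoszulAt_iff_lciMor {X Y : Scheme.{u}} (f : X ⟶ Y) :
    (∀ x : X, Synt.IsKoszulAt f x) ↔ lciMor f :=
  ⟨lciMor_of_isKoszulAt f, isKoszulAt_of_lciMor f⟩

/-- composition of lci morphisms -/
theorem isKoszulAt_comp {X Y Z : Scheme.{u}} (f : X ⟶ Y) (g : Y ⟶ Z)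
    (hf : ∀ x : X, Synt.IsKoszulAt f x) (hg : ∀ y : Y, Synt.IsKoszulAt g y) :
    ∀ x : X, Synt.IsKoszulAt (f ≫ g) x := by
  rw [isKoszulAt_iff_lciMor] at hf hg ⊢
  haveI : MorphismProperty.IsStableUnderComposition lciMor.{u} :=
    HasRingHomProperty.stableUnderComposition isLCIHom_stableUnderComposition
  exact MorphismProperty.comp_mem _ f g hf hg

end Groth.Agent.Lib.Helper43.KoszulAtLCI
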