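import Mathlib.Tactic
import Groth.Agent.Lib.Helper43.KoszulPerf
import Mathlib.RingTheory.RingHom.FinitePresentation
import Mathlib.AlgebraicGeometry.Morphisms.FinitePresentation

/-!
# Local properties of ring maps that hold for lci ring maps (helper43)
-/

set_option autoImplicit false
universe u

open CategoryTheory AlgebraicGeometry

namespace Groth.Agent.Lib.Helper43.KoszulLocal

variable {Q : ∀ {R S : Type u} [CommRing R] [CommRing S], (R →+* S) → Prop}

/-- a local property of ring maps, stable under composition and holding for quotients by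
Koszul-regular sequences, holds for quotients by Koszul-regular ideals -/
theorem quotient_of_koszulRegular (hQ : RingHom.PropertyIsLocal @Q)
    (hQc : RingHom.StableUnderComposition @Q) (hQa : RingHom.HoldsForLocalizationAway @Q)
    (hQk : ∀ (R : Type u) [CommRing R] (l : List R), LCI.IsKoszulRegularSeq R l →
      Q (algebraMap R (R ⧸ Ideal.ofList l)))
    {P : Type u} [CommRing P] (I : Ideal P)
    (hI : LCI.IsKoszulRegularIdeal I) : Q (algebraMap P (P ⧸ I)) := by
  let s : Set (P ⧸ I) := { b | ∃ g : P, Ideal.Quotient.mk I g = b ∧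
    ∃ l : List (Localization.Away g), LCI.IsKoszulRegularSeq (Localization.Away g) l ∧
      I.map (algebraMap P (Localization.Away g)) = Ideal.span {x | x ∈ l} }
  have hs : Ideal.span s = ⊤ := by
    by_contra hne
    obtain ⟨𝔪, h𝔪, hle⟩ := Ideal.exists_le_maximal _ hne
    let 𝔭 : PrimeSpectrum P := ⟨𝔪.comap (Ideal.Quotient.mk I), inferInstance⟩
    have hI𝔭 : I ≤ 𝔭.asIdeal := by
      intro x hx
      change Ideal.Quotient.mk I x ∈ 𝔪
      rw [Ideal.Quotient.eq_zero_iff_mem.2 hx]
      exact 𝔪.zero_mem
    obtain ⟨g, hg, l, hl, hIl⟩ := hI 𝔭 hI𝔭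
    exact hg (hle (Ideal.subset_span ⟨g, rfl, l, hl, hIl⟩))
  refine hQ.ofLocalizationSpanTarget.ofIsLocalization hQ.respectsIso _ s hs ?_
  rintro ⟨_, g, rfl, l, hl, hIl⟩
  refine ⟨Localization.Away g ⧸ I.map (algebraMap P (Localization.Away g)), inferInstance,
    inferInstance, ?_, ?_⟩
  · have := (inferInstance : IsLocalization
      (Algebra.algebraMapSubmonoid (P ⧸ I) (Submonoid.powers g))
      (Localization.Away g ⧸ I.map (algebraMap P (Localization.Away g))))
    rwa [Algebra.algebraMapSubmonoid_powers] at this
  · have h1 : Q (algebraMap P (Localization.Away g)) := hQa _ g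
    have h2 : Q (algebraMap (Localization.Away g)
        (Localization.Away g ⧸ I.map (algebraMap P (Localization.Away g)))) := by
      rw [hIl]
      exact hQk _ l hl
    have h3 := hQc _ _ h1 h2
    convert h3 using 1
    ext x
    rfl

/-- such a property, if it also holds for polynomial algebras, holds for lci ring maps -/
theorem of_isLCI (hQ : RingHom.PropertyIsLocal @Q)
    (hQc : RingHom.StableUnderComposition @Q) (hQa : RingHom.HoldsForLocalizationAway @Q)
    (hQk : ∀ (R : Type u) [CommRing R] (l : List R), LCI.IsKoszulRegularSeq R l →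
      Q (algebraMap R (R ⧸ Ideal.ofList l)))
    (hQp : ∀ (A : Type u) [CommRing A] (n : ℕ), Q (algebraMap A (MvPolynomial (Fin n) A)))
    (A B : Type u) [CommRing A] [CommRing B] [Algebra A B]
    (h : LCI.IsLCI A B) : Q (algebraMap A B) := by
  obtain ⟨-, n, f, hf, hI⟩ := h
  have h1 := hQp A n
  have h2 := quotient_of_koszulRegular hQ hQc hQa hQk _ hI
  have h3 := hQc _ _ h1 h2
  have h4 := hQ.respectsIso.1 _
    (Ideal.quotientKerAlgEquivOfSurjective hf).toRingEquiv h3
  convert h4 using 1
  ext x
  change algebraMap A B x = (Ideal.quotientKerAlgEquivOfSurjective hf)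
    (Ideal.Quotient.mk _ (MvPolynomial.C x))
  rw [Ideal.quotientKerAlgEquivOfSurjective_mk, ← MvPolynomial.algebraMap_eq, f.commutes]

/-- lci ring maps are of finite presentation -/
theorem finitePresentation_of_isLCI (A B : Type u) [CommRing A] [CommRing B] [Algebra A B]
    (h : LCI.IsLCI A B) : (algebraMap A B).FinitePresentation := by
  refine of_isLCI RingHom.finitePresentation_isLocal
    RingHom.finitePresentation_stableUnderComposition
    RingHom.finitePresentation_holdsForLocalizationAway ?_ ?_ A B h
  · intro R _ l _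
    rw [RingHom.finitePresentation_algebraMap]
    exact Algebra.FinitePresentation.quotient (Submodule.fg_span (List.finite_toSet l))
  · intro A _ n
    rw [RingHom.finitePresentation_algebraMap]
    infer_instance

/-- an lci morphism of schemes is locally of finite presentation, pseudo-coherent and perfect -/
theorem lci_mor {X S : Scheme.{u}} (f : X ⟶ S)
    (hf : (∀ (U : X.Opens) (V : S.Opens) (hU : IsAffineOpen U) (hV : IsAffineOpen V)
        (hUV : U ≤ f ⁻¹ᵁ V),
        letI := (f.appLE V U hUV).hom.toAlgebra
        LCI.IsLCI Γ(S, V) Γ(X, U))) :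
    LocallyOfFinitePresentation f ∧ MoreMor.IsPseudoCoherentMor f ∧ MoreMor.IsPerfectMor f := by
  refine ⟨?_, ?_, ?_⟩
  · rw [HasRingHomProperty.iff_appLE (P := @LocallyOfFinitePresentation)]
    intro V U e
    letI := (f.appLE V.1 U.1 e).hom.toAlgebra
    exact finitePresentation_of_isLCI _ _ (hf U.1 V.1 U.2 V.2 e)
  · intro U V hU hV hUV
    letI := (f.appLE V U hUV).hom.toAlgebra
    exact (KoszulPerf.isPerfectHom_of_isLCI _ _ (hf U V hU hV hUV)).1
  · intro U V hU hV hUV
    letI := (f.appLE V U hUV).hom.toAlgebra
    exact KoszulPerf.isPerfectHom_of_isLCI _ _ (hf U V hU hV hUV)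

end Groth.Agent.Lib.Helper43.KoszulLocal
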