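import Mathlib
import Groth.Agent.Lib.Helper43.KoszulAnn
import Groth.Agent.Lib.Helper43.KRPoly

set_option autoImplicit false
set_option linter.style.haveILetI false
universe u

open Polynomial RingTheory.Sequence Pointwise

namespace Groth.Agent.Lib.Helper43.KoszulToRegular

variable {A : Type u} [CommRing A]

/-- Horner polynomial with coefficients `l` -/
noncomputable def gpoly : List A → A[X]
  | [] => 0
  | a :: l => C a + X * gpoly l

lemma gpoly_mem (l : List A) : gpoly l ∈ (Ideal.ofList l).map (C : A →+* A[X]) := by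
  induction l with
  | nil => simp [gpoly]
  | cons a l ih =>
    rw [gpoly, Ideal.ofList_cons, Ideal.map_sup]
    refine Submodule.add_mem_sup ?_ ?_
    · exact Ideal.mem_map_of_mem _ (Ideal.mem_span_singleton_self a)
    · exact Ideal.mul_mem_left _ _ ih

lemma mul_eq_zero_of_smul_gpoly (l : List A) (c : A) (h : c • gpoly l = 0) :
    ∀ a ∈ l, a * c = 0 := by
  induction l with
  | nil => simp
  | cons a l ih =>
    rw [gpoly, smul_add, smul_C, smul_eq_mul, ← mul_smul_comm] at h
    have h0 : c * a = 0 := by
      have := congrArg (fun p => Polynomial.coeff p 0) h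
      simpa using this
    rw [h0, map_zero, zero_add] at h
    have h1 : c • gpoly l = 0 := by
      have hX := (mem_nonZeroDivisors_iff.mp (Polynomial.X_mem_nonzeroDivisors (R := A))).1
      apply hX
      exact h
    intro b hb
    rcases List.mem_cons.mp hb with rfl | hb
    · rw [mul_comm]; exact h0
    · exact ih h1 b hb

lemma gpoly_mem_nonZeroDivisors (l : List A) (h : ∀ x : A, (∀ a ∈ l, a * x = 0) → x = 0) :
    gpoly l ∈ nonZeroDivisors A[X] := by
  rw [Polynomial.mem_nonZeroDivisors_iff]
  intro c hc
  exact h c (mul_eq_zero_of_smul_gpoly l c hc)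

/-- lifting weak regularity along a quotient by a regular element -/
lemma isWeaklyRegular_cons_of_surjective {A B : Type*} [CommRing A] [CommRing B] (ψ : A →+* B)
    (hψ : Function.Surjective ψ) (r : A) (hker : RingHom.ker ψ = Ideal.span {r})
    (hr : IsSMulRegular A r) (rs : List A) (h : IsWeaklyRegular B (rs.map ψ)) :
    IsWeaklyRegular A (r :: rs) := by
  rw [isWeaklyRegular_cons_iff]
  refine ⟨hr, ?_⟩
  have heq : (r • ⊤ : Submodule A A) = RingHom.ker ψ := by
    rw [hker, ← Submodule.ideal_span_singleton_smul, smul_eq_mul, Ideal.mul_top]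
  let e : QuotSMulTop r A ≃+ B :=
    (Submodule.quotEquivOfEq _ _ heq).toAddEquiv.trans
      (RingHom.quotientKerEquivOfSurjective hψ).toAddEquiv
  refine (AddEquiv.isWeaklyRegular_congr (e := e)
    (List.forall₂_map_right_iff.mpr (List.forall₂_same.mpr fun a _ x => ?_))).mpr h
  induction x using Submodule.Quotient.induction_on with
  | _ y =>
    rw [← Submodule.Quotient.mk_smul]
    change ψ (a • y) = ψ a • ψ y
    rw [smul_eq_mul, map_mul, smul_eq_mul]

/-- transport of weak regularity along a ring isomorphism -/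
lemma isWeaklyRegular_map_ringEquiv {A B : Type*} [CommRing A] [CommRing B] (e : A ≃+* B)
    (rs : List A) (h : IsWeaklyRegular A rs) : IsWeaklyRegular B (rs.map e) := by
  refine (AddEquiv.isWeaklyRegular_congr (e := e.toAddEquiv)
    (List.forall₂_map_right_iff.mpr (List.forall₂_same.mpr fun a _ x => ?_))).mp h
  change e (a * x) = e a * e x
  exact map_mul e a x

/-- **Stacks 15.30.17–18 (ring level)**: a Koszul-regular sequence becomes (the ideal of) a weakly
regular sequence after adjoining finitely many polynomial variables. -/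
theorem exists_regular (n : ℕ) : ∀ (R : Type u) [CommRing R] (l : List R), l.length = n →
    LCI.IsKoszulRegularSeq R l →
    ∃ (σ : Type) (_ : Finite σ) (gs : List (MvPolynomial σ R)),
      IsWeaklyRegular (MvPolynomial σ R) gs ∧
      Ideal.ofList gs = (Ideal.ofList l).map (MvPolynomial.C : R →+* MvPolynomial σ R) := by
  induction n with
  | zero =>
    intro R _ l hl _
    have : l = [] := List.length_eq_zero_iff.mp hl
    subst this
    refine ⟨PEmpty, inferInstance, [], IsWeaklyRegular.nil _ _, ?_⟩
    simp [Ideal.ofList_nil]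
  | succ n ih =>
    intro R _ l hl h
    match l, hl, h with
    | a :: l', hl, h =>
    have hl' : l'.length = n := by simpa using hl
    set g : R[X] := gpoly (a :: l') with hgdef
    have hCflat : (Polynomial.C : R →+* R[X]).Flat := by
      rw [← Polynomial.algebraMap_eq, RingHom.flat_algebraMap_iff]; infer_instance
    have hL₁ : LCI.IsKoszulRegularSeq R[X] ((a :: l').map C) :=
      SeqFlatBC.koszulRegular_of_flat C hCflat _ h
    have hmem : X * gpoly l' ∈ Ideal.ofList (l'.map (C : R →+* R[X])) := by
      rw [← Ideal.map_ofList]; exact Ideal.mul_mem_left _ _ (gpoly_mem l')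
    have hgeq : g = C a + X * gpoly l' := rfl
    have hI : Ideal.ofList ((a :: l').map (C : R →+* R[X])) =
        Ideal.ofList (l'.map (C : R →+* R[X]) ++ [g]) := by
      rw [List.map_cons, Ideal.ofList_cons, Ideal.ofList_append, Ideal.ofList_singleton, sup_comm]
      apply le_antisymm
      · refine sup_le le_sup_left ?_
        rw [Ideal.span_singleton_le_iff_mem]
        have : C a = g - X * gpoly l' := by rw [hgeq]; ring
        rw [this]
        exact Ideal.sub_mem _ (Ideal.mem_sup_right (Ideal.mem_span_singleton_self g))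
          (Ideal.mem_sup_left hmem)
      · refine sup_le le_sup_left ?_
        rw [Ideal.span_singleton_le_iff_mem, hgeq]
        exact Ideal.add_mem _ (Ideal.mem_sup_right (Ideal.mem_span_singleton_self _))
          (Ideal.mem_sup_left hmem)
    have hL₂ : LCI.IsKoszulRegularSeq R[X] (l'.map C ++ [g]) :=
      KoszulGen.koszulRegular_of_same_length _ _ (by simp) hI hL₁
    have hg : IsSMulRegular R[X] g := by
      have hnzd := gpoly_mem_nonZeroDivisors (a :: l')
        (KoszulAnn.eq_zero_of_forall_mul_eq_zero (a :: l') (List.cons_ne_nil _ _) h)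
      intro x y hxy
      have h0 : (x - y) * g = 0 := by
        simp only [smul_eq_mul] at hxy
        rw [sub_mul, mul_comm x, mul_comm y, hxy, sub_self]
      exact sub_eq_zero.mp (mem_nonZeroDivisors_iff_right.mp hnzd _ h0)
    have hg1 : LCI.IsKoszulRegularSeq R[X] [g] := KRPoly.koszulRegular_singleton g hg
    let π : R[X] →+* R[X] ⧸ Ideal.span {g} := Ideal.Quotient.mk _
    have hπ : Function.Surjective π := Ideal.Quotient.mk_surjective
    have hker : RingHom.ker π = Ideal.ofList [g] := by
      rw [Ideal.mk_ker, Ideal.ofList_singleton]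
    have hts : LCI.IsKoszulRegularSeq (R[X] ⧸ Ideal.span {g}) ((l'.map C).map π) :=
      KRIdeal.koszulRegular_of_append π hπ [g] (l'.map C) hker hg1 hL₂
    obtain ⟨σ, hσ, gs', hgs', hI'⟩ :=
      ih (R[X] ⧸ Ideal.span {g}) ((l'.map C).map π) (by simp [hl']) hts
    let Ψ : MvPolynomial σ R[X] →+* MvPolynomial σ (R[X] ⧸ Ideal.span {g}) := MvPolynomial.map π
    have hΨ : Function.Surjective Ψ := MvPolynomial.map_surjective π hπ
    obtain ⟨gs'', hgs''⟩ : ∃ gs'' : List (MvPolynomial σ R[X]), gs''.map Ψ = gs' :=
      List.map_surjective_iff.mpr hΨ gs'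
    have hkerΨ : RingHom.ker Ψ = Ideal.span {MvPolynomial.C g} := by
      rw [MvPolynomial.ker_map, Ideal.mk_ker, Ideal.map_span, Set.image_singleton]
    have hCg : IsSMulRegular (MvPolynomial σ R[X]) (MvPolynomial.C g : MvPolynomial σ R[X]) := by
      have := IsSMulRegular.of_flat (R := R[X]) (S := MvPolynomial σ R[X]) hg
      rwa [MvPolynomial.algebraMap_eq] at this
    have hgs3 : IsWeaklyRegular (MvPolynomial σ (R[X] ⧸ Ideal.span {g})) (gs''.map Ψ) := by
      rw [hgs'']; exact hgs'
    have hreg : IsWeaklyRegular (MvPolynomial σ R[X])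
        ((MvPolynomial.C g : MvPolynomial σ R[X]) :: gs'') :=
      isWeaklyRegular_cons_of_surjective (A := MvPolynomial σ R[X])
        (B := MvPolynomial σ (R[X] ⧸ Ideal.span {g})) Ψ hΨ (MvPolynomial.C g) hkerΨ hCg gs'' hgs3
    -- ideal equality in S₀
    have hΨC : Ψ.comp (MvPolynomial.C : R[X] →+* MvPolynomial σ R[X]) =
        (MvPolynomial.C : _ →+* MvPolynomial σ (R[X] ⧸ Ideal.span {g})).comp π :=
      RingHom.ext fun x => MvPolynomial.map_C π x
    have hK : Ideal.ofList gs'' ⊔ RingHom.ker Ψ =
        ((Ideal.ofList l').map (C : R →+* R[X])).map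
          (MvPolynomial.C : R[X] →+* MvPolynomial σ R[X]) ⊔ RingHom.ker Ψ := by
      have h1 := Ideal.comap_map_of_surjective Ψ hΨ (Ideal.ofList gs'')
      have h2 := Ideal.comap_map_of_surjective Ψ hΨ (((Ideal.ofList l').map (C : R →+* R[X])).map
          (MvPolynomial.C : R[X] →+* MvPolynomial σ R[X]))
      have h3 : Ideal.comap Ψ ⊥ = RingHom.ker Ψ := rfl
      rw [← h3, ← h1, ← h2]
      congr 1
      rw [Ideal.map_ofList, hgs'', hI', ← Ideal.map_ofList, ← Ideal.map_ofList, Ideal.map_map,
        Ideal.map_map, Ideal.map_map, Ideal.map_map, hΨC]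
    have hI₀ : Ideal.ofList (MvPolynomial.C g :: gs'') = (Ideal.ofList (a :: l')).map
        ((MvPolynomial.C : R[X] →+* MvPolynomial σ R[X]).comp C) := by
      have hR : (Ideal.ofList (a :: l')).map
          ((MvPolynomial.C : R[X] →+* MvPolynomial σ R[X]).comp C) =
          ((Ideal.ofList l').map (C : R →+* R[X])).map
            (MvPolynomial.C : R[X] →+* MvPolynomial σ R[X]) ⊔ RingHom.ker Ψ := by
        have hsing : (Ideal.ofList [g]).map (MvPolynomial.C : R[X] →+* MvPolynomial σ R[X]) =
            RingHom.ker Ψ := by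
          rw [Ideal.ofList_singleton, Ideal.map_span, Set.image_singleton, hkerΨ]
        rw [← Ideal.map_map, Ideal.map_ofList C, hI, Ideal.ofList_append, Ideal.map_sup, hsing,
          ← Ideal.map_ofList C]
      rw [hR, ← hK, Ideal.ofList_cons, hkerΨ, sup_comm]
    refine ⟨Option σ, inferInstance,
      (MvPolynomial.C g :: gs'').map (MvPolynomial.optionEquivRight R σ).symm.toRingEquiv,
      isWeaklyRegular_map_ringEquiv _ _ hreg, ?_⟩
    have := Ideal.map_ofList ((MvPolynomial.optionEquivRight R σ).symm.toRingEquiv :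
      MvPolynomial σ R[X] →+* MvPolynomial (Option σ) R) (MvPolynomial.C g :: gs'')
    rw [RingEquiv.coe_toRingHom] at this
    rw [← this, hI₀, Ideal.map_map]
    congr 1
    refine RingHom.ext fun r => ?_
    change (MvPolynomial.optionEquivRight R σ).symm (MvPolynomial.C (C r)) = MvPolynomial.C r
    rw [AlgEquiv.symm_apply_eq, MvPolynomial.optionEquivRight_C]

end Groth.Agent.Lib.Helper43.KoszulToRegular
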