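import Mathlib
import Groth.Agent.Lib.Helper43.KoszulToRegular
import Groth.Agent.Lib.Helper43.RegImmFlatBC

set_option autoImplicit false
set_option linter.style.haveILetI false
universe u

open CategoryTheory CategoryTheory.Limits AlgebraicGeometry TopologicalSpace

namespace Groth.Agent.Lib.Helper43.KoszulToRegularSch

/-- the ring map induced by `Spec.map c ≫ hU.fromSpec` on `U` and `⊤` -/
lemma appLE_SpecMap_fromSpec {X : Scheme.{u}} {U : X.Opens} (hU : IsAffineOpen U)
    {P : CommRingCat.{u}} (c : Γ(X, U) ⟶ P) (e : ⊤ ≤ (Spec.map c ≫ hU.fromSpec) ⁻¹ᵁ U) :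
    (Spec.map c ≫ hU.fromSpec).appLE U ⊤ e ≫ (Scheme.ΓSpecIso P).hom = c := by
  apply Spec.map_injective
  rw [← cancel_mono hU.fromSpec, Spec.map_comp, Category.assoc,
    IsAffineOpen.SpecMap_appLE_fromSpec _ hU (isAffineOpen_top _) e, IsAffineOpen.fromSpec_top,
    Scheme.isoSpec_Spec_inv, ← Category.assoc, ← Spec.map_comp, Iso.inv_hom_id, Spec.map_id,
    Category.id_comp]

/-- chart around every point of `X` (also outside the image) -/
lemma exists_chart {Z X : Scheme.{u}} (i : Z ⟶ X) [IsClosedImmersion i]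
    (hi : RegImm.IsRegularImmersion RegImm.Kind.koszul i) (x : X) :
    ∃ U : X.affineOpens, x ∈ U.1 ∧ IsClosedImmersion (i ∣_ U.1) ∧
      ∃ rs : List Γ(X, U.1), LCI.IsKoszulRegularSeq Γ(X, U.1) rs ∧
        RingHom.ker (i.app U.1).hom = Ideal.ofList rs := by
  by_cases hx : x ∈ Set.range i
  · obtain ⟨z, rfl⟩ := hx
    obtain ⟨U, hzU, hci, rs, hrs, hker⟩ := hi.2 z
    exact ⟨U, hzU, hci, rs, hrs, hker⟩
  · have hopen : IsOpen (Set.range i)ᶜ := i.isClosedEmbedding.isClosed_range.isOpen_compl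
    obtain ⟨V, hV, hxV, hVle⟩ := exists_isAffineOpen_mem_and_subset (U := ⟨_, hopen⟩) hx
    have hbot : i ⁻¹ᵁ V = ⊥ := by
      ext z
      simp only [Scheme.Hom.mem_preimage, SetLike.mem_coe]
      constructor
      · intro hz
        exact absurd ⟨z, rfl⟩ (hVle hz)
      · intro hz
        exact absurd hz (by simp)
    haveI : Subsingleton Γ(Z, i ⁻¹ᵁ V) := by rw [hbot]; infer_instance
    refine ⟨⟨V, hV⟩, hxV, IsZariskiLocalAtTarget.restrict (P := @IsClosedImmersion) inferInstance V, [1],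
      KRPoly.koszulRegular_singleton 1 (IsSMulRegular.one _), ?_⟩
    rw [Ideal.ofList_singleton, Ideal.span_singleton_one, eq_top_iff]
    intro a _
    exact Subsingleton.elim _ _

open RingTheory.Sequence in
/-- **Stacks 15.30.17–18, scheme form**: a Koszul-regular closed immersion becomes a regular
immersion after a smooth surjective base change. -/
theorem exists_smooth_cover_regular {Z X : Scheme.{u}} (i : Z ⟶ X) [IsClosedImmersion i]
    (hi : RegImm.IsRegularImmersion RegImm.Kind.koszul i) :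
    ∃ (X' : Scheme.{u}) (g : X' ⟶ X), Smooth g ∧ Surjective g ∧
      RegImm.IsRegularImmersion RegImm.Kind.regular (pullback.snd i g) := by
  choose U hxU hci rs hrs hker using exists_chart i hi
  choose σ hσ gs hgs hIgs using fun x : X =>
    KoszulToRegular.exists_regular (rs x).length Γ(X, (U x).1) (rs x) rfl (hrs x)
  let P : X → CommRingCat.{u} := fun x => CommRingCat.of (MvPolynomial (σ x) Γ(X, (U x).1))
  let c : ∀ x, Γ(X, (U x).1) ⟶ P x := fun x => CommRingCat.ofHom MvPolynomial.C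
  let f : ∀ x, Spec (P x) ⟶ X := fun x => Spec.map (c x) ≫ (U x).2.fromSpec
  refine ⟨∐ fun x => Spec (P x), Sigma.desc f, ?_, ?_, ?_⟩
  · -- smooth
    apply IsZariskiLocalAtSource.sigmaDesc
    intro x
    haveI := hσ x
    haveI : Smooth (Spec.map (c x)) := by
      rw [HasRingHomProperty.Spec_iff (P := @Smooth)]
      change (algebraMap Γ(X, (U x).1) (MvPolynomial (σ x) Γ(X, (U x).1))).Smooth
      rw [RingHom.smooth_algebraMap]
      exact ⟨inferInstance, inferInstance⟩
    infer_instance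
  · -- surjective
    constructor
    intro x
    have hx : x ∈ Set.range (U x).2.fromSpec := by rw [(U x).2.range_fromSpec]; exact hxU x
    obtain ⟨y, hy⟩ := hx
    let s : P x ⟶ Γ(X, (U x).1) := CommRingCat.ofHom (MvPolynomial.constantCoeff)
    have hs : c x ≫ s = 𝟙 _ := by
      ext a
      simp only [c, s, CommRingCat.hom_comp, CommRingCat.hom_ofHom, RingHom.coe_comp,
        Function.comp_apply, CommRingCat.hom_id, RingHom.id_apply]
      exact MvPolynomial.constantCoeff_C _ a
    refine ⟨Sigma.ι (fun x => Spec (P x)) x (Spec.map s y), ?_⟩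
    rw [← Scheme.Hom.comp_apply, Sigma.ι_desc]
    change (Spec.map (c x) ≫ (U x).2.fromSpec) (Spec.map s y) = x
    rw [Scheme.Hom.comp_apply, ← Scheme.Hom.comp_apply (Spec.map s), ← Spec.map_comp, hs,
      Spec.map_id]
    exact hy
  · -- regular
    set g := Sigma.desc f with hg
    refine ⟨inferInstance, fun z' => ?_⟩
    obtain ⟨j, y, hy⟩ := (AlgebraicGeometry.sigmaOpenCover (fun x => Spec (P x))).exists_eq
      (pullback.snd i g z')
    change (Sigma.ι (fun x => Spec (P x)) j) y = pullback.snd i g z' at hy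
    set ι := Sigma.ι (fun x => Spec (P x)) j with hι
    have hιg : ι ≫ g = f j := Sigma.ι_desc f j
    let U' : (∐ fun x => Spec (P x)).Opens := ι ''ᵁ ⊤
    have hU' : IsAffineOpen U' := (isAffineOpen_top _).image_of_isOpenImmersion ι
    have e0 : (⊤ : (Spec (P j)).Opens) ≤ (f j) ⁻¹ᵁ (U j).1 := by
      intro w _
      change (Spec.map (c j) ≫ (U j).2.fromSpec) w ∈ (U j).1
      rw [Scheme.Hom.comp_apply]
      have := (U j).2.range_fromSpec
      have hm : (U j).2.fromSpec (Spec.map (c j) w) ∈ Set.range (U j).2.fromSpec := ⟨_, rfl⟩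
      rw [this] at hm
      exact hm
    have e : U' ≤ g ⁻¹ᵁ (U j).1 := by
      rintro _ ⟨w, hw, rfl⟩
      change g (ι w) ∈ (U j).1
      rw [← Scheme.Hom.comp_apply, hιg]
      exact e0 hw
    obtain ⟨hci', hker'⟩ := RegImmFlatBC.ker_app_baseChange i g (pullback.snd i g)
      (pullback.fst i g) (IsPullback.of_hasPullback i g) (U j).1 (U j).2 U' hU' e
    let θ : Γ(∐ fun x => Spec (P x), U') ≅ P j := ι.appIso ⊤ ≪≫ Scheme.ΓSpecIso (P j)
    have hθ : g.appLE (U j).1 U' e ≫ θ.hom = c j := by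
      change g.appLE (U j).1 U' e ≫ (ι.appIso ⊤).hom ≫ (Scheme.ΓSpecIso (P j)).hom = c j
      rw [Scheme.Hom.appIso_hom', ← Category.assoc, Scheme.Hom.appLE_comp_appLE]
      have : ∀ (φ : Spec (P j) ⟶ X) (hφ : φ = f j) (e1 : ⊤ ≤ φ ⁻¹ᵁ (U j).1),
          φ.appLE (U j).1 ⊤ e1 ≫ (Scheme.ΓSpecIso (P j)).hom = c j := by
        intro φ hφ e1
        subst hφ
        exact appLE_SpecMap_fromSpec (U j).2 (c j) e1
      exact this _ hιg _
    let θr : Γ(∐ fun x => Spec (P x), U') ≃+* MvPolynomial (σ j) Γ(X, (U j).1) :=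
      θ.commRingCatIsoToRingEquiv
    have hθr : ∀ a, θr ((g.appLE (U j).1 U' e).hom a) = MvPolynomial.C a := fun a => by
      have := congrArg (fun φ => φ.hom a) hθ
      exact this
    have hz' : pullback.snd i g z' ∈ U' := ⟨y, trivial, hy⟩
    have hcomp : ((θr.symm : MvPolynomial (σ j) Γ(X, (U j).1) →+* Γ(∐ fun x => Spec (P x), U')).comp
        MvPolynomial.C) = (g.appLE (U j).1 U' e).hom := by
      refine RingHom.ext fun a => ?_
      change θr.symm (MvPolynomial.C a) = _
      rw [RingEquiv.symm_apply_eq, hθr]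
    have hI : Ideal.ofList ((gs j).map θr.symm) =
        RingHom.ker ((pullback.snd i g).app U').hom := by
      have := Ideal.map_ofList
        (θr.symm : MvPolynomial (σ j) Γ(X, (U j).1) →+* Γ(∐ fun x => Spec (P x), U')) (gs j)
      rw [RingEquiv.coe_toRingHom] at this
      rw [← this, hIgs j, Ideal.map_map, hcomp, hker', hker j]
    refine ⟨⟨U', hU'⟩, hz', hci', (gs j).map θr.symm, ?_, hI.symm⟩
    refine ⟨KoszulToRegular.isWeaklyRegular_map_ringEquiv θr.symm _ (hgs j), ?_⟩
    rw [smul_eq_mul, Ideal.mul_top, hI]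
    intro htop
    have h1 : (1 : Γ(∐ fun x => Spec (P x), U')) ∈
        RingHom.ker ((pullback.snd i g).app U').hom := by rw [← htop]; trivial
    rw [RingHom.mem_ker, map_one] at h1
    haveI : Nonempty ((pullback.snd i g) ⁻¹ᵁ U' : (pullback i g).Opens) := ⟨⟨z', hz'⟩⟩
    haveI : Nontrivial Γ(pullback i g, (pullback.snd i g) ⁻¹ᵁ U') :=
      Scheme.component_nontrivial _ _
    exact one_ne_zero h1

end Groth.Agent.Lib.Helper43.KoszulToRegularSch
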