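import Mathlib.Tactic
import Groth.Agent.Lib.Helper43.KoszulAtLCI
import Groth.Agent.S8658

/-!
# Cancellation for local complete intersection morphisms (helper43)

* `koszulRegularSeq_nil`, `regImm_of_isIso`
* `isKoszulAt_of_smooth` : smooth morphisms are Koszul at every point
* `regImm_of_section` : a section of a smooth morphism is a Koszul-regular immersion
* `isKoszulAt_of_regImm` : Koszul-regular immersions are Koszul at every point
* `isKoszulAt_of_comp_smooth` : if `h ≫ b` is lci and `b` is smooth then `h` is lci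
-/

set_option autoImplicit false
set_option linter.style.haveILetI false
universe u

open CategoryTheory CategoryTheory.Limits AlgebraicGeometry

namespace Groth.Agent.Lib.Helper43.LCICancel

open Groth.Agent.Lib.Helper43.KoszulAtLCI Groth.Agent.Lib.Helper43.KoszulAtDescent
open Groth.Agent.Lib.Helper43.KRSmoothImm

lemma koszulRegularSeq_nil (A : Type u) [CommRing A] : LCI.IsKoszulRegularSeq A [] := by
  intro i hi
  change IsZero (((CochainComplex.singleFunctor (ModuleCat.{u} A) 0).obj
    (ModuleCat.of A A)).homology i)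
  exact HomologicalComplex.isZero_single_obj_homology _ _ _ _ hi

/-- an isomorphism is a Koszul-regular immersion -/
theorem regImm_of_isIso {X Z : Scheme.{u}} (i : X ⟶ Z) [IsIso i] :
    RegImm.IsRegularImmersion .koszul i := by
  refine ⟨inferInstance, fun z => ?_⟩
  obtain ⟨U, hU, hzU, -⟩ := exists_isAffineOpen_mem_and_subset (x := i z) (U := ⊤) trivial
  refine ⟨⟨U, hU⟩, hzU, inferInstance, [], koszulRegularSeq_nil _, ?_⟩
  rw [Ideal.ofList_nil]
  have hinj : Function.Injective (i.app U).hom :=
    (ConcreteCategory.bijective_of_isIso (i.app U)).1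
  exact (RingHom.injective_iff_ker_eq_bot _).1 hinj

/-- smooth morphisms are Koszul at every point -/
theorem isKoszulAt_of_smooth {X Y : Scheme.{u}} (f : X ⟶ Y) [Smooth f] (x : X) :
    Synt.IsKoszulAt f x := by
  refine ⟨⊤, ((⊤ : X.Opens) : Scheme.{u}), 𝟙 _, (⊤ : X.Opens).ι ≫ f, trivial, inferInstance,
    regImm_of_isIso _, inferInstance, Category.id_comp _⟩

/-- a section of a smooth morphism is a Koszul-regular immersion -/
theorem regImm_of_section {X S : Scheme.{u}} (f : X ⟶ S) [Smooth f] (σ : S ⟶ X)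
    (hσ : σ ≫ f = 𝟙 S) : RegImm.IsRegularImmersion .koszul σ := by
  haveI : IsImmersion (σ ≫ f) := by rw [hσ]; infer_instance
  haveI : IsImmersion σ := IsImmersion.of_comp σ f
  exact (regImm_koszul_iff_of_smooth (𝟙 S) σ f hσ).1 (regImm_of_isIso _)

/-- Koszul-regular immersions are Koszul at every point -/
theorem isKoszulAt_of_regImm {X Z : Scheme.{u}} (i : X ⟶ Z)
    (hi : RegImm.IsRegularImmersion .koszul i) (x : X) : Synt.IsKoszulAt i x := by
  haveI : IsImmersion i := hi.1
  refine ⟨⊤, Z, (⊤ : X.Opens).ι ≫ i, 𝟙 Z, trivial, inferInstance,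
    regImm_openImmersion_comp _ i hi, inferInstance, Category.comp_id _⟩

/-- **cancellation**: if `h ≫ b` is a local complete intersection morphism and `b` is smooth,
then `h` is a local complete intersection morphism -/
theorem isKoszulAt_of_comp_smooth {U V T : Scheme.{u}} (h : U ⟶ V) (b : V ⟶ T) [Smooth b]
    (hcomp : ∀ x : U, Synt.IsKoszulAt (h ≫ b) x) : ∀ x : U, Synt.IsKoszulAt h x := by
  have hw : (𝟙 U) ≫ (h ≫ b) = h ≫ b := Category.id_comp _
  let γ : U ⟶ pullback (h ≫ b) b := pullback.lift (𝟙 U) h hw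
  have hγ1 : γ ≫ pullback.fst (h ≫ b) b = 𝟙 U := pullback.lift_fst _ _ _
  have hγ2 : γ ≫ pullback.snd (h ≫ b) b = h := pullback.lift_snd _ _ _
  haveI : Smooth (pullback.fst (h ≫ b) b) := MorphismProperty.pullback_fst _ _ inferInstance
  have h1 : RegImm.IsRegularImmersion .koszul γ := regImm_of_section _ γ hγ1
  have h2 : ∀ w, Synt.IsKoszulAt (pullback.snd (h ≫ b) b) w :=
    Groth.Agent.S8658.result (h ≫ b) b (pullback.snd (h ≫ b) b) (pullback.fst (h ≫ b) b)
      (IsPullback.of_hasPullback (h ≫ b) b) hcomp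
  have h3 := isKoszulAt_comp γ (pullback.snd (h ≫ b) b) (isKoszulAt_of_regImm γ h1) h2
  rwa [hγ2] at h3

end Groth.Agent.Lib.Helper43.LCICancel
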