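import Mathlib

set_option autoImplicit false
universe v u w
open CategoryTheory

namespace Groth.Agent.Lib.Helper43.MassL1

theorem mass_formula {C : Type u} [Category.{v} C] (hiso : ∀ {ξ η : C} (f : ξ ⟶ η), IsIso f)
    {Xs Gs : Type w} [Finite Xs] [Finite Gs] (a : Xs → C)
    (hsurj : ∀ ξ : C, ∃ x : Xs, Nonempty (ξ ≅ a x))
    (act : Gs → Xs → Xs)
    (e : ∀ x y : Xs, (a x ⟶ a y) ≃ {g : Gs // act g y = x}) :
    Finite (Quotient (isIsomorphicSetoid C)) ∧ (∀ ξ : C, Finite (Aut ξ)) ∧
      ∑ᶠ c : Quotient (isIsomorphicSetoid C), ((Nat.card (Aut c.out) : ℚ))⁻¹ =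
        (Nat.card Xs : ℚ) / (Nat.card Gs : ℚ) := by
  classical
  let cls : Xs → Quotient (isIsomorphicSetoid C) := fun x => Quotient.mk _ (a x)
  have hcls : Function.Surjective cls := by
    intro c
    obtain ⟨x, ⟨i⟩⟩ := hsurj c.out
    refine ⟨x, ?_⟩
    have h1 : Quotient.mk (isIsomorphicSetoid C) (a x) = Quotient.mk _ c.out :=
      Quotient.sound ⟨i.symm⟩
    change Quotient.mk _ (a x) = c
    rw [h1, Quotient.out_eq]
  have hQ : Finite (Quotient (isIsomorphicSetoid C)) := Finite.of_surjective cls hcls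
  have hHom : ∀ x y, Finite (a x ⟶ a y) := fun x y => Finite.of_equiv _ (e x y).symm
  have hAut : ∀ ξ : C, Finite (Aut ξ) := by
    intro ξ
    obtain ⟨x, ⟨i⟩⟩ := hsurj ξ
    haveI := hHom x x
    refine Finite.of_injective (fun φ : Aut ξ => i.inv ≫ φ.hom ≫ i.hom) ?_
    intro φ ψ h
    apply Iso.ext
    have h2 : i.hom ≫ (i.inv ≫ φ.hom ≫ i.hom) ≫ i.inv = i.hom ≫ (i.inv ≫ ψ.hom ≫ i.hom) ≫ i.inv := by
      simp only [] at h
      rw [h]
    simpa using h2
  refine ⟨hQ, hAut, ?_⟩
  haveI := Fintype.ofFinite Xs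
  haveI := Fintype.ofFinite Gs
  haveI := Fintype.ofFinite (Quotient (isIsomorphicSetoid C))
  -- cardinality of Hom sets
  have hcardHom : ∀ x y : Xs, Nat.card (a x ⟶ a y) =
      if cls x = cls y then Nat.card (Aut (a y)) else 0 := by
    intro x y
    split_ifs with h
    · obtain ⟨j⟩ : Nonempty (a x ≅ a y) := Quotient.exact h
      refine Nat.card_congr
        { toFun := fun f => @asIso _ _ _ _ (j.inv ≫ f) (hiso _)
          invFun := fun φ => j.hom ≫ φ.hom
          left_inv := fun f => by simp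
          right_inv := fun φ => by
            apply Iso.ext
            simp }
    · haveI : IsEmpty (a x ⟶ a y) := ⟨fun f => h (Quotient.sound ⟨@asIso _ _ _ _ f (hiso f)⟩)⟩
      exact Nat.card_of_isEmpty
  -- counting Gs
  have hcount : ∀ y : Xs, Nat.card Gs = Nat.card {x : Xs // cls x = cls y} * Nat.card (Aut (a y)) := by
    intro y
    have e1 : Gs ≃ Σ x : Xs, (a x ⟶ a y) :=
      (Equiv.sigmaFiberEquiv (fun g : Gs => act g y)).symm.trans
        (Equiv.sigmaCongrRight fun x => (e x y).symm)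
    haveI : ∀ x : Xs, Finite (a x ⟶ a y) := fun x => hHom x y
    rw [Nat.card_congr e1, Nat.card_sigma]
    simp_rw [hcardHom _ y]
    rw [Finset.sum_ite, Finset.sum_const_zero, add_zero, Finset.sum_const, smul_eq_mul,
      Nat.card_eq_fintype_card (α := {x : Xs // cls x = cls y}), Fintype.card_subtype]
  -- total count
  have htot : ∑ c : Quotient (isIsomorphicSetoid C), Nat.card {x : Xs // cls x = c} = Nat.card Xs := by
    rw [← Nat.card_congr (Equiv.sigmaFiberEquiv cls), Nat.card_sigma]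
  rw [finsum_eq_sum_of_fintype]
  have hterm : ∀ c : Quotient (isIsomorphicSetoid C),
      ((Nat.card (Aut c.out) : ℚ))⁻¹ = (Nat.card {x : Xs // cls x = c} : ℚ) / (Nat.card Gs : ℚ) := by
    intro c
    obtain ⟨y, hy⟩ := hcls c
    have hio : Nonempty (c.out ≅ a y) := by
      have h0 : Quotient.mk (isIsomorphicSetoid C) c.out = Quotient.mk _ (a y) := by
        rw [Quotient.out_eq]
        exact hy.symm
      exact Quotient.exact h0
    obtain ⟨i⟩ := hio
    have h1 : Nat.card (Aut c.out) = Nat.card (Aut (a y)) := Nat.card_congr i.conjAut.toEquiv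
    have h2 := hcount y
    rw [hy] at h2
    haveI := hAut (a y)
    have hA : 0 < Nat.card (Aut (a y)) := Nat.card_pos
    haveI : Nonempty {x : Xs // cls x = c} := ⟨⟨y, hy⟩⟩
    have hF : 0 < Nat.card {x : Xs // cls x = c} := Nat.card_pos
    rw [h1, h2]
    push_cast
    have hA' : (Nat.card (Aut (a y)) : ℚ) ≠ 0 := by exact_mod_cast hA.ne'
    have hF' : (Nat.card {x : Xs // cls x = c} : ℚ) ≠ 0 := by exact_mod_cast hF.ne'
    field_simp
  simp_rw [hterm]
  rw [← Finset.sum_div]
  congr 1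
  exact_mod_cast htot

end Groth.Agent.Lib.Helper43.MassL1
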