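import Mathlib.RingTheory.GradedAlgebra.Basic
import Mathlib.Algebra.Polynomial.AlgebraMap
import Mathlib.Algebra.Algebra.Operations
import Mathlib.Algebra.DirectSum.Internal
import Mathlib.Tactic

set_option autoImplicit false

namespace Groth.Agent.Lib.Helper43

open Polynomial

section Mono

variable (R : Type*) {A : Type*} [CommRing R] [CommRing A] [Algebra R A]

noncomputable abbrev monoR (n : ℕ) : A →ₗ[R] A[X] :=
  (Polynomial.monomial n : A →ₗ[A] A[X]).restrictScalars R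

variable {R}

theorem monoR_apply (n : ℕ) (a : A) : monoR R n a = Polynomial.monomial n a := rfl

theorem map_monoR_mul (S T : Submodule R A) (a b : ℕ) :
    S.map (monoR R a) * T.map (monoR R b) = (S * T).map (monoR R (a + b)) := by
  apply le_antisymm
  · rw [Submodule.mul_le]
    rintro _ ⟨s, hs, rfl⟩ _ ⟨t, ht, rfl⟩
    refine ⟨s * t, Submodule.mul_mem_mul hs ht, ?_⟩
    simp only [monoR_apply, Polynomial.monomial_mul_monomial]
  · rw [Submodule.map_le_iff_le_comap, Submodule.mul_le]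
    intro s hs t ht
    rw [Submodule.mem_comap, monoR_apply, ← Polynomial.monomial_mul_monomial]
    exact Submodule.mul_mem_mul (Submodule.mem_map_of_mem hs) (Submodule.mem_map_of_mem ht)

theorem map_monoR_one_pow (S : Submodule R A) (n : ℕ) :
    (S.map (monoR R 1)) ^ n = (S ^ n).map (monoR R n) := by
  induction n with
  | zero =>
    rw [pow_zero, pow_zero, Submodule.one_eq_span, Submodule.one_eq_span, Submodule.map_span]
    congr 1
    simp [monoR_apply]
  | succ n ih => rw [pow_succ, ih, map_monoR_mul, pow_succ]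

theorem map_monoR_injective (n : ℕ) :
    Function.Injective (Submodule.map (monoR R n : A →ₗ[R] A[X])) :=
  Submodule.map_injective_of_injective (Polynomial.monomial_injective n)

end Mono

section Graded

variable {R A : Type*} [CommRing R] [CommRing A] [Algebra R A]
variable (𝒜 : ℕ → Submodule R A)

abbrev Age (n : ℕ) : Submodule R A := ⨆ (m : ℕ) (_ : n ≤ m), 𝒜 m

theorem le_Age {n m : ℕ} (h : n ≤ m) : 𝒜 m ≤ Age 𝒜 n :=
  le_iSup₂ (f := fun (m : ℕ) (_ : n ≤ m) => 𝒜 m) m h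

theorem Age_anti {n m : ℕ} (h : n ≤ m) : Age 𝒜 m ≤ Age 𝒜 n :=
  iSup₂_le fun k hk => le_Age 𝒜 (h.trans hk)

variable [GradedAlgebra 𝒜]

theorem graded_mul_le (a b : ℕ) : 𝒜 a * 𝒜 b ≤ 𝒜 (a + b) :=
  Submodule.mul_le.2 fun _ hx _ hy => SetLike.mul_mem_graded hx hy

theorem graded_pow_le (a n : ℕ) : 𝒜 a ^ n ≤ 𝒜 (n * a) := by
  induction n with
  | zero =>
    rw [pow_zero, zero_mul, Submodule.one_le]
    exact SetLike.one_mem_graded 𝒜
  | succ n ih =>
    rw [pow_succ, show (n + 1) * a = n * a + a by ring]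
    exact (mul_le_mul' ih le_rfl).trans (graded_mul_le 𝒜 _ _)

theorem Age_mul_eq (a b : ℕ) :
    Age 𝒜 a * Age 𝒜 b = ⨆ (j : ℕ) (_ : b ≤ j) (i : ℕ) (_ : a ≤ i), 𝒜 i * 𝒜 j := by
  simp only [Age, Submodule.iSup_mul, Submodule.mul_iSup]

theorem Age_mul_le (a b : ℕ) : Age 𝒜 a * Age 𝒜 b ≤ Age 𝒜 (a + b) := by
  rw [Age_mul_eq]
  refine iSup₂_le fun j hj => iSup₂_le fun i hi => ?_
  exact (graded_mul_le 𝒜 i j).trans (le_Age 𝒜 (by omega))

theorem map_proj_le_of_ne {k n : ℕ} (h : k ≠ n) (S : Submodule R A) (hS : S ≤ 𝒜 k) :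
    S.map (GradedAlgebra.proj 𝒜 n) = ⊥ := by
  rw [eq_bot_iff]
  rintro _ ⟨x, hx, rfl⟩
  rw [Submodule.mem_bot, GradedAlgebra.proj_apply]
  exact DirectSum.decompose_of_mem_ne 𝒜 (hS hx) h

theorem map_proj_eq_of_le {n : ℕ} (S : Submodule R A) (hS : S ≤ 𝒜 n) :
    S.map (GradedAlgebra.proj 𝒜 n) = S := by
  ext y
  constructor
  · rintro ⟨x, hx, rfl⟩
    rw [GradedAlgebra.proj_apply, DirectSum.decompose_of_mem_same 𝒜 (hS hx)]
    exact hx
  · intro hy
    refine ⟨y, hy, ?_⟩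
    rw [GradedAlgebra.proj_apply, DirectSum.decompose_of_mem_same 𝒜 (hS hy)]

end Graded

section Transfer

variable {R A B : Type*} [CommRing R] [CommRing A] [Algebra R A]
variable (𝒜 : ℕ → Submodule R A) [CommRing B] [Algebra R B] (ℬ : ℕ → Submodule R B)
variable (φ : B →ₐ[R] Polynomial A) (hφ : Function.Injective φ)
variable (hdeg : ∀ n : ℕ, Submodule.map φ.toLinearMap (ℬ n) =
      Submodule.map (monoR R n) (Age 𝒜 n))

include hφ hdeg

theorem transfer_mul (a b c : ℕ) (h : a + b = c) :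
    ℬ c = ℬ a * ℬ b ↔ Age 𝒜 c = Age 𝒜 a * Age 𝒜 b := by
  rw [← (Submodule.map_injective_of_injective (f := φ.toLinearMap) hφ).eq_iff, Submodule.map_mul,
    hdeg, hdeg, hdeg, map_monoR_mul, h, (map_monoR_injective c).eq_iff]

theorem transfer_pow (n : ℕ) :
    ℬ n = ℬ 1 ^ n ↔ Age 𝒜 n = Age 𝒜 1 ^ n := by
  rw [← (Submodule.map_injective_of_injective (f := φ.toLinearMap) hφ).eq_iff, Submodule.map_pow,
    hdeg, hdeg, map_monoR_one_pow, (map_monoR_injective n).eq_iff]

end Transfer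

end Groth.Agent.Lib.Helper43
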