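import Groth.Agent.Lib.Helper43.Natural
import Mathlib.RingTheory.GradedAlgebra.FiniteType
import Mathlib.RingTheory.GradedAlgebra.Noetherian
import Mathlib.RingTheory.FiniteType
import Mathlib.RingTheory.Polynomial.Basic
import Mathlib.Tactic

set_option autoImplicit false

namespace Groth.Agent.Lib.Helper43

open Polynomial

section FG

variable {R A B : Type*} [CommRing R] [CommRing A] [Algebra R A]
variable (𝒜 : ℕ → Submodule R A) [GradedAlgebra 𝒜] [CommRing B] [Algebra R B]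
variable (ℬ : ℕ → Submodule R B) [GradedAlgebra ℬ]
variable (φ : B →ₐ[R] Polynomial A)
variable (hdeg : ∀ n : ℕ, Submodule.map φ.toLinearMap (ℬ n) =
      Submodule.map (monoR R n) (Age 𝒜 n))

theorem Age_zero : Age 𝒜 0 = ⊤ := by
  classical
  rw [eq_top_iff]
  intro a _
  rw [← DirectSum.sum_support_decompose 𝒜 a]
  exact Submodule.sum_mem _ fun i _ => le_Age 𝒜 (Nat.zero_le i) (SetLike.coe_mem _)

include hdeg in
theorem exists_of_mem_Age {n : ℕ} {a : A} (ha : a ∈ Age 𝒜 n) :
    ∃ b ∈ ℬ n, φ b = monomial n a := by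
  have : monomial n a ∈ Submodule.map (monoR R n) (Age 𝒜 n) := ⟨a, ha, rfl⟩
  rw [← hdeg] at this
  obtain ⟨b, hb, hb'⟩ := this
  exact ⟨b, hb, hb'⟩

include hdeg in
theorem exists_of_mem_B {n : ℕ} {b : B} (hb : b ∈ ℬ n) :
    ∃ a ∈ Age 𝒜 n, φ b = monomial n a := by
  have : φ b ∈ Submodule.map φ.toLinearMap (ℬ n) := ⟨b, hb, rfl⟩
  rw [hdeg] at this
  obtain ⟨a, ha, ha'⟩ := this
  exact ⟨a, ha, ha'.symm⟩

/-- induction principle for `Age` -/
theorem Age_induction {n : ℕ} {motive : A → Prop} (hmem : ∀ m, n ≤ m → ∀ a ∈ 𝒜 m, motive a)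
    (hzero : motive 0) (hadd : ∀ a a', motive a → motive a' → motive (a + a'))
    {a : A} (ha : a ∈ Age 𝒜 n) : motive a := by
  refine Submodule.iSup_induction (p := fun m => ⨆ (_ : n ≤ m), 𝒜 m) (motive := motive) ha ?_ hzero
    hadd
  intro m x hx
  by_cases hnm : n ≤ m
  · rw [iSup_pos hnm] at hx
    exact hmem m hnm x hx
  · rw [iSup_neg hnm, Submodule.mem_bot] at hx
    rw [hx]
    exact hzero

theorem proj_of_mem {m : ℕ} {a : A} (ha : a ∈ 𝒜 m) (k : ℕ) :
    GradedAlgebra.proj 𝒜 k a = if k = m then a else 0 := by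
  rw [GradedAlgebra.proj_apply]
  split_ifs with h
  · subst h
    exact DirectSum.decompose_of_mem_same 𝒜 ha
  · exact DirectSum.decompose_of_mem_ne 𝒜 ha (Ne.symm h)

theorem proj_zero_mul {c : A} (hc : c ∈ 𝒜 0) (x : A) (m : ℕ) :
    GradedAlgebra.proj 𝒜 m (c * x) = c * GradedAlgebra.proj 𝒜 m x := by
  rw [GradedAlgebra.proj_apply, GradedAlgebra.proj_apply]
  have := DirectSum.coe_decompose_mul_of_left_mem (𝒜 := 𝒜) (i := 0) (b := x) m hc
  simpa using this

include hdeg in
theorem finiteType_B (hφ : Function.Injective φ) (h : Algebra.FiniteType (𝒜 0) A) :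
    Algebra.FiniteType (ℬ 0) B := by
  classical
  obtain ⟨s, hs, hs'⟩ := GradedAlgebra.exists_finset_adjoin_eq_top_and_homogeneous_ne_zero 𝒜
  choose! d hd0 hd using hs'
  have hex : ∀ f ∈ s, ∀ j ≤ d f, ∃ b ∈ ℬ j, φ b = monomial j f := fun f hf j hj =>
    exists_of_mem_Age 𝒜 ℬ φ hdeg (le_Age 𝒜 hj (hd f hf))
  choose! g hg hgφ using hex
  let G : Set B := ⋃ f ∈ s, ⋃ j ∈ Finset.range (d f + 1), {g f j}
  have hGfin : G.Finite :=
    Set.Finite.biUnion s.finite_toSet fun f _ =>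
      Set.Finite.biUnion (Finset.finite_toSet _) fun j _ => Set.finite_singleton _
  have hGmem : ∀ f ∈ s, ∀ j ≤ d f, g f j ∈ G := by
    intro f hf j hj
    simp only [G, Set.mem_iUnion, Set.mem_singleton_iff, Finset.mem_range]
    exact ⟨f, hf, j, by omega, rfl⟩
  let T := Algebra.adjoin (ℬ 0) G
  let P : ℕ → A → Prop := fun n a => ∃ b ∈ T, b ∈ ℬ n ∧ φ b = monomial n a
  have hP0 : ∀ a, P 0 a := by
    intro a
    obtain ⟨b, hb, hbφ⟩ := exists_of_mem_Age 𝒜 ℬ φ hdeg (n := 0) (a := a)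
      (by rw [Age_zero]; trivial)
    exact ⟨b, Subalgebra.algebraMap_mem T (⟨b, hb⟩ : ℬ 0), hb, hbφ⟩
  have hPzero : ∀ n, P n 0 := fun n => ⟨0, Subalgebra.zero_mem T, Submodule.zero_mem _, by simp⟩
  have hPadd : ∀ n a a', P n a → P n a' → P n (a + a') := by
    rintro n a a' ⟨b, hbT, hb, hbφ⟩ ⟨b', hbT', hb', hbφ'⟩
    exact ⟨b + b', Subalgebra.add_mem T hbT hbT', Submodule.add_mem _ hb hb', by
      rw [map_add, hbφ, hbφ', map_add]⟩
  have hPmul : ∀ n m a a', P n a → P m a' → P (n + m) (a * a') := by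
    rintro n m a a' ⟨b, hbT, hb, hbφ⟩ ⟨b', hbT', hb', hbφ'⟩
    exact ⟨b * b', Subalgebra.mul_mem T hbT hbT', SetLike.mul_mem_graded hb hb', by
      rw [map_mul, hbφ, hbφ', Polynomial.monomial_mul_monomial]⟩
  have hgood : ∀ μ ∈ Submonoid.closure (s : Set A), ∃ w, μ ∈ 𝒜 w ∧ ∀ n ≤ w, P n μ := by
    intro μ hμ
    induction hμ using Submonoid.closure_induction with
    | mem f hf =>
      exact ⟨d f, hd f hf, fun n hn =>
        ⟨g f n, Algebra.subset_adjoin (hGmem f hf n hn), hg f hf n hn, hgφ f hf n hn⟩⟩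
    | one =>
      refine ⟨0, SetLike.one_mem_graded 𝒜, fun n hn => ?_⟩
      obtain rfl : n = 0 := by omega
      exact hP0 1
    | mul x y _ _ hx hy =>
      obtain ⟨w, hxw, hx'⟩ := hx
      obtain ⟨w', hyw, hy'⟩ := hy
      refine ⟨w + w', SetLike.mul_mem_graded hxw hyw, fun n hn => ?_⟩
      have := hPmul (min n w) (n - min n w) x y (hx' _ (min_le_right _ _)) (hy' _ (by omega))
      rwa [show min n w + (n - min n w) = n by omega] at this
  have hhom : ∀ m n, n ≤ m → ∀ a ∈ 𝒜 m, P n a := by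
    intro m n hnm a ha
    have ha' : a ∈ Subalgebra.toSubmodule (Algebra.adjoin (𝒜 0) (s : Set A)) := by
      rw [hs]; trivial
    rw [Algebra.adjoin_eq_span] at ha'
    have key : P n (GradedAlgebra.proj 𝒜 m a) := by
      refine Submodule.span_induction (p := fun x _ => P n (GradedAlgebra.proj 𝒜 m x))
        ?_ ?_ ?_ ?_ ha'
      · intro μ hμ
        obtain ⟨w, hμw, hμP⟩ := hgood μ hμ
        rw [proj_of_mem 𝒜 hμw]
        split_ifs with hmw
        · subst hmw
          exact hμP n hnm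
        · exact hPzero n
      · rw [map_zero]
        exact hPzero n
      · intro x y _ _ hx hy
        rw [map_add]
        exact hPadd n _ _ hx hy
      · intro c x _ hx
        have hcx : c • x = (c : A) * x := rfl
        rw [hcx, proj_zero_mul 𝒜 c.2]
        have := hPmul 0 n _ _ (hP0 (c : A)) hx
        rwa [zero_add] at this
    rwa [proj_of_mem 𝒜 ha, if_pos rfl] at key
  have hAge : ∀ n, ∀ a ∈ Age 𝒜 n, P n a := by
    intro n a ha
    exact Age_induction 𝒜 (motive := P n) (fun m hnm a ha => hhom m n hnm a ha) (hPzero n)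
      (hPadd n) ha
  have hT : ∀ b : B, b ∈ T := by
    intro b
    refine DirectSum.Decomposition.inductionOn ℬ (Subalgebra.zero_mem T) ?_
      (fun x y hx hy => Subalgebra.add_mem T hx hy) b
    intro n b
    obtain ⟨a, ha, hba⟩ := exists_of_mem_B 𝒜 ℬ φ hdeg b.2
    obtain ⟨b', hb'T, _, hb'φ⟩ := hAge n a ha
    have : (b : B) = b' := hφ (by rw [hba, hb'φ])
    rw [this]
    exact hb'T
  refine ⟨Subalgebra.fg_def.mpr ⟨G, hGfin, ?_⟩⟩
  rw [eq_top_iff]
  intro b _
  exact hT b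

/-- the "diagonal part" of a polynomial: sum of the degree `n` parts of the `n`-th coefficients -/
noncomputable def diagL : A[X] →ₗ[R] A := Polynomial.lsum (fun n => GradedAlgebra.proj 𝒜 n)

theorem diagL_monomial (n : ℕ) (a : A) : diagL 𝒜 (monomial n a) = GradedAlgebra.proj 𝒜 n a := by
  simp [diagL, Polynomial.lsum_apply, Polynomial.sum_monomial_index]

theorem proj_add_mul {i j : ℕ} {x y : A} (hx : x ∈ Age 𝒜 i) (hy : y ∈ Age 𝒜 j) :
    GradedAlgebra.proj 𝒜 (i + j) (x * y) = GradedAlgebra.proj 𝒜 i x * GradedAlgebra.proj 𝒜 j y := by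
  refine Age_induction 𝒜 (motive := fun x => GradedAlgebra.proj 𝒜 (i + j) (x * y) =
    GradedAlgebra.proj 𝒜 i x * GradedAlgebra.proj 𝒜 j y) ?_ (by simp) ?_ hx
  · intro m him x hx
    refine Age_induction 𝒜 (motive := fun y => GradedAlgebra.proj 𝒜 (i + j) (x * y) =
      GradedAlgebra.proj 𝒜 i x * GradedAlgebra.proj 𝒜 j y) ?_ (by simp) ?_ hy
    · intro l hjl y hy
      rw [proj_of_mem 𝒜 (SetLike.mul_mem_graded hx hy), proj_of_mem 𝒜 hx, proj_of_mem 𝒜 hy]
      by_cases h1 : i = m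
      · by_cases h2 : j = l
        · subst h1 h2; simp
        · rw [if_neg h2, mul_zero, if_neg (by omega)]
      · rw [if_neg h1, zero_mul, if_neg (by omega)]
    · intro y y' hy hy'
      rw [mul_add, map_add, hy, hy', map_add, mul_add]
  · intro x x' hx hx'
    rw [add_mul, map_add, hx, hx', map_add, add_mul]

include hdeg in
theorem delta_mul (b b' : B) :
    diagL 𝒜 (φ (b * b')) = diagL 𝒜 (φ b) * diagL 𝒜 (φ b') := by
  classical
  refine DirectSum.Decomposition.inductionOn ℬ (by simp) ?_ ?_ b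
  · intro i b
    refine DirectSum.Decomposition.inductionOn ℬ (by simp) ?_ ?_ b'
    · intro j b'
      obtain ⟨x, hx, hbx⟩ := exists_of_mem_B 𝒜 ℬ φ hdeg b.2
      obtain ⟨y, hy, hby⟩ := exists_of_mem_B 𝒜 ℬ φ hdeg b'.2
      rw [map_mul, hbx, hby, Polynomial.monomial_mul_monomial, diagL_monomial, diagL_monomial,
        diagL_monomial, proj_add_mul 𝒜 hx hy]
    · intro y y' hy hy'
      rw [mul_add, map_add, map_add, hy, hy', map_add, map_add, mul_add]
  · intro x x' hx hx'
    rw [add_mul, map_add, map_add, hx, hx', map_add, map_add, add_mul]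

/-- the quotient map `S♮ → S`, taking `a X^n` to the degree `n` part of `a` -/
noncomputable def delta : B →+* A where
  toFun b := diagL 𝒜 (φ b)
  map_one' := by
    rw [map_one, ← Polynomial.monomial_zero_one, diagL_monomial,
      proj_of_mem 𝒜 (SetLike.one_mem_graded 𝒜), if_pos rfl]
  map_mul' := delta_mul 𝒜 ℬ φ hdeg
  map_zero' := by simp
  map_add' x y := by simp

theorem delta_apply (b : B) : delta 𝒜 ℬ φ hdeg b = diagL 𝒜 (φ b) := rfl

theorem delta_of_mem {n : ℕ} {b : B} {a : A} (hba : φ b = monomial n a) :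
    delta 𝒜 ℬ φ hdeg b = GradedAlgebra.proj 𝒜 n a := by
  rw [delta_apply, hba, diagL_monomial]

theorem delta_surjective : Function.Surjective (delta 𝒜 ℬ φ hdeg) := by
  classical
  intro a
  refine DirectSum.Decomposition.inductionOn 𝒜 ⟨0, map_zero _⟩ ?_ ?_ a
  · intro n a
    obtain ⟨b, _, hbφ⟩ := exists_of_mem_Age 𝒜 ℬ φ hdeg (le_Age 𝒜 le_rfl a.2)
    exact ⟨b, by rw [delta_of_mem 𝒜 ℬ φ hdeg hbφ, proj_of_mem 𝒜 a.2, if_pos rfl]⟩
  · rintro x y ⟨b, rfl⟩ ⟨b', rfl⟩
    exact ⟨b + b', map_add _ _ _⟩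

theorem delta_mem_zero {b : B} (hb : b ∈ ℬ 0) : delta 𝒜 ℬ φ hdeg b ∈ 𝒜 0 := by
  obtain ⟨a, _, hba⟩ := exists_of_mem_B 𝒜 ℬ φ hdeg hb
  rw [delta_of_mem 𝒜 ℬ φ hdeg hba, GradedAlgebra.proj_apply]
  exact SetLike.coe_mem _

include hdeg in
theorem finiteType_A (h : Algebra.FiniteType (ℬ 0) B) : Algebra.FiniteType (𝒜 0) A := by
  classical
  obtain ⟨s, hs⟩ := h.out
  let T := Algebra.adjoin (𝒜 0) ((delta 𝒜 ℬ φ hdeg) '' (s : Set B))
  have hT : ∀ b : B, delta 𝒜 ℬ φ hdeg b ∈ T := by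
    intro b
    have hb : b ∈ Algebra.adjoin (ℬ 0) (s : Set B) := by rw [hs]; trivial
    induction hb using Algebra.adjoin_induction with
    | mem x hx => exact Algebra.subset_adjoin ⟨x, hx, rfl⟩
    | algebraMap r =>
      have : delta 𝒜 ℬ φ hdeg (algebraMap (ℬ 0) B r) =
          algebraMap (𝒜 0) A ⟨_, delta_mem_zero 𝒜 ℬ φ hdeg r.2⟩ := rfl
      rw [this]
      exact Subalgebra.algebraMap_mem T _
    | add x y _ _ hx hy => rw [map_add]; exact Subalgebra.add_mem T hx hy
    | mul x y _ _ hx hy => rw [map_mul]; exact Subalgebra.mul_mem T hx hy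
  refine ⟨Subalgebra.fg_def.mpr ⟨(delta 𝒜 ℬ φ hdeg) '' (s : Set B),
    (s.finite_toSet.image (delta 𝒜 ℬ φ hdeg)), ?_⟩⟩
  rw [eq_top_iff]
  intro a _
  obtain ⟨b, rfl⟩ := delta_surjective 𝒜 ℬ φ hdeg a
  exact hT b

end FG

section GradedNoeth

variable {R A : Type*} [CommRing R] [CommRing A] [Algebra R A]
variable (𝒜 : ℕ → Submodule R A) [GradedAlgebra 𝒜]

/-- A Noetherian ℕ-graded ring is of finite type over its degree zero part. -/
theorem finiteType_of_isNoetherianRing [IsNoetherianRing A] : Algebra.FiniteType (𝒜 0) A := by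
  classical
  let I : Ideal A := RingHom.ker (GradedRing.projZeroRingHom 𝒜)
  obtain ⟨S, hS⟩ := (IsNoetherian.noetherian I)
  let S' : Finset A := S.biUnion (fun g =>
    (DirectSum.decompose 𝒜 g).support.image (fun n => (DirectSum.decompose 𝒜 g n : A)))
  let T := Algebra.adjoin (𝒜 0) (S' : Set A)
  have hcomp : ∀ g ∈ S, ∀ n, (DirectSum.decompose 𝒜 g n : A) ∈ T := by
    intro g hg n
    by_cases hn : n ∈ (DirectSum.decompose 𝒜 g).support
    · refine Algebra.subset_adjoin ?_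
      rw [Finset.mem_coe]
      exact Finset.mem_biUnion.mpr ⟨g, hg, Finset.mem_image.mpr ⟨n, hn, rfl⟩⟩
    · rw [DFinsupp.notMem_support_iff] at hn
      rw [hn]
      exact Subalgebra.zero_mem T
  have hg0 : ∀ g ∈ S, (DirectSum.decompose 𝒜 g 0 : A) = 0 := by
    intro g hg
    have : g ∈ I := hS ▸ Ideal.subset_span hg
    exact this
  have hmain : ∀ d, ∀ a ∈ 𝒜 d, a ∈ T := by
    intro d
    induction d using Nat.strong_induction_on with
    | _ d ih =>
      intro a ha
      rcases Nat.eq_zero_or_pos d with rfl | hd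
      · exact Subalgebra.algebraMap_mem T (⟨a, ha⟩ : 𝒜 0)
      · have haI : a ∈ I := by
          change (DirectSum.decompose 𝒜 a 0 : A) = 0
          exact DirectSum.decompose_of_mem_ne 𝒜 ha (by omega)
        rw [← hS] at haI
        obtain ⟨c, hc⟩ := Submodule.mem_span_finset'.mp haI
        have h1 : a = ∑ g : S, GradedAlgebra.proj 𝒜 d (c g * (g : A)) := by
          conv_lhs => rw [← DirectSum.decompose_of_mem_same 𝒜 ha, ← hc]
          rw [← GradedAlgebra.proj_apply, map_sum]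
          rfl
        rw [h1]
        refine Subalgebra.sum_mem T fun g _ => ?_
        have h2 : GradedAlgebra.proj 𝒜 d (c g * (g : A)) =
            ∑ n ∈ (DirectSum.decompose 𝒜 (g : A)).support,
              GradedAlgebra.proj 𝒜 d (c g * (DirectSum.decompose 𝒜 (g : A) n : A)) := by
          conv_lhs => rw [← DirectSum.sum_support_decompose 𝒜 (g : A), Finset.mul_sum, map_sum]
        rw [h2]
        refine Subalgebra.sum_mem T fun n hn => ?_
        rw [GradedAlgebra.proj_apply]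
        by_cases hnd : n ≤ d
        · rw [DirectSum.coe_decompose_mul_of_right_mem_of_le 𝒜 (SetLike.coe_mem _) hnd]
          have hn0 : n ≠ 0 := by
            rintro rfl
            rw [DFinsupp.mem_support_iff] at hn
            apply hn
            exact Subtype.ext (hg0 g g.2)
          exact Subalgebra.mul_mem T (ih (d - n) (by omega) _ (SetLike.coe_mem _)) (hcomp g g.2 n)
        · rw [DirectSum.coe_decompose_mul_of_right_mem_of_not_le 𝒜 (SetLike.coe_mem _) hnd]
          exact Subalgebra.zero_mem T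
  refine ⟨Subalgebra.fg_def.mpr ⟨(S' : Set A), S'.finite_toSet, ?_⟩⟩
  rw [eq_top_iff]
  intro a _
  rw [← DirectSum.sum_support_decompose 𝒜 a]
  exact Subalgebra.sum_mem T fun n _ => hmain n _ (SetLike.coe_mem _)

end GradedNoeth

end Groth.Agent.Lib.Helper43
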