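import Mathlib.Tactic
import Mathlib.Algebra.Polynomial.Module.TensorProduct
import Mathlib.RingTheory.TensorProduct.Basic
import Mathlib.Algebra.Homology.DerivedCategory.SingleTriangle
import Mathlib.Algebra.Homology.ShortComplex.ModuleCat
import Groth.Prelude.Def_DRing2
import Groth.Agent.Lib.Helper84.FlatBC
import Groth.Agent.Lib.Helper84.FlatAmpTri
import Groth.Agent.Lib.Helper43.RestrictSingle
import Groth.Agent.S6946
import Groth.Agent.S6947

/-!
# Tor amplitude over polynomial rings (helper43)

* `psi_injective`, `ker_mu_le_range_psi`, `mu_surjective`: the short exact sequence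
  `0 → R[X] ⊗ M → R[X] ⊗ M → M → 0` of `R[X]`-modules attached to an `R[X]`-module `M`;
* `torAmp_polynomial`: `M` of tor amplitude `[a, 0]` over `R` has tor amplitude `[a - 1, 0]` over
  `R[X]`.
-/

set_option autoImplicit false
universe u

open Polynomial TensorProduct

namespace Groth.Agent.Lib.Helper43.PolyTor

section SES

variable (R : Type u) [CommRing R] (M : Type u) [AddCommGroup M] [Module R M] [Module R[X] M]
  [IsScalarTower R R[X] M]

/-- multiplication by `X` on `M`, as an `R`-linear map -/
noncomputable def ellX : M →ₗ[R] M := (LinearMap.lsmul R[X] M X).restrictScalars R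

/-- the evaluation map `R[X] ⊗ M → M` -/
noncomputable def mu : R[X] ⊗[R] M →ₗ[R[X]] M := LinearMap.liftBaseChange R[X] (LinearMap.id)

/-- the map `X ⊗ 1 - 1 ⊗ X` -/
noncomputable def psi : R[X] ⊗[R] M →ₗ[R[X]] R[X] ⊗[R] M :=
  LinearMap.lsmul R[X] (R[X] ⊗[R] M) X - LinearMap.baseChange R[X] (ellX R M)

@[simp] lemma mu_tmul (p : R[X]) (m : M) : mu R M (p ⊗ₜ m) = p • m := by
  simp [mu]

@[simp] lemma psi_tmul (p : R[X]) (m : M) :
    psi R M (p ⊗ₜ m) = (X * p) ⊗ₜ m - p ⊗ₜ ((X : R[X]) • m) := by
  simp [psi, ellX, TensorProduct.smul_tmul']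

lemma mu_psi (t : R[X] ⊗[R] M) : mu R M (psi R M t) = 0 := by
  induction t with
  | zero => simp
  | add x y hx hy => rw [map_add, map_add, hx, hy, add_zero]
  | tmul p m => rw [psi_tmul, map_sub, mu_tmul, mu_tmul, mul_comm, mul_smul, sub_self]

lemma mu_surjective : Function.Surjective (mu R M) := fun m => ⟨1 ⊗ₜ m, by simp⟩

lemma sub_mem_range_psi (t : R[X] ⊗[R] M) :
    t - 1 ⊗ₜ (mu R M t) ∈ LinearMap.range (psi R M) := by
  induction t with
  | zero => simp
  | add x y hx hy =>
    have : x + y - 1 ⊗ₜ[R] (mu R M (x + y)) = (x - 1 ⊗ₜ (mu R M x)) + (y - 1 ⊗ₜ (mu R M y)) := by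
      rw [map_add, TensorProduct.tmul_add]; abel
    rw [this]
    exact Submodule.add_mem _ hx hy
  | tmul p m =>
    induction p using Polynomial.induction_on' generalizing m with
    | add p q hp hq =>
      have : (p + q) ⊗ₜ[R] m - 1 ⊗ₜ[R] (mu R M ((p + q) ⊗ₜ m)) =
          (p ⊗ₜ m - 1 ⊗ₜ (mu R M (p ⊗ₜ m))) + (q ⊗ₜ m - 1 ⊗ₜ (mu R M (q ⊗ₜ m))) := by
        rw [TensorProduct.add_tmul, map_add, TensorProduct.tmul_add]; abel
      rw [this]
      exact Submodule.add_mem _ (hp m) (hq m)
    | monomial k r =>
      induction k generalizing m with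
      | zero =>
        have : (monomial 0 r) ⊗ₜ[R] m - 1 ⊗ₜ[R] (mu R M ((monomial 0 r) ⊗ₜ m)) = 0 := by
          rw [mu_tmul, monomial_zero_left, ← Polynomial.algebraMap_eq, algebraMap_smul,
            ← TensorProduct.smul_tmul, Algebra.algebraMap_eq_smul_one, sub_self]
        rw [this]
        exact Submodule.zero_mem _
      | succ k ih =>
        have h1 : (monomial (k + 1) r : R[X]) = X * monomial k r := by
          rw [X_mul_monomial]
        have : (monomial (k + 1) r) ⊗ₜ[R] m - 1 ⊗ₜ[R] (mu R M ((monomial (k + 1) r) ⊗ₜ m)) =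
            psi R M ((monomial k r) ⊗ₜ m) +
              ((monomial k r) ⊗ₜ ((X : R[X]) • m) - 1 ⊗ₜ (mu R M ((monomial k r) ⊗ₜ ((X : R[X]) • m)))) := by
          rw [psi_tmul, mu_tmul, mu_tmul, h1, mul_comm X, mul_smul]
          abel
        rw [this]
        exact Submodule.add_mem _ ⟨_, rfl⟩ (ih ((X : R[X]) • m))

lemma ker_mu_le_range_psi : LinearMap.ker (mu R M) ≤ LinearMap.range (psi R M) := by
  intro t ht
  have := sub_mem_range_psi R M t
  rw [LinearMap.mem_ker.1 ht, TensorProduct.tmul_zero, sub_zero] at this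
  exact this

open PolynomialModule in
lemma E_tmul (p : R[X]) (m : M) :
    polynomialTensorProductLEquivPolynomialModule R M (p ⊗ₜ m) = p • lsingle R 0 m := by
  simp [polynomialTensorProductLEquivPolynomialModule]

open PolynomialModule in
lemma E_baseChange (t : R[X] ⊗[R] M) :
    polynomialTensorProductLEquivPolynomialModule R M
      (LinearMap.baseChange R[X] (ellX R M) t) =
    PolynomialModule.map R (ellX R M) (polynomialTensorProductLEquivPolynomialModule R M t) := by
  induction t with
  | zero => simp
  | add x y hx hy => simp only [map_add, hx, hy]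
  | tmul p m =>
    rw [LinearMap.baseChange_tmul, E_tmul, E_tmul, PolynomialModule.map_smul, map_lsingle]
    simp

open PolynomialModule in
lemma E_psi (t : R[X] ⊗[R] M) :
    polynomialTensorProductLEquivPolynomialModule R M (psi R M t) =
      (X : R[X]) • polynomialTensorProductLEquivPolynomialModule R M t -
      PolynomialModule.map R (ellX R M) (polynomialTensorProductLEquivPolynomialModule R M t) := by
  rw [psi, LinearMap.sub_apply, map_sub, E_baseChange, LinearMap.lsmul_apply, _root_.map_smul]

open PolynomialModule in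
lemma psi_injective : Function.Injective (psi R M) := by
  rw [injective_iff_map_eq_zero]
  intro t ht
  set g := polynomialTensorProductLEquivPolynomialModule R M t with hg
  have h0 : (X : R[X]) • g - PolynomialModule.map R (ellX R M) g = 0 := by
    rw [hg, ← E_psi, ht, map_zero]
  have hrec : ∀ n : ℕ, g.coeff n = (X : R[X]) • g.coeff (n + 1) := by
    intro n
    have h1 := congrArg (fun q : PolynomialModule R M => q.coeff (n + 1)) (sub_eq_zero.1 h0)
    rw [← monomial_one_one_eq_X, monomial_smul_apply] at h1
    simp only [PolynomialModule.map, LinearMap.coe_comp, LinearEquiv.coe_coe,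
      Function.comp_apply, coeffLinearEquiv_symm_apply, coeffLinearEquiv_apply] at h1
    simpa [ellX] using h1
  obtain ⟨N, hN⟩ : ∃ N : ℕ, ∀ n, N ≤ n → g.coeff n = 0 := by
    refine ⟨g.coeff.support.sup id + 1, fun n hn => ?_⟩
    by_contra h
    have := Finset.le_sup (f := id) (Finsupp.mem_support_iff.2 h)
    simp only [id] at this
    lia
  have hz : ∀ k n : ℕ, N ≤ n + k → g.coeff n = 0 := by
    intro k
    induction k with
    | zero => intro n hn; exact hN n (by simpa using hn)
    | succ k ih =>
      intro n hn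
      rw [hrec n, ih (n + 1) (by lia), smul_zero]
  have hg0 : g = 0 := by
    apply PolynomialModule.coeff_injective
    ext n
    simpa using hz N n (by lia)
  exact (polynomialTensorProductLEquivPolynomialModule R M).injective (by rw [← hg, hg0, map_zero])

end SES

section TorAmp

open CategoryTheory CategoryTheory.Limits DerivedCategory DRing
attribute [local instance] HasDerivedCategory.standard
open Groth.Agent.Lib.Helper84

/-- the short exact sequence `0 → R[X] ⊗ M → R[X] ⊗ M → M → 0` of `R[X]`-modules -/
noncomputable def polySC (R : Type u) [CommRing R] (M : Type u) [AddCommGroup M] [Module R M]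
    [Module R[X] M] [IsScalarTower R R[X] M] : ShortComplex (ModuleCat.{u} R[X]) :=
  ModuleCat.shortComplexOfCompEqZero (psi R M) (mu R M)
    (LinearMap.ext (fun t => mu_psi R M t))

lemma polySC_shortExact (R : Type u) [CommRing R] (M : Type u) [AddCommGroup M] [Module R M]
    [Module R[X] M] [IsScalarTower R R[X] M] : (polySC R M).ShortExact :=
  ModuleCat.shortComplex_shortExact _
    (LinearMap.exact_iff.2 (le_antisymm (ker_mu_le_range_psi R M) (by
      rintro _ ⟨t, rfl⟩
      exact mu_psi R M t)))
    (psi_injective R M) (mu_surjective R M)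

/-- an `R[X]`-module which has tor amplitude in `[a, 0]` over `R` has tor amplitude in
`[a - 1, 0]` over `R[X]` -/
theorem torAmp_polynomial (R : Type u) [CommRing R] (M : Type u) [AddCommGroup M] [Module R M]
    [Module R[X] M] [IsScalarTower R R[X] M] (a : ℤ)
    (h : HasTorAmplitudeIn R a 0 (Dual.inD R M)) :
    HasTorAmplitudeIn R[X] (a - 1) 0 (Dual.inD R[X] M) := by
  have h1 : HasTorAmplitudeIn R[X] a 0 (Dual.inD R[X] (R[X] ⊗[R] M)) :=
    FlatBC.module_baseChange M (HasTorAmplitudeIn R a 0) (HasTorAmplitudeIn R[X] a 0)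
      (fun X Y e hX => FlatAmp.torAmp_of_iso hX e)
      (fun f _ K hK => FlatBC.hasTorAmplitudeIn_bc f a 0 K hK) h
  have hT := (polySC_shortExact R M).singleTriangle_distinguished
  exact FlatAmp.torAmp_obj₃ _ hT (a - 1) 0 (FlatAmp.torAmp_mono h1 (by lia) (by lia))
    (FlatAmp.torAmp_mono h1 (by lia) le_rfl)

/-- restriction of scalars along a flat ring map preserves tor amplitude `[a, 0]` of modules -/
theorem torAmp_restrict_flat (B C : Type u) [CommRing B] [CommRing C] [Algebra B C]
    [Module.Flat B C] (M : Type u) [AddCommGroup M] [Module C M] [Module B M]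
    [IsScalarTower B C M] (a : ℤ) (h : HasTorAmplitudeIn C a 0 (Dual.inD C M)) :
    HasTorAmplitudeIn B a 0 (Dual.inD B M) := by
  have hB : HasTorAmplitudeIn B (-((0 : ℕ) : ℤ)) 0 (Dual.inD B C) :=
    (Groth.Agent.S6946.result B C 0).1.1 ((Groth.Agent.S6946.result B C 0).2.2 inferInstance)
  have h2 := Groth.Agent.S6947.result 0 hB (Dual.inD C M) a 0 h
  have h3 := FlatAmp.torAmp_of_iso h2 (RestrictSingle.restrictSingleIso B C M)
  simpa using h3

/-- transfer of tor amplitude of a module along a ring isomorphism -/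
theorem torAmp_of_ringEquiv {B C : Type u} [CommRing B] [CommRing C] (σ : B ≃+* C) (M : Type u)
    [AddCommGroup M] [Module B M] [Module C M] (hσ : ∀ (b : B) (m : M), σ b • m = b • m) (a : ℤ)
    (h : HasTorAmplitudeIn C a 0 (Dual.inD C M)) : HasTorAmplitudeIn B a 0 (Dual.inD B M) := by
  letI : Algebra B C := σ.toRingHom.toAlgebra
  haveI : Module.Flat B C :=
    (RingHom.Flat.of_bijective (f := σ.toRingHom) σ.bijective : σ.toRingHom.Flat)
  haveI : IsScalarTower B C M := ⟨fun b c m => by
    change (σ b * c) • m = b • (c • m)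
    rw [mul_smul, hσ]⟩
  exact torAmp_restrict_flat B C M a h

/-- a module over `A[x₁, …, xₙ]` of tor amplitude `[a, 0]` over `A` has tor amplitude
`[a - n, 0]` over `A[x₁, …, xₙ]` -/
theorem torAmp_mvPolynomial (A : Type u) [CommRing A] (n : ℕ) :
    ∀ (M : Type u) [AddCommGroup M] [Module A M] [Module (MvPolynomial (Fin n) A) M]
      [IsScalarTower A (MvPolynomial (Fin n) A) M] (a : ℤ),
      HasTorAmplitudeIn A a 0 (Dual.inD A M) →
      HasTorAmplitudeIn (MvPolynomial (Fin n) A) (a - n) 0
        (Dual.inD (MvPolynomial (Fin n) A) M) := by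
  induction n with
  | zero =>
    intro M _ _ _ _ a h
    have h1 := torAmp_of_ringEquiv (MvPolynomial.isEmptyRingEquiv A (Fin 0)) M (fun p m => by
      have hp : p = algebraMap A _ (MvPolynomial.isEmptyRingEquiv A (Fin 0) p) := by
        rw [MvPolynomial.algebraMap_eq,
          ← MvPolynomial.isEmptyRingEquiv_symm_apply (R := A) (σ := Fin 0),
          RingEquiv.symm_apply_apply]
      conv_rhs => rw [hp, algebraMap_smul]) a h
    simpa using h1
  | succ n ih =>
    intro M _ _ _ _ a h
    let σ := MvPolynomial.finSuccEquiv A n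
    letI m1 : Module (Polynomial (MvPolynomial (Fin n) A)) M :=
      Module.compHom M (σ.symm.toRingEquiv.toRingHom :
        Polynomial (MvPolynomial (Fin n) A) →+* MvPolynomial (Fin (n + 1)) A)
    letI m2 : Module (MvPolynomial (Fin n) A) M :=
      Module.compHom M (Polynomial.C :
        MvPolynomial (Fin n) A →+* Polynomial (MvPolynomial (Fin n) A))
    haveI t1 : IsScalarTower (MvPolynomial (Fin n) A) (Polynomial (MvPolynomial (Fin n) A)) M :=
      ⟨fun q p m => by
        change (σ.symm (q • p)) • m = σ.symm (Polynomial.C q) • (σ.symm p • m)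
        rw [← mul_smul, ← map_mul, Polynomial.C_mul']⟩
    haveI t2 : IsScalarTower A (MvPolynomial (Fin n) A) M :=
      ⟨fun r q m => by
        change (σ.symm (Polynomial.C (r • q))) • m = r • (σ.symm (Polynomial.C q) • m)
        rw [← smul_assoc]
        congr 1
        rw [← map_smul σ.symm, Polynomial.smul_C]⟩
    have h1 := ih M a h
    have h2 := torAmp_polynomial (MvPolynomial (Fin n) A) M (a - n) h1
    have h3 := torAmp_of_ringEquiv σ.toRingEquiv M (fun p m => by
      change σ.symm (σ p) • m = p • m
      rw [AlgEquiv.symm_apply_apply]) _ h2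
    convert h3 using 1
    push_cast
    ring

end TorAmp

end Groth.Agent.Lib.Helper43.PolyTor
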