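import Mathlib.AlgebraicGeometry.ProjectiveSpectrum.Functor
import Mathlib.AlgebraicGeometry.Morphisms.IsIso
import Mathlib.Tactic

set_option autoImplicit false

universe u

namespace Groth.Agent.Lib.Helper43

open AlgebraicGeometry CategoryTheory Limits HomogeneousLocalization

variable {A B σ τ : Type u} [CommRing A] [SetLike σ A] [AddSubgroupClass σ A]
  [CommRing B] [SetLike τ B] [AddSubgroupClass τ B]
  {𝒜 : ℕ → σ} {ℬ : ℕ → τ} [GradedRing 𝒜] [GradedRing ℬ]

/-- A graded ring hom inducing isomorphisms on all degree-zero localisations at homogeneous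
elements of positive degree induces an isomorphism on `Proj`. -/
theorem proj_map_isIso (f : 𝒜 →+*ᵍ ℬ)
    (hf : HomogeneousIdeal.irrelevant ℬ ≤ (HomogeneousIdeal.irrelevant 𝒜).map f)
    (H : ∀ (i : ℕ) (_ : 0 < i) (s : A) (_ : s ∈ 𝒜 i), Function.Bijective (Away.map f s)) :
    IsIso (Proj.map f hf) := by
  rw [← MorphismProperty.isomorphisms.iff]
  refine IsZariskiLocalAtTarget.of_openCover (P := MorphismProperty.isomorphisms Scheme)
    (Proj.affineOpenCover 𝒜).openCover ?_
  intro i
  rw [MorphismProperty.isomorphisms.iff]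
  obtain ⟨⟨d, hd⟩, ⟨s, hs⟩⟩ := i
  have hbij := H d hd s hs
  have hiso : IsIso (Spec.map (CommRingCat.ofHom (Away.map f s))) :=
    isIso_SpecMap_iff.mpr hbij
  have hpb : IsPullback (Spec.map (CommRingCat.ofHom (Away.map f s)))
      (Proj.awayι ℬ (f s) (f.2 hs) hd) (Proj.awayι 𝒜 s hs hd) (Proj.map f hf) := by
    refine IsOpenImmersion.isPullback _ _ _ _ (Proj.awayι_comp_map f hf hd s hs) ?_
    rw [Proj.opensRange_awayι, Proj.opensRange_awayι, Proj.map_preimage_basicOpen]
  change IsIso (pullback.snd (Proj.map f hf) (Proj.awayι 𝒜 s hs hd))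
  have : pullback.snd (Proj.map f hf) (Proj.awayι 𝒜 s hs hd) =
      hpb.flip.isoPullback.inv ≫ Spec.map (CommRingCat.ofHom (Away.map f s)) := by
    rw [Iso.eq_inv_comp]
    exact hpb.flip.isoPullback_hom_snd
  rw [this]
  infer_instance

/-- A surjective graded ring hom which is injective in large degrees induces bijections on
the degree zero localisations at homogeneous elements of positive degree. -/
theorem away_map_bijective (f : 𝒜 →+*ᵍ ℬ) (hsurj : Function.Surjective f) (n₀ : ℕ)
    (hinj : ∀ n, n₀ ≤ n → ∀ c ∈ 𝒜 n, f c = 0 → c = 0)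
    (d : ℕ) (hd : 0 < d) (s : A) (hs : s ∈ 𝒜 d) : Function.Bijective (Away.map f s) := by
  classical
  constructor
  · rw [injective_iff_map_eq_zero]
    intro x hx
    obtain ⟨n, a, ha, rfl⟩ := Away.mk_surjective 𝒜 hs x
    rw [Away.map_mk] at hx
    have hx' := congrArg HomogeneousLocalization.val hx
    rw [Away.val_mk, HomogeneousLocalization.val_zero, Localization.mk_eq_mk',
      IsLocalization.mk'_eq_zero_iff] at hx'
    obtain ⟨⟨_, j, rfl⟩, hj⟩ := hx'
    have hj' : f (s ^ (j + n₀) * a) = 0 := by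
      rw [map_mul, map_pow, pow_add, mul_right_comm, hj, zero_mul]
    have hmem : s ^ (j + n₀) * a ∈ 𝒜 ((j + n₀) • d + n • d) :=
      SetLike.mul_mem_graded (SetLike.pow_mem_graded _ hs) ha
    have hz : s ^ (j + n₀) * a = 0 := by
      refine hinj _ ?_ _ hmem hj'
      simp only [smul_eq_mul]
      nlinarith
    apply HomogeneousLocalization.val_injective
    rw [Away.val_mk, HomogeneousLocalization.val_zero, Localization.mk_eq_mk',
      IsLocalization.mk'_eq_zero_iff]
    exact ⟨⟨s ^ (j + n₀), j + n₀, rfl⟩, hz⟩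
  · intro y
    obtain ⟨n, b, hb, rfl⟩ := Away.mk_surjective ℬ (f.map_mem hs) y
    obtain ⟨a', ha'⟩ := hsurj b
    set a : A := (DirectSum.decompose 𝒜 a' (n • d) : A) with hadef
    have ha : a ∈ 𝒜 (n • d) := SetLike.coe_mem _
    have hfa : f a = b := by
      rw [hadef, GradedRingHom.map_directSumDecompose, ha', DirectSum.decompose_of_mem_same ℬ hb]
    refine ⟨Away.mk 𝒜 hs n a ha, ?_⟩
    rw [Away.map_mk]
    congr 1

end Groth.Agent.Lib.Helper43
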