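import Mathlib.Tactic
import Groth.Agent.Lib.Helper43.KoszulPerf
import Groth.Prelude.Def_Mor2
import Mathlib.AlgebraicGeometry.Morphisms.ClosedImmersion

set_option autoImplicit false
universe u

open CategoryTheory AlgebraicGeometry

namespace Groth.Agent.Lib.Helper43.RegImmPerf

open Groth.Agent.Lib.Helper43.KoszulPerf

/-- a regular closed immersion is a perfect morphism -/
theorem perfMor_of_regularClosedImmersion {Z X : Scheme.{u}} (i : Z ⟶ X)
    (hi : Mor2.IsRegularClosedImmersion i) : MoreMor.IsPerfectMor i := by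
  obtain ⟨hci, hreg⟩ := hi
  haveI := hci
  rw [← PerfMor.perfMor_iff, HasRingHomProperty.iff_exists_appLE (P := PerfMor.perfMor)
    PerfMor.PerfQ_stableUnderCompositionWithLocalizationAwaySource]
  intro z
  obtain ⟨U, hU, hzU, rs, hrs, hker⟩ := hreg z
  refine ⟨⟨U, hU⟩, ⟨i ⁻¹ᵁ U, hU.preimage i⟩, hzU, le_rfl, ?_⟩
  have hsurj : Function.Surjective (i.app U).hom := i.app_surjective U hU
  have hk : RingHom.ker (i.app U).hom = Ideal.ofList rs := by
    rw [← hker, Scheme.Hom.ker_apply]
  have h1 : PerfMor.PerfQ (algebraMap Γ(X, U) (Γ(X, U) ⧸ Ideal.ofList rs)) :=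
    perfQ_quotient_koszul rs (Helper98.KoszulLES.koszul_of_weaklyRegular rs hrs.toIsWeaklyRegular).1
  rw [← hk] at h1
  have h2 := PerfMor.PerfQ_propertyIsLocal.respectsIso.1 _
    (RingHom.quotientKerEquivOfSurjective hsurj) h1
  convert h2 using 1
  ext x
  change (i.appLE U (i ⁻¹ᵁ U) le_rfl).hom x =
    (RingHom.quotientKerEquivOfSurjective hsurj) (Ideal.Quotient.mk _ x)
  rw [RingHom.quotientKerEquivOfSurjective_apply_mk, ← Scheme.Hom.app_eq_appLE]

end Groth.Agent.Lib.Helper43.RegImmPerf
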