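import Mathlib.Tactic
import Groth.Prelude.Def_DRing2
import Groth.Agent.Lib.Helper43.FibreAmp
import Groth.Agent.Lib.Helper15.LBCKFlat
import Groth.Agent.Lib.Helper15.LDerived
import Groth.Agent.Lib.Helper68.TorBaseChange
import Groth.Agent.S6948
import Groth.Agent.S7034
import Mathlib.RingTheory.IsTensorProduct

/-!
# Fibres of a complex over `B` relative to `A → B` (helper43)

For `A → B` and an `A`-algebra `S`, with `B' = S ⊗_A B`:

* `exact_baseChange_of_exact_lTensor`: exactness of `S ⊗_A (u, v)` gives exactness of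
  `B' ⊗_B (u, v)` (Mathlib's `Algebra.IsPushout.cancelBaseChange`);
* `exactAt_ext_includeRight`: the complex version;
* `exactAt_fibre_of_relative`: if `S ⊗_A E` is exact outside `[a, b]`, every `B'`-module has
  projective dimension `≤ d` and `B' → B/m` factors the quotient map, then `B/m ⊗_B E` is exact
  outside `[a - d, b]`.
-/

set_option autoImplicit false
universe u

open CategoryTheory CategoryTheory.Limits DerivedCategory TensorProduct

attribute [local instance] HasDerivedCategory.standard

namespace Groth.Agent.Lib.Helper43.RelFibre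

open DRing Groth.Agent.Lib.Helper43 Groth.Agent.Lib.Helper84 Groth.Agent.Lib.Helper84.FlatBC
  Groth.Agent.Lib.Helper84.FlatAmp Groth.Agent.Lib.Helper68.TorBaseChange

section Elementwise

variable {A B S B' : Type u} [CommRing A] [CommRing B] [CommRing S] [CommRing B']
  [Algebra A B] [Algebra A S] [Algebra A B'] [Algebra B B'] [Algebra S B']
  [IsScalarTower A B B'] [IsScalarTower A S B'] [Algebra.IsPushout A S B B']
  {X₁ X₂ X₃ : Type u} [AddCommGroup X₁] [Module A X₁] [Module B X₁] [IsScalarTower A B X₁]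
  [AddCommGroup X₂] [Module A X₂] [Module B X₂] [IsScalarTower A B X₂]
  [AddCommGroup X₃] [Module A X₃] [Module B X₃] [IsScalarTower A B X₃]

lemma cancel_natural (u : X₁ →ₗ[B] X₂) (z : S ⊗[A] X₁) :
    (Algebra.IsPushout.cancelBaseChange A S B B' X₂).symm
        (((u.restrictScalars A).lTensor S) z) =
      (u.baseChange B') ((Algebra.IsPushout.cancelBaseChange A S B B' X₁).symm z) := by
  induction z using TensorProduct.induction_on with
  | zero => simp
  | tmul s x => simp
  | add z₁ z₂ h₁ h₂ => rw [map_add, map_add, map_add, map_add, h₁, h₂]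

/-- exactness after `S ⊗_A -` gives exactness after `B' ⊗_B -` when `B' = S ⊗_A B` -/
theorem exact_baseChange_of_exact_lTensor (u : X₁ →ₗ[B] X₂) (v : X₂ →ₗ[B] X₃)
    (h : Function.Exact ((u.restrictScalars A).lTensor S) ((v.restrictScalars A).lTensor S)) :
    Function.Exact (u.baseChange B') (v.baseChange B') := by
  intro y
  obtain ⟨z, rfl⟩ := (Algebra.IsPushout.cancelBaseChange A S B B' X₂).symm.surjective y
  rw [← cancel_natural v z]
  constructor
  · intro hz
    have hz' : ((v.restrictScalars A).lTensor S) z = 0 :=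
      (Algebra.IsPushout.cancelBaseChange A S B B' X₃).symm.injective
        (hz.trans (map_zero _).symm)
    obtain ⟨z₁, hz₁⟩ := (h z).1 hz'
    exact ⟨(Algebra.IsPushout.cancelBaseChange A S B B' X₁).symm z₁, by
      rw [← cancel_natural u z₁, hz₁]⟩
  · rintro ⟨y₁, hy₁⟩
    obtain ⟨z₁, rfl⟩ := (Algebra.IsPushout.cancelBaseChange A S B B' X₁).symm.surjective y₁
    rw [← cancel_natural u z₁] at hy₁
    have := (Algebra.IsPushout.cancelBaseChange A S B B' X₂).symm.injective hy₁
    rw [(h z).2 ⟨z₁, this⟩, map_zero]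

end Elementwise

section Complexes

attribute [local instance] Algebra.TensorProduct.rightAlgebra

variable {A B S : Type u} [CommRing A] [CommRing B] [CommRing S] [Algebra A B]

/-- the coprojection `B → S ⊗_A B` -/
noncomputable abbrev inclR (A B S : Type u) [CommRing A] [CommRing B] [CommRing S] [Algebra A B]
    [Algebra A S] : B →+* S ⊗[A] B :=
  (Algebra.TensorProduct.includeRight : B →ₐ[A] S ⊗[A] B).toRingHom

/-- the complex version of `exact_baseChange_of_exact_lTensor` -/
theorem exactAt_ext_includeRight [alg : Algebra A S] (E : Cx B) (i : ℤ)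
    (h : ((extCx (algebraMap A S)).obj ((restrictCx (algebraMap A B)).obj E)).ExactAt i) :
    ((extCx (inclR A B S)).obj E).ExactAt i := by
  obtain ⟨σ, hσ⟩ : ∃ σ : A →+* S, alg = σ.toAlgebra :=
    ⟨algebraMap A S, Algebra.algebra_ext _ _ (fun r => rfl)⟩
  subst hσ
  letI : Algebra A S := σ.toAlgebra
  rw [HomologicalComplex.exactAt_iff' _ (i - 1) i (i + 1) (by simp) (by simp),
    ShortComplex.ShortExact.moduleCat_exact_iff_function_exact] at h ⊢
  haveI h1 : IsScalarTower A B ↑((res A B).obj (E.X (i - 1))) := inferInstance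
  haveI h2 : IsScalarTower A B ↑((res A B).obj (E.X i)) := inferInstance
  haveI h3 : IsScalarTower A B ↑((res A B).obj (E.X (i + 1))) := inferInstance
  have key := @exact_baseChange_of_exact_lTensor A B S (S ⊗[A] B) _ _ _ _ _ _ _ _ _ _ _ _
    ↑((res A B).obj (E.X (i - 1))) ↑((res A B).obj (E.X i)) ↑((res A B).obj (E.X (i + 1)))
    _ _ _ h1 _ _ _ h2 _ _ _ h3
    (E.d (i - 1) i).hom (E.d i (i + 1)).hom
  exact key h

/-- **Relative fibre criterion**: `E` a bounded above complex of finite free `B`-modules such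
that `S ⊗_A E` is exact outside `[a, b]`; if every module over `B' = S ⊗_A B` has projective
dimension `≤ d` and `χ : B' → B/m` factors the quotient map, then `B/m ⊗_B E` is exact outside
`[a - d, b]`. -/
theorem exactAt_fibre_of_relative [Algebra A S] (E : Cx B) (b₀ : ℤ) (hEb : VanishesAbove E b₀)
    (hEff : TermwiseFiniteFree E) (a b : ℤ) (d : ℕ)
    (hS : ∀ i : ℤ, (i < a ∨ b < i) →
      ((extCx (algebraMap A S)).obj ((restrictCx (algebraMap A B)).obj E)).ExactAt i)
    (hgl : ∀ (M : Type u) [AddCommGroup M] [Module (S ⊗[A] B) M],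
      HasProjectiveDimensionLT (ModuleCat.of (S ⊗[A] B) M) (d + 1))
    (m : Ideal B) (χ : S ⊗[A] B →+* B ⧸ m)
    (hχ : χ.comp (inclR A B S) = Ideal.Quotient.mk m)
    (i : ℤ) (hi : i < a - d ∨ b < i) : ((extCx (Ideal.Quotient.mk m)).obj E).ExactAt i := by
  have hEflat : TermwiseFlat E := fun j => by
    haveI := (hEff j).2
    infer_instance
  have hLb : VanishesAbove ((extCx (inclR A B S)).obj E) b₀ := vanishesAbove_extCx _ E b₀ hEb
  have hLflat : TermwiseFlat ((extCx (inclR A B S)).obj E) := termwiseFlat_extCx _ E hEflat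
  have hL : ∀ j : ℤ, (j < a ∨ b < j) →
      Subsingleton (Dual.HD (S ⊗[A] B) (toD ((extCx (inclR A B S)).obj E)) j) := fun j hj => by
    have h1 := exactAt_ext_includeRight E j (hS j hj)
    rw [HomologicalComplex.exactAt_iff_isZero_homology] at h1
    exact ModuleCat.subsingleton_of_isZero (IsZero.of_iso h1 (PCHomology.homologyIso _ j))
  have htor : HasTorAmplitudeIn (S ⊗[A] B) (a - d) b (toD ((extCx (inclR A B S)).obj E)) :=
    (Groth.Agent.S7034.result (S ⊗[A] B) d hgl).2 _ a b hL
  have h2 : HasTorAmplitudeIn (B ⧸ m) (a - d) b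
      (toD ((extCx χ).obj ((extCx (inclR A B S)).obj E))) :=
    torAmp_of_iso (Groth.Agent.S6948.result χ _ (a - d) b htor)
      (Groth.Agent.Lib.Helper15.LBCKFlat.lbcIsoOfFlat χ _ b₀ hLb hLflat)
  have h3 : ((extCx χ).obj ((extCx (inclR A B S)).obj E)).ExactAt i := by
    rw [HomologicalComplex.exactAt_iff_isZero_homology]
    refine IsZero.of_iso ?_ (PCHomology.homologyIso _ i).symm
    rcases hi with hi | hi
    · haveI := torAmp_isGE h2
      exact DerivedCategory.isZero_of_isGE _ (a - d) i hi
    · haveI := torAmp_isLE h2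
      exact DerivedCategory.isZero_of_isLE _ b i hi
  have h4 := FibreAmp.exactAt_of_iso (FibreAmp.extCxComp (inclR A B S) χ E).symm i h3
  exact FibreAmp.exactAt_extCx_of_eq hχ E i h4

end Complexes

end Groth.Agent.Lib.Helper43.RelFibre
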