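import Mathlib.Tactic
import Mathlib.RingTheory.Unramified.Finite
import Mathlib.RingTheory.RingHom.StandardSmooth
import Groth.Agent.Lib.Helper43.PolyTorAmp
import Groth.Agent.Lib.Helper43.PerfMor
import Mathlib.AlgebraicGeometry.Morphisms.Smooth

/-!
# Cancellation of perfect ring maps / morphisms along smooth ones (helper43)

* `hasTorDimLE_of_retract`: tor dimension passes to retracts;
* `hasTorDimLE_of_unramified_flat`: a module over a flat unramified `R`-algebra `S` of tor dimension
  `≤ d` over `R` has tor dimension `≤ d` over `S`;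
* `FTD_cancel_standardSmooth`, `PerfQ_cancel_standardSmooth`: ring level cancellation;
* `perfMor_cancel_smooth`: `g` smooth and `f ≫ g` perfect imply `f` perfect.
-/

set_option autoImplicit false
universe u

open CategoryTheory CategoryTheory.Limits DerivedCategory DRing TensorProduct
attribute [local instance] HasDerivedCategory.standard

namespace Groth.Agent.Lib.Helper43.SmoothCancel

open Groth.Agent.Lib.Helper84 Groth.Agent.Lib.Helper43.PCHomLocal Groth.Agent.Lib.Helper43.FTDLocal
  Groth.Agent.Lib.Helper43.PerfMor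

/-- tor dimension passes to retracts -/
lemma hasTorDimLE_of_retract {S : Type u} [CommRing S] {M M' : Type u} [AddCommGroup M]
    [AddCommGroup M'] [Module S M] [Module S M'] (i : M →ₗ[S] M') (r : M' →ₗ[S] M)
    (h : r.comp i = LinearMap.id) (d : ℕ) (hM' : DRing.HasTorDimLE S d M') :
    DRing.HasTorDimLE S d M := by
  intro N _ _ p hp
  haveI := hM' N p hp
  have hcomp : ModuleCat.ofHom i ≫ ModuleCat.ofHom r = 𝟙 (ModuleCat.of S M) := by
    rw [← ModuleCat.ofHom_comp, h]
    rfl
  have h1 : ((CategoryTheory.Tor (ModuleCat.{u} S) p).map (ModuleCat.ofHom i)).app (ModuleCat.of S N) ≫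
      ((CategoryTheory.Tor (ModuleCat.{u} S) p).map (ModuleCat.ofHom r)).app (ModuleCat.of S N) =
      𝟙 _ := by
    rw [← NatTrans.comp_app, ← Functor.map_comp, hcomp, CategoryTheory.Functor.map_id, NatTrans.id_app]
  constructor
  intro x y
  have hx := congrArg (fun φ => φ.hom x) h1
  have hy := congrArg (fun φ => φ.hom y) h1
  simp only [ModuleCat.hom_comp, LinearMap.comp_apply, ModuleCat.hom_id, LinearMap.id_apply] at hx hy
  rw [← hx, ← hy]
  congr 1
  exact Subsingleton.elim _ _

/-- a module over a flat unramified `R`-algebra `S`, of tor dimension `≤ d` over `R`, has tor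
dimension `≤ d` over `S` -/
theorem hasTorDimLE_of_unramified_flat (R S : Type u) [CommRing R] [CommRing S] [Algebra R S]
    [Module.Flat R S] [Algebra.FormallyUnramified R S] [Algebra.EssFiniteType R S]
    (M : Type u) [AddCommGroup M] [Module R M] [Module S M] [IsScalarTower R S M] (d : ℕ)
    (h : HasTorAmplitudeIn R (-(d : ℤ)) 0 (Dual.inD R M)) : DRing.HasTorDimLE S d M := by
  have h1 : HasTorAmplitudeIn S (-(d : ℤ)) 0 (Dual.inD S (S ⊗[R] M)) :=
    FlatBC.module_baseChange M (HasTorAmplitudeIn R (-(d : ℤ)) 0)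
      (HasTorAmplitudeIn S (-(d : ℤ)) 0)
      (fun X Y e hX => FlatAmp.torAmp_of_iso hX e)
      (fun f _ K hK => FlatBC.hasTorAmplitudeIn_bc f (-(d : ℤ)) 0 K hK) h
  have h2 := (Groth.Agent.S6946.result S (S ⊗[R] M) d).1.2 h1
  exact hasTorDimLE_of_retract _ _ (Algebra.FormallyUnramified.comp_sec R S M) d h2

/-- cancellation of finite tor dimension along a standard smooth ring map -/
theorem FTD_cancel_standardSmooth {A B C : Type u} [CommRing A] [CommRing B] [CommRing C]
    (f : A →+* B) (g : B →+* C) (hf : f.IsStandardSmooth) (h : FTD (g.comp f)) : FTD g := by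
  obtain ⟨n, e, he, het⟩ := hf.exists_etale_mvPolynomial
  obtain ⟨d, hd⟩ := h
  letI algPB : Algebra (MvPolynomial (Fin n) A) B := e.toAlgebra
  letI algBC : Algebra B C := g.toAlgebra
  letI algAC : Algebra A C := (g.comp f).toAlgebra
  letI algPC : Algebra (MvPolynomial (Fin n) A) C := (g.comp e).toAlgebra
  haveI : IsScalarTower (MvPolynomial (Fin n) A) B C := IsScalarTower.of_algebraMap_eq (fun _ => rfl)
  haveI : IsScalarTower A (MvPolynomial (Fin n) A) C := IsScalarTower.of_algebraMap_eq (fun a => by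
    change (g.comp f) a = (g.comp e) (MvPolynomial.C a)
    rw [← he]
    rfl)
  haveI hE : Algebra.Etale (MvPolynomial (Fin n) A) B := het
  haveI : Module.Flat (MvPolynomial (Fin n) A) B := inferInstance
  have h1 := (Groth.Agent.S6946.result A C d).1.1 hd
  have h2 := PolyTor.torAmp_mvPolynomial A n C (-(d : ℤ)) h1
  have h3 : HasTorAmplitudeIn (MvPolynomial (Fin n) A) (-((d + n : ℕ) : ℤ)) 0
      (Dual.inD (MvPolynomial (Fin n) A) C) := by
    convert h2 using 1
    push_cast
    ring
  exact ⟨d + n, hasTorDimLE_of_unramified_flat (MvPolynomial (Fin n) A) B C (d + n) h3⟩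

/-- cancellation of perfect ring maps along a standard smooth ring map -/
theorem PerfQ_cancel_standardSmooth {A B C : Type u} [CommRing A] [CommRing B] [CommRing C]
    (f : A →+* B) (g : B →+* C) (hf : f.IsStandardSmooth) (h : PerfQ (g.comp f)) : PerfQ g := by
  refine ⟨PCQ_cancel f g ?_ h.1, FTD_cancel_standardSmooth f g hf h.2⟩
  letI := f.toAlgebra
  haveI : Algebra.IsStandardSmooth A B := hf
  haveI : Module.Flat A B := inferInstance
  haveI : Algebra.FinitePresentation A B := inferInstance
  exact PCQ_of_flat_fp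

open AlgebraicGeometry in
/-- `g` smooth and `f ≫ g` perfect imply `f` perfect -/
theorem perfMor_cancel_smooth {X Y S : Scheme.{u}} (f : X ⟶ Y) (g : Y ⟶ S) [Smooth g]
    (h : MoreMor.IsPerfectMor (f ≫ g)) : MoreMor.IsPerfectMor f := by
  rw [← PerfMor.perfMor_iff] at h ⊢
  rw [HasRingHomProperty.iff_exists_appLE (P := PerfMor.perfMor)
    PerfMor.PerfQ_stableUnderCompositionWithLocalizationAwaySource]
  intro x
  obtain ⟨W, hW, V, hV, hyV, e, hst⟩ := Smooth.exists_isStandardSmooth g (f x)
  obtain ⟨U, hU, hxU, hUV⟩ := exists_isAffineOpen_mem_and_subset (x := x) (U := f ⁻¹ᵁ V) hyV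
  refine ⟨⟨V, hV⟩, ⟨U, hU⟩, hxU, hUV, ?_⟩
  have h1 := HasRingHomProperty.appLE PerfMor.perfMor (f ≫ g) h ⟨W, hW⟩ ⟨U, hU⟩
    (hUV.trans ((TopologicalSpace.Opens.map f.base).map (homOfLE e)).le)
  rw [← Scheme.Hom.appLE_comp_appLE f g W V U e hUV, CommRingCat.hom_comp] at h1
  exact PerfQ_cancel_standardSmooth _ _ hst h1

end Groth.Agent.Lib.Helper43.SmoothCancel
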