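import Mathlib.Tactic
import Groth.Agent.Lib.Helper43.KRSmoothImm
import Groth.Agent.Lib.Helper43.KRPoly
import Mathlib.RingTheory.Regular.Flat
import Groth.Prelude.Def_Mor2

/-!
# Sections of smooth morphisms are regular immersions (helper43)

* `weaklyRegular_of_flat`, `isWeaklyRegular_X_sub_C`
* `section_chart` : for `B` standard smooth over `A` and an ideal `I` of `B` with `A → B/I`
  bijective, `I` is generated near `V(I)` by a weakly regular sequence
* `regularClosedImmersion_of_section` : a section of a smooth morphism which is a closed immersion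
  is a regular closed immersion
-/

set_option autoImplicit false
set_option linter.style.haveILetI false
universe u

open CategoryTheory CategoryTheory.Limits AlgebraicGeometry RingTheory.Sequence

namespace Groth.Agent.Lib.Helper43.SmoothSection

open Groth.Agent.Lib.Helper43.KRPoly Groth.Agent.Lib.Helper43.KREtale
open Groth.Agent.Lib.Helper43.KRIdeal

section Ring

/-- weakly regular sequences are preserved by flat ring maps -/
lemma weaklyRegular_of_flat {R R' : Type u} [CommRing R] [CommRing R'] (φ : R →+* R')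
    (hφ : φ.Flat) (rs : List R) (h : IsWeaklyRegular R rs) : IsWeaklyRegular R' (rs.map φ) := by
  letI := φ.toAlgebra
  haveI : Module.Flat R R' := hφ
  exact IsWeaklyRegular.of_flat (S := R') h

open MvPolynomial in
/-- `X_i - C (c i)` is a weakly regular sequence -/
theorem isWeaklyRegular_X_sub_C {T : Type u} [CommRing T] {n : ℕ} (c : Fin n → T) :
    IsWeaklyRegular (MvPolynomial (Fin n) T)
      (List.ofFn (fun j : Fin n => (X j - C (c j) : MvPolynomial (Fin n) T))) := by
  have h := weaklyRegular_of_flat (shift c).toRingEquiv.toRingHom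
    (RingHom.Flat.of_bijective (shift c).bijective) _ (isWeaklyRegular_X T n)
  rw [List.map_ofFn] at h
  have hlist : List.ofFn (⇑(shift c).toRingEquiv.toRingHom ∘
      fun j : Fin n => (X j : MvPolynomial (Fin n) T)) =
      List.ofFn (fun j : Fin n => (X j - C (c j) : MvPolynomial (Fin n) T)) := by
    congr 1
    funext j
    simp
  rw [hlist] at h
  exact h

open MvPolynomial in
/-- for `B` standard smooth over `A` and an ideal `I` of `B` with `A → B/I` bijective, `I` is
generated near `V(I)` by a weakly regular sequence -/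
theorem section_chart {A B : Type u} [CommRing A] [CommRing B] [Algebra A B]
    [Algebra.IsStandardSmooth A B] (I : Ideal B)
    (hsurj : ∀ b : B, ∃ a : A, b - algebraMap A B a ∈ I)
    (hbot : I.comap (algebraMap A B) = ⊥) :
    ∃ (h : B) (l : List B), h - 1 ∈ I ∧ (∀ x ∈ l, x ∈ I) ∧ (∀ b ∈ I, h * b ∈ Ideal.ofList l) ∧
      IsWeaklyRegular B l := by
  obtain ⟨n, g, hgC, hg⟩ := RingHom.IsStandardSmooth.exists_etale_mvPolynomial
    (f := algebraMap A B) (RingHom.isStandardSmooth_algebraMap.2 inferInstance)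
  have hgC' : ∀ a, g (MvPolynomial.C a) = algebraMap A B a := fun a => RingHom.congr_fun hgC a
  letI := g.toAlgebra
  haveI : Algebra.Etale (MvPolynomial (Fin n) A) B := hg
  have hsurjP : ∀ b : B, ∃ p : MvPolynomial (Fin n) A,
      b - algebraMap (MvPolynomial (Fin n) A) B p ∈ I := by
    intro b
    obtain ⟨a, ha⟩ := hsurj b
    refine ⟨MvPolynomial.C a, ?_⟩
    rw [RingHom.algebraMap_toAlgebra, hgC']
    exact ha
  obtain ⟨h, hh1, hh2⟩ := exists_mul_mem I hsurjP
  choose c hc using fun j : Fin n => hsurj (g (X j))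
  -- `g p ≡ eval c p` modulo `I`
  have hcong : ∀ p : MvPolynomial (Fin n) A, g p - algebraMap A B (MvPolynomial.eval c p) ∈ I := by
    intro p
    have heq : (Ideal.Quotient.mk I).comp g =
        ((Ideal.Quotient.mk I).comp (algebraMap A B)).comp (MvPolynomial.eval c) := by
      apply MvPolynomial.ringHom_ext
      · intro a
        simp only [RingHom.comp_apply, MvPolynomial.eval_C, hgC']
      · intro j
        simp only [RingHom.comp_apply, MvPolynomial.eval_X]
        rw [Ideal.Quotient.eq]
        exact hc j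
    have := RingHom.congr_fun heq p
    simp only [RingHom.comp_apply] at this
    rwa [Ideal.Quotient.eq] at this
  have hK : I.comap (algebraMap (MvPolynomial (Fin n) A) B) =
      RingHom.ker (MvPolynomial.eval c) := by
    ext p
    rw [Ideal.mem_comap, RingHom.mem_ker, RingHom.algebraMap_toAlgebra]
    constructor
    · intro hp
      have h1 : algebraMap A B (MvPolynomial.eval c p) ∈ I := by
        have := I.sub_mem hp (hcong p)
        rwa [sub_sub_cancel] at this
      have h2 : MvPolynomial.eval c p ∈ I.comap (algebraMap A B) := h1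
      rw [hbot] at h2
      exact h2
    · intro hp
      have := hcong p
      rwa [hp, map_zero, sub_zero] at this
  set L : List (MvPolynomial (Fin n) A) :=
    List.ofFn (fun j : Fin n => (X j - C (c j) : MvPolynomial (Fin n) A)) with hL
  have hKL : I.comap (algebraMap (MvPolynomial (Fin n) A) B) = Ideal.ofList L := by
    rw [hK, ker_eval_eq]
  have hflat : g.Flat := by
    have : Module.Flat (MvPolynomial (Fin n) A) B := inferInstance
    exact this
  refine ⟨h, L.map g, hh1, ?_, ?_, weaklyRegular_of_flat g hflat L (isWeaklyRegular_X_sub_C c)⟩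
  · intro x hx
    obtain ⟨p, hp, rfl⟩ := List.mem_map.1 hx
    have h1 : p ∈ I.comap (algebraMap (MvPolynomial (Fin n) A) B) := by
      rw [hKL]; exact Ideal.subset_span hp
    exact h1
  · intro b hb
    have := hh2 b hb
    rwa [hKL, Ideal.map_ofList] at this

end Ring

section Scheme

open Groth.Agent.Lib.Helper43.KRSmoothImm Groth.Agent.Lib.Helper43.KRImmDescent
open Groth.Agent.Lib.Helper43.KoszulAtPerf

/-- algebraic facts on compatible charts of `j : X ⟶ V'` and `p : V' ⟶ V` -/
lemma chart_facts {X V V' : Scheme.{u}} (j : X ⟶ V') (p : V' ⟶ V)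
    (U : V.Opens) (W : V'.Opens) (hU : IsAffineOpen U) (e : W ≤ p ⁻¹ᵁ U)
    [IsClosedImmersion ((j ≫ p) ∣_ U)] (hpre : j ⁻¹ᵁ W = (j ≫ p) ⁻¹ᵁ U) :
    RingHom.ker ((j ≫ p).app U).hom =
      (RingHom.ker (j.app W).hom).comap (p.appLE U W e).hom ∧
    ∀ b : Γ(V', W), ∃ a : Γ(V, U),
      b - (p.appLE U W e).hom a ∈ RingHom.ker (j.app W).hom := by
  have hle : j ⁻¹ᵁ W ≤ (j ≫ p) ⁻¹ᵁ U := hpre.le
  let ρ : Γ(X, (j ≫ p) ⁻¹ᵁ U) ⟶ Γ(X, j ⁻¹ᵁ W) := X.presheaf.map (homOfLE hle).op
  haveI : IsIso (homOfLE hle) :=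
    ⟨homOfLE hpre.ge, Subsingleton.elim _ _, Subsingleton.elim _ _⟩
  haveI : IsIso ρ := inferInstanceAs (IsIso (X.presheaf.map (homOfLE hle).op))
  have hρbij : Function.Bijective ρ.hom := ConcreteCategory.bijective_of_isIso ρ
  have hcompat : ∀ a : Γ(V, U), ρ.hom (((j ≫ p).app U).hom a) =
      (j.app W).hom ((p.appLE U W e).hom a) := by
    intro a
    have h1 : (j ≫ p).app U ≫ ρ = p.appLE U W e ≫ j.app W := by
      have h2 := Scheme.Hom.appLE_comp_appLE j p U W (j ⁻¹ᵁ W) e le_rfl
      rw [Scheme.Hom.appLE_eq_app] at h2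
      rw [h2]
      rfl
    have h3 := congrArg (fun f => f.hom a) h1
    exact h3
  have hsurjU : Function.Surjective ((j ≫ p).app U).hom := app_surjective_of_restrict _ U hU
  refine ⟨?_, ?_⟩
  · ext a
    rw [RingHom.mem_ker, Ideal.mem_comap, RingHom.mem_ker, ← hcompat]
    constructor
    · intro h; rw [h, map_zero]
    · intro h
      apply hρbij.1
      rw [h, map_zero]
  · intro b
    obtain ⟨y', hy'⟩ := hρbij.2 ((j.app W).hom b)
    obtain ⟨a, rfl⟩ := hsurjU y'
    refine ⟨a, ?_⟩
    rw [RingHom.mem_ker, map_sub, ← hcompat, hy', sub_self]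

/-- **a section of a smooth morphism which is a closed immersion is a regular closed
immersion** -/
theorem regularClosedImmersion_of_section {X S : Scheme.{u}} (f : X ⟶ S) [Smooth f] (σ : S ⟶ X)
    (hσ : σ ≫ f = 𝟙 S) [IsClosedImmersion σ] : Mor2.IsRegularClosedImmersion σ := by
  refine ⟨inferInstance, fun z => ?_⟩
  haveI : IsImmersion (σ ≫ f) := by rw [hσ]; infer_instance
  obtain ⟨U, W, hU, hW, e, hzU, hzW, hci, hcj, hstd, hpre⟩ := exists_charts σ f z
  haveI := hci
  haveI := hcj
  obtain ⟨hcomap, hsurj⟩ := chart_facts σ f U W hU e hpre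
  letI := (f.appLE U W e).hom.toAlgebra
  haveI : Algebra.IsStandardSmooth Γ(S, U) Γ(X, W) := hstd
  have hbot : (RingHom.ker (σ.app W).hom).comap (algebraMap Γ(S, U) Γ(X, W)) = ⊥ := by
    rw [RingHom.algebraMap_toAlgebra, ← hcomap]
    have h1 : ∀ a : Γ(S, U), ((σ ≫ f).app U).hom a = 0 → a = 0 := by
      intro a ha
      have h2 : Function.Injective ((σ ≫ f).app U).hom := by
        have : IsIso (σ ≫ f) := by rw [hσ]; infer_instance
        exact (ConcreteCategory.bijective_of_isIso ((σ ≫ f).app U)).1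
      exact h2 (ha.trans (map_zero _).symm)
    rw [eq_bot_iff]
    intro a ha
    exact h1 a ha
  obtain ⟨h, l, hh1, hlI, hgen, hreg⟩ := section_chart (RingHom.ker (σ.app W).hom) hsurj hbot
  obtain ⟨hci', hker'⟩ := ker_app_basicOpen σ W hW h
  haveI := hW.isLocalization_basicOpen h
  have hu : IsUnit (algebraMap Γ(X, W) Γ(X, X.basicOpen h) h) :=
    IsLocalization.Away.algebraMap_isUnit h
  haveI : Module.Flat Γ(X, W) Γ(X, X.basicOpen h) :=
    IsLocalization.flat _ (Submonoid.powers h)
  have hzh : σ z ∈ X.basicOpen h := by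
    have hle := ker_le_primeIdealOf σ W hW z hzW
    have hnot : h ∉ (hW.primeIdealOf ⟨σ z, hzW⟩).asIdeal := by
      intro hcon
      have h1 := (hW.primeIdealOf ⟨σ z, hzW⟩).asIdeal.sub_mem hcon (hle hh1)
      rw [sub_sub_cancel] at h1
      exact (hW.primeIdealOf ⟨σ z, hzW⟩).2.ne_top ((Ideal.eq_top_iff_one _).2 h1)
    have h1 : hW.primeIdealOf ⟨σ z, hzW⟩ ∈ (PrimeSpectrum.basicOpen h : Set _) := hnot
    rw [← hW.fromSpec_preimage_basicOpen] at h1
    have h0 : hW.fromSpec (hW.primeIdealOf ⟨σ z, hzW⟩) = σ z := hW.fromSpec_primeIdealOf ⟨σ z, hzW⟩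
    rw [← h0]
    exact h1
  have hkereq : RingHom.ker (σ.app (X.basicOpen h)).hom =
      Ideal.ofList (l.map (algebraMap Γ(X, W) Γ(X, X.basicOpen h))) := by
    rw [hker']
    apply le_antisymm
    · refine (map_le_of_gen (g := h) (J := Ideal.ofList l)
        (fun x hx => ⟨1, by rw [pow_one]; exact hgen x hx⟩) _ hu).trans ?_
      rw [Ideal.map_ofList]
    · rw [← Ideal.map_ofList]
      exact Ideal.map_mono (Ideal.span_le.2 hlI)
  refine ⟨X.basicOpen h, hW.basicOpen h, hzh, l.map (algebraMap Γ(X, W) Γ(X, X.basicOpen h)),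
    ⟨IsWeaklyRegular.of_flat hreg, ?_⟩, ?_⟩
  · intro htop
    rw [smul_eq_mul, Ideal.mul_top, ← hkereq] at htop
    have h1 : (1 : Γ(X, X.basicOpen h)) ∈ RingHom.ker (σ.app (X.basicOpen h)).hom := by
      rw [← htop]; trivial
    rw [RingHom.mem_ker, map_one] at h1
    haveI : Nonempty (σ ⁻¹ᵁ X.basicOpen h : S.Opens) := ⟨⟨z, hzh⟩⟩
    haveI : Nontrivial Γ(S, σ ⁻¹ᵁ X.basicOpen h) := Scheme.component_nontrivial S _
    exact one_ne_zero h1
  · rw [Scheme.Hom.ker_apply]
    exact hkereq

end Scheme

end Groth.Agent.Lib.Helper43.SmoothSection
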