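import Mathlib.Tactic
import Groth.Agent.Lib.Helper43.SmoothSection

/-!
# Sections of smooth morphisms of relative dimension `n` (helper43)

* `section_chart_etale` : version of `section_chart` with the étale coordinates given; the
  weakly regular sequence has length `n`
* `exists_charts_relDim` : compatible charts, standard smooth of relative dimension `n`
-/

set_option autoImplicit false
set_option linter.style.haveILetI false
universe u

open CategoryTheory CategoryTheory.Limits AlgebraicGeometry RingTheory.Sequence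

namespace Groth.Agent.Lib.Helper43.SmoothSectionRel

open Groth.Agent.Lib.Helper43.KRPoly Groth.Agent.Lib.Helper43.KREtale
open Groth.Agent.Lib.Helper43.KRIdeal Groth.Agent.Lib.Helper43.SmoothSection
open Groth.Agent.Lib.Helper43.KoszulAtPerf Groth.Agent.Lib.Helper43.RegImmFlatBC
open Groth.Agent.Lib.Helper43.RegImmComp Groth.Agent.Lib.Helper43.KRImmDescent
open Groth.Agent.Lib.Helper43.KRSmoothImm

section Ring

open MvPolynomial in
/-- for `B` étale over `A[x₁..xₙ]` and an ideal `I` of `B` with `A → B/I` bijective, `I` is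
generated near `V(I)` by a weakly regular sequence of length `n` -/
theorem section_chart_etale {A B : Type u} [CommRing A] [CommRing B] [Algebra A B]
    (n : ℕ) (g : MvPolynomial (Fin n) A →+* B) (hgC : g.comp MvPolynomial.C = algebraMap A B)
    (hg : g.Etale) (I : Ideal B)
    (hsurj : ∀ b : B, ∃ a : A, b - algebraMap A B a ∈ I)
    (hbot : I.comap (algebraMap A B) = ⊥) :
    ∃ (h : B) (l : List B), l.length = n ∧ h - 1 ∈ I ∧ (∀ x ∈ l, x ∈ I) ∧
      (∀ b ∈ I, h * b ∈ Ideal.ofList l) ∧ IsWeaklyRegular B l := by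
  have hgC' : ∀ a, g (MvPolynomial.C a) = algebraMap A B a := fun a => RingHom.congr_fun hgC a
  letI := g.toAlgebra
  haveI : Algebra.Etale (MvPolynomial (Fin n) A) B := hg
  have hsurjP : ∀ b : B, ∃ p : MvPolynomial (Fin n) A,
      b - algebraMap (MvPolynomial (Fin n) A) B p ∈ I := by
    intro b
    obtain ⟨a, ha⟩ := hsurj b
    refine ⟨MvPolynomial.C a, ?_⟩
    rw [RingHom.algebraMap_toAlgebra, hgC']
    exact ha
  obtain ⟨h, hh1, hh2⟩ := exists_mul_mem I hsurjP
  choose c hc using fun j : Fin n => hsurj (g (X j))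
  have hcong : ∀ p : MvPolynomial (Fin n) A, g p - algebraMap A B (MvPolynomial.eval c p) ∈ I := by
    intro p
    have heq : (Ideal.Quotient.mk I).comp g =
        ((Ideal.Quotient.mk I).comp (algebraMap A B)).comp (MvPolynomial.eval c) := by
      apply MvPolynomial.ringHom_ext
      · intro a
        simp only [RingHom.comp_apply, MvPolynomial.eval_C, hgC']
      · intro j
        simp only [RingHom.comp_apply, MvPolynomial.eval_X]
        rw [Ideal.Quotient.eq]
        exact hc j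
    have := RingHom.congr_fun heq p
    simp only [RingHom.comp_apply] at this
    rwa [Ideal.Quotient.eq] at this
  have hK : I.comap (algebraMap (MvPolynomial (Fin n) A) B) =
      RingHom.ker (MvPolynomial.eval c) := by
    ext p
    rw [Ideal.mem_comap, RingHom.mem_ker, RingHom.algebraMap_toAlgebra]
    constructor
    · intro hp
      have h1 : algebraMap A B (MvPolynomial.eval c p) ∈ I := by
        have := I.sub_mem hp (hcong p)
        rwa [sub_sub_cancel] at this
      have h2 : MvPolynomial.eval c p ∈ I.comap (algebraMap A B) := h1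
      rw [hbot] at h2
      exact h2
    · intro hp
      have := hcong p
      rwa [hp, map_zero, sub_zero] at this
  set L : List (MvPolynomial (Fin n) A) :=
    List.ofFn (fun j : Fin n => (X j - C (c j) : MvPolynomial (Fin n) A)) with hL
  have hKL : I.comap (algebraMap (MvPolynomial (Fin n) A) B) = Ideal.ofList L := by
    rw [hK, ker_eval_eq]
  have hflat : g.Flat := by
    have : Module.Flat (MvPolynomial (Fin n) A) B := inferInstance
    exact this
  refine ⟨h, L.map g, by simp [hL], hh1, ?_, ?_,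
    weaklyRegular_of_flat g hflat L (isWeaklyRegular_X_sub_C c)⟩
  · intro x hx
    obtain ⟨p, hp, rfl⟩ := List.mem_map.1 hx
    have h1 : p ∈ I.comap (algebraMap (MvPolynomial (Fin n) A) B) := by
      rw [hKL]; exact Ideal.subset_span hp
    exact h1
  · intro b hb
    have := hh2 b hb
    rwa [hKL, Ideal.map_ofList] at this

end Ring

section Scheme

/-- standard smooth charts of relative dimension `n`: shrinking the source chart -/
lemma relDim_appLE_basicOpen_source (n : ℕ) {V V' : Scheme.{u}} (p : V' ⟶ V) (U : V.Opens)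
    (_hU : IsAffineOpen U) (W : V'.Opens) (hW : IsAffineOpen W) (e : W ≤ p ⁻¹ᵁ U)
    (hstd : (p.appLE U W e).hom.IsStandardSmoothOfRelativeDimension n) (b : Γ(V', W)) :
    ∃ e' : V'.basicOpen b ≤ p ⁻¹ᵁ U,
      (p.appLE U (V'.basicOpen b) e').hom.IsStandardSmoothOfRelativeDimension n := by
  have e' : V'.basicOpen b ≤ p ⁻¹ᵁ U := (V'.basicOpen_le b).trans e
  refine ⟨e', ?_⟩
  have h1 : p.appLE U (V'.basicOpen b) e' =
      p.appLE U W e ≫ V'.presheaf.map (homOfLE (V'.basicOpen_le b)).op := by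
    rw [Scheme.Hom.appLE_map]
  haveI := hW.isLocalization_basicOpen b
  have h2 := (RingHom.isStandardSmoothOfRelativeDimension_stableUnderCompositionWithLocalizationAway
    n).2 Γ(V', V'.basicOpen b) b (p.appLE U W e).hom hstd
  rw [h1]
  exact h2

/-- standard smooth charts of relative dimension `n`: shrinking the target chart -/
lemma relDim_appLE_basicOpen_target (n : ℕ) {V V' : Scheme.{u}} (p : V' ⟶ V) (U : V.Opens)
    (hU : IsAffineOpen U) (W : V'.Opens) (hW : IsAffineOpen W) (e : W ≤ p ⁻¹ᵁ U)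
    (hstd : (p.appLE U W e).hom.IsStandardSmoothOfRelativeDimension n) (a : Γ(V, U)) :
    ∃ e' : V'.basicOpen (p.appLE U W e a) ≤ p ⁻¹ᵁ (V.basicOpen a),
      (p.appLE (V.basicOpen a) (V'.basicOpen (p.appLE U W e a))
        e').hom.IsStandardSmoothOfRelativeDimension n := by
  have e' : V'.basicOpen (p.appLE U W e a) ≤ p ⁻¹ᵁ (V.basicOpen a) := by
    rw [Scheme.basicOpen_appLE]
    exact inf_le_right
  refine ⟨e', ?_⟩
  haveI := hU.isLocalization_basicOpen a
  haveI := hW.isLocalization_basicOpen (p.appLE U W e a)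
  have h1 := IsAffineOpen.appLE_eq_away_map p hU hW e a
  have h2 := (RingHom.isStandardSmoothOfRelativeDimension_localizationPreserves n).away
    (p.appLE U W e).hom a
    Γ(V, V.basicOpen a) Γ(V', V'.basicOpen (p.appLE U W e a)) hstd
  rw [h1]
  exact h2

/-- compatible affine charts for two immersions related by a smooth morphism of relative
dimension `n` -/
theorem exists_charts_relDim (n : ℕ) {X V V' : Scheme.{u}} (j : X ⟶ V') [IsImmersion j]
    (p : V' ⟶ V) [SmoothOfRelativeDimension n p] [IsImmersion (j ≫ p)] (z : X) :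
    ∃ (U : V.Opens) (W : V'.Opens) (_ : IsAffineOpen U) (_ : IsAffineOpen W)
      (e : W ≤ p ⁻¹ᵁ U),
      (j ≫ p) z ∈ U ∧ j z ∈ W ∧ IsClosedImmersion ((j ≫ p) ∣_ U) ∧ IsClosedImmersion (j ∣_ W) ∧
      (p.appLE U W e).hom.IsStandardSmoothOfRelativeDimension n ∧
      j ⁻¹ᵁ W = (j ≫ p) ⁻¹ᵁ U := by
  obtain ⟨U₁, hU₁, W₁, hW₁, hzW₁, e₁, hstd₁⟩ :=
    SmoothOfRelativeDimension.exists_isStandardSmoothOfRelativeDimension (n := n) (f := p) (j z)
  have hzU₁ : (j ≫ p) z ∈ U₁ := e₁ hzW₁
  have hzc : j z ∈ j.coborderRange := subset_coborder ⟨z, rfl⟩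
  obtain ⟨b, hble, hzb⟩ := hW₁.exists_basicOpen_le (V := j.coborderRange) ⟨j z, hzc⟩ hzW₁
  have hzb' : j z ∈ V'.basicOpen b := hzb
  have hW₂ : IsAffineOpen (V'.basicOpen b) := hW₁.basicOpen b
  obtain ⟨e₂, hstd₂⟩ := relDim_appLE_basicOpen_source n p U₁ hU₁ W₁ hW₁ e₁ hstd₁ b
  have hzci : (j ≫ p) z ∈ (j ≫ p).coborderRange := subset_coborder ⟨z, rfl⟩
  obtain ⟨a₁, ha₁le, hza₁⟩ := hU₁.exists_basicOpen_le (V := (j ≫ p).coborderRange)
    ⟨(j ≫ p) z, hzci⟩ hzU₁
  have hza₁' : (j ≫ p) z ∈ V.basicOpen a₁ := hza₁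
  have hU₂ : IsAffineOpen (V.basicOpen a₁) := hU₁.basicOpen a₁
  obtain ⟨e₃, hstd₃⟩ := relDim_appLE_basicOpen_target n p U₁ hU₁ _ hW₂ e₂ hstd₂ a₁
  set W₃ : V'.Opens := V'.basicOpen (p.appLE U₁ (V'.basicOpen b) e₂ a₁) with hW₃def
  have hW₃ : IsAffineOpen W₃ := hW₂.basicOpen _
  have hW₃eq : W₃ = V'.basicOpen b ⊓ p ⁻¹ᵁ (V.basicOpen a₁) := Scheme.basicOpen_appLE _ _ _ _ _
  have hzW₃ : j z ∈ W₃ := by
    rw [hW₃eq]
    exact ⟨hzb', hza₁'⟩
  haveI hci₂ : IsClosedImmersion ((j ≫ p) ∣_ V.basicOpen a₁) :=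
    isClosedImmersion_restrict_of_le_coborderRange _ _ ha₁le
  have hU₂' : IsAffineOpen ((j ≫ p) ⁻¹ᵁ V.basicOpen a₁) :=
    isAffineOpen_preimage_of_restrict _ _ hU₂
  obtain ⟨abar, habar_le, hzabar⟩ := hU₂'.exists_basicOpen_le (V := j ⁻¹ᵁ W₃) ⟨z, hzW₃⟩ hza₁'
  obtain ⟨a₂, rfl⟩ := app_surjective_of_restrict (j ≫ p) _ hU₂ abar
  have hpre : (j ≫ p) ⁻¹ᵁ V.basicOpen a₂ =
      X.basicOpen (((j ≫ p).app (V.basicOpen a₁)).hom a₂) := Scheme.preimage_basicOpen _ a₂
  have hU : IsAffineOpen (V.basicOpen a₂) := hU₂.basicOpen a₂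
  obtain ⟨e, hstd⟩ := relDim_appLE_basicOpen_target n p _ hU₂ W₃ hW₃ e₃ hstd₃ a₂
  set W : V'.Opens := V'.basicOpen (p.appLE (V.basicOpen a₁) W₃ e₃ a₂) with hWdef
  have hW : IsAffineOpen W := hW₃.basicOpen _
  have hWeq : W = W₃ ⊓ p ⁻¹ᵁ (V.basicOpen a₂) := Scheme.basicOpen_appLE _ _ _ _ _
  have hzU : (j ≫ p) z ∈ V.basicOpen a₂ := by
    change z ∈ (j ≫ p) ⁻¹ᵁ V.basicOpen a₂
    rw [hpre]
    exact hzabar
  refine ⟨V.basicOpen a₂, W, hU, hW, e, hzU, ?_, ?_, ?_, hstd, ?_⟩
  · rw [hWeq]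
    exact ⟨hzW₃, hzU⟩
  · exact isClosedImmersion_restrict_of_le_coborderRange _ _
      ((V.basicOpen_le a₂).trans ha₁le)
  · apply isClosedImmersion_restrict_of_le_coborderRange
    rw [hWeq, hW₃eq]
    exact inf_le_left.trans (inf_le_left.trans hble)
  · rw [hWeq, Scheme.Hom.preimage_inf, ← Scheme.Hom.comp_preimage]
    apply inf_eq_right.2
    rw [hpre]
    exact habar_le

end Scheme

end Groth.Agent.Lib.Helper43.SmoothSectionRel
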