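import Groth.Agent.Lib.Helper43.TSBaseChange
import Mathlib.Algebra.Category.Ring.Constructions
import Mathlib.Tactic.Algebraize

/-! # Invariants of a base-changed tensor power: transport and `CommRingCat` pushout form

* `lTensor_invariants` : module-level statement for `ι : N₀ → N` with `N ≃ ⨂^n B`, `B` flat.
* `isPushout_invariants_TS` : if `C → D` is the inclusion of the invariants of `D ≅ ⨂^n_A B`
  (`B` flat over `A`), then for ANY `A → A'` the map `C ⊗_A A' → D ⊗_A A'` is injective with image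
  the invariants (pushout squares in `CommRingCat`). -/

set_option autoImplicit false
set_option linter.unusedSectionVars false
set_option linter.style.haveILetI false

open scoped TensorProduct
open CategoryTheory CategoryTheory.Limits
open Groth.Agent.Lib.Helper86 Groth.Agent.Lib.Helper86.TPowColim Groth.Agent.Lib.Helper86.TSFree

universe u

namespace Groth.Agent.Lib.Helper43.TSBaseChange

theorem lTensor_invariants {A : Type u} [CommRing A] (M : Type u) [AddCommGroup M] [Module A M]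
    (n : ℕ) (B : Type u) [AddCommGroup B] [Module A B] [Module.Flat A B]
    {N₀ N : Type u} [AddCommGroup N₀] [Module A N₀] [AddCommGroup N] [Module A N]
    (ι : N₀ →ₗ[A] N) (hι : Function.Injective ι)
    (Φ : (⨂[A] _ : Fin n, B) ≃ₗ[A] N)
    (τ : Equiv.Perm (Fin n) → (N →ₗ[A] N))
    (hτΦ : ∀ σ x, τ σ (Φ x) = Φ (PiTensorProduct.reindex A (fun _ : Fin n => B) σ x))
    (hτι : ∀ σ x, τ σ (ι x) = ι x)
    (hinv : ∀ y : N, (∀ σ, τ σ y = y) → y ∈ LinearMap.range ι) :
    Function.Injective (LinearMap.lTensor M ι) ∧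
      ∀ z : M ⊗[A] N, (∀ σ, LinearMap.lTensor M (τ σ) z = z) →
        z ∈ LinearMap.range (LinearMap.lTensor M ι) := by
  have hmem : ∀ x : N₀, Φ.symm (ι x) ∈ TSsub A B n := by
    intro x
    rw [mem_TSsub_iff]
    intro σ
    apply Φ.injective
    rw [← hτΦ, LinearEquiv.apply_symm_apply, hτι]
  let κ : N₀ →ₗ[A] TSsub A B n :=
    LinearMap.codRestrict (TSsub A B n) (Φ.symm.toLinearMap ∘ₗ ι) hmem
  have hκ : ∀ x, Φ (κ x).1 = ι x := fun x => Φ.apply_symm_apply (ι x)
  have hκinj : Function.Injective κ := by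
    intro x x' h
    apply hι
    rw [← hκ, ← hκ, h]
  have hκsurj : Function.Surjective κ := by
    intro z
    obtain ⟨x, hx⟩ := hinv (Φ z.1) (fun σ => by
      rw [hτΦ, (mem_TSsub_iff _).mp z.2 σ])
    refine ⟨x, Subtype.ext (Φ.injective ?_)⟩
    rw [hκ, hx]
  let κe : N₀ ≃ₗ[A] TSsub A B n := LinearEquiv.ofBijective κ ⟨hκinj, hκsurj⟩
  have hκe : ∀ v : TSsub A B n, ι (κe.symm v) = Φ v.1 := by
    intro v
    rw [← hκ]
    congr 2
    exact κe.apply_symm_apply v
  have hfac : ∀ w : M ⊗[A] N₀, LinearMap.lTensor M ι w =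
      LinearMap.lTensor M Φ.toLinearMap (LinearMap.lTensor M (TSsub A B n).subtype
        (LinearMap.lTensor M κ w)) := by
    intro w
    rw [lT_comp, lT_comp]
    exact lT_congr M (fun x => (hκ x).symm) w
  have hΦΦ : ∀ w : M ⊗[A] (⨂[A] _ : Fin n, B), LinearMap.lTensor M Φ.symm.toLinearMap
      (LinearMap.lTensor M Φ.toLinearMap w) = w := by
    intro w
    rw [lT_comp, lT_congr M (g := LinearMap.id) (fun x => Φ.symm_apply_apply x), lT_id]
  have hΦΦ' : ∀ z : M ⊗[A] N, LinearMap.lTensor M Φ.toLinearMap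
      (LinearMap.lTensor M Φ.symm.toLinearMap z) = z := by
    intro z
    rw [lT_comp, lT_congr M (g := LinearMap.id) (fun x => Φ.apply_symm_apply x), lT_id]
  constructor
  · rw [injective_iff_map_eq_zero]
    intro w hw
    rw [hfac] at hw
    have h1 := congrArg (LinearMap.lTensor M Φ.symm.toLinearMap) hw
    rw [hΦΦ, map_zero] at h1
    have h2 : LinearMap.lTensor M κ w = 0 := by
      apply lTensor_subtype_injective M n B
      rw [h1, map_zero]
    have h3 := congrArg (LinearMap.lTensor M κe.symm.toLinearMap) h2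
    rw [map_zero, lT_comp,
      lT_congr M (g := LinearMap.id) (fun x => κe.symm_apply_apply x), lT_id] at h3
    exact h3
  · intro z hz
    have hw : ∀ σ : Equiv.Perm (Fin n), LinearMap.lTensor M
        (PiTensorProduct.reindex A (fun _ : Fin n => B) σ).toLinearMap
          (LinearMap.lTensor M Φ.symm.toLinearMap z) =
        LinearMap.lTensor M Φ.symm.toLinearMap z := by
      intro σ
      have h1 := congrArg (LinearMap.lTensor M Φ.symm.toLinearMap) (hz σ)
      rw [lT_comp] at h1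
      rw [lT_comp, ← h1]
      apply lT_congr
      intro y
      apply Φ.injective
      change Φ (PiTensorProduct.reindex A (fun _ : Fin n => B) σ (Φ.symm y)) =
        Φ (Φ.symm (τ σ y))
      rw [← hτΦ, LinearEquiv.apply_symm_apply, LinearEquiv.apply_symm_apply]
    obtain ⟨v, hv⟩ := mem_range_lTensor_subtype M n B _ hw
    refine ⟨LinearMap.lTensor M κe.symm.toLinearMap v, ?_⟩
    rw [lT_comp, ← hΦΦ' z, ← hv, lT_comp]
    exact lT_congr M (fun x => hκe x) v

theorem isPushout_invariants_TS {A A' C D C' D' : CommRingCat.{u}}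
    {α : A ⟶ C} {γ : C ⟶ D} {β : A ⟶ D} (hβ : α ≫ γ = β) {a : A ⟶ A'}
    {i₁ : C ⟶ C'} {i₂ : A' ⟶ C'} {j₁ : D ⟶ D'} {j₂ : A' ⟶ D'} {γ' : C' ⟶ D'}
    (HC : IsPushout α a i₁ i₂) (HD : IsPushout β a j₁ j₂)
    (h₁ : i₁ ≫ γ' = γ ≫ j₁) (h₂ : i₂ ≫ γ' = j₂)
    (B : Type u) [CommRing B] [Algebra A B] [Module.Flat A B] (n : ℕ)
    (Φ : (⨂[A] _ : Fin n, B) → D) (hΦadd : ∀ x y, Φ (x + y) = Φ x + Φ y)
    (hΦsmul : ∀ (r : A) x, Φ (r • x) = β.hom r * Φ x) (hΦ : Function.Bijective Φ)
    (σ : Equiv.Perm (Fin n) → (D ⟶ D)) (hσβ : ∀ s, β ≫ σ s = β)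
    (hσΦ : ∀ s x, (σ s).hom (Φ x) = Φ (PiTensorProduct.reindex A (fun _ : Fin n => B) s x))
    (σ' : Equiv.Perm (Fin n) → (D' ⟶ D')) (hσ'₁ : ∀ s, j₁ ≫ σ' s = σ s ≫ j₁)
    (hσ'₂ : ∀ s, j₂ ≫ σ' s = j₂)
    (hinj : Function.Injective γ.hom)
    (hinv : ∀ d : D, (∀ s, (σ s).hom d = d) → d ∈ Set.range γ.hom)
    (hγσ : ∀ s, γ ≫ σ s = γ) :
    Function.Injective γ'.hom ∧ ∀ z : D', (∀ s, (σ' s).hom z = z) → z ∈ Set.range γ'.hom := by
  algebraize [α.hom, β.hom, a.hom]
  -- the two tensor product presentations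
  obtain ⟨eC, heC⟩ : ∃ e : CommRingCat.of (A' ⊗[A] C) ≅ C',
      e = (CommRingCat.isPushout_tensorProduct A A' C).isoIsPushout A' C
        (HC.flip : IsPushout (CommRingCat.ofHom (algebraMap A A'))
          (CommRingCat.ofHom (algebraMap A C)) i₂ i₁) := ⟨_, rfl⟩
  obtain ⟨eD, heD⟩ : ∃ e : CommRingCat.of (A' ⊗[A] D) ≅ D',
      e = (CommRingCat.isPushout_tensorProduct A A' D).isoIsPushout A' D
        (HD.flip : IsPushout (CommRingCat.ofHom (algebraMap A A'))
          (CommRingCat.ofHom (algebraMap A D)) j₂ j₁) := ⟨_, rfl⟩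
  have hCl : ∀ x : A', eC.hom.hom (x ⊗ₜ[A] (1 : C)) = i₂.hom x := fun x =>
    congrArg (fun θ => θ.hom x) (show CommRingCat.ofHom (S := A' ⊗[A] C)
      Algebra.TensorProduct.includeLeftRingHom ≫ eC.hom = i₂ by
        rw [heC]; exact IsPushout.inl_isoIsPushout_hom _ _ _ _)
  have hCr : ∀ c : C, eC.hom.hom ((1 : A') ⊗ₜ[A] c) = i₁.hom c := fun c =>
    congrArg (fun θ => θ.hom c) (show CommRingCat.ofHom (S := A' ⊗[A] C)
      Algebra.TensorProduct.includeRight.toRingHom ≫ eC.hom = i₁ by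
        rw [heC]; exact IsPushout.inr_isoIsPushout_hom _ _ _ _)
  have hDl : ∀ x : A', eD.hom.hom (x ⊗ₜ[A] (1 : D)) = j₂.hom x := fun x =>
    congrArg (fun θ => θ.hom x) (show CommRingCat.ofHom (S := A' ⊗[A] D)
      Algebra.TensorProduct.includeLeftRingHom ≫ eD.hom = j₂ by
        rw [heD]; exact IsPushout.inl_isoIsPushout_hom _ _ _ _)
  have hDr : ∀ d : D, eD.hom.hom ((1 : A') ⊗ₜ[A] d) = j₁.hom d := fun d =>
    congrArg (fun θ => θ.hom d) (show CommRingCat.ofHom (S := A' ⊗[A] D)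
      Algebra.TensorProduct.includeRight.toRingHom ≫ eD.hom = j₁ by
        rw [heD]; exact IsPushout.inr_isoIsPushout_hom _ _ _ _)
  have hC : ∀ (x : A') (c : C), eC.hom.hom (x ⊗ₜ[A] c) = i₂.hom x * i₁.hom c := by
    intro x c
    have : x ⊗ₜ[A] c = (x ⊗ₜ[A] (1 : C)) * ((1 : A') ⊗ₜ[A] c) := by
      rw [Algebra.TensorProduct.tmul_mul_tmul, mul_one, one_mul]
    rw [this, map_mul, hCl, hCr]
  have hD : ∀ (x : A') (d : D), eD.hom.hom (x ⊗ₜ[A] d) = j₂.hom x * j₁.hom d := by
    intro x d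
    have : x ⊗ₜ[A] d = (x ⊗ₜ[A] (1 : D)) * ((1 : A') ⊗ₜ[A] d) := by
      rw [Algebra.TensorProduct.tmul_mul_tmul, mul_one, one_mul]
    rw [this, map_mul, hDl, hDr]
  have heCinv : ∀ z : C', eC.hom.hom (eC.inv.hom z) = z := fun z => by simp
  have heDinv : ∀ z : D', eD.hom.hom (eD.inv.hom z) = z := fun z => by simp
  have heDinj : Function.Injective eD.hom.hom := by
    intro x y hxy
    have := congrArg eD.inv.hom hxy
    simpa using this
  have hβ' : ∀ r : A, γ.hom (α.hom r) = β.hom r := fun r => congrArg (fun θ => θ.hom r) hβ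
  -- linear structures
  let γL : C →ₗ[A] D :=
    { toFun := γ.hom
      map_add' := map_add _
      map_smul' := fun r c => by
        simp only [Algebra.smul_def, map_mul, RingHom.id_apply]
        rw [show algebraMap A C r = α.hom r from rfl, hβ']
        rfl }
  let ΦL : (⨂[A] _ : Fin n, B) ≃ₗ[A] D :=
    LinearEquiv.ofBijective
      { toFun := Φ
        map_add' := hΦadd
        map_smul' := fun r x => by
          rw [hΦsmul, RingHom.id_apply, Algebra.smul_def]
          rfl } hΦ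
  let τ : Equiv.Perm (Fin n) → (D →ₗ[A] D) := fun s =>
    { toFun := (σ s).hom
      map_add' := map_add _
      map_smul' := fun r d => by
        simp only [Algebra.smul_def, map_mul, RingHom.id_apply]
        rw [show algebraMap A D r = β.hom r from rfl]
        have : (σ s).hom (β.hom r) = β.hom r := congrArg (fun θ => θ.hom r) (hσβ s)
        rw [this] }
  obtain ⟨hI, hII⟩ := lTensor_invariants (A := A) A' n B γL hinj ΦL τ
    (fun s x => hσΦ s x)
    (fun s x => congrArg (fun θ => θ.hom x) (hγσ s))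
    (fun y hy => by
      obtain ⟨c, hc⟩ := hinv y hy
      exact ⟨c, hc⟩)
  have hγ' : ∀ w : A' ⊗[A] C, γ'.hom (eC.hom.hom w) = eD.hom.hom (LinearMap.lTensor A' γL w) := by
    intro w
    induction w using TensorProduct.induction_on with
    | zero => simp
    | tmul x c =>
      rw [LinearMap.lTensor_tmul, hC, hD, map_mul]
      have e1 : γ'.hom (i₂.hom x) = j₂.hom x := congrArg (fun θ => θ.hom x) h₂
      have e2 : γ'.hom (i₁.hom c) = j₁.hom (γ.hom c) := congrArg (fun θ => θ.hom c) h₁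
      rw [e1, e2]
      rfl
    | add w₁ w₂ hw₁ hw₂ => rw [map_add, map_add, map_add, map_add, hw₁, hw₂]
  have hσ' : ∀ (s : Equiv.Perm (Fin n)) (w : A' ⊗[A] D),
      (σ' s).hom (eD.hom.hom w) = eD.hom.hom (LinearMap.lTensor A' (τ s) w) := by
    intro s w
    induction w using TensorProduct.induction_on with
    | zero => simp
    | tmul x d =>
      rw [LinearMap.lTensor_tmul, hD, hD, map_mul]
      have e1 : (σ' s).hom (j₂.hom x) = j₂.hom x := congrArg (fun θ => θ.hom x) (hσ'₂ s)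
      have e2 : (σ' s).hom (j₁.hom d) = j₁.hom ((σ s).hom d) :=
        congrArg (fun θ => θ.hom d) (hσ'₁ s)
      rw [e1, e2]
      rfl
    | add w₁ w₂ hw₁ hw₂ => rw [map_add, map_add, map_add, map_add, hw₁, hw₂]
  constructor
  · intro x x' hxx'
    rw [← heCinv x, ← heCinv x', hγ', hγ'] at hxx'
    have := hI (heDinj hxx')
    rw [← heCinv x, ← heCinv x', this]
  · intro z hz
    have hw : ∀ s, LinearMap.lTensor A' (τ s) (eD.inv.hom z) = eD.inv.hom z := by
      intro s
      apply heDinj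
      rw [← hσ', heDinv, hz s]
    obtain ⟨v, hv⟩ := hII (eD.inv.hom z) hw
    refine ⟨eC.hom.hom v, ?_⟩
    rw [hγ', hv, heDinv]

end Groth.Agent.Lib.Helper43.TSBaseChange
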