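import Groth.Prelude.Def_SymProd
import Groth.Agent.Lib.Helper43.FibPowTensor
import Groth.Agent.Lib.Helper43.TSPushout
import Groth.Agent.Lib.Helper81.IsQuotBasis
import Mathlib.AlgebraicGeometry.Morphisms.Flat

/-! # Symmetric products of flat (AF) morphisms commute with arbitrary base change -/

set_option autoImplicit false
set_option linter.unusedSectionVars false
set_option linter.style.haveILetI false

universe u
open CategoryTheory CategoryTheory.Limits AlgebraicGeometry TopologicalSpace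
open scoped TensorProduct

namespace Groth.Agent.Lib.Helper43.SymProdBC

open Groth.Agent.Lib.Helper43.FibPowTensor Groth.Agent.Lib.Helper43.TSBaseChange
open Groth.Agent.Lib.Helper81.Quot

variable {X S S' Y : Scheme.{u}} (f : X ⟶ S) (b : S' ⟶ S) (n : ℕ)
  (c : SymProd.fibPow (pullback.snd f b) n ⟶ SymProd.fibPow f n)
  (hcπ : ∀ i : Fin n, c ≫ WidePullback.π (fun _ => f) i =
    WidePullback.π (fun _ => pullback.snd f b) i ≫ pullback.fst f b)
  (hcb : c ≫ WidePullback.base (fun _ => f) = WidePullback.base (fun _ => pullback.snd f b) ≫ b)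

include hcπ hcb in
/-- the fibre power of the base change is the base change of the fibre power -/
theorem isPullback_fibPow :
    IsPullback c (WidePullback.base (fun _ : Fin n => pullback.snd f b))
      (WidePullback.base (fun _ : Fin n => f)) b := by
  refine ⟨⟨hcb⟩, ⟨PullbackCone.IsLimit.mk _
    (fun s => WidePullback.lift s.snd
      (fun i => pullback.lift (s.fst ≫ WidePullback.π (fun _ : Fin n => f) i) s.snd (by
        rw [Category.assoc, WidePullback.π_arrow, s.condition]))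
      (fun i => pullback.lift_snd _ _ _)) ?_ ?_ ?_⟩⟩
  · intro s
    apply WidePullback.hom_ext
    · intro i
      rw [Category.assoc, hcπ, WidePullback.lift_π_assoc, pullback.lift_fst]
    · rw [Category.assoc, hcb, WidePullback.lift_base_assoc, s.condition]
  · intro s
    exact WidePullback.lift_base _ _ _ _
  · intro s m hm₁ hm₂
    apply WidePullback.hom_ext
    · intro i
      rw [WidePullback.lift_π]
      apply pullback.hom_ext
      · rw [pullback.lift_fst, Category.assoc, ← hcπ, ← Category.assoc, hm₁]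
      · rw [pullback.lift_snd, Category.assoc, WidePullback.π_arrow, hm₂]
    · rw [WidePullback.lift_base, hm₂]

include hcπ hcb in
theorem permHom_comm (σ : Equiv.Perm (Fin n)) :
    SymProd.permHom (pullback.snd f b) n σ ≫ c = c ≫ SymProd.permHom f n σ := by
  apply WidePullback.hom_ext
  · intro i
    rw [Category.assoc, hcπ, SymProd.permHom_π_assoc, Category.assoc, SymProd.permHom_π, hcπ]
  · rw [Category.assoc, hcb, SymProd.permHom_base_assoc, Category.assoc, SymProd.permHom_base, hcb]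

include hcπ hcb in
/-- the local computation on a chart -/
theorem chart_key [Flat f] (q : SymProd.fibPow f n ⟶ Y) (g : Y ⟶ S)
    (hq : SymProd.IsSymProd f n q g)
    (q' : SymProd.fibPow (pullback.snd f b) n ⟶ pullback g b)
    (hq'₁ : q' ≫ pullback.fst g b = c ≫ q)
    (hq'₂ : q' ≫ pullback.snd g b = WidePullback.base (fun _ => pullback.snd f b))
    (hρ₂ : ∀ σ : ULift.{u} (Equiv.Perm (Fin n)),
      (SymProd.permActU (pullback.snd f b) n σ).hom ≫ q' = q')
    (V : S.Opens) (hV : IsAffineOpen V) (U : X.Opens) (hU : IsAffineOpen U) (hle : U ≤ f ⁻¹ᵁ V)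
    (W' : Y.Opens) (hW' : IsAffineOpen W') (e : W' ≤ g ⁻¹ᵁ V)
    (hW : ∀ z, z ∈ q ⁻¹ᵁ W' ↔ (WidePullback.base (fun _ : Fin n => f)).base z ∈ V ∧
      ∀ i, (WidePullback.π (fun _ : Fin n => f) i).base z ∈ U)
    (T : S'.Opens) (hT : IsAffineOpen T) (hTV : T ≤ b ⁻¹ᵁ V)
    (U' : (pullback g b).Opens)
    (hU'def : U' = (pullback.fst g b) ⁻¹ᵁ W' ⊓ (pullback.snd g b) ⁻¹ᵁ T) :
    IsAffineOpen U' ∧ Function.Injective (q'.app U').hom ∧
      ∀ s : Γ(SymProd.fibPow (pullback.snd f b) n, q' ⁻¹ᵁ U'),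
        (∀ σ, (sec (SymProd.permActU (pullback.snd f b) n) (q' ⁻¹ᵁ U')
          (fun σ => SGA1.preimage_le_of_inv _ q' hρ₂ σ U') σ).hom s = s) →
        s ∈ Set.range (q'.app U').hom := by
  classical
  have hQ := hq.isQuot
  have HP := isPullback_fibPow f b n c hcπ hcb
  have HY : IsPullback (pullback.fst g b) (pullback.snd g b) g b := IsPullback.of_hasPullback g b
  let ch : Chart f n := ⟨V, U, q ⁻¹ᵁ W', hV, hU, hle, hW⟩
  -- affineness
  have hU'aff : IsAffineOpen U' := by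
    haveI : IsAffine (V : Scheme) := hV
    haveI : IsAffine (T : Scheme) := hT
    haveI : IsAffine (W' : Scheme) := hW'
    exact IsAffine.of_isIso (Scheme.Hom.isPullback_resLE HY hTV e hU'def).isoPullback.hom
  refine ⟨hU'aff, ?_⟩
  -- the two pushout squares
  have HC := (isIso_pushoutSection_iff HY hTV e hU'def).mp
    (isIso_pushoutSection_of_isAffineOpen HY hTV e hU'def hV hT hW')
  have hpre : q' ⁻¹ᵁ U' = c ⁻¹ᵁ (q ⁻¹ᵁ W') ⊓
      (WidePullback.base (fun _ : Fin n => pullback.snd f b)) ⁻¹ᵁ T := by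
    rw [hU'def, Scheme.Hom.preimage_inf, ← Scheme.Hom.comp_preimage, ← Scheme.Hom.comp_preimage,
      hq'₁, hq'₂, Scheme.Hom.comp_preimage]
  have HD := (isIso_pushoutSection_iff HP hTV ch.hWb hpre).mp
    (isIso_pushoutSection_of_isAffineOpen HP hTV ch.hWb hpre hV hT ch.hWaff)
  letI algAB : Algebra Γ(S, V) Γ(X, U) := ch.algAB
  letI algAC : Algebra Γ(S, V) Γ(SymProd.fibPow f n, q ⁻¹ᵁ W') := ch.algAC
  haveI : Module.Flat Γ(S, V) Γ(X, U) :=
    HasRingHomProperty.appLE (P := @Flat) f inferInstance ⟨V, hV⟩ ⟨U, hU⟩ hle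
  have hqβ : g.appLE V W' e ≫ q.app W' = ch.β := by
    rw [Scheme.Hom.app_eq_appLE, Scheme.Hom.appLE_comp_appLE]
    exact FibPowTensor.appLE_congr_hom hq.over _ _ _
  have hle₁ : q' ⁻¹ᵁ U' ≤ c ⁻¹ᵁ (q ⁻¹ᵁ W') := by rw [hpre]; exact inf_le_left
  have hle₂ : q' ⁻¹ᵁ U' ≤ (WidePullback.base (fun _ : Fin n => pullback.snd f b)) ⁻¹ᵁ T := by
    rw [hpre]; exact inf_le_right
  have hle₃ : U' ≤ (pullback.fst g b) ⁻¹ᵁ W' := by rw [hU'def]; exact inf_le_left
  have hle₄ : U' ≤ (pullback.snd g b) ⁻¹ᵁ T := by rw [hU'def]; exact inf_le_right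
  have h₁ : (pullback.fst g b).appLE W' U' hle₃ ≫ q'.app U' =
      q.app W' ≫ c.appLE (q ⁻¹ᵁ W') (q' ⁻¹ᵁ U') hle₁ := by
    rw [Scheme.Hom.app_eq_appLE, Scheme.Hom.appLE_comp_appLE, Scheme.Hom.app_eq_appLE,
      Scheme.Hom.appLE_comp_appLE]
    exact FibPowTensor.appLE_congr_hom hq'₁ _ _ _
  have h₂ : (pullback.snd g b).appLE T U' hle₄ ≫ q'.app U' =
      (WidePullback.base (fun _ : Fin n => pullback.snd f b)).appLE T (q' ⁻¹ᵁ U') hle₂ := by
    rw [Scheme.Hom.app_eq_appLE, Scheme.Hom.appLE_comp_appLE]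
    exact FibPowTensor.appLE_congr_hom hq'₂ _ _ _
  have hstab' : ∀ σ : ULift.{u} (Equiv.Perm (Fin n)),
      q' ⁻¹ᵁ U' ≤ (SymProd.permActU (pullback.snd f b) n σ).hom ⁻¹ᵁ (q' ⁻¹ᵁ U') :=
    fun σ => SGA1.preimage_le_of_inv _ q' hρ₂ σ U'
  have hσ'₁ : ∀ s : Equiv.Perm (Fin n),
      c.appLE (q ⁻¹ᵁ W') (q' ⁻¹ᵁ U') hle₁ ≫
        sec (SymProd.permActU (pullback.snd f b) n) (q' ⁻¹ᵁ U') hstab' ⟨s.symm⟩ =
      ch.act s.symm ≫ c.appLE (q ⁻¹ᵁ W') (q' ⁻¹ᵁ U') hle₁ := by
    intro s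
    unfold sec Chart.act
    rw [Scheme.Hom.appLE_comp_appLE, Scheme.Hom.appLE_comp_appLE]
    exact FibPowTensor.appLE_congr_hom (permHom_comm f b n c hcπ hcb s.symm) _ _ _
  have hσ'₂ : ∀ s : Equiv.Perm (Fin n),
      (WidePullback.base (fun _ : Fin n => pullback.snd f b)).appLE T (q' ⁻¹ᵁ U') hle₂ ≫
        sec (SymProd.permActU (pullback.snd f b) n) (q' ⁻¹ᵁ U') hstab' ⟨s.symm⟩ =
      (WidePullback.base (fun _ : Fin n => pullback.snd f b)).appLE T (q' ⁻¹ᵁ U') hle₂ := by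
    intro s
    unfold sec
    rw [Scheme.Hom.appLE_comp_appLE]
    exact FibPowTensor.appLE_congr_hom (SymProd.permHom_base (pullback.snd f b) n s.symm) _ _ _
  have hinv : ∀ d : Γ(SymProd.fibPow f n, q ⁻¹ᵁ W'),
      (∀ s : Equiv.Perm (Fin n), (ch.act s.symm).hom d = d) → d ∈ Set.range (q.app W').hom := by
    intro d hd
    rw [hQ.range_iff W' d]
    intro σ
    exact hd σ.down.symm
  have hγσ : ∀ s : Equiv.Perm (Fin n), q.app W' ≫ ch.act s.symm = q.app W' := by
    intro s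
    unfold Chart.act
    rw [Scheme.Hom.app_eq_appLE, Scheme.Hom.appLE_comp_appLE]
    exact FibPowTensor.appLE_congr_hom (hQ.inv ⟨s.symm⟩) _ _ _
  have hres := isPushout_invariants_TS (α := g.appLE V W' e) (γ := q.app W') (β := ch.β) hqβ
    (γ' := q'.app U') HC HD h₁ h₂ Γ(X, U) n (fun x => ch.Φ x) (fun x y => map_add _ x y)
    (fun r x => by
      rw [map_smul, Algebra.smul_def]
      rfl) ch.Φ_bijective
    (fun s => ch.act s.symm) (fun s => ch.β_act _) (fun s x => ch.act_Φ s.symm x)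
    (fun s => sec (SymProd.permActU (pullback.snd f b) n) (q' ⁻¹ᵁ U') hstab' ⟨s.symm⟩)
    hσ'₁ hσ'₂ (hQ.injective W') hinv hγσ
  refine ⟨hres.1, fun s hs => hres.2 s (fun σ => hs ⟨σ.symm⟩)⟩

include hcπ hcb in
/-- **Symmetric products of flat (AF) morphisms commute with arbitrary base change.** -/
theorem isSymProd_baseChange [Flat f] (hAF : SymProd.IsAF f)
    (q : SymProd.fibPow f n ⟶ Y) (g : Y ⟶ S) (hq : SymProd.IsSymProd f n q g)
    (q' : SymProd.fibPow (pullback.snd f b) n ⟶ pullback g b)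
    (hq'₁ : q' ≫ pullback.fst g b = c ≫ q)
    (hq'₂ : q' ≫ pullback.snd g b = WidePullback.base (fun _ => pullback.snd f b)) :
    SymProd.IsSymProd (pullback.snd f b) n q' (pullback.snd g b) := by
  classical
  have hQ := hq.isQuot
  haveI := hQ.affine
  have HP := isPullback_fibPow f b n c hcπ hcb
  have HY : IsPullback (pullback.fst g b) (pullback.snd g b) g b := IsPullback.of_hasPullback g b
  have HX : IsPullback c q' q (pullback.fst g b) := by
    refine IsPullback.of_bot ?_ hq'₁.symm HY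
    rw [hq'₂, hq.over]
    exact HP
  haveI : IsAffineHom q' := MorphismProperty.of_isPullback HX inferInstance
  have hρ₂ : ∀ σ : ULift.{u} (Equiv.Perm (Fin n)),
      (SymProd.permActU (pullback.snd f b) n σ).hom ≫ q' = q' := by
    intro σ
    rw [SymProd.permActU_hom]
    apply pullback.hom_ext
    · rw [Category.assoc, hq'₁, ← Category.assoc, permHom_comm f b n c hcπ hcb, Category.assoc]
      have := hQ.inv ⟨σ.down⟩
      rw [SymProd.permActU_hom] at this
      rw [this]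
    · rw [Category.assoc, hq'₂, SymProd.permHom_base]
  -- local statement
  have key : ∀ y' : ↥(pullback g b), ∃ U' : (pullback g b).Opens, y' ∈ U' ∧ IsAffineOpen U' ∧
      Function.Injective (q'.app U').hom ∧
      ∀ s : Γ(SymProd.fibPow (pullback.snd f b) n, q' ⁻¹ᵁ U'),
        (∀ σ, (sec (SymProd.permActU (pullback.snd f b) n) (q' ⁻¹ᵁ U')
          (fun σ => SGA1.preimage_le_of_inv _ q' hρ₂ σ U') σ).hom s = s) →
        s ∈ Set.range (q'.app U').hom := by
    intro y'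
    obtain ⟨V, U, W', hV, hU, hle, hyW', hW', e, hW⟩ :=
      exists_chart f hAF n q g hq ((pullback.fst g b).base y')
    have hs' : (pullback.snd g b).base y' ∈ b ⁻¹ᵁ V := by
      change b.base ((pullback.snd g b).base y') ∈ V
      rw [← Scheme.Hom.comp_apply, ← pullback.condition, Scheme.Hom.comp_apply]
      exact e hyW'
    obtain ⟨T, hT, hsT, hTV⟩ := exists_isAffineOpen_mem_and_subset hs'
    obtain ⟨hU'aff, hinj, hrange⟩ := chart_key f b n c hcπ hcb q g hq q' hq'₁ hq'₂ hρ₂ V hV U hU hle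
      W' hW' e hW T hT hTV _ rfl
    exact ⟨(pullback.fst g b) ⁻¹ᵁ W' ⊓ (pullback.snd g b) ⁻¹ᵁ T, ⟨hyW', hsT⟩, hU'aff, hinj,
      hrange⟩
  -- the basis of basic opens of charts
  let 𝓑 : Set (pullback g b).Opens := {O | ∃ U' : (pullback g b).Opens, IsAffineOpen U' ∧
      Function.Injective (q'.app U').hom ∧
      (∀ s : Γ(SymProd.fibPow (pullback.snd f b) n, q' ⁻¹ᵁ U'),
        (∀ σ, (sec (SymProd.permActU (pullback.snd f b) n) (q' ⁻¹ᵁ U')
          (fun σ => SGA1.preimage_le_of_inv _ q' hρ₂ σ U') σ).hom s = s) →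
        s ∈ Set.range (q'.app U').hom) ∧ ∃ a : Γ(pullback g b, U'), O = (pullback g b).basicOpen a}
  have h𝓑 : Opens.IsBasis 𝓑 := by
    rw [Opens.isBasis_iff_nbhd]
    intro O y' hy'
    obtain ⟨U', hyU', hU'aff, hinj, hrange⟩ := key y'
    obtain ⟨a, ha1, ha2⟩ := hU'aff.exists_basicOpen_le (V := O) ⟨y', hy'⟩ hyU'
    exact ⟨_, ⟨U', hU'aff, hinj, hrange, a, rfl⟩, ha2, ha1⟩
  have hinjB : ∀ O ∈ 𝓑, Function.Injective (q'.app O).hom := by
    rintro _ ⟨U', hU'aff, hinj, hrange, a, rfl⟩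
    exact basicOpen_injective q' U' hU'aff (hU'aff.preimage q') a hinj
  have hrangeB : ∀ O ∈ 𝓑, ∀ s : Γ(SymProd.fibPow (pullback.snd f b) n, q' ⁻¹ᵁ O),
      (∀ σ, (sec (SymProd.permActU (pullback.snd f b) n) (q' ⁻¹ᵁ O)
        (fun σ => SGA1.preimage_le_of_inv _ q' hρ₂ σ O) σ).hom s = s) →
      s ∈ Set.range (q'.app O).hom := by
    rintro _ ⟨U', hU'aff, hinj, hrange, a, rfl⟩ s hs
    exact basicOpen_mem_range (SymProd.permActU (pullback.snd f b) n) q' hρ₂ U' hU'aff
      (hU'aff.preimage q') a hrange s hs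
  refine ⟨⟨inferInstance, hρ₂, injective_of_basis q' _ h𝓑 hinjB, fun O s =>
    ⟨?_, mem_range_of_basis (SymProd.permActU (pullback.snd f b) n) q' hρ₂ _ h𝓑 hinjB hrangeB O s⟩⟩,
    hq'₂⟩
  rintro ⟨t, rfl⟩ σ
  exact sec_app (SymProd.permActU (pullback.snd f b) n) q' hρ₂ O σ t

end Groth.Agent.Lib.Helper43.SymProdBC

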