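import Mathlib
import Groth.Agent.Lib.Helper86.LazardElt
import Groth.Agent.Lib.Helper86.TPowColim
import Groth.Agent.Lib.Helper86.TSFree

/-! # Symmetric tensors of a flat module commute with arbitrary base change

For a flat `A`-module `B`, `T = ⨂[A]^n B`, `TS ⊆ T` the symmetric tensors and *any* `A`-module `M`:
* `lTensor_subtype_injective` : `M ⊗ TS → M ⊗ T` is injective;
* `mem_range_lTensor_subtype` : every element of `M ⊗ T` fixed by all `M ⊗ reindex σ` comes from
  `M ⊗ TS`.
Proof: explicit coordinates for finite free modules, then Lazard (`Lib.Helper86.LazardElt`) and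
`TensorProduct.directLimitRight`.
* `lTensor_invariants` : transport along a linear equivalence `T ≃ N`.
* `isPushout_invariants_TS` : the `CommRingCat` pushout form used for symmetric products of schemes. -/

set_option autoImplicit false
set_option linter.unusedSectionVars false
set_option linter.style.haveILetI false

open scoped TensorProduct
open Groth.Agent.Lib.Helper86 Groth.Agent.Lib.Helper86.TPowColim Groth.Agent.Lib.Helper86.TSFree

universe u

namespace Groth.Agent.Lib.Helper43.TSBaseChange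

variable {A : Type u} [CommRing A] (M : Type u) [AddCommGroup M] [Module A M]

section Basic

variable {N N' N'' : Type u} [AddCommGroup N] [Module A N] [AddCommGroup N'] [Module A N']
  [AddCommGroup N''] [Module A N'']

lemma lT_congr {f g : N →ₗ[A] N'} (h : ∀ x, f x = g x) (z : M ⊗[A] N) :
    LinearMap.lTensor M f z = LinearMap.lTensor M g z := by
  rw [LinearMap.ext h]

lemma lT_comp (g : N' →ₗ[A] N'') (f : N →ₗ[A] N') (z : M ⊗[A] N) :
    LinearMap.lTensor M g (LinearMap.lTensor M f z) = LinearMap.lTensor M (g ∘ₗ f) z :=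
  (LinearMap.lTensor_comp_apply M g f z).symm

lemma lT_id (z : M ⊗[A] N) : LinearMap.lTensor M (LinearMap.id : N →ₗ[A] N) z = z := by
  rw [LinearMap.lTensor_id]; rfl

end Basic

variable (n : ℕ)

/-- the map induced on symmetric tensors -/
noncomputable def TSmap {P Q : Type u} [AddCommGroup P] [Module A P] [AddCommGroup Q] [Module A Q]
    (f : P →ₗ[A] Q) : TSsub A P n →ₗ[A] TSsub A Q n :=
  (tm A n f).restrict (fun z hz => by
    rw [mem_TSsub_iff] at hz ⊢
    intro σ
    rw [← tm_reindex, hz σ])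

lemma TSmap_val {P Q : Type u} [AddCommGroup P] [Module A P] [AddCommGroup Q] [Module A Q]
    (f : P →ₗ[A] Q) (z : TSsub A P n) : (TSmap n f z).1 = tm A n f z.1 := rfl

section Free

variable {P : Type u} [AddCommGroup P] [Module A P]
  {κ : Type u} [Fintype κ] [DecidableEq κ] (b : Module.Basis κ A P)

/-- coordinates on `M ⊗ T` -/
noncomputable abbrev E : M ⊗[A] (⨂[A] _ : Fin n, P) ≃ₗ[A] ((Fin n → κ) →₀ M) :=
  TensorProduct.equivFinsuppOfBasisRight (bb (n := n) b)

lemma E_lTensor (L : (⨂[A] _ : Fin n, P) →ₗ[A] (⨂[A] _ : Fin n, P)) (p q : Fin n → κ)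
    (h : ∀ x, (bb (n := n) b).repr (L x) q = (bb (n := n) b).repr x p)
    (z : M ⊗[A] (⨂[A] _ : Fin n, P)) :
    E M n b (LinearMap.lTensor M L z) q = E M n b z p := by
  rw [TensorProduct.equivFinsuppOfBasisRight_apply, TensorProduct.equivFinsuppOfBasisRight_apply,
    lT_comp]
  congr 1
  apply lT_congr
  intro x
  exact h x

lemma repr_ofOrb (g : Quotient (orb (κ := κ) n) → A) (p : Fin n → κ) :
    (bb (n := n) b).repr (ofOrb (R := A) (n := n) b g).1 p = g (Quotient.mk _ p) := by
  have := (bb (n := n) b).equivFun.apply_symm_apply (fun p => g (Quotient.mk _ p))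
  exact congrFun this p

/-- a linear retraction of the inclusion of the symmetric tensors of a free module -/
noncomputable def retr : (⨂[A] _ : Fin n, P) →ₗ[A] TSsub A P n :=
  (ofOrb (R := A) (n := n) b) ∘ₗ
    LinearMap.pi (fun O : Quotient (orb (κ := κ) n) => (bb (n := n) b).coord O.out)

lemma repr_retr (x : ⨂[A] _ : Fin n, P) (p : Fin n → κ) :
    (bb (n := n) b).repr (retr n b x).1 p =
      (bb (n := n) b).repr x (Quotient.mk (orb (κ := κ) n) p).out := by
  unfold retr
  rw [LinearMap.comp_apply, repr_ofOrb]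
  rfl

lemma retr_subtype (z : TSsub A P n) : retr n b z.1 = z := by
  obtain ⟨g, rfl⟩ := (ofOrb_bijective (R := A) (n := n) b).2 z
  unfold retr
  rw [LinearMap.comp_apply]
  congr 1
  funext O
  change (bb (n := n) b).repr (ofOrb (R := A) (n := n) b g).1 O.out = g O
  rw [repr_ofOrb, Quotient.out_eq]

include b in
theorem free_injective :
    Function.Injective (LinearMap.lTensor M (TSsub A P n).subtype) := by
  classical
  apply Function.LeftInverse.injective (g := LinearMap.lTensor M (retr n b))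
  intro z
  rw [lT_comp, lT_congr M (g := LinearMap.id) (fun x => retr_subtype n b x), lT_id]

include b in
theorem free_mem_range (z : M ⊗[A] (⨂[A] _ : Fin n, P))
    (hz : ∀ σ : Equiv.Perm (Fin n), LinearMap.lTensor M
      (PiTensorProduct.reindex A (fun _ : Fin n => P) σ).toLinearMap z = z) :
    z ∈ LinearMap.range (LinearMap.lTensor M (TSsub A P n).subtype) := by
  refine ⟨LinearMap.lTensor M (retr n b) z, ?_⟩
  apply (E M n b).injective
  apply Finsupp.ext
  intro p
  obtain ⟨q, hq⟩ : ∃ q : Fin n → κ, q = (Quotient.mk (orb (κ := κ) n) p).out := ⟨_, rfl⟩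
  obtain ⟨σ, hσ⟩ : ∃ σ : Equiv.Perm (Fin n), p = q ∘ σ := by
    rw [hq]
    exact Quotient.mk_out (s := orb (κ := κ) n) p
  have h0 : E M n b (LinearMap.lTensor M ((TSsub A P n).subtype ∘ₗ retr n b) z) p =
      E M n b z q := by
    apply E_lTensor M n b _ q p
    intro x
    rw [hq]
    exact repr_retr n b x p
  have h1 : E M n b (LinearMap.lTensor M
      (PiTensorProduct.reindex A (fun _ : Fin n => P) σ).toLinearMap z) q = E M n b z (q ∘ σ) := by
    apply E_lTensor M n b _ (q ∘ σ) q
    intro x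
    exact repr_reindex b σ x q
  rw [hz σ, ← hσ] at h1
  rw [lT_comp, h0, h1]

end Free

section Colim

variable {B : Type u} [AddCommGroup B] [Module A B]
  {ι : Type u} [Preorder ι] [IsDirected ι (fun i j => i ≤ j)] [Nonempty ι] [DecidableEq ι]
  (Bi : ι → Type u) [∀ i, AddCommGroup (Bi i)] [∀ i, Module A (Bi i)]
  (t : ∀ i j : ι, i ≤ j → (Bi i →ₗ[A] Bi j)) (φ : ∀ i : ι, Bi i →ₗ[A] B)
  (hcomp : ∀ (i j : ι) (h : i ≤ j), (φ j).comp (t i j h) = φ i)
  (hsurj : ∀ b : B, ∃ (i : ι) (x : Bi i), φ i x = b)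
  (hzero : ∀ (i : ι) (x : Bi i), φ i x = 0 → ∃ (j : ι) (h : i ≤ j), t i j h x = 0)
  (hid : ∀ (i : ι) (h : i ≤ i), t i i h = LinearMap.id)
  (htrans : ∀ (i j k : ι) (hij : i ≤ j) (hjk : j ≤ k),
    (t j k hjk).comp (t i j hij) = t i k (hij.trans hjk))

include hcomp in
lemma tm_φ_t (i j : ι) (h : i ≤ j) (y : ⨂[A] _ : Fin n, Bi i) :
    tm A n (φ j) (tm A n (t i j h) y) = tm A n (φ i) y := by
  rw [tm_comp_apply, hcomp]

include htrans in
lemma tm_t_t (i j k : ι) (hij : i ≤ j) (hjk : j ≤ k) (y : ⨂[A] _ : Fin n, Bi i) :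
    tm A n (t j k hjk) (tm A n (t i j hij) y) = tm A n (t i k (hij.trans hjk)) y := by
  rw [tm_comp_apply, htrans]

include hcomp hsurj in
theorem lT_exists_of (z : M ⊗[A] (⨂[A] _ : Fin n, B)) :
    ∃ (i : ι) (y : M ⊗[A] (⨂[A] _ : Fin n, Bi i)), LinearMap.lTensor M (tm A n (φ i)) y = z := by
  induction z using TensorProduct.induction_on with
  | zero => exact ⟨Classical.arbitrary ι, 0, map_zero _⟩
  | tmul m w =>
    obtain ⟨i, y, rfl⟩ := tm_exists_of Bi t φ hcomp hsurj n w
    exact ⟨i, m ⊗ₜ y, LinearMap.lTensor_tmul _ _ _ _⟩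
  | add z z' hz hz' =>
    obtain ⟨i, y, rfl⟩ := hz
    obtain ⟨i', y', rfl⟩ := hz'
    obtain ⟨j, hij, hi'j⟩ := exists_ge_ge i i'
    refine ⟨j, LinearMap.lTensor M (tm A n (t i j hij)) y +
      LinearMap.lTensor M (tm A n (t i' j hi'j)) y', ?_⟩
    rw [map_add, lT_comp, lT_comp]
    congr 1
    · exact lT_congr M (fun x => tm_φ_t n Bi t φ hcomp i j hij x) y
    · exact lT_congr M (fun x => tm_φ_t n Bi t φ hcomp i' j hi'j x) y'

include hcomp hsurj hzero hid htrans in
theorem lT_zero_exact (i : ι) (y : M ⊗[A] (⨂[A] _ : Fin n, Bi i))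
    (hy : LinearMap.lTensor M (tm A n (φ i)) y = 0) :
    ∃ (j : ι) (h : i ≤ j), LinearMap.lTensor M (tm A n (t i j h)) y = 0 := by
  haveI := directedSystem Bi t hid htrans n
  let ψ : (⨂[A] _ : Fin n, B) →ₗ[A] L Bi t n :=
    PiTensorProduct.lift (mu Bi t φ hcomp hsurj hzero htrans n)
  have h1 : LinearMap.lTensor M
      (Module.DirectLimit.of A ι (TP (A := A) Bi n) (tl Bi t n) i) y = 0 := by
    have h2 : LinearMap.lTensor M ψ (LinearMap.lTensor M (tm A n (φ i)) y) = 0 := by
      rw [hy, map_zero]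
    rw [lT_comp] at h2
    rw [← h2]
    exact (lT_congr M (fun x => lift_mu_tm Bi t φ hcomp hsurj hzero htrans n i x) y).symm
  have h3 : ∀ w : M ⊗[A] (⨂[A] _ : Fin n, Bi i),
      TensorProduct.directLimitRight (tl Bi t n) M (LinearMap.lTensor M
        (Module.DirectLimit.of A ι (TP (A := A) Bi n) (tl Bi t n) i) w) =
      Module.DirectLimit.of A ι (fun i => M ⊗[A] TP (A := A) Bi n i)
        (fun i j h => LinearMap.lTensor M (tl Bi t n i j h)) i w := by
    intro w
    induction w using TensorProduct.induction_on with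
    | zero => simp
    | tmul m g =>
      rw [LinearMap.lTensor_tmul]
      exact TensorProduct.directLimitRight_tmul_of (tl Bi t n) M m g
    | add w w' hw hw' => rw [map_add, map_add, map_add, hw, hw']
  have h4 := h3 y
  rw [h1, map_zero] at h4
  exact Module.DirectLimit.of.zero_exact h4.symm

include hcomp hsurj hzero hid htrans in
theorem lTS_exists_of (x : M ⊗[A] TSsub A B n) :
    ∃ (i : ι) (y : M ⊗[A] TSsub A (Bi i) n), LinearMap.lTensor M (TSmap n (φ i)) y = x := by
  induction x using TensorProduct.induction_on with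
  | zero => exact ⟨Classical.arbitrary ι, 0, map_zero _⟩
  | tmul m w =>
    obtain ⟨i, y, hysym, hy⟩ := sym_exists_of Bi t φ hcomp hsurj hzero hid htrans n w.1
      ((mem_TSsub_iff _).mp w.2)
    refine ⟨i, m ⊗ₜ ⟨y, (mem_TSsub_iff _).mpr hysym⟩, ?_⟩
    rw [LinearMap.lTensor_tmul]
    congr 1
    exact Subtype.ext hy
  | add z z' hz hz' =>
    obtain ⟨i, y, rfl⟩ := hz
    obtain ⟨i', y', rfl⟩ := hz'
    obtain ⟨j, hij, hi'j⟩ := exists_ge_ge i i'
    refine ⟨j, LinearMap.lTensor M (TSmap n (t i j hij)) y +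
      LinearMap.lTensor M (TSmap n (t i' j hi'j)) y', ?_⟩
    rw [map_add, lT_comp, lT_comp]
    congr 1
    · exact lT_congr M (fun x => Subtype.ext (tm_φ_t n Bi t φ hcomp i j hij x.1)) y
    · exact lT_congr M (fun x => Subtype.ext (tm_φ_t n Bi t φ hcomp i' j hi'j x.1)) y'

end Colim

section Main

variable (B : Type u) [AddCommGroup B] [Module A B] [Module.Flat A B]

/-- `M ⊗ TS^n(B) → M ⊗ T^n(B)` is injective for flat `B` and arbitrary `M`. -/
theorem lTensor_subtype_injective :
    Function.Injective (LinearMap.lTensor M (TSsub A B n).subtype) := by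
  classical
  obtain ⟨ι, _, _, _, Bi, _, _, hfin, hfree, t, φ, hcomp, hsurj, hzero, hid, htrans⟩ :=
    Lazard.exists_system A B
  rw [injective_iff_map_eq_zero]
  intro x hx
  obtain ⟨i, y, rfl⟩ := lTS_exists_of M n Bi t φ hcomp hsurj hzero hid htrans x
  have h1 : LinearMap.lTensor M (tm A n (φ i))
      (LinearMap.lTensor M (TSsub A (Bi i) n).subtype y) = 0 := by
    rw [lT_comp] at hx ⊢
    rw [← hx]
    exact lT_congr M (fun _ => rfl) y
  obtain ⟨j, hij, h2⟩ := lT_zero_exact M n Bi t φ hcomp hsurj hzero hid htrans i _ h1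
  have h3 : LinearMap.lTensor M (TSsub A (Bi j) n).subtype
      (LinearMap.lTensor M (TSmap n (t i j hij)) y) = 0 := by
    rw [lT_comp] at h2 ⊢
    rw [← h2]
    exact lT_congr M (fun _ => rfl) y
  have h4 : LinearMap.lTensor M (TSmap n (t i j hij)) y = 0 := by
    apply free_injective M n (Module.Free.chooseBasis A (Bi j))
    rw [h3, map_zero]
  have h5 : LinearMap.lTensor M (TSmap n (φ j)) (LinearMap.lTensor M (TSmap n (t i j hij)) y) =
      LinearMap.lTensor M (TSmap n (φ i)) y := by
    rw [lT_comp]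
    exact lT_congr M (fun x => Subtype.ext (tm_φ_t n Bi t φ hcomp i j hij x.1)) y
  rw [← h5, h4, map_zero]

/-- invariant elements of `M ⊗ T^n(B)` come from `M ⊗ TS^n(B)`, for flat `B` and arbitrary `M`. -/
theorem mem_range_lTensor_subtype (z : M ⊗[A] (⨂[A] _ : Fin n, B))
    (hz : ∀ σ : Equiv.Perm (Fin n), LinearMap.lTensor M
      (PiTensorProduct.reindex A (fun _ : Fin n => B) σ).toLinearMap z = z) :
    z ∈ LinearMap.range (LinearMap.lTensor M (TSsub A B n).subtype) := by
  classical
  obtain ⟨ι, _, _, _, Bi, _, _, hfin, hfree, t, φ, hcomp, hsurj, hzero, hid, htrans⟩ :=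
    Lazard.exists_system A B
  obtain ⟨i, y, rfl⟩ := lT_exists_of M n Bi t φ hcomp hsurj z
  have h1 : ∀ σ : Equiv.Perm (Fin n), ∃ (j : ι) (h : i ≤ j),
      LinearMap.lTensor M (tm A n (t i j h)) (LinearMap.lTensor M
        (PiTensorProduct.reindex A (fun _ : Fin n => Bi i) σ).toLinearMap y - y) = 0 := by
    intro σ
    apply lT_zero_exact M n Bi t φ hcomp hsurj hzero hid htrans
    rw [map_sub, sub_eq_zero, lT_comp]
    have h2 := hz σ
    rw [lT_comp] at h2
    rw [← h2]
    apply lT_congr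
    intro x
    exact tm_reindex A n (φ i) σ x
  choose j0 hj0 hy0 using h1
  obtain ⟨M0, hM0⟩ := Finite.exists_le j0
  obtain ⟨j, hij, hM0j⟩ := exists_ge_ge i M0
  have hinv : ∀ σ : Equiv.Perm (Fin n), LinearMap.lTensor M
      (PiTensorProduct.reindex A (fun _ : Fin n => Bi j) σ).toLinearMap
        (LinearMap.lTensor M (tm A n (t i j hij)) y) =
      LinearMap.lTensor M (tm A n (t i j hij)) y := by
    intro σ
    have h2 : LinearMap.lTensor M (tm A n (t i j hij)) (LinearMap.lTensor M
        (PiTensorProduct.reindex A (fun _ : Fin n => Bi i) σ).toLinearMap y - y) = 0 := by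
      have h3 := congrArg (LinearMap.lTensor M (tm A n (t (j0 σ) j ((hM0 σ).trans hM0j)))) (hy0 σ)
      rw [map_zero, lT_comp] at h3
      rw [← h3]
      exact lT_congr M (fun x => (tm_t_t n Bi t htrans i (j0 σ) j (hj0 σ) _ x).symm) _
    rw [map_sub, sub_eq_zero] at h2
    refine Eq.trans ?_ h2
    rw [lT_comp, lT_comp]
    apply lT_congr
    intro x
    exact (tm_reindex A n (t i j hij) σ x).symm
  obtain ⟨v, hv⟩ := free_mem_range M n (Module.Free.chooseBasis A (Bi j)) _ hinv
  refine ⟨LinearMap.lTensor M (TSmap n (φ j)) v, ?_⟩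
  have h4 : LinearMap.lTensor M (tm A n (φ j)) (LinearMap.lTensor M (tm A n (t i j hij)) y) =
      LinearMap.lTensor M (tm A n (φ i)) y := by
    rw [lT_comp]
    exact lT_congr M (fun x => tm_φ_t n Bi t φ hcomp i j hij x) y
  rw [← h4, ← hv, lT_comp, lT_comp]
  exact lT_congr M (fun _ => rfl) v

end Main

end Groth.Agent.Lib.Helper43.TSBaseChange
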