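import Groth.Agent.Lib.Helper43.CfSummand
import Mathlib.Algebra.Polynomial.Laurent

/-!
# Coefficient spaces of twists and tensor powers; homogeneity along a one-parameter subgroup
(helper43)

* `cfMap_twist`, `cf_twist_le`: coefficients of the twist by a group-like `g` are the
  coefficients times `g`.
* `one_mem_cf_tpow_zero`, `mul_mem_cf_tpow_succ`: products of `m` coefficients of `c` are
  coefficients of the `m`-th tensor power.
* `Homog π c χ`: all vectors of `c` are eigenvectors of weight `χ` along the bialgebra map `π`;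
  stability under tensor products, transport, tensor powers, twists; `gam_cf`.
* `mem_of_mem_iSup_of_gam`: separating graded pieces along a map to the Laurent polynomials.
-/

set_option autoImplicit false

open TensorProduct
open scoped LaurentPolynomial

universe u v w w'

namespace Groth.Agent.Lib.Helper43.TwistHomog

open Groth.Agent.Lib.Helper96 Groth.Agent.Lib.Helper96.TensGen

section Twist

variable {k : Type u} [Field k] {A : Type v} [CommRing A] [Bialgebra k A]
variable {V : Type w} [AddCommGroup V] [Module k V]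
variable {E : Type w'} [AddCommGroup E] [Module k E]

theorem cfMap_twist (c : HopfRep.Comod k A V) (g : A) (hg : IsGroupLikeElem k g)
    (φ : Module.Dual k V) (v : V) :
    cfMap (ComodTens.Comod.twist c g hg) φ v = cfMap c φ v * g := by
  rw [cfMap_apply, cfMap_apply, ComodTens.twist_coact, lslM_lTensor]
  rfl

theorem cf_twist_le (c : HopfRep.Comod k A V) (g : A) (hg : IsGroupLikeElem k g)
    (D : Submodule k A) (hD : ∀ z ∈ cf c, z * g ∈ D) :
    cf (ComodTens.Comod.twist c g hg) ≤ D := by
  rw [cf_le]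
  intro φ v
  rw [cfMap_twist]
  exact hD _ (cfMap_mem_cf c φ v)

/-- a morphism out of a twist is a morphism into the inverse twist -/
theorem isHom_untwist_right (cV : HopfRep.Comod k A V) (cE : HopfRep.Comod k A E)
    (g g' : A) (hg : IsGroupLikeElem k g) (hg' : IsGroupLikeElem k g') (hgg : g * g' = 1)
    (f : V →ₗ[k] E) (hf : IsHom (ComodTens.Comod.twist cV g hg) cE f) :
    IsHom cV (ComodTens.Comod.twist cE g' hg') f := by
  apply LinearMap.ext
  intro v
  have h1 : cE.coact (f v) = f.rTensor A ((LinearMap.mulRight k g).lTensor V (cV.coact v)) := by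
    have := isHom_apply hf v
    rwa [ComodTens.twist_coact] at this
  show (ComodTens.Comod.twist cE g' hg').coact (f v) = f.rTensor A (cV.coact v)
  rw [ComodTens.twist_coact, h1, ComodTens.lTensor_rTensor_comm, ← LinearMap.lTensor_comp_apply]
  have h2 : LinearMap.mulRight k g' ∘ₗ LinearMap.mulRight k g = (LinearMap.id : A →ₗ[k] A) := by
    apply LinearMap.ext
    intro a
    simp only [LinearMap.comp_apply, LinearMap.mulRight_apply, LinearMap.id_apply]
    rw [mul_assoc, hgg, mul_one]
  rw [h2, LinearMap.lTensor_id, LinearMap.id_apply]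

/-- a morphism into a twist is a morphism out of the inverse twist -/
theorem isHom_untwist_left (cV : HopfRep.Comod k A V) (cE : HopfRep.Comod k A E)
    (g g' : A) (hg : IsGroupLikeElem k g) (hg' : IsGroupLikeElem k g') (hgg : g * g' = 1)
    (f : E →ₗ[k] V) (hf : IsHom cE (ComodTens.Comod.twist cV g hg) f) :
    IsHom (ComodTens.Comod.twist cE g' hg') cV f := by
  apply LinearMap.ext
  intro e
  have h1 : (LinearMap.mulRight k g).lTensor V (cV.coact (f e)) = f.rTensor A (cE.coact e) := by
    have := isHom_apply hf e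
    rwa [ComodTens.twist_coact] at this
  show cV.coact (f e) = f.rTensor A ((ComodTens.Comod.twist cE g' hg').coact e)
  rw [ComodTens.twist_coact, ← ComodTens.lTensor_rTensor_comm, ← h1,
    ← LinearMap.lTensor_comp_apply]
  have h2 : LinearMap.mulRight k g' ∘ₗ LinearMap.mulRight k g = (LinearMap.id : A →ₗ[k] A) := by
    apply LinearMap.ext
    intro a
    simp only [LinearMap.comp_apply, LinearMap.mulRight_apply, LinearMap.id_apply]
    rw [mul_assoc, hgg, mul_one]
  rw [h2, LinearMap.lTensor_id, LinearMap.id_apply]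

end Twist

section TPow

variable {k : Type u} [Field k] {A : Type v} [CommRing A] [HopfAlgebra k A]
variable {V : Type w} [AddCommGroup V] [Module k V]

theorem one_mem_cf_tpow_zero (c : HopfRep.Comod k A V) :
    (1 : A) ∈ cf (ComodTens.Comod.tpow c 0) := by
  let e₀ := (PiTensorProduct.isEmptyEquiv (Fin 0) (R := k) (s := fun _ : Fin 0 => V)).symm
  have h : (1 : A) = cfMap (ComodTens.Comod.tpow c 0)
      (e₀.symm : TensorPower k 0 V →ₗ[k] k) (e₀ 1) := by
    rw [cfMap_apply, ComodTens.tpow_zero, lslM_ofEquiv]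
    show (1 : A) = lslM _ ((1 : k) ⊗ₜ[k] (1 : A))
    rw [lslM_tmul, LinearMap.comp_apply, LinearEquiv.coe_coe, LinearEquiv.coe_coe,
      LinearEquiv.symm_apply_apply, one_smul]
  rw [h]
  exact cfMap_mem_cf _ _ _

theorem cfMap_mul_cfMap_mem (c : HopfRep.Comod k A V) (m : ℕ)
    (Φ : Module.Dual k (TensorPower k m V)) (t : TensorPower k m V) (ψ : Module.Dual k V) (u : V) :
    cfMap (ComodTens.Comod.tpow c m) Φ t * cfMap c ψ u ∈ cf (ComodTens.Comod.tpow c (m + 1)) := by
  let e₁ := (PiTensorProduct.subsingletonEquiv (R := k) (s := fun _ : Fin 1 => V) (0 : Fin 1)).symm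
  let e₂ := TensorPower.mulEquiv (R := k) (M := V) (n := m) (m := 1)
  let Ψ : Module.Dual k (TensorPower k 1 V) := ψ ∘ₗ (e₁.symm : TensorPower k 1 V →ₗ[k] V)
  have h : cfMap (ComodTens.Comod.tpow c m) Φ t * cfMap c ψ u =
      cfMap (ComodTens.Comod.tpow c (m + 1))
        ((ChevChar.dualTensor Φ Ψ) ∘ₗ (e₂.symm : TensorPower k (m + 1) V →ₗ[k] _))
        (e₂ (t ⊗ₜ[k] e₁ u)) := by
    rw [cfMap_apply, cfMap_apply, cfMap_apply, ComodTens.tpow_succ, lslM_ofEquiv]
    have h1 : (ChevChar.dualTensor Φ Ψ ∘ₗ (e₂.symm : TensorPower k (m + 1) V →ₗ[k] _)) ∘ₗ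
        (e₂ : _ →ₗ[k] TensorPower k (m + 1) V) = ChevChar.dualTensor Φ Ψ := by
      apply LinearMap.ext
      intro x
      simp
    rw [h1, ChevChar.lslM_tensor_coact]
    congr 1
    show lslM ψ (c.coact u) = lslM Ψ ((ComodTens.Comod.ofEquiv e₁ c).coact (e₁ u))
    rw [lslM_ofEquiv]
    have h2 : Ψ ∘ₗ (e₁ : V →ₗ[k] TensorPower k 1 V) = ψ := by
      apply LinearMap.ext
      intro x
      simp [Ψ]
    rw [h2]
  rw [h]
  exact cfMap_mem_cf _ _ _

theorem mul_mem_cf_tpow_succ (c : HopfRep.Comod k A V) (m : ℕ) {z y : A}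
    (hz : z ∈ cf (ComodTens.Comod.tpow c m)) (hy : y ∈ cf c) :
    z * y ∈ cf (ComodTens.Comod.tpow c (m + 1)) := by
  have h1 : ∀ (ψ : Module.Dual k V) (u : V), cf (ComodTens.Comod.tpow c m) ≤
      (cf (ComodTens.Comod.tpow c (m + 1))).comap (LinearMap.mulRight k (cfMap c ψ u)) := by
    intro ψ u
    rw [cf_le]
    intro Φ t
    exact cfMap_mul_cfMap_mem c m Φ t ψ u
  have h2 : cf c ≤ (cf (ComodTens.Comod.tpow c (m + 1))).comap (LinearMap.mulLeft k z) := by
    rw [cf_le]
    intro ψ u
    exact h1 ψ u hz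
  exact h2 hy

end TPow

section Homog

variable {k : Type u} [Field k] {A : Type v} [CommRing A] [HopfAlgebra k A]
variable {B : Type v} [CommRing B] [HopfAlgebra k B]
variable {V : Type w} [AddCommGroup V] [Module k V]
variable {V' : Type w} [AddCommGroup V'] [Module k V']

/-- every vector has weight `χ` along `π` -/
def Homog (π : A →ₐc[k] B) (c : HopfRep.Comod k A V) (χ : B) : Prop :=
  ∀ v : V, LinearMap.lTensor V π.toLinearMap (c.coact v) = v ⊗ₜ[k] χ

theorem homog_of_eigenspace (π : A →ₐc[k] B) (c : HopfRep.Comod k A V) (χ : B)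
    (h : @HopfRep.eigenspace k B _ _ _ V _ _ (GLin.comodAlong π c) χ = ⊤) : Homog π c χ := by
  intro v
  have hv : v ∈ @HopfRep.eigenspace k B _ _ _ V _ _ (GLin.comodAlong π c) χ := by
    rw [h]; trivial
  exact hv

/-- coefficients of a homogeneous comodule are homogeneous -/
theorem gam_cf (π : A →ₐc[k] B) (c : HopfRep.Comod k A V) (χ : B) (h : Homog π c χ)
    {z : A} (hz : z ∈ cf c) :
    LinearMap.lTensor A π.toLinearMap (CoalgebraStruct.comul (R := k) z) = z ⊗ₜ[k] χ := by
  have hle : cf c ≤ LinearMap.eqLocus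
      (LinearMap.lTensor A π.toLinearMap ∘ₗ CoalgebraStruct.comul (R := k) (A := A))
      ((TensorProduct.mk k A B).flip χ) := by
    rw [cf_le]
    intro φ v
    rw [LinearMap.mem_eqLocus]
    have h1 : CoalgebraStruct.comul (R := k) (cfMap c φ v) = (cfMap c φ).rTensor A (c.coact v) :=
      isHom_apply (isHom_cfMap c φ) v
    simp only [LinearMap.comp_apply, LinearMap.flip_apply, TensorProduct.mk_apply]
    rw [h1, ComodTens.lTensor_rTensor_comm, h v, LinearMap.rTensor_tmul]
  have := hle hz
  rw [LinearMap.mem_eqLocus] at this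
  simpa only [LinearMap.comp_apply, LinearMap.flip_apply, TensorProduct.mk_apply] using this

theorem homog_tensor (π : A →ₐc[k] B) (c : HopfRep.Comod k A V) (c' : HopfRep.Comod k A V')
    (χ ψ : B) (h : Homog π c χ) (h' : Homog π c' ψ) :
    Homog π (ComodTens.Comod.tensor c c') (χ * ψ) := by
  intro x
  induction x using TensorProduct.induction_on with
  | zero => simp
  | add x y hx hy => rw [map_add, map_add, hx, hy, TensorProduct.add_tmul]
  | tmul v v' => exact ChevChar.eig_tensor π c c' v v' χ ψ (h v) (h' v')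

theorem homog_ofEquiv (π : A →ₐc[k] B) (c : HopfRep.Comod k A V) (χ : B) (h : Homog π c χ)
    {W : Type w'} [AddCommGroup W] [Module k W] (e : V ≃ₗ[k] W) :
    Homog π (ComodTens.Comod.ofEquiv e c) χ := by
  intro w
  rw [ComodTens.ofEquiv_coact, ComodTens.lTensor_rTensor_comm, h, LinearMap.rTensor_tmul]
  simp

theorem homog_trivial (π : A →ₐc[k] B) (W : Type w') [AddCommGroup W] [Module k W] :
    Homog π (HopfRep.Comod.trivial k A W) 1 := by
  intro w
  show LinearMap.lTensor W π.toLinearMap (w ⊗ₜ[k] (1 : A)) = w ⊗ₜ[k] 1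
  rw [LinearMap.lTensor_tmul]
  congr 1
  exact map_one π

theorem homog_tpow (π : A →ₐc[k] B) (c : HopfRep.Comod k A V) (χ : B) (h : Homog π c χ) (m : ℕ) :
    Homog π (ComodTens.Comod.tpow c m) (χ ^ m) := by
  induction m with
  | zero =>
    rw [ComodTens.tpow_zero, pow_zero]
    exact homog_ofEquiv π _ 1 (homog_trivial π k) _
  | succ m ih =>
    rw [ComodTens.tpow_succ, pow_succ]
    exact homog_ofEquiv π _ _
      (homog_tensor π _ _ _ _ ih (homog_ofEquiv π c χ h _)) _

theorem homog_twist (π : A →ₐc[k] B) (c : HopfRep.Comod k A V) (χ : B) (h : Homog π c χ)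
    (g : A) (hg : IsGroupLikeElem k g) :
    Homog π (ComodTens.Comod.twist c g hg) (χ * π g) := by
  intro v
  rw [ComodTens.twist_coact, ← LinearMap.lTensor_comp_apply]
  have h1 : π.toLinearMap ∘ₗ LinearMap.mulRight k g =
      LinearMap.mulRight k (π g) ∘ₗ π.toLinearMap := by
    apply LinearMap.ext
    intro a
    simp only [LinearMap.comp_apply, LinearMap.mulRight_apply]
    exact map_mul π a g
  rw [h1, LinearMap.lTensor_comp_apply, h v, LinearMap.lTensor_tmul, LinearMap.mulRight_apply]

end Homog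

section Graded

variable {k : Type u} [Field k] {A : Type v} [AddCommGroup A] [Module k A] [Coalgebra k A]

/-- the `N`-th coefficient of a Laurent polynomial, as a linear form -/
noncomputable def coeffN (k : Type u) [Field k] (N : ℤ) : k[T;T⁻¹] →ₗ[k] k :=
  Finsupp.lapply N ∘ₗ (AddMonoidAlgebra.coeffLinearEquiv k).toLinearMap

theorem coeffN_T (N n : ℤ) : coeffN k N (LaurentPolynomial.T n) = if n = N then 1 else 0 := by
  show (LaurentPolynomial.T n : k[T;T⁻¹]).coeff N = _
  exact LaurentPolynomial.T_apply N n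

/-- the degree `N` part along `π` -/
noncomputable def pr (π : A →ₗ[k] k[T;T⁻¹]) (N : ℤ) : A →ₗ[k] A :=
  (TensorProduct.rid k A).toLinearMap ∘ₗ (coeffN k N).lTensor A ∘ₗ π.lTensor A ∘ₗ
    CoalgebraStruct.comul (R := k) (A := A)

theorem pr_of_gam (π : A →ₗ[k] k[T;T⁻¹]) (N n : ℤ) (z : A)
    (hz : π.lTensor A (CoalgebraStruct.comul (R := k) z) = z ⊗ₜ[k] LaurentPolynomial.T n) :
    pr π N z = if n = N then z else 0 := by
  simp only [pr, LinearMap.comp_apply, LinearEquiv.coe_coe]
  rw [hz, LinearMap.lTensor_tmul, coeffN_T, TensorProduct.rid_tmul]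
  split_ifs <;> simp

/-- separation of graded pieces: if `z` is a sum of elements of `D a` which are homogeneous of
degree `a`, and `z` is homogeneous of degree `N`, then `z ∈ D N` -/
theorem mem_of_mem_iSup_of_gam (π : A →ₗ[k] k[T;T⁻¹]) (D : ℕ → Submodule k A)
    (hD : ∀ a, ∀ y ∈ D a,
      π.lTensor A (CoalgebraStruct.comul (R := k) y) = y ⊗ₜ[k] LaurentPolynomial.T (a : ℤ))
    (N : ℕ) {z : A} (hz : z ∈ ⨆ a, D a)
    (hzN : π.lTensor A (CoalgebraStruct.comul (R := k) z) =
      z ⊗ₜ[k] LaurentPolynomial.T (N : ℤ)) : z ∈ D N := by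
  have h1 : pr π N z ∈ D N := by
    refine Submodule.iSup_induction D (motive := fun z => pr π N z ∈ D N) hz ?_ ?_ ?_
    · intro a y hy
      rw [pr_of_gam π N a y (hD a y hy)]
      split_ifs with h
      · have : a = N := by exact_mod_cast h
        rw [← this]
        exact hy
      · exact Submodule.zero_mem _
    · rw [map_zero]
      exact Submodule.zero_mem _
    · intro x y hx hy
      rw [map_add]
      exact Submodule.add_mem _ hx hy
  rw [pr_of_gam π N N z hzN, if_pos rfl] at h1
  exact h1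

end Graded

end Groth.Agent.Lib.Helper43.TwistHomog
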