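import Mathlib

universe u

open CategoryTheory AlgebraicGeometry

namespace Groth.Agent.Lib.Helper43.ZF0037

/-- Stacks 02UP consequence: a proper morphism with finite fibre over `y` is affine over a
neighbourhood of `y` (indeed finite there, by Mathlib's Zariski main theorem). -/
theorem exists_nhd_affine_preimage {X Y : Scheme.{u}} (f : X ⟶ Y) [IsProper f] (y : Y)
    (hy : (f.base ⁻¹' {y}).Finite) :
    ∃ V : Y.Opens, y ∈ V ∧ ∀ V' : Y.Opens, V' ≤ V → IsAffineOpen V' →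
      IsAffineOpen (f ⁻¹ᵁ V') := by
  obtain ⟨V, hyV, hfin⟩ := exists_isFinite_morphismRestrict_of_finite_preimage_singleton f y hy
  refine ⟨V, hyV, fun V' hV' haff => ?_⟩
  have hVV' : V.ι ''ᵁ (V.ι ⁻¹ᵁ V') = V' := by
    rw [Scheme.Hom.image_preimage_eq_opensRange_inf, Scheme.Opens.opensRange_ι]
    exact inf_eq_right.mpr hV'
  have h1 : IsAffineOpen (V.ι ⁻¹ᵁ V') := by
    rw [← V.ι.isAffineOpen_iff_of_isOpenImmersion, hVV']
    exact haff
  have h2 : IsAffineOpen ((f ∣_ V) ⁻¹ᵁ (V.ι ⁻¹ᵁ V')) := h1.preimage (f ∣_ V)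
  have h3 := h2.image_of_isOpenImmersion (f ⁻¹ᵁ V).ι
  rw [image_morphismRestrict_preimage, hVV'] at h3
  exact h3

end Groth.Agent.Lib.Helper43.ZF0037
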