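import Mathlib

set_option autoImplicit false
universe u
open CategoryTheory AlgebraicGeometry Limits TopologicalSpace

namespace Groth.Agent.Lib.Helper43.ZMTFP

/-- If `f ≫ g` is locally of finite presentation and `g` is locally of finite type, then `f` is
locally of finite presentation (Stacks 02FV). -/
lemma locallyOfFinitePresentation_of_comp {X Y Z : Scheme.{u}} (f : X ⟶ Y) (g : Y ⟶ Z)
    [LocallyOfFinitePresentation (f ≫ g)] [LocallyOfFiniteType g] :
    LocallyOfFinitePresentation f := by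
  rw [HasRingHomProperty.iff_exists_appLE (P := @LocallyOfFinitePresentation)
    (RingHom.finitePresentation_stableUnderComposition.stableUnderCompositionWithLocalizationAway
      RingHom.finitePresentation_holdsForLocalizationAway).left]
  intro x
  obtain ⟨_, ⟨W, hW : IsAffineOpen W, rfl⟩, hxW, -⟩ :=
    Z.isBasis_affineOpens.exists_subset_of_mem_open (Set.mem_univ (g (f x))) isOpen_univ
  obtain ⟨_, ⟨V, hV : IsAffineOpen V, rfl⟩, hxV, hVW⟩ :=
    Y.isBasis_affineOpens.exists_subset_of_mem_open (show f x ∈ g ⁻¹ᵁ W from hxW) (g ⁻¹ᵁ W).2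
  obtain ⟨_, ⟨U, hU : IsAffineOpen U, rfl⟩, hxU, hUV⟩ :=
    X.isBasis_affineOpens.exists_subset_of_mem_open (show x ∈ f ⁻¹ᵁ V from hxV) (f ⁻¹ᵁ V).2
  refine ⟨⟨V, hV⟩, ⟨U, hU⟩, hxU, hUV, ?_⟩
  have hUW : U ≤ (f ≫ g) ⁻¹ᵁ W := fun y hy ↦ hVW (hUV hy)
  have h1 : ((f ≫ g).appLE W U hUW).hom.FinitePresentation :=
    HasRingHomProperty.appLE @LocallyOfFinitePresentation _ inferInstance ⟨W, hW⟩ ⟨U, hU⟩ hUW
  have h2 : (g.appLE W V hVW).hom.FiniteType :=
    HasRingHomProperty.appLE @LocallyOfFiniteType _ inferInstance ⟨W, hW⟩ ⟨V, hV⟩ hVW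
  have e : (f ≫ g).appLE W U hUW = g.appLE W V hVW ≫ f.appLE V U hUV :=
    (Scheme.Hom.appLE_comp_appLE ..).symm
  rw [e, CommRingCat.hom_comp] at h1
  exact RingHom.FinitePresentation.of_comp_finiteType _ h1 h2

lemma exists_subscheme_iso {Z : Scheme.{u}} {I J : Z.IdealSheafData} (h : I = J) :
    ∃ e : I.subscheme ≅ J.subscheme, e.hom ≫ J.subschemeι = I.subschemeι := by
  subst h; exact ⟨Iso.refl _, by simp⟩

lemma ideal_congr {Z : Scheme.{u}} (I J : Z.IdealSheafData) {A B : Z.affineOpens} (hAB : A = B)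
    (h : I.ideal B = J.ideal B) : I.ideal A = J.ideal A := by
  subst hAB; exact h

/-- Two ideal sheaves that agree on a family of affine opens have the same restriction to the
union of the family. -/
theorem comap_eq_of_ideal_eq {Z : Scheme.{u}} (I J : Z.IdealSheafData) {κ : Type*}
    (V : κ → Z.affineOpens) (U₁ : Z.Opens) (hU₁ : U₁ = ⨆ k, (V k).1)
    (h : ∀ k, I.ideal (V k) = J.ideal (V k)) :
    I.comap U₁.ι = J.comap U₁.ι := by
  have hle : ∀ k, (V k).1 ≤ U₁.ι.opensRange := by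
    intro k; rw [Scheme.Opens.opensRange_ι, hU₁]; exact le_iSup (fun k => (V k).1) k
  let W : κ → U₁.toScheme.affineOpens := fun k =>
    ⟨U₁.ι ⁻¹ᵁ (V k).1, (V k).2.preimage_of_isOpenImmersion U₁.ι (hle k)⟩
  refine Scheme.IdealSheafData.ext_of_iSup_eq_top W ?_ ?_
  · refine eq_top_iff.mpr fun x _ => ?_
    have hx : U₁.ι x ∈ U₁ := by
      have : U₁.ι x ∈ U₁.ι.opensRange := ⟨x, rfl⟩
      rwa [Scheme.Opens.opensRange_ι] at this
    have hx' : U₁.ι x ∈ ⨆ k, (V k).1 := (le_of_eq hU₁ : U₁ ≤ ⨆ k, (V k).1) hx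
    obtain ⟨k, hk⟩ := Opens.mem_iSup.mp hx'
    exact Opens.mem_iSup.mpr ⟨k, hk⟩
  · intro k
    rw [Scheme.IdealSheafData.ideal_comap_of_isOpenImmersion,
      Scheme.IdealSheafData.ideal_comap_of_isOpenImmersion]
    congr 1
    refine ideal_congr I J (B := V k) ?_ (h k)
    apply Subtype.ext
    change U₁.ι ''ᵁ (U₁.ι ⁻¹ᵁ (V k).1) = (V k).1
    rw [Scheme.Hom.image_preimage_eq_opensRange_inf]
    exact inf_eq_right.mpr (hle k)

/-- If an open immersion `j' : X ⟶ V(I)` has image the preimage of an open `U₁` over which the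
ideal sheaves `I` and `J` agree, then it transfers to an open immersion `X ⟶ V(J)`. -/
theorem exists_isOpenImmersion_lift {X Z : Scheme.{u}} (I J : Z.IdealSheafData)
    (j' : X ⟶ I.subscheme) [IsOpenImmersion j'] (U₁ : Z.Opens)
    (hU₁ : I.subschemeι ⁻¹ᵁ U₁ = j'.opensRange)
    (hcomap : I.comap U₁.ι = J.comap U₁.ι) :
    ∃ j : X ⟶ J.subscheme, IsOpenImmersion j ∧ j ≫ J.subschemeι = j' ≫ I.subschemeι := by
  obtain ⟨c, hc⟩ := exists_subscheme_iso hcomap
  let e : pullback U₁.ι I.subschemeι ≅ pullback U₁.ι J.subschemeι :=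
    (I.comapIso U₁.ι).symm ≪≫ c ≪≫ (J.comapIso U₁.ι)
  have he : e.hom ≫ pullback.fst U₁.ι J.subschemeι = pullback.fst U₁.ι I.subschemeι := by
    simp only [e, Iso.trans_hom, Iso.symm_hom, Category.assoc,
      Scheme.IdealSheafData.comapIso_hom_fst, hc, Scheme.IdealSheafData.comapIso_inv_subschemeι]
  have hr : Set.range j' = Set.range (pullback.snd U₁.ι I.subschemeι) := by
    rw [IsOpenImmersion.range_pullbackSnd, Scheme.Opens.opensRange_ι, hU₁]
    rfl
  let E : X ≅ pullback U₁.ι I.subschemeι :=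
    IsOpenImmersion.isoOfRangeEq j' (pullback.snd _ _) hr
  have hE : E.hom ≫ pullback.snd U₁.ι I.subschemeι = j' :=
    IsOpenImmersion.isoOfRangeEq_hom_fac _ _ hr
  refine ⟨E.hom ≫ e.hom ≫ pullback.snd U₁.ι J.subschemeι, inferInstance, ?_⟩
  calc (E.hom ≫ e.hom ≫ pullback.snd U₁.ι J.subschemeι) ≫ J.subschemeι
      = E.hom ≫ e.hom ≫ pullback.fst U₁.ι J.subschemeι ≫ U₁.ι := by
        simp only [Category.assoc, pullback.condition]
    _ = E.hom ≫ pullback.fst U₁.ι I.subschemeι ≫ U₁.ι := by rw [reassoc_of% he]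
    _ = (E.hom ≫ pullback.snd U₁.ι I.subschemeι) ≫ I.subschemeι := by
        simp only [Category.assoc, pullback.condition]
    _ = j' ≫ I.subschemeι := by rw [hE]

/-- Finite generation of the ideal over affine opens inside the image of an open immersion
whose composite with the closed immersion is locally of finite presentation. -/
theorem ideal_fg_of_le_opensRange {X Z : Scheme.{u}} (I : Z.IdealSheafData)
    (j' : X ⟶ I.subscheme) [IsOpenImmersion j']
    [LocallyOfFinitePresentation (j' ≫ I.subschemeι)]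
    (V : Z.affineOpens) (hV : I.subschemeι ⁻¹ᵁ V.1 ≤ j'.opensRange) : (I.ideal V).FG := by
  have h1 : IsAffineOpen (I.subschemeι ⁻¹ᵁ V.1) := V.2.preimage I.subschemeι
  have haff : IsAffineOpen ((j' ≫ I.subschemeι) ⁻¹ᵁ V.1) :=
    h1.preimage_of_isOpenImmersion j' hV
  have hfp : ((j' ≫ I.subschemeι).app V.1).hom.FinitePresentation := by
    have := HasRingHomProperty.appLE @LocallyOfFinitePresentation (j' ≫ I.subschemeι)
      inferInstance V ⟨_, haff⟩ le_rfl
    rwa [Scheme.Hom.appLE_eq_app] at this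
  haveI : IsIso (j'.app (I.subschemeι ⁻¹ᵁ V.1)) := Scheme.Hom.isIso_app j' _ hV
  let φ : Γ(Z, V.1) →+* Γ(I.subscheme, I.subschemeι ⁻¹ᵁ V.1) := (I.subschemeι.app V.1).hom
  let ψ : Γ(I.subscheme, I.subschemeι ⁻¹ᵁ V.1) →+* Γ(X, j' ⁻¹ᵁ (I.subschemeι ⁻¹ᵁ V.1)) :=
    (j'.app (I.subschemeι ⁻¹ᵁ V.1)).hom
  have hfp' : (ψ.comp φ).FinitePresentation := hfp
  have hbij : Function.Bijective ψ :=
    ConcreteCategory.bijective_of_isIso (j'.app (I.subschemeι ⁻¹ᵁ V.1))
  have hsurj : Function.Surjective (ψ.comp φ) :=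
    hbij.surjective.comp (I.subschemeι_app_surjective V)
  have hker : RingHom.ker (ψ.comp φ) = I.ideal V := by
    rw [RingHom.ker_comp_of_injective _ hbij.injective]
    exact I.ker_subschemeι_app V
  rw [← hker]
  algebraize [ψ.comp φ]
  exact Algebra.FinitePresentation.ker_fG_of_surjective
    (Algebra.ofId Γ(Z, V.1) Γ(X, j' ⁻¹ᵁ (I.subschemeι ⁻¹ᵁ V.1))) hsurj

end Groth.Agent.Lib.Helper43.ZMTFP
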